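import Groth.Agent.Pure83.Final
import Groth.Agent.CAlg1.Regular
import Groth.Agent.FEt83.PurityExtend

/-!
# Purity for regular local rings
-/

universe u

open CategoryTheory Limits AlgebraicGeometry TopologicalSpace Opposite TensorProduct

namespace Groth.Agent.Pure83

variable {A : Type u} [CommRing A] [IsLocalRing A] [IsNoetherianRing A]

set_option backward.isDefEq.respectTransparency.types false in
/-- Purity of a hypersurface of depth two gives purity. -/
theorem purityHolds_of_quotient (f : A) (hf : f ∈ IsLocalRing.maximalIdeal A)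
    (hfreg : IsSMulRegular A f) [IsLocalRing (A ⧸ Ideal.span {f})]
    (hdepth0 : (2 : ℕ∞) ≤ LocCoh.depth (A ⧸ Ideal.span {f}) (A ⧸ Ideal.span {f}))
    (h : FEt.PurityHolds (A ⧸ Ideal.span {f})) : FEt.PurityHolds A := by
  refine ⟨fun V => ?_⟩
  let snd := pullback.snd (FEt.puncturedSpec A).ι (hypMap f)
  have hr : Set.range snd = Set.range (FEt.puncturedSpec (A ⧸ Ideal.span {f})).ι := by
    rw [IsOpenImmersion.range_pullbackSnd, Scheme.Opens.opensRange_ι, Scheme.Opens.range_ι]
    ext q
    show hypMap f q ∈ FEt.puncturedSpec A ↔ q ∈ FEt.puncturedSpec (A ⧸ Ideal.span {f})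
    refine Iff.trans (mem_puncturedSpec_iff _) (Iff.trans ?_ (mem_puncturedSpec_iff _).symm)
    have hm : (IsLocalRing.maximalIdeal (A ⧸ Ideal.span {f})).comap (Ideal.Quotient.mk _) =
        IsLocalRing.maximalIdeal A := IsLocalRing.eq_maximalIdeal
      (Ideal.comap_isMaximal_of_surjective _ Ideal.Quotient.mk_surjective)
    exact not_congr ⟨fun e => Ideal.comap_injective_of_surjective _ Ideal.Quotient.mk_surjective
      (e.trans hm.symm), fun e => (congrArg (Ideal.comap (Ideal.Quotient.mk _)) e).trans hm⟩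
  let j := IsOpenImmersion.isoOfRangeEq snd (FEt.puncturedSpec (A ⧸ Ideal.span {f})).ι hr
  obtain ⟨Y₀, ⟨e⟩⟩ := h.mem_essImage
    ((FEt.restrict j.inv).obj ((FEt.restrict (pullback.fst (FEt.puncturedSpec A).ι (hypMap f))).obj V))
  obtain ⟨Y, hY⟩ := extends_of_hypersurface V f hf hfreg hdepth0 Y₀
    (eqToIso (by rw [IsOpenImmersion.isoOfRangeEq_hom_fac snd _ hr]) ≪≫
      (FEt83.restrictCompIso j.hom (FEt.puncturedSpec (A ⧸ Ideal.span {f})).ι).app Y₀ ≪≫
      (FEt.restrict j.hom).mapIso e ≪≫ ((FEt83.restrictCompIso j.hom j.inv).app _).symm ≪≫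
      FEt83.restrictEqIso j.hom_inv_id _ ≪≫ FEt83.restrictIdIso _)
  exact ⟨Y, hY⟩

/-- Regular local rings of positive dimension have a regular parameter. -/
theorem exists_param {A : Type u} [CommRing A] [IsRegularLocalRing A] (h : ringKrullDim A ≠ 0) :
    ∃ x ∈ IsLocalRing.maximalIdeal A, x ∉ IsLocalRing.maximalIdeal A ^ 2 ∧ IsSMulRegular A x := by
  obtain ⟨x, hx, hx2, -⟩ := CAlg1.exists_notMem_sq_notMem_minimal h
  have := CAlg1.isDomain_regular A
  exact ⟨x, hx, hx2, fun a b hab => mul_left_cancel₀ (show x ≠ 0 from fun e => hx2 (e ▸ zero_mem _)) hab⟩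

theorem two_le_depth_regular {A : Type u} [CommRing A] [IsRegularLocalRing A] (h : (2 : WithBot ℕ∞) ≤ ringKrullDim A) :
    (2 : ℕ∞) ≤ LocCoh.depth A A := by
  obtain ⟨x, hx, hx2, hxreg⟩ := exists_param (A := A)
    (fun e => absurd (h.trans_eq e) (by decide))
  have := CAlg1.isLocalRing_quotient_singleton hx
  obtain ⟨hR, hd⟩ := CAlg1.regular_quotient_singleton hx hx2
  obtain ⟨y, hy, -, hyreg⟩ := exists_param (A := A ⧸ Ideal.span {x}) (fun e => by
    rw [e, zero_add] at hd
    exact absurd (h.trans_eq hd.symm) (by decide))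
  obtain ⟨y, rfl⟩ := Ideal.Quotient.mk_surjective y
  refine two_le_depth_of_pair hx (fun hu => hy (hu.map _)) hxreg fun a ha => ?_
  rw [← Ideal.Quotient.eq_zero_iff_mem] at ha ⊢
  rw [map_mul] at ha
  exact hyreg.right_eq_zero_of_smul ha

set_option backward.isDefEq.respectTransparency.types false in
/-- Purity in dimension two. -/
theorem purityHolds_of_pair {x y : A} (hspan : Ideal.span {x, y} = IsLocalRing.maximalIdeal A)
    (hx : IsSMulRegular A x) (hy : RegMod (Ideal.span {x}) y) : FEt.PurityHolds A := by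
  refine ⟨fun V => ?_⟩
  have hxm : x ∈ IsLocalRing.maximalIdeal A := hspan ▸ Ideal.subset_span (by simp)
  have hym : y ∈ IsLocalRing.maximalIdeal A := hspan ▸ Ideal.subset_span (by simp)
  have hyreg := hy.isSMulRegular hxm hx
  let g : Fin 2 → A := ![x, y]
  have hg : ∀ i, g i ∈ IsLocalRing.maximalIdeal A := Fin.forall_fin_two.mpr ⟨hxm, hym⟩
  have hreg : ∀ i, IsSMulRegular A (g i) := Fin.forall_fin_two.mpr ⟨hx, hyreg⟩
  have hcov : CoversPunctured g := coversPunctured_of_span g (by
    rw [← hspan, show Set.range g = {x, y} from Matrix.range_cons_cons_empty x y ![]])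
  have hS := isSectionRing V g hcov
  have hfin := hS.module_finite hg hreg 0 1 hy
  have hxM : IsSMulRegular Γ(V.left, ⊤) x := hS.isSMulRegular hg hx
  have hyM : IsSMulRegular Γ(V.left, ⊤) y := hS.isSMulRegular hg hyreg
  have hdepth := two_le_depth_of_pair hxm hym hx hy
  have : Module.FinitePresentation A Γ(V.left, ⊤) := Module.finitePresentation_of_finite A _
  have : Module.Free A Γ(V.left, ⊤) := by
    refine Module.free_of_maximalIdeal_rTensor_injective ?_
    refine (injective_iff_map_eq_zero _).mpr fun t ht => ?_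
    let xm : IsLocalRing.maximalIdeal A := ⟨x, hxm⟩
    let ym : IsLocalRing.maximalIdeal A := ⟨y, hym⟩
    obtain ⟨a, b, rfl⟩ : ∃ a b, xm ⊗ₜ[A] a + ym ⊗ₜ[A] b = t := by
      clear ht
      induction t with
      | zero => exact ⟨0, 0, by simp⟩
      | tmul m z =>
        obtain ⟨p, q, hpq⟩ := mem_pair_iff.mp (hspan.symm ▸ m.2 : (m : A) ∈ Ideal.span {x, y})
        refine ⟨p • z, q • z, ?_⟩
        rw [tmul_smul, tmul_smul, smul_tmul', smul_tmul', ← add_tmul]
        congr 1
        exact Subtype.ext hpq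
      | add s s' hs hs' =>
        obtain ⟨a, b, rfl⟩ := hs
        obtain ⟨a', b', rfl⟩ := hs'
        exact ⟨a + a', b + b', by rw [tmul_add, tmul_add]; abel⟩
    simp only [map_add, LinearMap.rTensor_tmul, Submodule.coe_subtype] at ht
    have h0 : x • a + y • b = 0 := by
      have := congrArg (TensorProduct.lid A _) ht
      simpa [xm, ym] using this
    obtain ⟨w, hw⟩ := hS.glue 1 ![-b, a] (by
      refine Fin.forall_fin_two.mpr ⟨Fin.forall_fin_two.mpr ⟨rfl, ?_⟩, Fin.forall_fin_two.mpr ⟨?_, rfl⟩⟩
      · simp only [g, pow_one, Matrix.cons_val_zero, Matrix.cons_val_one, smul_neg]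
        exact (eq_neg_of_add_eq_zero_left h0).symm
      · simp only [g, pow_one, Matrix.cons_val_zero, Matrix.cons_val_one, smul_neg]
        exact eq_neg_of_add_eq_zero_left h0)
    have h1 : x • w = -b := by simpa [g] using hw 0
    have h2 : y • w = a := by simpa [g] using hw 1
    rw [← h2, show b = -(x • w) by rw [h1, neg_neg], tmul_neg, tmul_smul, tmul_smul, smul_tmul',
      smul_tmul', ← sub_eq_add_neg, ← sub_tmul]
    rw [show y • xm - x • ym = 0 from Subtype.ext (by simp [xm, ym, mul_comm]), zero_tmul]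
  have : Algebra.FinitePresentation A Γ(V.left, ⊤) := inferInstance
  have : Algebra.Etale A Γ(V.left, ⊤) := FEt83.etale_of_flat_of_etale_off_closedPoint
    (two_le_ringKrullDim hdepth) fun q hq => hS.isEtaleAt q hq
  exact exists_extension V hdepth

/-- Purity for regular local rings of dimension at least two. -/
theorem purityHolds_of_regular (A : Type u) [CommRing A] [IsRegularLocalRing A]
    (h : (2 : WithBot ℕ∞) ≤ ringKrullDim A) : FEt.PurityHolds A := by
  obtain ⟨n, hn⟩ : ∃ n, (IsLocalRing.maximalIdeal A).spanFinrank = n := ⟨_, rfl⟩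
  induction n using Nat.strong_induction_on generalizing A with
  | _ n ih =>
    have hd := IsRegularLocalRing.spanFinrank_maximalIdeal (R := A)
    rw [hn] at hd
    obtain ⟨x, hx, hx2, hxreg⟩ := exists_param (A := A)
      (fun e => absurd (h.trans_eq e) (by decide))
    have := CAlg1.isLocalRing_quotient_singleton hx
    obtain ⟨hR, hdim⟩ := CAlg1.regular_quotient_singleton hx hx2
    have hn' := CAlg1.spanFinrank_quotient_succ hx hx2
    have hd' := IsRegularLocalRing.spanFinrank_maximalIdeal (R := A ⧸ Ideal.span {x})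
    rw [← hd] at h
    have h2n : 2 ≤ n := by exact_mod_cast h
    rcases h2n.eq_or_lt with rfl | h3
    · have hone : (IsLocalRing.maximalIdeal (A ⧸ Ideal.span {x})).spanFinrank = 1 := by omega
      obtain ⟨s, hcard, hs⟩ := Submodule.FG.exists_span_finset_card_eq_spanFinrank
        (IsLocalRing.maximalIdeal (A ⧸ Ideal.span {x})).fg_of_isNoetherianRing
      obtain ⟨y0, rfl⟩ := Finset.card_eq_one.mp (hcard.trans hone)
      rw [Finset.coe_singleton] at hs
      obtain ⟨y, rfl⟩ := Ideal.Quotient.mk_surjective y0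
      have hspan : Ideal.span {x, y} = IsLocalRing.maximalIdeal A := by
        rw [← CAlg1.comap_maximalIdeal_of_surjective (Ideal.Quotient.mk (Ideal.span {x}))
          Ideal.Quotient.mk_surjective, ← hs]
        change Ideal.span {x, y} =
          Ideal.comap _ (Ideal.span {Ideal.Quotient.mk (Ideal.span {x}) y})
        rw [show ({Ideal.Quotient.mk (Ideal.span {x}) y} : Set _) = Ideal.Quotient.mk _ '' {y} by simp,
          ← Ideal.map_span, Ideal.comap_map_of_surjective _ Ideal.Quotient.mk_surjective,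
          ← RingHom.ker_eq_comap_bot, Ideal.mk_ker, Ideal.span_insert, sup_comm]
      refine purityHolds_of_pair hspan hxreg fun a ha => ?_
      have := CAlg1.isDomain_regular (A ⧸ Ideal.span {x})
      rw [← Ideal.Quotient.eq_zero_iff_mem] at ha ⊢
      rw [map_mul] at ha
      refine (mul_eq_zero.mp ha).resolve_left fun hy0 => ?_
      rw [hy0, Submodule.span_zero_singleton] at hs
      rw [← hs, Submodule.spanFinrank_bot] at hone
      exact zero_ne_one hone
    · have h' : (2 : WithBot ℕ∞) ≤ ringKrullDim (A ⧸ Ideal.span {x}) := by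
        rw [← hd']; exact_mod_cast (by omega : 2 ≤ _)
      exact purityHolds_of_quotient x hx hxreg (two_le_depth_regular h')
        (ih _ (by omega) (A ⧸ Ideal.span {x}) h' rfl)

end Groth.Agent.Pure83
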