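import Groth.Agent.Pure83.Final
import Mathlib.AlgebraicGeometry.Morphisms.Etale
import Groth.Agent.CAlg1.SerreNormal

/-!
# Sections of extensible covers
-/

universe u

open CategoryTheory Limits AlgebraicGeometry TopologicalSpace Opposite

namespace Groth.Agent.Pure83

variable {A : Type u} [CommRing A] [IsLocalRing A] [IsNoetherianRing A]

/-- Sections of a cover of the punctured spectrum are finite, for depth at least two. -/
theorem finite_sections (h : (2 : ℕ∞) ≤ LocCoh.depth A A)
    (V : FEt.Cat (FEt.puncturedSpec A : Scheme.{u})) : Module.Finite A Γ(V.left, ⊤) := by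
  obtain ⟨x, hxm, y, hym, hx, hy⟩ := exists_pair_of_depth_two h
  obtain ⟨n, g, hg0, hg1, hgm, hgreg, hspan⟩ :=
    exists_regular_generators hxm hx hym (hy.isSMulRegular hxm hx)
  exact (isSectionRing V g (coversPunctured_of_span g hspan)).module_finite hgm hgreg 0 1
    (by rw [hg0, hg1]; exact hy)

set_option backward.isDefEq.respectTransparency.types false in
/-- Sections of the restriction of a finite étale cover of the spectrum are étale. -/
theorem etale_sections_of_extends (h : (2 : ℕ∞) ≤ LocCoh.depth A A)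
    (V : FEt.Cat (FEt.puncturedSpec A : Scheme.{u})) (Y : FEt.Cat (Spec (CommRingCat.of A)))
    (e : (FEt.restrict (FEt.puncturedSpec A).ι).obj Y ≅ V) : Algebra.Etale A Γ(V.left, ⊤) := by
  have : IsIso e.inv.left :=
    ((MorphismProperty.Over.forget _ _ _ ⋙ CategoryTheory.Over.forget _).mapIso e.symm).isIso_hom
  let a : V.left ⟶ Y.left := e.inv.left ≫ pullback.fst Y.hom (FEt.puncturedSpec A).ι
  have : IsOpenImmersion a := MorphismProperty.comp_mem (W := @IsOpenImmersion) _ _
    (@IsOpenImmersion.of_isIso _ _ e.inv.left ‹_›)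
    (MorphismProperty.pullback_fst (P := @IsOpenImmersion) _ _ inferInstance)
  have hw : a ≫ Y.hom = V.hom ≫ (FEt.puncturedSpec A).ι := by
    refine (Category.assoc _ _ _).trans ((congrArg (e.inv.left ≫ ·) pullback.condition).trans ?_)
    exact (Category.assoc _ _ _).symm.trans (congrArg (· ≫ _) (Over.w e.inv.hom))
  have : Etale Y.hom := Y.prop.2
  have : IsLocallyNoetherian Y.left :=
    @LocallyOfFiniteType.isLocallyNoetherian _ _ Y.hom inferInstance
      (inferInstanceAs (IsLocallyNoetherian (Spec (CommRingCat.of A))))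
  have hb : Function.Bijective a.appTop := by
    refine FEt83.appTop_bijective_of_depth a fun y hy => ?_
    refine le_of_le_of_eq ?_ (@FEt83.depth_stalk_of_etale (Spec (CommRingCat.of A)) Y.left
      (inferInstanceAs (IsLocallyNoetherian (Spec (CommRingCat.of A)))) Y.hom inferInstance y).symm
    have hy0 : Y.hom y = IsLocalRing.closedPoint A := by_contra fun hne => hy (by
      obtain ⟨z, hz, -⟩ := Scheme.Pullback.exists_preimage_pullback (f := Y.hom)
        (g := (FEt.puncturedSpec A).ι) y ⟨Y.hom y, hne⟩ rfl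
      refine ⟨(inv e.inv.left) z, ?_⟩
      show pullback.fst Y.hom _ (e.inv.left ((inv e.inv.left) z)) = y
      rw [← Scheme.Hom.comp_apply (inv e.inv.left), IsIso.inv_hom_id]
      exact hz)
    rw [hy0]
    exact h.trans (FEt83.depth_stalk_closedPoint A).ge
  obtain ⟨-, hY⟩ := FEt83.finite_etale_app Y.prop
    (isAffineOpen_top (Spec (CommRingCat.of A)))
  have hsec : secStr V = a.appTop.hom.comp
      (Y.hom.appTop.hom.comp (Scheme.ΓSpecIso (CommRingCat.of A)).inv.hom) := by
    show (V.hom ≫ (FEt.puncturedSpec A).ι).appTop.hom.comp _ = _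
    rw [← hw]; rfl
  refine RingHom.etale_algebraMap.mp ?_
  rw [RingHom.algebraMap_toAlgebra, hsec]
  exact RingHom.Etale.stableUnderComposition _ _ (RingHom.Etale.stableUnderComposition _ _
    (RingHom.Etale.of_bijective (ConcreteCategory.bijective_of_isIso
      (Scheme.ΓSpecIso (CommRingCat.of A)).inv)) hY) (RingHom.Etale.of_bijective hb)

/-- The extension criterion. -/
theorem extends_iff_etale_sections (h : (2 : ℕ∞) ≤ LocCoh.depth A A)
    (V : FEt.Cat (FEt.puncturedSpec A : Scheme.{u})) :
    (∃ Y : FEt.Cat (Spec (CommRingCat.of A)),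
      Nonempty ((FEt.restrict (FEt.puncturedSpec A).ι).obj Y ≅ V)) ↔
      Algebra.Etale A Γ(V.left, ⊤) := by
  refine ⟨fun ⟨Y, ⟨e⟩⟩ => etale_sections_of_extends h V Y e, fun he => ?_⟩
  have := finite_sections h V
  exact exists_extension V h

variable (B : Type u) [CommRing B] [Algebra A B]

set_option backward.isDefEq.respectTransparency.types false in
theorem etale_snd_punctured [Algebra.FinitePresentation A B]
    (het : ∀ q : PrimeSpectrum B, q.asIdeal.comap (algebraMap A B) ≠ IsLocalRing.maximalIdeal A →
      Algebra.IsEtaleAt A q.asIdeal) :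
    Etale (pullback.snd (Spec.map (CommRingCat.ofHom (algebraMap A B))) (FEt.puncturedSpec A).ι) := by
  let q0 := Spec.map (CommRingCat.ofHom (algebraMap A B))
  let U := FEt.puncturedSpec A
  let I := {c : A // c ∈ IsLocalRing.maximalIdeal A}
  let X := fun c : I => Spec (CommRingCat.of (Localization.Away (algebraMap A B c.1)))
  let loc := fun c : I => Spec.map (CommRingCat.ofHom
    (algebraMap B (Localization.Away (algebraMap A B c.1))))
  have hoi : ∀ c, IsOpenImmersion (loc c) := fun c => .of_isLocalization (algebraMap A B c.1)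
  have hloc : ∀ c, Set.range (loc c ≫ q0) ⊆ Set.range U.ι := by
    rintro c _ ⟨p, rfl⟩
    rw [Scheme.Opens.range_ι]
    refine basicOpen_le_punctured c.2 (fun hp => ?_)
    exact (p : PrimeSpectrum (Localization.Away (algebraMap A B c.1))).isPrime.ne_top
      (Ideal.eq_top_of_isUnit_mem _ hp (IsLocalization.Away.algebraMap_isUnit _))
  let k : ∀ c : I, X c ⟶ pullback q0 U.ι := fun c =>
    pullback.lift (loc c) (IsOpenImmersion.lift U.ι (loc c ≫ q0) (hloc c))
      (IsOpenImmersion.lift_fac _ _ _).symm
  have hk : ∀ c, IsOpenImmersion (k c) := fun c => by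
    have : IsOpenImmersion (pullback.fst q0 U.ι) :=
      MorphismProperty.pullback_fst (P := @IsOpenImmersion) _ _ inferInstance
    have : IsOpenImmersion (k c ≫ pullback.fst q0 U.ι) := by
      rw [pullback.lift_fst]; exact hoi c
    exact IsOpenImmersion.of_comp (k c) (pullback.fst q0 U.ι)
  have hcover : ∀ y : ↥(pullback q0 U.ι), ∃ c z, k c z = y := fun y => by
    have hU : q0 (pullback.fst q0 U.ι y) ∈ U := by
      rw [← Scheme.Hom.comp_apply, pullback.condition]
      exact (pullback.snd q0 U.ι y).2
    obtain ⟨c, hc, hcy⟩ := SetLike.exists_of_lt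
      ((IsLocalRing.le_maximalIdeal (q0 (pullback.fst q0 U.ι y) : PrimeSpectrum A).isPrime.ne_top).lt_of_ne
        ((mem_puncturedSpec_iff _).mp hU))
    obtain ⟨z, hz⟩ : (pullback.fst q0 U.ι y : PrimeSpectrum B) ∈
        Set.range (PrimeSpectrum.comap (algebraMap B (Localization.Away (algebraMap A B c)))) := by
      rw [PrimeSpectrum.localization_away_comap_range _ (algebraMap A B c)]
      exact hcy
    refine ⟨⟨c, hc⟩, z, (pullback.fst q0 U.ι).isOpenEmbedding.injective ?_⟩
    rw [← Scheme.Hom.comp_apply, pullback.lift_fst]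
    exact hz
  let 𝒰 : (pullback q0 U.ι).OpenCover := Scheme.Cover.mkOfCovers I X k hcover hk
  have hfst : Etale (pullback.fst q0 U.ι ≫ q0) := by
    refine IsZariskiLocalAtSource.of_openCover (P := @Etale) 𝒰 fun c => ?_
    show Etale (k c ≫ pullback.fst q0 U.ι ≫ q0)
    rw [← Category.assoc, pullback.lift_fst, ← Spec.map_comp]
    refine (HasRingHomProperty.Spec_iff (P := @Etale)).mpr ?_
    have : Algebra.Etale A (Localization.Away (algebraMap A B c.1)) :=
      Algebra.basicOpen_subset_etaleLocus_iff_etale.mp fun p hp =>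
        het p fun e => hp (e.ge c.2)
    rw [← CommRingCat.ofHom_comp, ← IsScalarTower.algebraMap_eq]
    exact RingHom.etale_algebraMap.mpr this
  rw [pullback.condition] at hfst
  exact Etale.of_comp (pullback.snd q0 U.ι) U.ι

set_option backward.isDefEq.respectTransparency.types false in
/-- A finite algebra étale off the closed point, of depth two at the closed points, is étale if
purity holds. -/
theorem etale_of_purityHolds [Module.Finite A B] (hA : (2 : ℕ∞) ≤ LocCoh.depth A A)
    (hpure : FEt.PurityHolds A)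
    (het : ∀ q : PrimeSpectrum B, q.asIdeal.comap (algebraMap A B) ≠ IsLocalRing.maximalIdeal A →
      Algebra.IsEtaleAt A q.asIdeal)
    (hB : ∀ q : PrimeSpectrum B, q.asIdeal.comap (algebraMap A B) = IsLocalRing.maximalIdeal A →
      (2 : ℕ∞) ≤ LocCoh.depth (Localization.AtPrime q.asIdeal) (Localization.AtPrime q.asIdeal)) :
    Algebra.Etale A B := by
  have : IsNoetherianRing B := IsNoetherianRing.of_finite A B
  have : Algebra.FinitePresentation A B := Algebra.FinitePresentation.of_finiteType.mp inferInstance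
  let q0 := Spec.map (CommRingCat.ofHom (algebraMap A B))
  have hfin : IsFinite q0 := (IsFinite.SpecMap_iff _).mpr (RingHom.finite_algebraMap.mpr inferInstance)
  let V : FEt.Cat (FEt.puncturedSpec A : Scheme.{u}) :=
    MorphismProperty.Over.mk ⊤ (pullback.snd q0 (FEt.puncturedSpec A).ι)
      ⟨MorphismProperty.pullback_snd (P := @IsFinite) _ _ hfin, etale_snd_punctured B het⟩
  obtain ⟨Y, ⟨e⟩⟩ := hpure.mem_essImage V
  have hV := etale_sections_of_extends hA V Y e
  let j : V.left ⟶ Spec (CommRingCat.of B) := pullback.fst q0 (FEt.puncturedSpec A).ι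
  have : IsOpenImmersion j := MorphismProperty.pullback_fst (P := @IsOpenImmersion) _ _ inferInstance
  have hb : Function.Bijective j.appTop := by
    refine FEt83.appTop_bijective_of_depth j fun y hy => ?_
    rw [FEt83.depth_stalk_Spec]
    refine hB y (by_contra fun hne => hy ?_)
    obtain ⟨z, hz, -⟩ := Scheme.Pullback.exists_preimage_pullback (f := q0)
      (g := (FEt.puncturedSpec A).ι) y ⟨q0 y, (mem_puncturedSpec_iff _).mpr hne⟩ rfl
    exact ⟨z, hz⟩
  let β : B →+* Γ(V.left, ⊤) := j.appTop.hom.comp (Scheme.ΓSpecIso (CommRingCat.of B)).inv.hom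
  have hβ : Function.Bijective β :=
    hb.comp (ConcreteCategory.bijective_of_isIso (Scheme.ΓSpecIso (CommRingCat.of B)).inv)
  let eβ : B ≃ₐ[A] Γ(V.left, ⊤) := AlgEquiv.ofBijective ⟨β, fun a => by
    show j.appTop ((Scheme.ΓSpecIso (CommRingCat.of B)).inv (algebraMap A B a)) =
      (pullback.snd q0 (FEt.puncturedSpec A).ι ≫ (FEt.puncturedSpec A).ι).appTop
        ((Scheme.ΓSpecIso (CommRingCat.of A)).inv a)
    rw [← pullback.condition]
    exact congrArg j.appTop congr($(Scheme.ΓSpecIso_inv_naturality (CommRingCat.ofHom (algebraMap A B))) a)⟩ hβ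
  exact Algebra.Etale.of_equiv eβ.symm

end Groth.Agent.Pure83
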