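import Groth.Agent.Pure83.Nbhd
import Groth.Agent.S0248
import Groth.Agent.S1996
import Groth.Agent.S0249
import Groth.Agent.Hens22.EtaleAt
import Groth.Agent.Unr55.EtAscent
import Groth.Agent.CAlg1.Serre
import Groth.Agent.CAlg6.RegularNormal

/-!
# Purity of the branch locus at a quasi-finite point
-/

universe u

open TensorProduct

namespace Groth.Agent.Pure83

/-- A finite normal domain over a regular local ring of positive dimension, unramified at the
primes of height one, is étale. -/
theorem etale_of_regular_codim_one {R : Type u} [CommRing R] [IsRegularLocalRing R]
    (hdim : (1 : WithBot ℕ∞) ≤ ringKrullDim R) {C : Type u} [CommRing C] [IsDomain C]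
    [IsIntegrallyClosed C] [Algebra R C] [Module.Finite R C]
    (hinj : Function.Injective (algebraMap R C))
    (h : ∀ (Q : Ideal C) (_ : Q.IsPrime), Q.height = 1 → Algebra.IsUnramifiedAt R Q) :
    Algebra.Etale R C := by
  obtain ⟨n, hn⟩ : ∃ n, (IsLocalRing.maximalIdeal R).height = n := ⟨_, rfl⟩
  induction n using WellFoundedLT.induction generalizing R C with
  | _ n ih =>
  have := CAlg1.isDomain_regular R
  have := CAlg6.isIntegrallyClosed_of_regular R
  have : FaithfulSMul R C := (faithfulSMul_iff_algebraMap_injective R C).mpr hinj
  have : Algebra.IsIntegral R C := Algebra.IsIntegral.of_finite R C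
  have : IsNoetherianRing C := IsNoetherianRing.of_finite R C
  have : Module.IsTorsionFree R C := inferInstance
  have : Algebra.FinitePresentation R C := Algebra.FinitePresentation.of_finiteType.mp inferInstance
  have hht : ∀ (Q : Ideal C) [Q.IsPrime], Q.height = (Q.comap (algebraMap R C)).height :=
    fun Q _ => height_comap_of_flat_quasiFinite Q
  by_cases h2 : (2 : WithBot ℕ∞) ≤ ringKrullDim R
  · refine S0248.result R C h2 hinj fun q hq hqm => ?_
    let p := q.comap (algebraMap R C)
    by_cases hp1 : p.height = 0
    · -- the generic point
      have hq0 : q = ⊥ := by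
        rw [← Ideal.height_eq_zero_iff_eq_bot, hht, hp1]
      have hp0 : p = ⊥ := by
        rwa [← Ideal.height_eq_zero_iff_eq_bot]
      obtain ⟨p1, hp1p, -, hp1h⟩ := S0249.result R (le_trans (by decide) h2) 0 (zero_mem _)
      obtain ⟨Q1, -, hQ1p, hQ1⟩ := Ideal.exists_ideal_over_prime_of_isIntegral p1 (⊥ : Ideal C)
        (by simp [Ideal.comap_bot_of_injective _ hinj])
      have := isUnramifiedAt_of_le (bot_le : (⊥ : Ideal C) ≤ Q1) (h Q1 hQ1p (by rw [hht, hQ1, hp1h]))
      subst hq0
      have : Module.Flat R (Localization.AtPrime (⊥ : Ideal C)) := by
        let K := FractionRing R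
        let L := Localization.AtPrime (⊥ : Ideal C)
        have : IsFractionRing C L := by
          show IsLocalization (nonZeroDivisors C) L
          rw [← Ideal.primeCompl_bot (α := C)]
          infer_instance
        let _ : Field L := IsFractionRing.toField C
        have : FaithfulSMul R L := (faithfulSMul_iff_algebraMap_injective R L).mpr (by
          rw [IsScalarTower.algebraMap_eq R C L]
          exact (IsFractionRing.injective C L).comp hinj)
        let _ : Algebra K L := FractionRing.liftAlgebra R L
        have : Module.Flat R K := IsLocalization.flat K (nonZeroDivisors R)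
        exact Module.Flat.trans R K L
      have hP : (⊥ : Ideal C).LiesOver p := ⟨rfl⟩
      let _ := Localization.AtPrime.algebraOfLiesOver p (⊥ : Ideal C)
      have : Module.Flat (Localization.AtPrime p) (Localization.AtPrime (⊥ : Ideal C)) := by
        rw [Module.flat_iff_of_isLocalization (Localization.AtPrime p) p.primeCompl]
        infer_instance
      exact Hens22.isEtaleAt_of_isUnramifiedAt_of_flat_localization p (⊥ : Ideal C)
    · let L := Localization.AtPrime p
      let M := Algebra.algebraMapSubmonoid C p.primeCompl
      let D := Localization M
      have hM : M ≤ nonZeroDivisors C := by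
        rintro _ ⟨r, hr, rfl⟩
        exact mem_nonZeroDivisors_of_ne_zero
          ((map_ne_zero_iff _ hinj).mpr fun h0 => hr (h0 ▸ zero_mem _))
      have : IsRegularLocalRing L := CAlg1.regular_localization R p
      have : IsDomain D := IsLocalization.isDomain_of_le_nonZeroDivisors _ hM
      have : IsIntegrallyClosed D := isIntegrallyClosed_of_isLocalization _ M hM
      have : Module.Finite L D := Module.Finite.of_isLocalizedModule p.primeCompl
        (IsScalarTower.toAlgHom R C D).toLinearMap
      have hinjD : Function.Injective (algebraMap L D) := by
        rw [injective_iff_map_eq_zero]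
        intro x hx
        obtain ⟨r, s', rfl⟩ := IsLocalization.exists_mk'_eq p.primeCompl x
        have h0 : algebraMap R D r = 0 := by
          rw [IsScalarTower.algebraMap_apply R L D, ← IsLocalization.mk'_spec L r s', map_mul, hx,
            zero_mul]
        rw [IsScalarTower.algebraMap_apply R C D] at h0
        have := hinj ((IsLocalization.injective D hM (h0.trans (map_zero _).symm)).trans
          (map_zero _).symm)
        rw [this, IsLocalization.mk'_zero]
      have hlt : (IsLocalRing.maximalIdeal L).height < n := by
        rw [← hn, ← IsLocalization.height_under p.primeCompl, IsLocalization.AtPrime.under_maximalIdeal L p]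
        exact Ideal.height_strict_mono_of_isPrime
          ((IsLocalRing.le_maximalIdeal (Ideal.IsPrime.ne_top inferInstance)).lt_of_ne hqm)
      have hD : Algebra.Etale L D := ih _ hlt (R := L) (C := D)
        ((IsLocalization.AtPrime.ringKrullDim_eq_height p L).ge.trans'
          (WithBot.coe_le_coe.mpr (Order.one_le_iff_pos.mpr (pos_iff_ne_zero.mpr hp1))))
        hinjD (fun Q _ hQ => by
          have hQc : (Q.comap (algebraMap C D)).height = 1 := by
            rw [← hQ]; exact IsLocalization.height_under M Q
          have hu := h (Q.comap (algebraMap C D)) inferInstance hQc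
          have : IsLocalization.AtPrime (Localization.AtPrime Q) (Q.comap (algebraMap C D)) :=
            IsLocalization.isLocalization_isLocalization_atPrime_isLocalization M _ Q
          have : Algebra.FormallyUnramified R (Localization.AtPrime Q) :=
            Algebra.FormallyUnramified.of_equiv ((IsLocalization.algEquiv
              (Q.comap (algebraMap C D)).primeCompl (Localization.AtPrime (Q.comap (algebraMap C D)))
              (Localization.AtPrime Q)).restrictScalars R)
          exact Algebra.FormallyUnramified.of_restrictScalars R L _) rfl
      have hdisj : Disjoint (M : Set C) (q : Set C) := by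
        rw [Set.disjoint_left]
        rintro _ ⟨r, hr, rfl⟩ hrq
        exact hr hrq
      have : (q.map (algebraMap C D)).IsPrime :=
        IsLocalization.isPrime_of_isPrime_disjoint M D q hq hdisj
      have hqc : (q.map (algebraMap C D)).comap (algebraMap C D) = q :=
        IsLocalization.under_map_of_isPrime_disjoint M D hq hdisj
      let q' := q.map (algebraMap C D)
      have : Algebra.FormallyEtale R L := .of_isLocalization p.primeCompl
      have : Algebra.FormallyEtale R D := .comp R L D
      have : Algebra.FormallyEtale D (Localization.AtPrime q') := .of_isLocalization q'.primeCompl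
      have : Algebra.FormallyEtale R (Localization.AtPrime q') := .comp R D _
      have : IsLocalization.AtPrime (Localization.AtPrime q') q := by
        have hloc := IsLocalization.isLocalization_isLocalization_atPrime_isLocalization M
          (Localization.AtPrime q') q'
        have hpc : (q'.comap (algebraMap C D)).primeCompl = q.primeCompl :=
          Submonoid.ext fun x => not_congr (SetLike.ext_iff.mp hqc x)
        show IsLocalization q.primeCompl _
        rw [← hpc]
        exact hloc
      exact Algebra.FormallyEtale.of_equiv ((IsLocalization.algEquiv q.primeCompl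
        (Localization.AtPrime q') (Localization.AtPrime q)).restrictScalars R)
  · have h1 : ringKrullDim R = 1 := by
      rw [← IsLocalRing.maximalIdeal_height_eq_ringKrullDim] at h2 hdim ⊢
      refine le_antisymm (WithBot.coe_le_coe.mpr (Order.le_of_lt_add_one ?_)) hdim
      rw [show ((1 : ℕ∞) + 1) = 2 by norm_num]
      exact lt_of_not_ge fun e => h2 (WithBot.coe_le_coe.mpr e)
    have hnf : ¬ IsField R := fun hf => by
      rw [ringKrullDim_eq_zero_of_isField hf] at h1
      exact absurd h1 (by decide)
    have : IsDiscreteValuationRing R := by
      refine ((IsDiscreteValuationRing.TFAE R hnf).out 4 0).mp ?_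
      have hs := IsRegularLocalRing.spanFinrank_maximalIdeal (R := R)
      rw [h1, show (1 : WithBot ℕ∞) = ((1 : ℕ) : WithBot ℕ∞) from rfl, Nat.cast_inj] at hs
      exact ((Submodule.spanFinrank_eq_one_iff _).mp hs).1
    have : Algebra.FinitePresentation R C := Algebra.FinitePresentation.of_finiteType.mp inferInstance
    have : Algebra.FormallyUnramified R C := by
      rw [Algebra.formallyUnramified_iff_forall]
      intro Q
      obtain ⟨m, hm, hle⟩ := Ideal.exists_le_maximal Q.asIdeal Q.isPrime.ne_top
      refine isUnramifiedAt_of_le hle (h m inferInstance ?_)
      have hmR : m.comap (algebraMap R C) = IsLocalRing.maximalIdeal R :=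
        IsLocalRing.eq_maximalIdeal (Ideal.isMaximal_comap_of_isIntegral_of_isMaximal m)
      rw [hht, hmR]
      exact WithBot.coe_injective (IsLocalRing.maximalIdeal_height_eq_ringKrullDim.trans h1)
    exact Algebra.Etale.of_formallyUnramified_of_flat

end Groth.Agent.Pure83
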