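import Mathlib.RingTheory.Filtration
import Mathlib.Tactic.Ring
import Mathlib.Tactic.LinearCombination
import Mathlib.RingTheory.Localization.Away.Basic
import Mathlib.Algebra.Algebra.Subalgebra.Basic
import Mathlib.RingTheory.Ideal.Quotient.Defs

/-!
# Elementary Čech lemmas for sequences of length two and three
-/

universe u

namespace Groth.Agent.Pure83

variable {A : Type u} [CommRing A]

/-- `y` is regular modulo `x`. -/
def RegMod (J : Ideal A) (y : A) : Prop := ∀ a, y * a ∈ J → a ∈ J

theorem RegMod.pow {J : Ideal A} {y : A} (h : RegMod J y) (n : ℕ) : RegMod J (y ^ n) := by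
  induction n with
  | zero => intro a ha; simpa using ha
  | succ n ih => intro a ha; exact h a (ih _ (by rwa [← mul_assoc, ← pow_succ]))

theorem mem_pair_iff {X Y a : A} :
    a ∈ Ideal.span {X, Y} ↔ ∃ p q, p * X + q * Y = a := Ideal.mem_span_pair

/-- Powers of the second element. -/
theorem RegMod.pow_pair {X Y z : A} (hY : RegMod (Ideal.span {X}) Y)
    (hz : RegMod (Ideal.span {X, Y}) z) (n : ℕ) : RegMod (Ideal.span {X, Y ^ (n + 1)}) z := by
  induction n with
  | zero => simpa using hz
  | succ n ih =>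
    intro a ha
    obtain ⟨p, q, hpq⟩ := mem_pair_iff.mp ha
    obtain ⟨b, c, hbc⟩ := mem_pair_iff.mp (hz a (mem_pair_iff.mpr ⟨p, q * Y ^ (n + 1), by
      rw [← hpq]; ring⟩))
    have h1 : z * c - q * Y ^ (n + 1) ∈ Ideal.span {X} := hY _ (Ideal.mem_span_singleton.mpr
      ⟨p - z * b, by linear_combination z * hbc - hpq⟩)
    obtain ⟨d, hd⟩ := Ideal.mem_span_singleton.mp h1
    obtain ⟨e, f, hef⟩ := mem_pair_iff.mp (ih c (mem_pair_iff.mpr ⟨d, q, by linear_combination -hd⟩))
    exact mem_pair_iff.mpr ⟨b + e * Y, f, by rw [← hbc, ← hef]; ring⟩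

/-- If `x` is regular and `y` is regular modulo `x`, then `y` is regular modulo powers of `x`. -/
theorem RegMod.pow_base {x y : A} (hx : IsSMulRegular A x) (hy : RegMod (Ideal.span {x}) y)
    (k : ℕ) : RegMod (Ideal.span {x ^ k}) y := by
  induction k with
  | zero => intro a _; simp
  | succ k ih =>
    intro a ha
    obtain ⟨c, hc⟩ := Ideal.mem_span_singleton.mp ha
    obtain ⟨b, rfl⟩ := Ideal.mem_span_singleton.mp
      (hy a (Ideal.mem_span_singleton.mpr ⟨x ^ k * c, by rw [hc]; ring⟩))
    obtain ⟨d, rfl⟩ := Ideal.mem_span_singleton.mp (ih b (Ideal.mem_span_singleton.mpr ⟨c, hx (by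
      show x * (y * b) = x * (x ^ k * c)
      linear_combination hc)⟩))
    exact Ideal.mem_span_singleton.mpr ⟨d, by ring⟩

/-- Permutation: `x` is regular modulo `y`. -/
theorem RegMod.swap {x y : A} (hx : IsSMulRegular A x) (hxy : RegMod (Ideal.span {x}) y) :
    RegMod (Ideal.span {y}) x := by
  intro a ha
  obtain ⟨b, hb⟩ := Ideal.mem_span_singleton.mp ha
  obtain ⟨c, rfl⟩ := Ideal.mem_span_singleton.mp
    (hxy b (Ideal.mem_span_singleton.mpr ⟨a, hb.symm⟩))
  exact Ideal.mem_span_singleton.mpr ⟨c, hx (by show x * a = x * (y * c); linear_combination hb)⟩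

/-- `z` is regular modulo `(x ^ k, y ^ L)`. -/
theorem RegMod.pow_both {x y z : A} (hx : IsSMulRegular A x) (hy : RegMod (Ideal.span {x}) y)
    (hz : RegMod (Ideal.span {x, y}) z) (k L : ℕ) :
    RegMod (Ideal.span {x ^ (k + 1), y ^ (L + 1)}) z := by
  refine RegMod.pow_pair (hy.pow_base hx _) ?_ L
  rw [Set.pair_comm]
  refine RegMod.pow_pair (hy.swap hx) ?_ k
  rwa [Set.pair_comm]

variable [IsNoetherianRing A] [IsLocalRing A]

/-- In a Noetherian local ring the second element of a regular sequence is regular. -/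
theorem RegMod.isSMulRegular {x y : A} (hxm : x ∈ IsLocalRing.maximalIdeal A)
    (hx : IsSMulRegular A x) (hy : RegMod (Ideal.span {x}) y) : IsSMulRegular A y := by
  refine isSMulRegular_iff_right_eq_zero_of_smul.mpr fun a ha => ?_
  replace ha : y * a = 0 := ha
  have key : ∀ n : ℕ, a ∈ Ideal.span {x ^ n} := fun n =>
    hy.pow_base hx n a (by simp [ha])
  have : a ∈ ⨅ n : ℕ, Ideal.span {x} ^ n := by
    simp only [Ideal.mem_iInf, Ideal.span_singleton_pow]; exact key
  rwa [Ideal.iInf_pow_eq_bot_of_isLocalRing _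
    (fun h => (IsLocalRing.maximalIdeal.isMaximal A).ne_top
      (top_le_iff.mp (h.ge.trans ((Ideal.span_singleton_le_iff_mem _).mpr hxm)))),
    Submodule.mem_bot] at this

end Groth.Agent.Pure83
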