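import Groth.Agent.Pure83.DescScheme
import Groth.Agent.Cohen12.Completion

/-!
# Extension of covers and completion
-/

universe u

open CategoryTheory Limits AlgebraicGeometry TopologicalSpace Opposite

namespace Groth.Agent.Pure83

variable {A C : Type u} [CommRing A] [IsLocalRing A] [IsNoetherianRing A] [CommRing C] [Algebra A C]

set_option backward.isDefEq.respectTransparency.types false in
/-- A cover extends if its base change extends. -/
theorem exists_of_extends_baseChange [Module.FaithfullyFlat A C]
    (hsub : ∀ (k : ℕ) (c : C), ∃ a : A,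
      c - algebraMap A C a ∈ (IsLocalRing.maximalIdeal A ^ k).map (algebraMap A C))
    (V : FEt.Cat (FEt.puncturedSpec A : Scheme.{u})) (Y' : FEt.Cat (Spec (CommRingCat.of C)))
    (e : (FEt.restrict (pullback.snd (FEt.puncturedSpec A).ι (descMap A C))).obj Y' ≅
      (FEt.restrict (pullback.fst (FEt.puncturedSpec A).ι (descMap A C))).obj V) :
    ∃ Y : FEt.Cat (Spec (CommRingCat.of A)),
      Nonempty ((FEt.restrict (FEt.puncturedSpec A).ι).obj Y ≅ V) := by
  obtain ⟨D, ⟨eD⟩⟩ := (inferInstance : (FEt83.specFunctor C).EssSurj).mem_essImage Y'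
  let σ := pullback.snd (FEt.puncturedSpec A).ι (descMap A C)
  let e' := (FEt.restrict σ).mapIso eD ≪≫ e
  let y' := ((FEt83.specFunctor C).obj D).hom
  have : IsIso e'.inv.left :=
    ((MorphismProperty.Over.forget _ _ _ ⋙ CategoryTheory.Over.forget _).mapIso e'.symm).isIso_hom
  let h := e'.inv.left ≫ pullback.fst y' σ
  have hh : IsPullback h
      (pullback.snd V.hom (pullback.fst (FEt.puncturedSpec A).ι (descMap A C))) y' σ :=
    IsPullback.of_iso_pullback ⟨(Category.assoc _ _ _).trans ((congrArg (e'.inv.left ≫ ·)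
        pullback.condition).trans ((Category.assoc _ _ _).symm.trans
          (congrArg (· ≫ σ) (Over.w e'.inv.hom))))⟩
      (@asIso _ _ _ _ e'.inv.left ‹_›) rfl (Over.w e'.inv.hom)
  exact exists_of_baseChange hsub V D.unop.obj h hh

set_option backward.isDefEq.respectTransparency.types false in
/-- The trivial direction. -/
theorem extends_baseChange (V : FEt.Cat (FEt.puncturedSpec A : Scheme.{u}))
    (Y : FEt.Cat (Spec (CommRingCat.of A))) (e : (FEt.restrict (FEt.puncturedSpec A).ι).obj Y ≅ V) :
    ∃ Y' : FEt.Cat (Spec (CommRingCat.of C)),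
      Nonempty ((FEt.restrict (pullback.snd (FEt.puncturedSpec A).ι (descMap A C))).obj Y' ≅
        (FEt.restrict (pullback.fst (FEt.puncturedSpec A).ι (descMap A C))).obj V) :=
  ⟨(FEt.restrict (descMap A C)).obj Y,
    ⟨FEt83.restrictSqIso _ _ _ _ pullback.condition.symm Y ≪≫ (FEt.restrict _).mapIso e⟩⟩

theorem faithfullyFlat_completion :
    Module.FaithfullyFlat A (AdicCompletion (IsLocalRing.maximalIdeal A) A) := by
  have : IsLocalHom (algebraMap A (AdicCompletion (IsLocalRing.maximalIdeal A) A)) :=
    ((IsLocalRing.local_hom_TFAE _).out 2 0 rfl rfl).mp AdicCompletion.maximalIdeal_eq_map.symm.le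
  have : Module.Flat A (AdicCompletion (IsLocalRing.maximalIdeal A) A) :=
    AdicCompletion.flat_of_isNoetherian _
  exact Module.FaithfullyFlat.of_flat_of_isLocalHom

theorem completion_hsub (k : ℕ) (c : AdicCompletion (IsLocalRing.maximalIdeal A) A) :
    ∃ a : A, c - algebraMap A _ a ∈ (IsLocalRing.maximalIdeal A ^ k).map
      (algebraMap A (AdicCompletion (IsLocalRing.maximalIdeal A) A)) := by
  obtain ⟨a, ha⟩ := Cohen12.exists_sub_mem_pow A k c
  exact ⟨a, (Cohen12.pow_maximalIdeal_completion A k).le ha⟩

end Groth.Agent.Pure83
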