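import Groth.Agent.Pure83.Hyperplane
import Groth.Agent.FEt83.Colim
import Groth.Agent.FEt83.AffineEquiv
import Groth.Agent.FEt83.DepthSections
import Groth.Prelude.Def_FEt
import Mathlib.AlgebraicGeometry.QuasiAffine

/-!
# Sections of covers of a punctured spectrum
-/

universe u

open CategoryTheory Limits AlgebraicGeometry TopologicalSpace Opposite

namespace Groth.Agent.Pure83

variable {A : Type u} [CommRing A] [IsLocalRing A]
  (V : FEt.Cat (FEt.puncturedSpec A : Scheme.{u}))

/-- The structure map to the spectrum. -/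
noncomputable abbrev strHom : V.left ⟶ Spec (CommRingCat.of A) := V.hom ≫ (FEt.puncturedSpec A).ι

/-- `A → Γ(V)`. -/
noncomputable abbrev secStr : A →+* Γ(V.left, ⊤) :=
  ((V.hom ≫ (FEt.puncturedSpec A).ι).appTop).hom.comp (Scheme.ΓSpecIso (CommRingCat.of A)).inv.hom

noncomputable instance secAlg : Algebra A Γ(V.left, ⊤) := (secStr V).toAlgebra

theorem mem_puncturedSpec_iff (p : PrimeSpectrum A) :
    p ∈ FEt.puncturedSpec A ↔ p.asIdeal ≠ IsLocalRing.maximalIdeal A :=
  ⟨fun h e => h (PrimeSpectrum.ext e), fun h e => h (congrArg PrimeSpectrum.asIdeal e)⟩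

theorem basicOpen_le_punctured {c : A} (hc : c ∈ IsLocalRing.maximalIdeal A) :
    (PrimeSpectrum.basicOpen c : (Spec (CommRingCat.of A)).Opens) ≤ FEt.puncturedSpec A :=
  fun p hp => (mem_puncturedSpec_iff p).mpr fun e => hp (e ▸ hc)

set_option backward.isDefEq.respectTransparency.types false in
theorem preimage_basicOpen (c : A) :
    strHom V ⁻¹ᵁ PrimeSpectrum.basicOpen c = V.left.basicOpen (algebraMap A Γ(V.left, ⊤) c) := by
  rw [← basicOpen_eq_of_affine (R := CommRingCat.of A) c, Scheme.preimage_basicOpen_top]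
  rfl

variable [IsNoetherianRing A]

theorem compactSpace_left : CompactSpace V.left :=
  have hN : IsNoetherian (FEt.puncturedSpec A : Scheme.{u}) :=
    { toIsLocallyNoetherian := isLocallyNoetherian_of_isOpenImmersion (FEt.puncturedSpec A).ι
      toCompactSpace := isCompact_iff_compactSpace.mp (NoetherianSpace.isCompact _) }
  have hf : IsFinite V.hom := V.prop.1
  @QuasiCompact.compactSpace_of_compactSpace V.left (FEt.puncturedSpec A : Scheme.{u}) V.hom inferInstance hN.toCompactSpace

theorem isQuasiAffine_punctured : (FEt.puncturedSpec A : Scheme.{u}).IsQuasiAffine :=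
  have : CompactSpace (FEt.puncturedSpec A : Scheme.{u}) :=
    isCompact_iff_compactSpace.mp (NoetherianSpace.isCompact _)
  Scheme.IsQuasiAffine.of_isImmersion (FEt.puncturedSpec A).ι

theorem isQuasiAffine_left : V.left.IsQuasiAffine :=
  have hU := isQuasiAffine_punctured (A := A)
  have : IsFinite V.hom := V.prop.1
  @Scheme.IsQuasiAffine.of_isAffineHom V.left (FEt.puncturedSpec A : Scheme.{u}) V.hom inferInstance hU

set_option backward.isDefEq.respectTransparency.types false in
theorem isAffineOpen_basicOpen {c : A} (hc : c ∈ IsLocalRing.maximalIdeal A) :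
    IsAffineOpen (strHom V ⁻¹ᵁ PrimeSpectrum.basicOpen c) := by
  have : IsFinite V.hom := V.prop.1
  have h : IsAffineOpen ((FEt.puncturedSpec A).ι ⁻¹ᵁ PrimeSpectrum.basicOpen c) :=
    (IsAffineOpen.Spec_basicOpen c).preimage_of_isOpenImmersion (FEt.puncturedSpec A).ι
      ((basicOpen_le_punctured hc).trans_eq (Scheme.Opens.opensRange_ι (FEt.puncturedSpec A)).symm)
  exact h.preimage V.hom

set_option backward.isDefEq.respectTransparency.types false in
theorem finite_etale_app {c : A} (hc : c ∈ IsLocalRing.maximalIdeal A) :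
    ((strHom V).app (PrimeSpectrum.basicOpen c)).hom.Finite ∧
      ((strHom V).app (PrimeSpectrum.basicOpen c)).hom.Etale := by
  let D : (Spec (CommRingCat.of A)).Opens := PrimeSpectrum.basicOpen c
  have hD : IsAffineOpen ((FEt.puncturedSpec A).ι ⁻¹ᵁ D) :=
    (IsAffineOpen.Spec_basicOpen c).preimage_of_isOpenImmersion (FEt.puncturedSpec A).ι
      ((basicOpen_le_punctured hc).trans_eq (Scheme.Opens.opensRange_ι (FEt.puncturedSpec A)).symm)
  obtain ⟨h1, h2⟩ := FEt83.finite_etale_app V.prop hD
  have : IsIso ((FEt.puncturedSpec A).ι.app D) :=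
    Scheme.Hom.isIso_app _ _ ((basicOpen_le_punctured hc).trans_eq (Scheme.Opens.opensRange_ι (FEt.puncturedSpec A)).symm)
  have hb := ConcreteCategory.bijective_of_isIso ((FEt.puncturedSpec A).ι.app D)
  have e : (strHom V).app D = (FEt.puncturedSpec A).ι.app D ≫ V.hom.app _ :=
    Scheme.Hom.comp_app _ _ _
  rw [show (PrimeSpectrum.basicOpen c : (Spec (CommRingCat.of A)).Opens) = D from rfl, e]
  exact ⟨h1.comp (RingHom.Finite.of_surjective _ hb.2),
    RingHom.Etale.stableUnderComposition _ _ (RingHom.Etale.of_bijective hb) h2⟩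

set_option backward.isDefEq.respectTransparency.types false in
theorem finite_etale_awayStr {c : A} (hc : c ∈ IsLocalRing.maximalIdeal A) :
    (awayStr A Γ(V.left, ⊤) c).Finite ∧ (awayStr A Γ(V.left, ⊤) c).Etale := by
  have := compactSpace_left V
  have := isQuasiAffine_left V
  let M := Γ(V.left, ⊤)
  let W := V.left.basicOpen (algebraMap A M c)
  let D : (Spec (CommRingCat.of A)).Opens := PrimeSpectrum.basicOpen c
  have hW : IsLocalization.Away (algebraMap A M c) Γ(V.left, W) :=
    isLocalization_basicOpen_of_qcqs isCompact_univ isQuasiSeparated_univ _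
  let _ : Algebra A Γ(Spec (CommRingCat.of A), D) :=
    StructureSheaf.openAlgebra A (op (PrimeSpectrum.basicOpen c))
  have hDl : IsLocalization.Away c Γ(Spec (CommRingCat.of A), D) :=
    (inferInstance : IsLocalization.Away c ((Spec.structureSheaf A).presheaf.obj (op (PrimeSpectrum.basicOpen c))))
  let φ : Γ(Spec (CommRingCat.of A), D) ⟶ Γ(V.left, W) :=
    (strHom V).appLE D W (preimage_basicOpen V c).ge
  have hφ : φ.hom.Finite ∧ φ.hom.Etale := by
    obtain ⟨h1, h2⟩ := finite_etale_app V hc
    have e : φ = (strHom V).app D ≫ V.left.presheaf.map (eqToHom (preimage_basicOpen V c).symm).op := by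
      show (strHom V).appLE D W _ = _
      rw [Scheme.Hom.appLE]
      rfl
    have hb := ConcreteCategory.bijective_of_isIso
      (V.left.presheaf.map (eqToHom (preimage_basicOpen V c).symm).op)
    rw [e, CommRingCat.hom_comp]
    exact ⟨(RingHom.Finite.of_surjective _ hb.2).comp h1,
      RingHom.Etale.stableUnderComposition _ _ h2 (RingHom.Etale.of_bijective hb)⟩
  let e1 : Localization.Away c ≃ₐ[A] Γ(Spec (CommRingCat.of A), D) :=
    IsLocalization.algEquiv (Submonoid.powers c) _ _
  let e2 : Localization.Away (algebraMap A M c) ≃ₐ[M] Γ(V.left, W) :=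
    IsLocalization.algEquiv (Submonoid.powers (algebraMap A M c)) _ _
  have key : awayStr A M c = e2.symm.toRingEquiv.toRingHom.comp (φ.hom.comp e1.toRingEquiv.toRingHom) := by
    refine IsLocalization.ringHom_ext (Submonoid.powers c) (RingHom.ext fun a => ?_)
    show awayStr A M c (algebraMap A _ a) = e2.symm (φ.hom (e1 (algebraMap A _ a)))
    rw [e1.commutes, show awayStr A M c (algebraMap A (Localization.Away c) a) =
      algebraMap M _ (algebraMap A M a) from IsLocalization.map_eq _ a]
    refine (e2.symm_apply_eq.mpr ?_).symm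
    rw [e2.commutes]
    show φ.hom ((Spec (CommRingCat.of A)).presheaf.map (homOfLE le_top).op
        ((Scheme.ΓSpecIso (CommRingCat.of A)).inv a)) =
      V.left.presheaf.map (homOfLE le_top).op ((strHom V).appTop ((Scheme.ΓSpecIso (CommRingCat.of A)).inv a))
    have h3 : (Spec (CommRingCat.of A)).presheaf.map (homOfLE le_top).op ≫ φ =
        (strHom V).appTop ≫ V.left.presheaf.map (homOfLE le_top).op := by
      show _ ≫ (strHom V).appLE D W _ = _
      rw [Scheme.Hom.map_appLE, Scheme.Hom.appLE]
      rfl
    exact congr($h3 ((Scheme.ΓSpecIso (CommRingCat.of A)).inv a))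
  rw [key]
  exact ⟨(RingHom.Finite.of_surjective _ e2.symm.surjective).comp
      (hφ.1.comp (RingHom.Finite.of_surjective _ e1.surjective)),
    RingHom.Etale.stableUnderComposition _ _
      (RingHom.Etale.stableUnderComposition _ _ (RingHom.Etale.of_bijective e1.bijective) hφ.2)
      (RingHom.Etale.of_bijective e2.symm.bijective)⟩

end Groth.Agent.Pure83
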