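import Groth.Agent.Pure83.DescScheme
import Groth.Agent.Pure83.Sections
import Mathlib.RingTheory.Etale.Descent

/-!
# Descent of extendability along faithfully flat maps
-/

universe u

open CategoryTheory Limits AlgebraicGeometry TopologicalSpace TensorProduct

namespace Groth.Agent.Pure83

variable {A C : Type u} [CommRing A] [IsLocalRing A] [IsNoetherianRing A] [CommRing C] [Algebra A C]
  [Module.FaithfullyFlat A C]

set_option backward.isDefEq.respectTransparency.types false in
set_option maxHeartbeats 1000000 in
/-- A cover of the punctured spectrum of a local ring of depth at least two extends as soon as its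
pullback to some faithfully flat algebra extends. -/
theorem extends_of_faithfullyFlat (h2 : (2 : ℕ∞) ≤ LocCoh.depth A A)
    (V : FEt.Cat (FEt.puncturedSpec A : Scheme.{u})) (Y' : FEt.Cat (Spec (CommRingCat.of C)))
    (e : (FEt.restrict (pullback.snd (FEt.puncturedSpec A).ι (descMap A C))).obj Y' ≅
      (FEt.restrict (pullback.fst (FEt.puncturedSpec A).ι (descMap A C))).obj V) :
    ∃ Y : FEt.Cat (Spec (CommRingCat.of A)),
      Nonempty ((FEt.restrict (FEt.puncturedSpec A).ι).obj Y ≅ V) := by
  let ι := (FEt.puncturedSpec A).ι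
  let π := pullback.fst ι (descMap A C)
  let σ := pullback.snd ι (descMap A C)
  let P : Scheme.{u} := pullback V.hom π
  let p : P ⟶ pullback ι (descMap A C) := pullback.snd V.hom π
  let el : P ≅ (pullback Y'.hom σ : Scheme.{u}) :=
    ((MorphismProperty.Over.forget _ _ _) ⋙ Over.forget _).mapIso e.symm
  let h : P ⟶ Y'.left := el.hom ≫ pullback.fst Y'.hom σ
  have hel : el.hom ≫ pullback.snd Y'.hom σ = p := FEt83.w_left e.inv
  have hh : IsPullback h p Y'.hom σ := by
    refine (IsPullback.of_hasPullback Y'.hom σ).of_iso el.symm (Iso.refl _) (Iso.refl _) (Iso.refl _)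
      ?_ ?_ ?_ ?_
    · simp [h]
    · simp [← hel]
    · simp
    · simp
  have H : IsPullback (p ≫ π) h ι (Y'.hom ≫ descMap A C) :=
    hh.flip.paste_horiz (IsPullback.of_hasPullback ι (descMap A C))
  have : IsFinite Y'.hom := Y'.prop.1
  have : Etale Y'.hom := Y'.prop.2
  have : IsAffine Y'.left := @isAffine_of_isAffineHom _ (Spec (CommRingCat.of C)) Y'.hom _ inferInstance
  have : Flat (descMap A C) := (HasRingHomProperty.Spec_iff (P := @Flat)).mpr
    (RingHom.flat_algebraMap_iff.mpr inferInstance)
  have hfl : Flat (Y'.hom ≫ descMap A C) := inferInstance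
  have : CompactSpace (FEt.puncturedSpec A : Scheme.{u}) :=
    isCompact_iff_compactSpace.mp (NoetherianSpace.isCompact _)
  have : IsLocallyNoetherian (FEt.puncturedSpec A : Scheme.{u}) :=
    isLocallyNoetherian_of_isOpenImmersion ι
  have hi := isIso_pushoutSection_of_isQuasiSeparated_of_flat_right H (US := ⊤) (UT := ⊤) (UX := ⊤)
    (UY := ⊤) le_rfl le_rfl (by simp) (isAffineOpen_top _) (isAffineOpen_top _) isCompact_univ
    isQuasiSeparated_univ
  have hp := (isIso_pushoutSection_iff H (US := ⊤) (UT := ⊤) (UX := ⊤) (UY := ⊤) le_rfl le_rfl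
    (by simp)).mp hi
  simp only [Scheme.Hom.appLE, Scheme.Hom.preimage_top] at hp
  simp only [homOfLE_refl, op_id, CategoryTheory.Functor.map_id, Category.comp_id] at hp
  have hι : Function.Bijective ι.appTop := by
    refine FEt83.appTop_bijective_of_depth _ fun x hx => ?_
    rw [Scheme.Opens.range_ι] at hx
    obtain rfl : x = IsLocalRing.closedPoint A := by_contra fun h => hx h
    rwa [FEt83.depth_stalk_closedPoint]
  have : IsIso ι.appTop := (ConcreteCategory.isIso_iff_bijective _).mpr hι
  have hhb : IsIso h.appTop := hp.isIso_inr_of_isIso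
  obtain ⟨θ, hθc, -⟩ := exists_tensor_equiv (C := C) V
  have hfin := finite_sections h2 V
  have het : Algebra.Etale C (C ⊗[A] Γ(V.left, ⊤)) := by
    refine RingHom.etale_algebraMap.mp ?_
    obtain ⟨-, hY⟩ := FEt83.finite_etale_app Y'.prop (isAffineOpen_top (Spec (CommRingCat.of C)))
    have key : algebraMap C (C ⊗[A] Γ(V.left, ⊤)) = (θ.symm.toRingHom.comp h.appTop.hom).comp
        (Y'.hom.appTop.hom.comp (Scheme.ΓSpecIso (CommRingCat.of C)).inv.hom) := by
      ext c
      refine (θ.eq_symm_apply.mpr ?_)
      refine (hθc c).trans ?_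
      exact congr((Scheme.Hom.appTop $(hh.w.symm)) ((Scheme.ΓSpecIso (CommRingCat.of C)).inv c))
    rw [key]
    refine RingHom.Etale.stableUnderComposition _ _ (RingHom.Etale.stableUnderComposition _ _
      (RingHom.Etale.of_bijective (ConcreteCategory.bijective_of_isIso
        (Scheme.ΓSpecIso (CommRingCat.of C)).inv)) hY) ?_
    exact RingHom.Etale.of_bijective (θ.symm.bijective.comp (ConcreteCategory.bijective_of_isIso h.appTop))
  have : Algebra.Etale A Γ(V.left, ⊤) := Algebra.Etale.of_etale_tensorProduct_of_faithfullyFlat C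
  exact exists_extension V h2

end Groth.Agent.Pure83
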