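import Groth.Agent.Pure83.PowerBase
import Groth.Agent.ParaF26.PowerSeriesLoc
import Groth.Agent.Cohen12.PowerSeries
import Groth.Agent.S0392
import Mathlib.RingTheory.MvPowerSeries.Equiv

/-!
# Purity of power series rings over rings of depth two
-/

universe u

open CategoryTheory Limits AlgebraicGeometry TopologicalSpace TensorProduct

namespace Groth.Agent.Pure83

/-- Transport of purity along ring isomorphisms, via faithfully flat descent. -/
theorem purityHolds_of_faithfullyFlat {B C : Type u} [CommRing B] [IsLocalRing B] [IsNoetherianRing B]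
    [CommRing C] [IsLocalRing C] [Algebra B C] [Module.FaithfullyFlat B C]
    (h2 : (2 : ℕ∞) ≤ LocCoh.depth B B)
    (hm : (IsLocalRing.maximalIdeal B).map (algebraMap B C) = IsLocalRing.maximalIdeal C)
    (hC : FEt.PurityHolds C) : FEt.PurityHolds B := by
  refine ⟨fun V => ?_⟩
  obtain ⟨a, ha⟩ := exists_puncturedMap (A := B) hm
  obtain ⟨Y', ⟨e⟩⟩ := hC.mem_essImage ((FEt.restrict a).obj V)
  let snd := pullback.snd (FEt.puncturedSpec B).ι (descMap B C)
  have hr : Set.range snd = Set.range (FEt.puncturedSpec C).ι := by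
    rw [IsOpenImmersion.range_pullbackSnd, Scheme.Opens.opensRange_ι, Scheme.Opens.range_ι]
    ext q
    show descMap B C q ∈ FEt.puncturedSpec B ↔ q ∈ FEt.puncturedSpec C
    refine Iff.trans (mem_puncturedSpec_iff _) (Iff.trans (not_congr ?_) (mem_puncturedSpec_iff _).symm)
    refine ⟨fun e => ((IsLocalRing.maximalIdeal.isMaximal C).eq_of_le
      (q : PrimeSpectrum C).isPrime.ne_top (hm ▸ Ideal.map_le_iff_le_comap.mpr e.ge)).symm, fun e => ?_⟩
    refine ((IsLocalRing.maximalIdeal.isMaximal B).eq_of_le (descMap B C q : PrimeSpectrum B).isPrime.ne_top ?_).symm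
    show _ ≤ Ideal.comap (algebraMap B C) (q : PrimeSpectrum C).asIdeal
    rw [e, ← hm]
    exact Ideal.le_comap_map
  let j := IsOpenImmersion.isoOfRangeEq snd (FEt.puncturedSpec C).ι hr
  have hj : j.hom ≫ (FEt.puncturedSpec C).ι = snd := IsOpenImmersion.isoOfRangeEq_hom_fac _ _ _
  have hfst : j.hom ≫ a = pullback.fst (FEt.puncturedSpec B).ι (descMap B C) := by
    refine (cancel_mono (FEt.puncturedSpec B).ι).mp ?_
    rw [Category.assoc, ha, ← Category.assoc, hj]
    exact pullback.condition.symm
  exact extends_of_faithfullyFlat h2 V Y'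
    (FEt83.restrictEqIso hj.symm Y' ≪≫ (FEt83.restrictCompIso j.hom (FEt.puncturedSpec C).ι).app Y' ≪≫
      (FEt.restrict j.hom).mapIso e ≪≫ ((FEt83.restrictCompIso j.hom a).app V).symm ≪≫
      FEt83.restrictEqIso hfst V)

/-- Purity is invariant under ring isomorphisms. -/
theorem purityHolds_of_ringEquiv {B C : Type u} [CommRing B] [IsLocalRing B] [IsNoetherianRing B]
    [CommRing C] [IsLocalRing C] (e : B ≃+* C) (h2 : (2 : ℕ∞) ≤ LocCoh.depth B B)
    (hC : FEt.PurityHolds C) : FEt.PurityHolds B := by
  let _ := e.toRingHom.toAlgebra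
  have : Module.FaithfullyFlat B C :=
    RingHom.faithfullyFlat_algebraMap_iff.mp (RingHom.FaithfullyFlat.of_bijective e.bijective)
  refine purityHolds_of_faithfullyFlat h2 ?_ hC
  exact IsLocalRing.eq_maximalIdeal (Ideal.map_isMaximal_of_equiv e)

/-- A finitely generated ideal extended to power series consists of the series with coefficients in it. -/
theorem mem_map_C_of_fg {R : Type u} [CommRing R] {I : Ideal R} (hI : I.FG) (f : PowerSeries R) :
    f ∈ I.map (PowerSeries.C (R := R)) ↔ ∀ n, PowerSeries.coeff n f ∈ I := by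
  classical
  refine ⟨fun hf n => ?_, fun hf => ?_⟩
  · refine Submodule.span_induction (p := fun f _ => ∀ n, PowerSeries.coeff n f ∈ I) ?_ ?_ ?_ ?_ hf n
    · rintro _ ⟨r, hr, rfl⟩ n
      rw [PowerSeries.coeff_C]
      split_ifs
      · exact hr
      · exact zero_mem _
    · intro n; rw [map_zero]; exact zero_mem _
    · intro a b _ _ ha hb n; rw [map_add]; exact add_mem (ha n) (hb n)
    · intro a b _ hb n
      rw [smul_eq_mul, PowerSeries.coeff_mul]
      exact Ideal.sum_mem _ fun p _ => Ideal.mul_mem_left _ _ (hb p.2)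
  · obtain ⟨T, hT⟩ := hI
    have hc : ∀ n, ∃ c : T → R, ∑ r : T, c r * r.1 = PowerSeries.coeff n f := fun n => by
      obtain ⟨c, hc⟩ := Ideal.mem_span_range_iff_exists_fun.mp
        (show PowerSeries.coeff n f ∈ Ideal.span (Set.range fun r : T => (r : R)) by
          rw [Subtype.range_coe_subtype]
          exact hT.ge (hf n))
      exact ⟨c, hc⟩
    choose c hc using hc
    have : f = ∑ r : T, PowerSeries.mk (fun n => c n r) * PowerSeries.C r.1 := by
      ext n
      rw [map_sum]
      refine (hc n).symm.trans (Finset.sum_congr rfl fun r _ => ?_)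
      rw [PowerSeries.coeff_mul_C, PowerSeries.coeff_mk]
    rw [this]
    exact Ideal.sum_mem _ fun r _ => Ideal.mul_mem_left _ _
      (Ideal.mem_map_of_mem _ (hT.le (Submodule.subset_span r.2)))

theorem algebraMap_powerSeries (R : Type u) [CommRing R] :
    algebraMap R (PowerSeries R) = PowerSeries.C := by
  ext r
  simp

variable (A : Type u) [CommRing A] [IsNoetherianRing A] [IsLocalRing A]

omit [IsNoetherianRing A] in
theorem mem_maximalIdeal_powerSeries {f : PowerSeries A} [IsLocalRing (PowerSeries A)] :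
    f ∈ IsLocalRing.maximalIdeal (PowerSeries A) ↔
      PowerSeries.constantCoeff f ∈ IsLocalRing.maximalIdeal A := by
  rw [IsLocalRing.mem_maximalIdeal, IsLocalRing.mem_maximalIdeal, mem_nonunits_iff, mem_nonunits_iff,
    PowerSeries.isUnit_iff_constantCoeff]

omit [IsNoetherianRing A] in
theorem isLocalRing_powerSeries : IsLocalRing (PowerSeries A) := by
  refine IsLocalRing.of_nonunits_add fun a b ha hb => ?_
  rw [mem_nonunits_iff, PowerSeries.isUnit_iff_constantCoeff] at ha hb ⊢
  rw [map_add]
  exact IsLocalRing.nonunits_add ha hb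

theorem depth_powerSeries [IsLocalRing (PowerSeries A)] (hA : (2 : ℕ∞) ≤ LocCoh.depth A A) :
    (2 : ℕ∞) ≤ LocCoh.depth (PowerSeries A) (PowerSeries A) := by
  obtain ⟨x, hxm, y, hym, hx, hy⟩ := exists_pair_of_depth_two hA
  have := ParaF26.flat_powerSeries A
  have hmem : ∀ {a : A}, a ∈ IsLocalRing.maximalIdeal A →
      algebraMap A (PowerSeries A) a ∈ IsLocalRing.maximalIdeal (PowerSeries A) := fun {a} ha => by
    rw [mem_maximalIdeal_powerSeries, algebraMap_powerSeries, PowerSeries.constantCoeff_C]
    exact ha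
  have hx1 : IsSMulRegular (PowerSeries A) (algebraMap A (PowerSeries A) x) :=
    isSMulRegular_iff_right_eq_zero_of_smul.mpr fun c hc => by
      have := RegMod.map_flat (C := PowerSeries A) (I := ⊥) (x := x) (fun a ha => (Submodule.mem_bot A).mpr
        (isSMulRegular_iff_right_eq_zero_of_smul.mp hx a ((Submodule.mem_bot A).mp ha))) c
        (by rw [Ideal.map_bot, Submodule.mem_bot]; exact hc)
      rwa [Ideal.map_bot, Submodule.mem_bot] at this
  have hy1 : RegMod (Ideal.span {algebraMap A (PowerSeries A) x}) (algebraMap A (PowerSeries A) y) := by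
    have := hy.map_flat (C := PowerSeries A)
    rwa [Ideal.map_span, Set.image_singleton] at this
  exact two_le_depth_of_pair (hmem hxm) (hmem hym) hx1 hy1

set_option maxHeartbeats 1000000 in
/-- Purity of the power series ring in one variable. -/
theorem purityHolds_powerSeries [IsLocalRing (PowerSeries A)] (hA : (2 : ℕ∞) ≤ LocCoh.depth A A) :
    FEt.PurityHolds (PowerSeries A) := by
  let Ah := AdicCompletion (IsLocalRing.maximalIdeal A) A
  have : IsNoetherianRing Ah := Cohen12.isNoetherianRing_completion A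
  have : Module.FaithfullyFlat A Ah := faithfullyFlat_completion
  have : IsLocalRing (PowerSeries Ah) := isLocalRing_powerSeries Ah
  have hmh : (IsLocalRing.maximalIdeal A).map (algebraMap A Ah) = IsLocalRing.maximalIdeal Ah :=
    AdicCompletion.maximalIdeal_eq_map.symm
  have hAh : (2 : ℕ∞) ≤ LocCoh.depth Ah Ah := by
    obtain ⟨x, hxm, y, hym, hx, hy⟩ := exists_pair_of_depth_two hA
    have hmem : ∀ {a : A}, a ∈ IsLocalRing.maximalIdeal A → algebraMap A Ah a ∈ IsLocalRing.maximalIdeal Ah :=
      fun ha => hmh ▸ Ideal.mem_map_of_mem _ ha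
    refine two_le_depth_of_pair (hmem hxm) (hmem hym)
      (isSMulRegular_iff_right_eq_zero_of_smul.mpr fun c hc => ?_) (by
        have := hy.map_flat (C := Ah)
        rwa [Ideal.map_span, Set.image_singleton] at this)
    have := RegMod.map_flat (C := Ah) (I := ⊥) (x := x) (fun a ha => (Submodule.mem_bot A).mpr
      (isSMulRegular_iff_right_eq_zero_of_smul.mp hx a ((Submodule.mem_bot A).mp ha))) c
      (by rw [Ideal.map_bot, Submodule.mem_bot]; exact hc)
    rwa [Ideal.map_bot, Submodule.mem_bot] at this
  have hcAh : IsAdicComplete (IsLocalRing.maximalIdeal Ah) Ah := Cohen12.isAdicComplete_completion A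
  -- the complete case
  have hC : FEt.PurityHolds (PowerSeries Ah) := by
    have : IsAdicComplete (IsLocalRing.maximalIdeal (PowerSeries Ah)) (PowerSeries Ah) := by
      have : IsLocalRing (MvPowerSeries (Fin 1) Ah) :=
        (MvPowerSeries.finSuccEquiv Ah 0).toRingEquiv.symm.isLocalRing (A := PowerSeries (MvPowerSeries (Fin 0) Ah))
      let e0 : MvPowerSeries (Fin 0) Ah ≃+* Ah := (MvPowerSeries.isEmptyEquiv (σ := Fin 0) (R := Ah)).toRingEquiv
      let e1 : PowerSeries (MvPowerSeries (Fin 0) Ah) ≃+* PowerSeries Ah :=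
        RingEquiv.ofBijective (PowerSeries.map e0.toRingHom)
          ⟨PowerSeries.map_injective _ e0.injective, fun f => ⟨PowerSeries.map e0.symm.toRingHom f, by
            ext n; simp⟩⟩
      let e : MvPowerSeries (Fin 1) Ah ≃+* PowerSeries Ah :=
        (MvPowerSeries.finSuccEquiv Ah 0).toRingEquiv.trans e1
      have h := Cohen12.isAdicComplete_powerSeries (W := Ah) (n := 1)
      have hmax : (IsLocalRing.maximalIdeal (MvPowerSeries (Fin 1) Ah)).map e =
          IsLocalRing.maximalIdeal (PowerSeries Ah) :=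
        IsLocalRing.eq_maximalIdeal (Ideal.map_isMaximal_of_equiv e)
      rw [← hmax]
      exact (IsAdicComplete.congr_ringEquiv _ e).mpr h
    have := ParaF26.flat_powerSeries Ah
    refine purityHolds_of_section hAh PowerSeries.X ?_ ?_ PowerSeries.constantCoeff (fun a => ?_) ?_ fun n hn => ?_
    · rw [mem_maximalIdeal_powerSeries, PowerSeries.constantCoeff_X]
      exact zero_mem _
    · exact fun f g h => PowerSeries.X_mul_cancel h
    · rw [algebraMap_powerSeries, PowerSeries.constantCoeff_C]
    · ext f
      rw [RingHom.mem_ker, Ideal.mem_span_singleton, PowerSeries.X_dvd_iff]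
    · rw [algebraMap_powerSeries, mem_map_C_of_fg (IsNoetherian.noetherian _)] at hn
      have := hn n
      rw [PowerSeries.coeff_X_pow_self] at this
      exact (IsLocalRing.maximalIdeal.isMaximal Ah).ne_top ((Ideal.eq_top_iff_one _).mpr this)
  -- descend from the completion
  let φ : PowerSeries A →+* PowerSeries Ah := PowerSeries.map (algebraMap A Ah)
  let _ := φ.toAlgebra
  have hφC : algebraMap A (PowerSeries Ah) = PowerSeries.C.comp (algebraMap A Ah) :=
    RingHom.ext fun a => PowerSeries.algebraMap_apply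
  have : IsScalarTower A (PowerSeries A) (PowerSeries Ah) := .of_algebraMap_eq fun a => by
    show _ = φ (algebraMap A (PowerSeries A) a)
    rw [hφC, algebraMap_powerSeries]
    exact (PowerSeries.map_C ..).symm
  have hφ : ∀ f : PowerSeries A, algebraMap (PowerSeries A) (PowerSeries Ah) f = φ f := fun _ => rfl
  have hloc : IsLocalHom (algebraMap (PowerSeries A) (PowerSeries Ah)) := ⟨fun f hf => by
    rw [hφ, PowerSeries.isUnit_iff_constantCoeff, ← PowerSeries.coeff_zero_eq_constantCoeff_apply,
      PowerSeries.coeff_map, PowerSeries.coeff_zero_eq_constantCoeff_apply] at hf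
    rw [PowerSeries.isUnit_iff_constantCoeff]
    have : IsLocalHom (algebraMap A Ah) := AdicCompletion.algebraMap_isLocalHom_of_fg (IsNoetherian.noetherian _)
    exact (isUnit_map_iff (algebraMap A Ah) _).mp hf⟩
  have hlocA : IsLocalHom (algebraMap A (PowerSeries A)) := ⟨fun a ha => by
    rw [algebraMap_powerSeries, PowerSeries.isUnit_iff_constantCoeff, PowerSeries.constantCoeff_C] at ha
    exact ha⟩
  have hflat : Module.Flat A (PowerSeries Ah) := by
    have := ParaF26.flat_powerSeries Ah
    have : IsScalarTower A Ah (PowerSeries Ah) := .of_algebraMap_eq fun a => by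
      rw [hφC, algebraMap_powerSeries]; rfl
    exact Module.Flat.trans A Ah (PowerSeries Ah)
  let J := (IsLocalRing.maximalIdeal A).map (algebraMap A (PowerSeries A))
  have hJC : J.map (algebraMap (PowerSeries A) (PowerSeries Ah)) =
      (IsLocalRing.maximalIdeal Ah).map (PowerSeries.C (R := Ah)) := by
    rw [← hmh, Ideal.map_map, Ideal.map_map, ← IsScalarTower.algebraMap_eq, hφC]
  have hF : Module.Flat (PowerSeries A ⧸ J) ((PowerSeries A ⧸ J) ⊗[PowerSeries A] PowerSeries Ah) := by
    let e := TensorProduct.quotTensorEquivQuotSMul (PowerSeries Ah) J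
    let π : PowerSeries A →ₗ[PowerSeries A] (PowerSeries A ⧸ J) ⊗[PowerSeries A] PowerSeries Ah :=
      LinearMap.toSpanSingleton _ _ (1 ⊗ₜ 1)
    have hπ : ∀ f, π f = 1 ⊗ₜ[PowerSeries A] φ f := fun f => by
      simp only [π, LinearMap.toSpanSingleton_apply, ← TensorProduct.tmul_smul, Algebra.smul_def, mul_one, hφ]
    have hker : ∀ f, π f = 0 ↔ f ∈ J := fun f => by
      rw [hπ, ← e.map_eq_zero_iff, TensorProduct.quotTensorEquivQuotSMul_mk_one_tmul,
        Submodule.Quotient.mk_eq_zero, Ideal.smul_top_eq_map, Submodule.restrictScalars_mem, hJC,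
        mem_map_C_of_fg (IsNoetherian.noetherian _)]
      show _ ↔ f ∈ (IsLocalRing.maximalIdeal A).map (algebraMap A (PowerSeries A))
      rw [algebraMap_powerSeries, mem_map_C_of_fg (IsNoetherian.noetherian _)]
      refine forall_congr' fun n => ?_
      rw [PowerSeries.coeff_map]
      refine ⟨fun h => ?_, fun h => hmh ▸ Ideal.mem_map_of_mem _ h⟩
      have : (IsLocalRing.maximalIdeal Ah).comap (algebraMap A Ah) = IsLocalRing.maximalIdeal A := by
        rw [← hmh, Ideal.comap_map_eq_self_of_faithfullyFlat]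
      exact this.le h
    have hsurj : Function.Surjective π := fun z => by
      obtain ⟨c, hc⟩ := Submodule.Quotient.mk_surjective _ (e z)
      choose a ha using fun n => completion_hsub (A := A) 1 (PowerSeries.coeff n c)
      refine ⟨PowerSeries.mk a, e.injective ?_⟩
      rw [hπ, TensorProduct.quotTensorEquivQuotSMul_mk_one_tmul, ← hc, Submodule.Quotient.eq,
        Ideal.smul_top_eq_map, Submodule.restrictScalars_mem, hJC, mem_map_C_of_fg (IsNoetherian.noetherian _)]
      intro n
      rw [map_sub, PowerSeries.coeff_map, PowerSeries.coeff_mk, ← neg_sub, ← hmh]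
      have := ha n
      rw [pow_one] at this
      exact neg_mem this
    let π' : (PowerSeries A ⧸ J) →ₗ[PowerSeries A] (PowerSeries A ⧸ J) ⊗[PowerSeries A] PowerSeries Ah :=
      Submodule.liftQ J π fun f hf => (hker f).mpr hf
    have hb : Function.Bijective π' := ⟨(injective_iff_map_eq_zero π').mpr fun q hq => by
        obtain ⟨f, rfl⟩ := Submodule.Quotient.mk_surjective _ q
        exact (Submodule.Quotient.mk_eq_zero _).mpr ((hker f).mp hq),
      fun z => let ⟨f, hf⟩ := hsurj z; ⟨Submodule.Quotient.mk f, hf⟩⟩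
    exact Module.Flat.of_linearEquiv ((LinearEquiv.ofBijective π' hb).extendScalarsOfSurjective
      (Ideal.Quotient.mk_surjective (I := J))).symm
  have : Module.Flat (PowerSeries A) (PowerSeries Ah) :=
    (S0392.result (R := A) (S := PowerSeries A) (S' := PowerSeries Ah) (M := PowerSeries Ah) hF).2
  have : Module.FaithfullyFlat (PowerSeries A) (PowerSeries Ah) := Module.FaithfullyFlat.of_flat_of_isLocalHom
  refine purityHolds_of_faithfullyFlat (depth_powerSeries A hA) ?_ hC
  refine le_antisymm (((IsLocalRing.local_hom_TFAE _).out 0 2).mp hloc) fun c hc => ?_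
  rw [mem_maximalIdeal_powerSeries] at hc
  obtain ⟨g, hg⟩ : PowerSeries.X ∣ c - PowerSeries.C (PowerSeries.constantCoeff c) := by
    rw [PowerSeries.X_dvd_iff, map_sub, PowerSeries.constantCoeff_C, sub_self]
  rw [← sub_add_cancel c (PowerSeries.C (PowerSeries.constantCoeff c)), hg]
  refine Ideal.add_mem _ (Ideal.mul_mem_right _ _ ?_) ?_
  · rw [show (PowerSeries.X : PowerSeries Ah) = φ PowerSeries.X from (PowerSeries.map_X _).symm]
    exact Ideal.mem_map_of_mem _ ((mem_maximalIdeal_powerSeries A).mpr (by
      rw [PowerSeries.constantCoeff_X]; exact zero_mem _))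
  · have h1 : PowerSeries.C (PowerSeries.constantCoeff c) ∈ (IsLocalRing.maximalIdeal Ah).map (PowerSeries.C (R := Ah)) :=
      Ideal.mem_map_of_mem _ hc
    rw [← hJC] at h1
    refine Ideal.map_mono ?_ h1
    exact ((IsLocalRing.local_hom_TFAE _).out 0 2).mp hlocA

/-- Purity of power series rings over rings of depth two. -/
theorem purityHolds_mvPowerSeries (hA : (2 : ℕ∞) ≤ LocCoh.depth A A) (d : ℕ)
    [IsLocalRing (MvPowerSeries (Fin (d + 1)) A)] :
    FEt.PurityHolds (MvPowerSeries (Fin (d + 1)) A) := by
  suffices key : ∀ d, ∀ [IsLocalRing (MvPowerSeries (Fin d) A)],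
      (2 : ℕ∞) ≤ LocCoh.depth (MvPowerSeries (Fin d) A) (MvPowerSeries (Fin d) A) by
    have hloc : IsLocalRing (MvPowerSeries (Fin d) A) := inferInstance
    let e := (MvPowerSeries.finSuccEquiv A d).toRingEquiv
    have := isLocalRing_powerSeries (MvPowerSeries (Fin d) A)
    exact purityHolds_of_ringEquiv e (key (d + 1)) (purityHolds_powerSeries _ (key d))
  intro d
  induction d with
  | zero =>
    intro _
    exact hA.trans (CAlg1.depth_eq_of_ringEquiv
      (MvPowerSeries.isEmptyEquiv (σ := Fin 0) (R := A)).toRingEquiv).ge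
  | succ d ih =>
    intro _
    have : IsLocalRing (MvPowerSeries (Fin d) A) := inferInstance
    have := isLocalRing_powerSeries (MvPowerSeries (Fin d) A)
    exact (depth_powerSeries _ ih).trans (CAlg1.depth_eq_of_ringEquiv
      (MvPowerSeries.finSuccEquiv A d).toRingEquiv).ge

end Groth.Agent.Pure83
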