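import Groth.Agent.Pure83.AlgebraiseEssSurj
import Groth.Agent.Pure83.PowerSeriesPurity
import Groth.Agent.Pure83.Regular
import Groth.Agent.Desc59.SyntomicCM
import Groth.Agent.EGA4H10.CompleteUC
import Groth.Agent.LC16.CanonLocal
import Groth.Agent.S0548
import Groth.Agent.S0564
import Groth.Agent.S5810
import Groth.Agent.S14435
import Groth.Agent.CAlg9.Node.Fibral
import Groth.Agent.Cohen12.Structure
import Groth.Agent.Cohen12.Completion
import Groth.Agent.CAlg9.CIT.Regular
import Groth.Agent.CAlg1.Regular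

/-!
# Purity for complete intersections of dimension at least three
-/

universe u

open CategoryTheory AlgebraicGeometry IsLocalRing RingTheory.Sequence

set_option autoImplicit false

namespace Groth.Agent.Pure83

theorem three_le_depth (C : Type u) [CommRing C] [LocCoh.IsCohenMacaulayLocalRing C]
    (hd : (3 : WithBot ℕ∞) ≤ ringKrullDim C) : (3 : ℕ∞) ≤ LocCoh.depth C C := by
  have h := LocCoh.IsCohenMacaulayLocalRing.supportDim_eq_depth (R := C)
  rw [Module.supportDim_self_eq_ringKrullDim] at h
  rw [h] at hd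
  exact WithBot.coe_le_coe.mp hd

/-- A Noetherian local domain in which every nonzero prime contains a fixed nonzero nonunit has
dimension at most one. -/
theorem krullDimLE_one_of_forall_mem {D : Type u} [CommRing D] [IsDomain D] [IsLocalRing D]
    [IsNoetherianRing D] {f : D} (hf0 : f ≠ 0) (hfm : f ∈ maximalIdeal D)
    (h : ∀ Q : Ideal D, Q.IsPrime → Q ≠ ⊥ → f ∈ Q) : Ring.KrullDimLE 1 D := by
  rw [Ring.krullDimLE_one_iff_of_noZeroDivisors]
  intro Q hQ0 hQ
  by_contra hQm
  have hlt : Q < maximalIdeal D :=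
    (le_maximalIdeal hQ.ne_top).lt_of_ne fun e => hQm (e ▸ maximalIdeal.isMaximal D)
  have hbot : (⊥ : Ideal D).IsPrime := Ideal.isPrime_bot
  have h0 : (⊥ : Ideal D) < Q := bot_lt_iff_ne_bot.mpr hQ0
  have hm2 : ¬ (maximalIdeal D).height ≤ 1 := by
    intro hle
    have h1 : Q.height < 1 := lt_of_lt_of_le (Ideal.height_strict_mono_of_isPrime hlt) hle
    have h2 := Ideal.height_strict_mono_of_isPrime h0
    rw [Order.lt_one_iff] at h1
    rw [h1] at h2
    exact not_lt_bot h2
  have hfin : (Ideal.span {f}).minimalPrimes.Finite := Ideal.finite_minimalPrimes_of_isNoetherianRing _ _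
  have hht : ∀ s ∈ (Ideal.span {f}).minimalPrimes, Ideal.height s ≤ 1 := fun s hs =>
    Ideal.height_le_one_of_isPrincipal_of_mem_minimalPrimes _ _ hs
  obtain ⟨g, hgm, hg⟩ : ∃ g ∈ maximalIdeal D, ∀ s ∈ (Ideal.span {f}).minimalPrimes, g ∉ s := by
    by_contra hc
    push Not at hc
    obtain ⟨s, hs, hms⟩ := (Ideal.subset_union_prime_finite hfin (f := id) ⊥ ⊥
      (fun s hs _ _ => hs.1.1) (I := maximalIdeal D)).mp (fun g hgm => by
        obtain ⟨s, hs, hgs⟩ := hc g hgm
        exact Set.mem_iUnion₂.mpr ⟨s, hs, hgs⟩)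
    have := hs.1.1
    exact hm2 (((maximalIdeal.isMaximal D).eq_of_le this.ne_top hms) ▸ hht s hs)
  obtain ⟨s₀, hs₀⟩ := Ideal.nonempty_minimalPrimes (I := Ideal.span {f})
    (ne_top_of_le_ne_top (maximalIdeal.isMaximal D).ne_top ((Ideal.span_singleton_le_iff_mem _).mpr hfm))
  have hg0 : g ≠ 0 := fun e => hg s₀ hs₀ (e ▸ zero_mem _)
  obtain ⟨q, hq⟩ := Ideal.nonempty_minimalPrimes (I := Ideal.span {g})
    (ne_top_of_le_ne_top (maximalIdeal.isMaximal D).ne_top ((Ideal.span_singleton_le_iff_mem _).mpr hgm))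
  have hgq : g ∈ q := hq.1.2 (Ideal.mem_span_singleton_self g)
  have hqp := hq.1.1
  have hq0 : q ≠ ⊥ := fun e => hg0 (by rwa [e, Ideal.mem_bot] at hgq)
  obtain ⟨s, hs, hsq⟩ := Ideal.exists_minimalPrimes_le
    ((Ideal.span_singleton_le_iff_mem _).mpr (h q hqp hq0))
  have hsp := hs.1.1
  have hs0 : s ≠ ⊥ := fun e => hf0 (by
    have := hs.1.2 (Ideal.mem_span_singleton_self f)
    rwa [e, Ideal.mem_bot] at this)
  rcases eq_or_lt_of_le hsq with rfl | hlt'
  · exact hg s hs hgq
  · have hq1 : q.height ≤ 1 := Ideal.height_le_one_of_isPrincipal_of_mem_minimalPrimes _ _ hq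
    have h1 : s.height < 1 := lt_of_lt_of_le (Ideal.height_strict_mono_of_isPrime hlt') hq1
    have h2 := Ideal.height_strict_mono_of_isPrime (bot_lt_iff_ne_bot.mpr hs0)
    rw [Order.lt_one_iff] at h1
    rw [h1] at h2
    exact not_lt_bot h2

/-- A point which is closed away from a hypersurface has dimension at most one. -/
theorem ringKrullDim_quotient_le_one {A : Type u} [CommRing A] [IsLocalRing A] [IsNoetherianRing A]
    {f : A} (hf : f ∈ maximalIdeal A) (P : Ideal (Localization.Away f)) [P.IsMaximal] :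
    ringKrullDim (A ⧸ P.comap (algebraMap A (Localization.Away f))) ≤ 1 := by
  let Af := Localization.Away f
  let p := P.comap (algebraMap A Af)
  have hpP := (IsLocalization.isPrime_iff_isPrime_disjoint (Submonoid.powers f) Af P).mp
    (Ideal.IsMaximal.isPrime ‹_›)
  have : p.IsPrime := hpP.1
  have hfp : f ∉ p := fun h => Set.disjoint_left.mp hpP.2 (Submonoid.mem_powers f) h
  have hloc : IsLocalRing (A ⧸ p) :=
    IsLocalRing.of_surjective' (Ideal.Quotient.mk p) Ideal.Quotient.mk_surjective
  have := krullDimLE_one_of_forall_mem (D := A ⧸ p) (f := Ideal.Quotient.mk p f)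
    (fun e => hfp (Ideal.Quotient.eq_zero_iff_mem.mp e)) ?_ ?_
  · exact Ring.krullDimLE_iff.mp this
  · rw [mem_maximalIdeal, mem_nonunits_iff]
    intro hu
    obtain ⟨b, hb⟩ := hu.exists_right_inv
    obtain ⟨b, rfl⟩ := Ideal.Quotient.mk_surjective b
    have h1 : f * b - 1 ∈ maximalIdeal A := le_maximalIdeal ‹p.IsPrime›.ne_top
      (Ideal.Quotient.eq.mp hb)
    have h2 := sub_mem (Ideal.mul_mem_right b _ hf) h1
    rw [sub_sub_cancel] at h2
    exact (maximalIdeal.isMaximal A).ne_top ((Ideal.eq_top_iff_one _).mpr h2)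
  · intro Q hQ hQ0
    by_contra hfQ
    let Q' := Q.comap (Ideal.Quotient.mk p)
    have hQ'p : Q'.IsPrime := Ideal.comap_isPrime _ Q
    have hle : p ≤ Q' := fun a ha => by
      show Ideal.Quotient.mk p a ∈ Q
      rw [Ideal.Quotient.eq_zero_iff_mem.mpr ha]
      exact zero_mem _
    have hd : Disjoint (Submonoid.powers f : Set A) (Q' : Set A) :=
      (Ideal.disjoint_powers_iff_notMem f hQ'p.isRadical).mpr hfQ
    have hp' : (Q'.map (algebraMap A Af)).IsPrime :=
      IsLocalization.isPrime_of_isPrime_disjoint (Submonoid.powers f) Af _ hQ'p hd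
    have hPle : P ≤ Q'.map (algebraMap A Af) :=
      (IsLocalization.map_under (Submonoid.powers f) Af P).ge.trans (Ideal.map_mono hle)
    have heq := (‹P.IsMaximal›).eq_of_le hp'.ne_top hPle
    have h2 : Q' = p := by
      have h3 := IsLocalization.under_map_of_isPrime_disjoint (Submonoid.powers f) Af hQ'p hd
      rw [← heq] at h3
      exact h3.symm
    refine hQ0 ?_
    rw [← Ideal.map_comap_of_surjective _ Ideal.Quotient.mk_surjective Q]
    show Q'.map _ = ⊥
    rw [h2]
    exact Ideal.map_quotient_self p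

theorem cm_quotient_ofList (B : Type u) [CommRing B] [IsRegularLocalRing B] (rs : List B)
    (hm : ∀ r ∈ rs, r ∈ maximalIdeal B) (hrs : IsWeaklyRegular B rs) :
    LocCoh.IsCohenMacaulayLocalRing (B ⧸ Ideal.ofList rs) :=
  Desc59.SyntomicCM.cmLocal_quotient (EGA4H10.isCohenMacaulayLocalRing_of_regular B) rs hm hrs

/-- The statement of purity for quotients of regular local rings by regular sequences of given length. -/
def PurityCI (n : ℕ) : Prop :=
  ∀ (B : Type u) [CommRing B] [IsRegularLocalRing B] (rs : List B), rs.length = n →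
    (∀ r ∈ rs, r ∈ maximalIdeal B) → IsWeaklyRegular B rs →
    ∀ [IsLocalRing (B ⧸ Ideal.ofList rs)], (3 : WithBot ℕ∞) ≤ ringKrullDim (B ⧸ Ideal.ofList rs) →
      FEt.PurityHolds (B ⧸ Ideal.ofList rs)

theorem purityCI_zero : PurityCI.{u} 0 := by
  intro B _ _ rs hl _ _ _ hd
  obtain rfl := List.length_eq_zero_iff.mp hl
  let e : (B ⧸ Ideal.ofList ([] : List B)) ≃+* B :=
    (Ideal.quotEquivOfEq (Ideal.ofList_nil)).trans (RingEquiv.quotientBot B)
  refine purityHolds_congr e (purityHolds_of_regular B ?_)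
  rw [← ringKrullDim_eq_of_ringEquiv e]
  exact le_trans (by norm_num) hd

/-- Localisations of quotients of regular rings by regular sequences are again of this form. -/
theorem purityHolds_localization {n : ℕ} (ih : PurityCI.{u} n) (B : Type u) [CommRing B]
    [IsRegularLocalRing B] (rs : List B) (hl : rs.length = n) (hrs : IsWeaklyRegular B rs)
    (p : Ideal (B ⧸ Ideal.ofList rs)) [p.IsPrime]
    (hd : (3 : WithBot ℕ∞) ≤ ringKrullDim (Localization.AtPrime p)) :
    FEt.PurityHolds (Localization.AtPrime p) := by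
  let I := Ideal.ofList rs
  let q := p.comap (Ideal.Quotient.mk I)
  have : q.IsPrime := Ideal.comap_isPrime _ p
  have hIq : ∀ r ∈ rs, r ∈ q := fun r hr => by
    show Ideal.Quotient.mk I r ∈ p
    rw [Ideal.Quotient.eq_zero_iff_mem.mpr (Ideal.subset_span hr : r ∈ I)]
    exact zero_mem _
  let L := Localization.AtPrime q
  have hL : IsRegularLocalRing L := S0564.result B q
  let rs' := rs.map (algebraMap B L)
  have hI : Ideal.ofList rs' = I.map (algebraMap B L) := (Ideal.map_ofList _ _).symm
  have hm : ∀ r ∈ rs', r ∈ maximalIdeal L := by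
    intro r hr
    obtain ⟨s, hs, rfl⟩ := List.mem_map.mp hr
    exact (IsLocalization.AtPrime.to_map_mem_maximal_iff L q s).mpr (hIq s hs)
  have hne : Nontrivial (L ⧸ Ideal.ofList rs') := Ideal.Quotient.nontrivial_iff.mpr
    (ne_top_of_le_ne_top (maximalIdeal.isMaximal L).ne_top (Ideal.span_le.mpr hm))
  have hloc : IsLocalRing (L ⧸ Ideal.ofList rs') :=
    IsLocalRing.of_surjective' (Ideal.Quotient.mk _) Ideal.Quotient.mk_surjective
  have hq : Algebra.algebraMapSubmonoid (B ⧸ I) q.primeCompl = p.primeCompl := by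
    ext x
    constructor
    · rintro ⟨b, hb, rfl⟩
      exact hb
    · intro hx
      obtain ⟨b, rfl⟩ := Ideal.Quotient.mk_surjective x
      exact ⟨b, hx, rfl⟩
  have h1 : IsLocalization (Algebra.algebraMapSubmonoid (B ⧸ I) q.primeCompl)
      (L ⧸ I.map (algebraMap B L)) := inferInstance
  rw [hq] at h1
  let e : Localization.AtPrime p ≃+* L ⧸ Ideal.ofList rs' :=
    (IsLocalization.algEquiv p.primeCompl (Localization.AtPrime p)
      (L ⧸ I.map (algebraMap B L))).toRingEquiv.trans (Ideal.quotEquivOfEq hI.symm)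
  refine purityHolds_congr e (ih L rs' ((List.length_map _).trans hl) hm
    (hrs.of_isLocalization L q.primeCompl) ?_)
  rwa [← ringKrullDim_eq_of_ringEquiv e]

set_option backward.isDefEq.respectTransparency.types false in
/-- The inductive step over a complete regular local ring. -/
theorem purityCI_step_complete {n : ℕ} (ih : PurityCI.{u} n) (B : Type u) [CommRing B]
    [IsRegularLocalRing B] [IsAdicComplete (maximalIdeal B) B] (rs : List B) (f : B)
    (hl : rs.length = n) (hm : ∀ r ∈ rs, r ∈ maximalIdeal B) (hfm : f ∈ maximalIdeal B)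
    (hrs : IsWeaklyRegular B (rs ++ [f])) [IsLocalRing (B ⧸ Ideal.ofList (rs ++ [f]))]
    (hd : (3 : WithBot ℕ∞) ≤ ringKrullDim (B ⧸ Ideal.ofList (rs ++ [f]))) :
    FEt.PurityHolds (B ⧸ Ideal.ofList (rs ++ [f])) := by
  rw [isWeaklyRegular_append_iff, isWeaklyRegular_singleton_iff] at hrs
  let I := Ideal.ofList rs
  let A := B ⧸ I
  have hcm : LocCoh.IsCohenMacaulayLocalRing A := cm_quotient_ofList B rs hm hrs.1
  have : IsLocalRing A := hcm.toIsLocalRing
  let g : A := Ideal.Quotient.mk I f
  let J := Ideal.span {g}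
  have hmk : (maximalIdeal A).comap (Ideal.Quotient.mk I) = maximalIdeal B :=
    IsLocalRing.eq_maximalIdeal (Ideal.comap_isMaximal_of_surjective _ Ideal.Quotient.mk_surjective)
  have hgm : g ∈ maximalIdeal A := by
    have := hmk.ge hfm
    exact this
  have hJm : J ≤ maximalIdeal A := (Ideal.span_singleton_le_iff_mem _).mpr hgm
  let e0 : (B ⧸ I • (⊤ : Submodule B B)) ≃ₗ[B] A :=
    Submodule.quotEquivOfEq _ _ (by rw [smul_eq_mul, Ideal.mul_top])
  have hreg : IsSMulRegular A f := (e0.isSMulRegular_congr f).mp hrs.2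
  have hreg' : ∀ a : A, g * a = 0 → a = 0 := fun a ha => hreg (by
    show f • a = f • 0
    rw [smul_zero]
    exact ha)
  have hgz : g ∈ nonZeroDivisors A := mem_nonZeroDivisors_iff.mpr
    ⟨hreg', fun a ha => hreg' a (by rwa [mul_comm])⟩
  have hgA : IsWeaklyRegular A [g] := by
    rw [isWeaklyRegular_singleton_iff]
    exact isLeftRegular_iff.mp (isLeftRegular_iff_right_eq_zero_of_mul.mpr hreg')
  have hmem : ∀ x ∈ [g], x ∈ maximalIdeal A := by
    intro x hx
    rw [List.mem_singleton] at hx
    exact hx ▸ hgm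
  -- the two presentations of the quotient
  let e : (B ⧸ Ideal.ofList (rs ++ [f])) ≃+* A ⧸ J :=
    ((Ideal.quotEquivOfEq (by rw [Ideal.ofList_append, Ideal.ofList_singleton])).trans
      (DoubleQuot.quotQuotEquivQuotSup I (Ideal.span {f})).symm).trans
      (Ideal.quotEquivOfEq (by rw [Ideal.map_span, Set.image_singleton]))
  have : Nontrivial (A ⧸ J) :=
    Ideal.Quotient.nontrivial_iff.mpr (ne_top_of_le_ne_top (maximalIdeal.isMaximal A).ne_top hJm)
  have : IsLocalRing (A ⧸ J) := IsLocalRing.of_surjective' (Ideal.Quotient.mk J) Ideal.Quotient.mk_surjective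
  have hdJ : (3 : WithBot ℕ∞) ≤ ringKrullDim (A ⧸ J) := by rwa [← ringKrullDim_eq_of_ringEquiv e]
  refine purityHolds_congr e ?_
  -- dimensions
  have hdA : ringKrullDim (A ⧸ J) + 1 = ringKrullDim A := by
    have := ringKrullDim_add_length_eq_ringKrullDim_of_isRegular [g]
      ((IsLocalRing.isRegular_iff_isWeaklyRegular_of_subset_maximalIdeal hmem).mpr hgA)
    have hE : Ideal.ofList [g] = J := Ideal.ofList_singleton g
    rw [hE] at this
    simpa using this
  obtain ⟨a, ha⟩ := CAlg9.CIT.exists_dim_eq A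
  obtain ⟨b, hb⟩ := CAlg9.CIT.exists_dim_eq (A ⧸ J)
  have hb3 : 3 ≤ b := by rw [hb] at hdJ; exact_mod_cast hdJ
  have hab : b + 1 = a := by rw [ha, hb] at hdA; exact_mod_cast hdA
  -- completeness
  have : IsAdicComplete (maximalIdeal A) A := Cohen12.isAdicComplete_quotient I
  have : IsAdicComplete J A := CAlg1.isAdicComplete_of_le (J := maximalIdeal A) hJm ⟨{g}, by simp [J]⟩
  -- finiteness of local cohomology
  have hcmJ : LocCoh.IsCohenMacaulayLocalRing (A ⧸ J) := by
    have := Desc59.SyntomicCM.cmLocal_quotient hcm [g] hmem hgA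
    have hE : Ideal.ofList [g] = J := Ideal.ofList_singleton g
    rwa [hE] at this
  have hdep : ((3 : ℕ) : ℕ∞) ≤ LocCoh.idealDepth (maximalIdeal A) (A ⧸ J) := by
    show ((3 : ℕ) : ℕ∞) ≤ LocCoh.depth A (A ⧸ J)
    rw [CAlg1.depth_quotient_self A J]
    exact three_le_depth (A ⧸ J) hdJ
  have hH := (LC17.natCast_le_idealDepth_iff (maximalIdeal A) (A ⧸ J) 3).mp hdep
  have hH1 := hH 1 (by norm_num)
  have hH2 := hH 2 (by norm_num)
  refine purityHolds_hypersurface hgm hgz inferInstance inferInstance ?_ ?_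
  · intro P hP
    let p := P.comap (algebraMap A (Localization.Away g))
    have : p.IsPrime := Ideal.comap_isPrime _ P
    have hd1 := ringKrullDim_quotient_le_one hgm P
    obtain ⟨h, hh⟩ := CAlg9.CIT.exists_dim_eq (Localization.AtPrime p)
    obtain ⟨c, hc⟩ := CAlg9.CIT.exists_dim_eq (A ⧸ p)
    rw [hc] at hd1
    have hc1 : c ≤ 1 := by exact_mod_cast hd1
    have hhc := LC16.CanonLocal.height_add_dim_quotient p ha hh hc
    have h3 : (3 : WithBot ℕ∞) ≤ ringKrullDim (Localization.AtPrime p) := by
      rw [hh]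
      exact_mod_cast (by omega : 3 ≤ h)
    let L := Localization.AtPrime P
    have hL := IsLocalization.isLocalization_isLocalization_atPrime_isLocalization
      (Submonoid.powers g) L P
    exact purityHolds_congr
      (IsLocalization.algEquiv p.primeCompl L (Localization.AtPrime p)).toRingEquiv
      (purityHolds_localization ih B rs hl hrs.1 p h3)
  · refine ih B rs hl hm hrs.1 ?_
    rw [ha]
    exact_mod_cast (by omega : 3 ≤ a)

set_option backward.isDefEq.respectTransparency.types false in
/-- Purity for quotients of regular local rings by regular sequences. -/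
theorem purityCI (n : ℕ) : PurityCI.{u} n := by
  induction n with
  | zero => exact purityCI_zero
  | succ n ih =>
    intro B _ _ rs hl hm hrs _ hd
    obtain ⟨rs₀, f, rfl⟩ : ∃ rs₀ f, rs = rs₀ ++ [f] := by
      rcases List.eq_nil_or_concat' rs with rfl | h
      · simp at hl
      · exact h
    have hl₀ : rs₀.length = n := by simpa using hl
    let I := Ideal.ofList (rs₀ ++ [f])
    let C := AdicCompletion (maximalIdeal B) B
    have hC : IsRegularLocalRing C := (S0548.result B).mp inferInstance
    have hmC : (maximalIdeal B).map (algebraMap B C) = maximalIdeal C :=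
      AdicCompletion.maximalIdeal_eq_map.symm
    have hmem : ∀ r ∈ rs₀ ++ [f], algebraMap B C r ∈ maximalIdeal C := fun r hr =>
      hmC ▸ Ideal.mem_map_of_mem _ (hm r hr)
    have hI : I.map (algebraMap B C) =
        Ideal.ofList (rs₀.map (algebraMap B C) ++ [algebraMap B C f]) := by
      rw [Ideal.map_ofList, List.map_append, List.map_singleton]
    have : IsAdicComplete (maximalIdeal C) C := Cohen12.isAdicComplete_completion B
    have hrsC : IsWeaklyRegular C (rs₀.map (algebraMap B C) ++ [algebraMap B C f]) := by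
      have := hrs.of_flat (S := C)
      rwa [List.map_append, List.map_singleton] at this
    have hmemC : ∀ r ∈ rs₀.map (algebraMap B C) ++ [algebraMap B C f], r ∈ maximalIdeal C := by
      intro r hr
      rw [← List.map_singleton (f := algebraMap B C), ← List.map_append] at hr
      obtain ⟨s, hs, rfl⟩ := List.mem_map.mp hr
      exact hmem s hs
    let D := C ⧸ I.map (algebraMap B C)
    have : Nontrivial D := Ideal.Quotient.nontrivial_iff.mpr
      (ne_top_of_le_ne_top (maximalIdeal.isMaximal C).ne_top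
        (Ideal.map_le_iff_le_comap.mpr (Ideal.span_le.mpr fun r hr => hmem r hr)))
    have : IsLocalRing D :=
      IsLocalRing.of_surjective' (Ideal.Quotient.mk _) Ideal.Quotient.mk_surjective
    have hflat : (algebraMap (B ⧸ I) D).Flat :=
      CAlg9.Node.flat_quotient_hom (algebraMap B C) (RingHom.flat_algebraMap_iff.mpr inferInstance)
        I _ rfl _ (RingHom.ext fun _ => rfl)
    have : Module.Flat (B ⧸ I) D := RingHom.flat_algebraMap_iff.mp hflat
    have hmD : (maximalIdeal (B ⧸ I)).map (algebraMap (B ⧸ I) D) = maximalIdeal D := by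
      have h1 : maximalIdeal (B ⧸ I) = (maximalIdeal B).map (Ideal.Quotient.mk I) :=
        (IsLocalRing.map_maximalIdeal_of_surjective (Ideal.Quotient.mk I) Ideal.Quotient.mk_surjective).symm
      have h2 : maximalIdeal D = (maximalIdeal C).map (Ideal.Quotient.mk (I.map (algebraMap B C))) :=
        (IsLocalRing.map_maximalIdeal_of_surjective _ Ideal.Quotient.mk_surjective).symm
      rw [h1, h2, ← hmC, Ideal.map_map, Ideal.map_map]
      rfl
    have : IsLocalHom (algebraMap (B ⧸ I) D) :=
      ((IsLocalRing.local_hom_TFAE (algebraMap (B ⧸ I) D)).out 2 0).mp hmD.le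
    have : Module.FaithfullyFlat (B ⧸ I) D := Module.FaithfullyFlat.of_flat_of_isLocalHom
    have hcm := cm_quotient_ofList B _ hm hrs
    refine purityHolds_of_faithfullyFlat (C := D)
      (le_trans (by norm_num) (three_le_depth (B ⧸ I) hd)) hmD ?_
    have : IsLocalRing (C ⧸ Ideal.ofList (rs₀.map (algebraMap B C) ++ [algebraMap B C f])) :=
      hI ▸ (inferInstanceAs (IsLocalRing D))
    refine purityHolds_congr (Ideal.quotEquivOfEq hI)
      (purityCI_step_complete ih C (rs₀.map (algebraMap B C)) (algebraMap B C f)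
        ((List.length_map _).trans hl₀) (fun r hr => hmemC r (List.mem_append_left _ hr))
        (hmemC _ (List.mem_append_right _ List.mem_cons_self)) hrsC ?_)
    have h1 := ringKrullDim_add_length_eq_ringKrullDim_of_isRegular _
      ((IsLocalRing.isRegular_iff_isWeaklyRegular_of_subset_maximalIdeal hm).mpr hrs)
    have h2 := ringKrullDim_add_length_eq_ringKrullDim_of_isRegular _
      ((IsLocalRing.isRegular_iff_isWeaklyRegular_of_subset_maximalIdeal hmemC).mpr hrsC)
    have : IsNoetherianRing (C ⧸ Ideal.ofList (rs₀.map (algebraMap B C) ++ [algebraMap B C f])) :=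
      inferInstance
    obtain ⟨a, ha⟩ := CAlg9.CIT.exists_dim_eq (B ⧸ I)
    obtain ⟨b, hb⟩ := CAlg9.CIT.exists_dim_eq
      (C ⧸ Ideal.ofList (rs₀.map (algebraMap B C) ++ [algebraMap B C f]))
    obtain ⟨d, hdd⟩ := CAlg9.CIT.exists_dim_eq B
    rw [show ringKrullDim (B ⧸ Ideal.ofList (rs₀ ++ [f])) = _ from ha, hdd] at h1
    rw [hb, CAlg1.ringKrullDim_adicCompletion B, hdd] at h2
    rw [show ringKrullDim (B ⧸ Ideal.ofList (rs₀ ++ [f])) = _ from ha] at hd
    simp only [List.length_append, List.length_map, List.length_singleton] at h1 h2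
    rw [hb]
    norm_cast at h1 h2 hd ⊢
    omega

end Groth.Agent.Pure83
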