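import Groth.Agent.Pure83.FormalExtend
import Mathlib.RingTheory.Regular.RegularSequence

/-!
# Extension of covers: depth three, free graded rings
-/

universe u

open CategoryTheory Limits AlgebraicGeometry TopologicalSpace Opposite

namespace Groth.Agent.Pure83

variable {A : Type u} [CommRing A] [IsLocalRing A] [IsNoetherianRing A]

omit [IsNoetherianRing A] in
theorem exists_triple_of_depth_three (h : (3 : ℕ∞) ≤ LocCoh.depth A A) :
    ∃ x ∈ IsLocalRing.maximalIdeal A, ∃ y ∈ IsLocalRing.maximalIdeal A,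
      ∃ z ∈ IsLocalRing.maximalIdeal A, RegMod (⊥ : Ideal A) x ∧ RegMod (Ideal.span {x}) y ∧
        RegMod (Ideal.span {x, y}) z := by
  rw [LocCoh.depth, LocCoh.idealDepth, if_neg (fun e => (IsLocalRing.maximalIdeal.isMaximal A).ne_top
    (by simpa using e))] at h
  have h1 : ∃ rs : List A, (RingTheory.Sequence.IsWeaklyRegular A rs ∧
      ∀ r ∈ rs, r ∈ IsLocalRing.maximalIdeal A) ∧ 3 ≤ rs.length := by
    by_contra hne
    push Not at hne
    have : (3 : ℕ∞) ≤ 2 := h.trans (iSup₂_le fun rs hrs => by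
      exact_mod_cast Nat.le_of_lt_succ (hne rs hrs))
    exact absurd this (by decide)
  obtain ⟨rs, ⟨hrs, hmem⟩, hlen⟩ := h1
  match rs, hlen with
  | x :: y :: z :: rest, _ =>
    have key : ∀ (I : Ideal A) (w : A), IsSMulRegular (A ⧸ (I • (⊤ : Submodule A A))) w → RegMod I w := by
      intro I w hw a ha
      have : (Submodule.Quotient.mk a : A ⧸ (I • (⊤ : Submodule A A))) = 0 := hw.right_eq_zero_of_smul (by
        rw [← Submodule.Quotient.mk_smul, Submodule.Quotient.mk_eq_zero, smul_eq_mul, smul_eq_mul,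
          Ideal.mul_top]
        exact ha)
      rwa [Submodule.Quotient.mk_eq_zero, smul_eq_mul, Ideal.mul_top] at this
    refine ⟨x, hmem x (by simp), y, hmem y (by simp), z, hmem z (by simp), ?_, ?_, ?_⟩
    · refine key _ _ ?_
      have := hrs.regular_mod_prev 0 (by simp)
      rwa [List.take_zero, Ideal.ofList_nil] at this
    · refine key _ _ ?_
      have := hrs.regular_mod_prev 1 (by simp)
      rwa [List.take_succ_cons, List.take_zero, Ideal.ofList_singleton] at this
    · refine key _ _ ?_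
      have := hrs.regular_mod_prev 2 (by simp)
      have e : Ideal.ofList ((x :: y :: z :: rest).take 2) = Ideal.span {x, y} := by
        simp only [Ideal.ofList, List.take_succ_cons, List.take_zero]
        congr 1; ext; simp
      rw [e] at this
      exact this

omit [IsLocalRing A] [IsNoetherianRing A] in
theorem map_span_singleton {C : Type u} [CommRing C] [Algebra A C] (x : A) :
    (Ideal.span {x}).map (algebraMap A C) = Ideal.span {algebraMap A C x} := by
  rw [Ideal.map_span, Set.image_singleton]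

omit [IsNoetherianRing A] in
theorem depth_ge_of_triple {x y z : A} (hxm : x ∈ IsLocalRing.maximalIdeal A)
    (hym : y ∈ IsLocalRing.maximalIdeal A) (hzm : z ∈ IsLocalRing.maximalIdeal A)
    (hx : RegMod (⊥ : Ideal A) x) (hy : RegMod (Ideal.span {x}) y)
    (hz : RegMod (Ideal.span {x, y}) z) : (3 : ℕ∞) ≤ LocCoh.depth A A := by
  rw [LocCoh.depth, LocCoh.idealDepth, if_neg (fun e => (IsLocalRing.maximalIdeal.isMaximal A).ne_top
    (by simpa using e))]
  refine le_iSup₂_of_le [x, y, z] ⟨?_, by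
    intro r hr; simp at hr; rcases hr with rfl | rfl | rfl <;> assumption⟩ le_rfl
  rw [RingTheory.Sequence.isWeaklyRegular_iff]
  intro i hi
  have key : ∀ (I : Ideal A) (w : A), RegMod I w → IsSMulRegular (A ⧸ (I • (⊤ : Submodule A A))) w := by
    intro I w hw
    refine isSMulRegular_iff_right_eq_zero_of_smul.mpr fun q hq => ?_
    obtain ⟨a, rfl⟩ := Submodule.Quotient.mk_surjective _ q
    rw [← Submodule.Quotient.mk_smul, Submodule.Quotient.mk_eq_zero, smul_eq_mul, smul_eq_mul,
      Ideal.mul_top] at hq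
    rw [Submodule.Quotient.mk_eq_zero, smul_eq_mul, Ideal.mul_top]
    exact hw a hq
  simp at hi
  interval_cases i
  · refine key _ _ ?_
    rw [List.take_zero, Ideal.ofList_nil]
    exact hx
  · refine key _ _ ?_
    rw [List.take_succ_cons, List.take_zero, Ideal.ofList_singleton]
    exact hy
  · refine key _ _ ?_
    have e : Ideal.ofList ([x, y, z].take 2) = Ideal.span {x, y} := by
      simp only [Ideal.ofList, List.take_succ_cons, List.take_zero]
      congr 1; ext; simp
    rw [e]
    exact hz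

omit [IsNoetherianRing A] in
/-- The formal data for depth three. -/
theorem completionSys_of_depth_three (hA : (3 : ℕ∞) ≤ LocCoh.depth A A) (f : A)
    (hf : f ∈ IsLocalRing.maximalIdeal A) :
    ∀ (C : Type u) [CommRing C] [IsLocalRing C] [IsNoetherianRing C] [Algebra A C]
      [Module.Flat A C], (IsLocalRing.maximalIdeal A).map (algebraMap A C) = IsLocalRing.maximalIdeal C →
      IsAdicComplete (IsLocalRing.maximalIdeal C) C →
      (2 : ℕ∞) ≤ LocCoh.depth C C ∧ (Ideal.span {f}).map (algebraMap A C) ≤ IsLocalRing.maximalIdeal C ∧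
        ∃ (n : ℕ) (g : Fin n → C), (∀ i, g i ∈ IsLocalRing.maximalIdeal C) ∧ CoversPunctured g ∧
          FormalSys g ((Ideal.span {f}).map (algebraMap A C)) := by
  obtain ⟨x, hxm, y, hym, z, hzm, hx, hy, hz⟩ := exists_triple_of_depth_three hA
  intro C _ _ _ _ _ hm _
  have hmem : ∀ {a : A}, a ∈ IsLocalRing.maximalIdeal A → algebraMap A C a ∈ IsLocalRing.maximalIdeal C :=
    fun ha => hm ▸ Ideal.mem_map_of_mem _ ha
  have hx' : IsSMulRegular C (algebraMap A C x) := isSMulRegular_iff_right_eq_zero_of_smul.mpr fun c hc => by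
    have := hx.map_flat (C := C) c (by rw [Ideal.map_bot, Submodule.mem_bot]; exact hc)
    rwa [Ideal.map_bot, Submodule.mem_bot] at this
  have hy' : RegMod (Ideal.span {algebraMap A C x}) (algebraMap A C y) :=
    map_span_singleton (C := C) x ▸ hy.map_flat
  have hz' : RegMod (Ideal.span {algebraMap A C x, algebraMap A C y}) (algebraMap A C z) := by
    have := hz.map_flat (C := C)
    rwa [Ideal.map_span, Set.image_pair] at this
  obtain ⟨n, g, hg0, hg1, hgm, hgreg, hspan⟩ := exists_regular_generators (hmem hxm) hx' (hmem hym)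
    (hy'.isSMulRegular (hmem hxm) hx')
  have h2 := two_le_depth_of_pair (hmem hxm) (hmem hym) hx' hy'
  have h3 : (3 : ℕ∞) ≤ LocCoh.depth C C := depth_ge_of_triple (hmem hxm) (hmem hym) (hmem hzm)
    (by simpa using hx.map_flat (C := C)) hy' hz'
  refine ⟨h2, (map_span_singleton f).trans_le ((Ideal.span_singleton_le_iff_mem _).mpr (hmem hf)),
    n + 2, g, hgm, coversPunctured_of_span g hspan, ?_⟩
  rw [map_span_singleton]
  exact formalSys_of_depth_three h3 (hmem hf) (coversPunctured_of_span g hspan) hgreg 0 1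
    (by rw [hg0, hg1]; exact hy') (algebraMap A C z) (by rw [hg0, hg1]; exact hz')
    (by rw [hspan]; exact Ideal.le_radical (hmem hzm))

/-- Extension from a hypersurface, for depth three. -/
theorem extends_of_depth_three (hA : (3 : ℕ∞) ≤ LocCoh.depth A A) (f : A)
    (hf : f ∈ IsLocalRing.maximalIdeal A) (V : FEt.Cat (FEt.puncturedSpec A : Scheme.{u}))
    (Y₀ : FEt.Cat (Spec (CommRingCat.of (A ⧸ Ideal.span {f}))))
    (e : (FEt.restrict (pullback.snd (FEt.puncturedSpec A).ι (qMap (Ideal.span {f})))).obj Y₀ ≅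
      trCover (Ideal.span {f}) V) :
    ∃ Y : FEt.Cat (Spec (CommRingCat.of A)),
      Nonempty ((FEt.restrict (FEt.puncturedSpec A).ι).obj Y ≅ V) :=
  extends_of_trace V Y₀ e (completionSys_of_depth_three hA f hf)

/-- A prime of the punctured spectrum containing a given element. -/
theorem exists_prime_mem (hA : (2 : ℕ∞) ≤ LocCoh.depth A A) (f : A)
    (hf : f ∈ IsLocalRing.maximalIdeal A) :
    ∃ q : PrimeSpectrum A, q.asIdeal ≠ IsLocalRing.maximalIdeal A ∧ f ∈ q.asIdeal := by
  obtain ⟨q, hq⟩ := Ideal.nonempty_minimalPrimes (I := Ideal.span {f})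
    (ne_top_of_le_ne_top (IsLocalRing.maximalIdeal.isMaximal A).ne_top
      ((Ideal.span_singleton_le_iff_mem _).mpr hf))
  have := hq.1.1
  refine ⟨⟨q, hq.1.1⟩, fun e => ?_, hq.1.2 (Ideal.mem_span_singleton_self _)⟩
  have hh := Ideal.height_le_one_of_isPrincipal_of_mem_minimalPrimes (Ideal.span {f}) q hq
  have h2 := two_le_ringKrullDim hA
  rw [show q = IsLocalRing.maximalIdeal A from e] at hh
  rw [← IsLocalRing.maximalIdeal_height_eq_ringKrullDim] at h2
  exact absurd (h2.trans (WithBot.coe_le_coe.mpr hh)) (by decide)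

omit [IsLocalRing A] [IsNoetherianRing A] in
/-- Regular pairs modulo `J` are regular modulo all powers, if the graded ring is free. -/
theorem regPair_pow_of_gr_free {J : Ideal A}
    (hgr : ∀ n : ℕ, Module.Free (A ⧸ J) (↥(J ^ n) ⧸ (J • (⊤ : Submodule A ↥(J ^ n)))))
    {x y : A} (hx : RegMod J x) (hy : RegMod (J ⊔ Ideal.span {x}) y) (n : ℕ) :
    RegMod (J ^ n) x ∧ RegMod (J ^ n ⊔ Ideal.span {x}) y := by
  classical
  induction n with
  | zero => exact ⟨fun a _ => by simp, fun a _ => by simp⟩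
  | succ n ih =>
    obtain ⟨ihx, ihy⟩ := ih
    have := hgr n
    let L := ↥(J ^ n) ⧸ (J • (⊤ : Submodule A ↥(J ^ n)))
    let b := Module.Free.chooseBasis (A ⧸ J) L
    have hmem : ∀ v : ↥(J ^ n), v ∈ J • (⊤ : Submodule A ↥(J ^ n)) ↔ (v : A) ∈ J ^ (n + 1) := fun v => by
      rw [Submodule.mem_smul_top_iff, pow_succ', smul_eq_mul]
    have hsmul : ∀ (r : A) (v : ↥(J ^ n)),
        Ideal.Quotient.mk J r • (Submodule.Quotient.mk v : L) = Submodule.Quotient.mk (r • v) :=
      fun r v => rfl
    have hle : J ^ (n + 1) ≤ J ^ n := Ideal.pow_le_pow_right n.le_succ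
    refine ⟨fun a ha => ?_, fun a ha => ?_⟩
    · let v : ↥(J ^ n) := ⟨a, ihx a (hle ha)⟩
      have h0 : Ideal.Quotient.mk J x • (Submodule.Quotient.mk v : L) = 0 := by
        rw [hsmul, Submodule.Quotient.mk_eq_zero, hmem]; exact ha
      have h1 : (Submodule.Quotient.mk v : L) = 0 := by
        refine b.repr.map_eq_zero_iff.mp (Finsupp.ext fun k => ?_)
        have h2 := DFunLike.congr_fun (congrArg b.repr h0) k
        rw [map_smul, map_zero, Finsupp.smul_apply, smul_eq_mul, Finsupp.zero_apply] at h2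
        obtain ⟨c, hc⟩ := Ideal.Quotient.mk_surjective (b.repr (Submodule.Quotient.mk v) k)
        rw [← hc, ← map_mul, Ideal.Quotient.eq_zero_iff_mem] at h2
        rw [Finsupp.zero_apply, ← hc]
        exact Ideal.Quotient.eq_zero_iff_mem.mpr (hx c h2)
      exact (hmem v).mp ((Submodule.Quotient.mk_eq_zero _).mp h1)
    · obtain ⟨j, hj, w, hw, rfl⟩ := Submodule.mem_sup.mp (ihy a (SetLike.le_def.mp (sup_le_sup_right hle _) ha))
      obtain ⟨r, rfl⟩ := Ideal.mem_span_singleton'.mp hw
      obtain ⟨u, hu, w', hw', he⟩ := Submodule.mem_sup.mp ha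
      obtain ⟨s, rfl⟩ := Ideal.mem_span_singleton'.mp hw'
      let v : ↥(J ^ n) := ⟨j, hj⟩
      let t : ↥(J ^ n) := ⟨s - y * r, ihx _ (by
        rw [show x * (s - y * r) = y * j - u by linear_combination he]
        exact Ideal.sub_mem _ (Ideal.mul_mem_left _ _ hj) (hle hu))⟩
      have h0 : Ideal.Quotient.mk J y • (Submodule.Quotient.mk v : L) =
          Ideal.Quotient.mk J x • (Submodule.Quotient.mk t : L) := by
        rw [hsmul, hsmul, Submodule.Quotient.eq, hmem]
        show y * j - x * (s - y * r) ∈ J ^ (n + 1)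
        rw [show y * j - x * (s - y * r) = u by linear_combination -he]
        exact hu
      have key : ∀ k, ∃ d, b.repr (Submodule.Quotient.mk v : L) k = Ideal.Quotient.mk J x * d := by
        intro k
        have h2 := DFunLike.congr_fun (congrArg b.repr h0) k
        rw [map_smul, map_smul, Finsupp.smul_apply, Finsupp.smul_apply, smul_eq_mul, smul_eq_mul] at h2
        obtain ⟨c, hc⟩ := Ideal.Quotient.mk_surjective (b.repr (Submodule.Quotient.mk v : L) k)
        obtain ⟨d, hd⟩ := Ideal.Quotient.mk_surjective (b.repr (Submodule.Quotient.mk t : L) k)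
        rw [← hc, ← hd, ← map_mul, ← map_mul, Ideal.Quotient.eq] at h2
        obtain ⟨j', hj', w'', hw'', rfl⟩ := Submodule.mem_sup.mp (hy c (by
          rw [show y * c = (y * c - x * d) + d * x by ring]
          exact Submodule.add_mem_sup h2 (Ideal.mem_span_singleton'.mpr ⟨d, rfl⟩)))
        obtain ⟨q, rfl⟩ := Ideal.mem_span_singleton'.mp hw''
        refine ⟨Ideal.Quotient.mk J q, ?_⟩
        rw [← hc, map_add, Ideal.Quotient.eq_zero_iff_mem.mpr hj', zero_add, map_mul, mul_comm]
      choose d hd using key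
      let D := ∑ k ∈ (b.repr (Submodule.Quotient.mk v : L)).support, d k • b k
      have hD : (Submodule.Quotient.mk v : L) = Ideal.Quotient.mk J x • D := by
        conv_lhs => rw [← b.linearCombination_repr (Submodule.Quotient.mk v : L)]
        rw [Finsupp.linearCombination_apply, Finsupp.sum, Finset.smul_sum]
        exact Finset.sum_congr rfl fun k _ => by rw [hd k, mul_smul]
      obtain ⟨m, hm⟩ := Submodule.Quotient.mk_surjective _ D
      rw [← hm, hsmul, Submodule.Quotient.eq, hmem] at hD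
      replace hD : j - x * m ∈ J ^ (n + 1) := hD
      rw [show j + r * x = (j - x * m) + (r + m) * x by ring]
      exact Submodule.add_mem_sup hD (Ideal.mem_span_singleton'.mpr ⟨_, rfl⟩)

omit [IsLocalRing A] [IsNoetherianRing A] in
/-- Regular triples modulo `J` are regular modulo all powers, if the graded ring is free. -/
theorem regTriple_pow_of_gr_free {J : Ideal A}
    (hgr : ∀ n : ℕ, Module.Free (A ⧸ J) (↥(J ^ n) ⧸ (J • (⊤ : Submodule A ↥(J ^ n)))))
    {x y z : A} (hx : RegMod J x) (hy : RegMod (J ⊔ Ideal.span {x}) y)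
    (hz : RegMod (J ⊔ Ideal.span {x, y}) z) (n : ℕ) : RegMod (J ^ n ⊔ Ideal.span {x, y}) z := by
  classical
  induction n with
  | zero => exact fun a _ => by simp
  | succ n ih =>
    obtain ⟨hxn, hyn⟩ := regPair_pow_of_gr_free hgr hx hy n
    have := hgr n
    let L := ↥(J ^ n) ⧸ (J • (⊤ : Submodule A ↥(J ^ n)))
    let b := Module.Free.chooseBasis (A ⧸ J) L
    have hmem : ∀ v : ↥(J ^ n), v ∈ J • (⊤ : Submodule A ↥(J ^ n)) ↔ (v : A) ∈ J ^ (n + 1) := fun v => by
      rw [Submodule.mem_smul_top_iff, pow_succ', smul_eq_mul]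
    have hsmul : ∀ (r : A) (v : ↥(J ^ n)),
        Ideal.Quotient.mk J r • (Submodule.Quotient.mk v : L) = Submodule.Quotient.mk (r • v) :=
      fun r v => rfl
    have hle : J ^ (n + 1) ≤ J ^ n := Ideal.pow_le_pow_right n.le_succ
    intro a ha
    obtain ⟨j, hj, w, hw, rfl⟩ := Submodule.mem_sup.mp (ih a (SetLike.le_def.mp (sup_le_sup_right hle _) ha))
    obtain ⟨r, q, rfl⟩ := mem_pair_iff.mp hw
    obtain ⟨u, hu, w', hw', he⟩ := Submodule.mem_sup.mp ha
    obtain ⟨s, t, rfl⟩ := mem_pair_iff.mp hw'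
    have h0 : x * (s - z * r) + y * (t - z * q) ∈ J ^ n := by
      rw [show x * (s - z * r) + y * (t - z * q) = z * j - u by linear_combination he]
      exact Ideal.sub_mem _ (Ideal.mul_mem_left _ _ hj) (hle hu)
    obtain ⟨t₁, ht₁, w'', hw'', ht⟩ := Submodule.mem_sup.mp (hyn (t - z * q) (by
      rw [show y * (t - z * q) = (x * (s - z * r) + y * (t - z * q)) + (-(s - z * r)) * x by ring]
      exact Submodule.add_mem_sup h0 (Ideal.mem_span_singleton'.mpr ⟨_, rfl⟩)))
    obtain ⟨p, rfl⟩ := Ideal.mem_span_singleton'.mp hw''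
    have hs₁ : s - z * r + y * p ∈ J ^ n := hxn _ (by
      rw [show x * (s - z * r + y * p) = (x * (s - z * r) + y * (t - z * q)) - y * t₁ by
        linear_combination y * ht]
      exact Ideal.sub_mem _ h0 (Ideal.mul_mem_left _ _ ht₁))
    let v : ↥(J ^ n) := ⟨j, hj⟩
    let S : ↥(J ^ n) := ⟨_, hs₁⟩
    let T : ↥(J ^ n) := ⟨_, ht₁⟩
    have h1 : Ideal.Quotient.mk J z • (Submodule.Quotient.mk v : L) =
        Ideal.Quotient.mk J x • (Submodule.Quotient.mk S : L) +
          Ideal.Quotient.mk J y • (Submodule.Quotient.mk T : L) := by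
      rw [hsmul, hsmul, hsmul, ← Submodule.Quotient.mk_add, Submodule.Quotient.eq, hmem]
      show z * j - (x * (s - z * r + y * p) + y * t₁) ∈ J ^ (n + 1)
      rw [show z * j - (x * (s - z * r + y * p) + y * t₁) = u by linear_combination -he - y * ht]
      exact hu
    have key : ∀ k, ∃ d d', b.repr (Submodule.Quotient.mk v : L) k =
        Ideal.Quotient.mk J x * d + Ideal.Quotient.mk J y * d' := by
      intro k
      have h2 := DFunLike.congr_fun (congrArg b.repr h1) k
      rw [map_add, map_smul, map_smul, map_smul, Finsupp.add_apply, Finsupp.smul_apply,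
        Finsupp.smul_apply, Finsupp.smul_apply, smul_eq_mul, smul_eq_mul, smul_eq_mul] at h2
      obtain ⟨c, hc⟩ := Ideal.Quotient.mk_surjective (b.repr (Submodule.Quotient.mk v : L) k)
      obtain ⟨d, hd⟩ := Ideal.Quotient.mk_surjective (b.repr (Submodule.Quotient.mk S : L) k)
      obtain ⟨d', hd'⟩ := Ideal.Quotient.mk_surjective (b.repr (Submodule.Quotient.mk T : L) k)
      rw [← hc, ← hd, ← hd', ← map_mul, ← map_mul, ← map_mul, ← map_add, Ideal.Quotient.eq] at h2
      obtain ⟨j', hj', w'', hw'', rfl⟩ := Submodule.mem_sup.mp (hz c (by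
        rw [show z * c = (z * c - (x * d + y * d')) + (d * x + d' * y) by ring]
        exact Submodule.add_mem_sup h2 (mem_pair_iff.mpr ⟨d, d', rfl⟩)))
      obtain ⟨e, e', rfl⟩ := mem_pair_iff.mp hw''
      refine ⟨Ideal.Quotient.mk J e, Ideal.Quotient.mk J e', ?_⟩
      rw [← hc, map_add, Ideal.Quotient.eq_zero_iff_mem.mpr hj', zero_add, map_add, map_mul, map_mul]
      ring
    choose d d' hd using key
    let supp := (b.repr (Submodule.Quotient.mk v : L)).support
    have hD : (Submodule.Quotient.mk v : L) = Ideal.Quotient.mk J x • (∑ k ∈ supp, d k • b k) +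
        Ideal.Quotient.mk J y • (∑ k ∈ supp, d' k • b k) := by
      conv_lhs => rw [← b.linearCombination_repr (Submodule.Quotient.mk v : L)]
      rw [Finsupp.linearCombination_apply, Finsupp.sum, Finset.smul_sum, Finset.smul_sum,
        ← Finset.sum_add_distrib]
      exact Finset.sum_congr rfl fun k _ => by rw [hd k, add_smul, mul_smul, mul_smul]
    obtain ⟨m, hm⟩ := Submodule.Quotient.mk_surjective _ (∑ k ∈ supp, d k • b k)
    obtain ⟨m', hm'⟩ := Submodule.Quotient.mk_surjective _ (∑ k ∈ supp, d' k • b k)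
    rw [← hm, ← hm', hsmul, hsmul, ← Submodule.Quotient.mk_add, Submodule.Quotient.eq, hmem] at hD
    replace hD : j - (x * m + y * m') ∈ J ^ (n + 1) := hD
    rw [show j + (r * x + q * y) = (j - (x * m + y * m')) + ((r + m) * x + (q + m') * y) by ring]
    exact Submodule.add_mem_sup hD (mem_pair_iff.mpr ⟨_, _, rfl⟩)

omit [IsNoetherianRing A] in
set_option backward.isDefEq.respectTransparency.types false in
/-- Purity of the closed subscheme extends traces. -/
theorem exists_trace_extension {J : Ideal A} [IsLocalRing (A ⧸ J)] (h : FEt.PurityHolds (A ⧸ J))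
    (V : FEt.Cat (FEt.puncturedSpec A : Scheme.{u})) :
    ∃ Y₀ : FEt.Cat (Spec (CommRingCat.of (A ⧸ J))),
      Nonempty ((FEt.restrict (pullback.snd (FEt.puncturedSpec A).ι (qMap J))).obj Y₀ ≅ trCover J V) := by
  let snd := pullback.snd (FEt.puncturedSpec A).ι (qMap J)
  have hr : Set.range snd = Set.range (FEt.puncturedSpec (A ⧸ J)).ι := by
    rw [IsOpenImmersion.range_pullbackSnd, Scheme.Opens.opensRange_ι, Scheme.Opens.range_ι]
    ext q
    show qMap J q ∈ FEt.puncturedSpec A ↔ q ∈ FEt.puncturedSpec (A ⧸ J)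
    refine Iff.trans (mem_puncturedSpec_iff _) (Iff.trans ?_ (mem_puncturedSpec_iff _).symm)
    have hm : (IsLocalRing.maximalIdeal (A ⧸ J)).comap (Ideal.Quotient.mk _) =
        IsLocalRing.maximalIdeal A := IsLocalRing.eq_maximalIdeal
      (Ideal.comap_isMaximal_of_surjective _ Ideal.Quotient.mk_surjective)
    exact not_congr ⟨fun e => Ideal.comap_injective_of_surjective _ Ideal.Quotient.mk_surjective
      (e.trans hm.symm), fun e => (congrArg (Ideal.comap (Ideal.Quotient.mk _)) e).trans hm⟩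
  let j := IsOpenImmersion.isoOfRangeEq snd (FEt.puncturedSpec (A ⧸ J)).ι hr
  obtain ⟨Y₀, ⟨e⟩⟩ := h.mem_essImage ((FEt.restrict j.inv).obj (trCover J V))
  exact ⟨Y₀, ⟨FEt83.restrictEqIso (IsOpenImmersion.isoOfRangeEq_hom_fac snd _ hr).symm Y₀ ≪≫
      (FEt83.restrictCompIso j.hom (FEt.puncturedSpec (A ⧸ J)).ι).app Y₀ ≪≫
      (FEt.restrict j.hom).mapIso e ≪≫ ((FEt83.restrictCompIso j.hom j.inv).app _).symm ≪≫
      FEt83.restrictEqIso j.hom_inv_id _ ≪≫ FEt83.restrictIdIso _⟩⟩

omit [IsLocalRing A] [IsNoetherianRing A] in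
theorem regMod_of_quotient {J K : Ideal A} {w : A}
    (h : RegMod (K.map (Ideal.Quotient.mk J)) (Ideal.Quotient.mk J w)) : RegMod (J ⊔ K) w := by
  intro a ha
  have h1 : Ideal.Quotient.mk J a ∈ K.map (Ideal.Quotient.mk J) := h _ (by
    rw [← map_mul]
    obtain ⟨j, hj, k, hk, he⟩ := Submodule.mem_sup.mp ha
    rw [← he, map_add, Ideal.Quotient.eq_zero_iff_mem.mpr hj, zero_add]
    exact Ideal.mem_map_of_mem _ hk)
  obtain ⟨k, hk, hka⟩ := (Ideal.mem_map_iff_of_surjective _ Ideal.Quotient.mk_surjective).mp h1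
  rw [show a = (a - k) + k by ring]
  exact Submodule.add_mem_sup (Ideal.Quotient.eq.mp hka.symm) hk

/-- Purity along an ideal with free graded ring and quotient of depth three. -/
theorem purityHolds_of_gr_free {J : Ideal A} [IsLocalRing (A ⧸ J)]
    (hd : (3 : ℕ∞) ≤ LocCoh.depth (A ⧸ J) (A ⧸ J))
    (hgr : ∀ n : ℕ, Module.Free (A ⧸ J) (↥(J ^ n) ⧸ (J • (⊤ : Submodule A ↥(J ^ n)))))
    (h0 : FEt.PurityHolds (A ⧸ J)) : (3 : ℕ∞) ≤ LocCoh.depth A A ∧ FEt.PurityHolds A := by
  obtain ⟨x', hx'm, y', hy'm, z', hz'm, hx', hy', hz'⟩ := exists_triple_of_depth_three hd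
  obtain ⟨x, rfl⟩ := Ideal.Quotient.mk_surjective x'
  obtain ⟨y, rfl⟩ := Ideal.Quotient.mk_surjective y'
  obtain ⟨z, rfl⟩ := Ideal.Quotient.mk_surjective z'
  have hJm : J ≤ IsLocalRing.maximalIdeal A := IsLocalRing.le_maximalIdeal
    (Ideal.Quotient.nontrivial_iff.mp (inferInstance : Nontrivial (A ⧸ J)))
  have hxm : x ∈ IsLocalRing.maximalIdeal A := fun h => hx'm (h.map _)
  have hym : y ∈ IsLocalRing.maximalIdeal A := fun h => hy'm (h.map _)
  have hzm : z ∈ IsLocalRing.maximalIdeal A := fun h => hz'm (h.map _)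
  have hx0 : RegMod J x := by
    have := regMod_of_quotient (J := J) (K := ⊥) (w := x) (by rwa [Ideal.map_bot])
    rwa [sup_bot_eq] at this
  have hy0 : RegMod (J ⊔ Ideal.span {x}) y :=
    regMod_of_quotient (by rwa [Ideal.map_span, Set.image_singleton])
  have hz0 : RegMod (J ⊔ Ideal.span {x, y}) z :=
    regMod_of_quotient (by rwa [Ideal.map_span, Set.image_pair])
  have hP := regPair_pow_of_gr_free hgr hx0 hy0
  have hT := regTriple_pow_of_gr_free hgr hx0 hy0 hz0
  have hlim : ∀ (K : Ideal A) (w : A), K ≤ IsLocalRing.maximalIdeal A →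
      (∀ n, RegMod (J ^ n ⊔ K) w) → RegMod K w := by
    intro K w hK h a ha
    have hne : K ≠ ⊤ := ne_top_of_le_ne_top (IsLocalRing.maximalIdeal.isMaximal A).ne_top hK
    have := Ideal.Quotient.nontrivial_iff.mpr hne
    have : IsLocalRing (A ⧸ K) :=
      IsLocalRing.of_surjective' (Ideal.Quotient.mk K) Ideal.Quotient.mk_surjective
    have hJ' : J.map (Ideal.Quotient.mk K) ≠ ⊤ := by
      intro e
      have h1 : (1 : A ⧸ K) ∈ J.map (Ideal.Quotient.mk K) := e ▸ trivial
      obtain ⟨j, hj, hj1⟩ := (Ideal.mem_map_iff_of_surjective _ Ideal.Quotient.mk_surjective).mp h1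
      have h2 : j - 1 ∈ IsLocalRing.maximalIdeal A := hK (Ideal.Quotient.eq.mp (hj1.trans (map_one _).symm))
      have h3 := Ideal.sub_mem _ (hJm hj) h2
      rw [sub_sub_cancel] at h3
      exact (IsLocalRing.maximalIdeal.isMaximal A).ne_top ((Ideal.eq_top_iff_one _).mpr h3)
    refine Ideal.Quotient.eq_zero_iff_mem.mp ?_
    have hinf : Ideal.Quotient.mk K a ∈ ⨅ n : ℕ, J.map (Ideal.Quotient.mk K) ^ n :=
      Submodule.mem_iInf _ |>.mpr fun n => by
        obtain ⟨p, hp, q, hq, hpq⟩ := Submodule.mem_sup.mp (h n a (Submodule.mem_sup_right ha))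
        rw [← hpq, map_add, Ideal.Quotient.eq_zero_iff_mem.mpr hq, add_zero, ← Ideal.map_pow]
        exact Ideal.mem_map_of_mem _ hp
    rwa [Ideal.iInf_pow_eq_bot_of_isLocalRing _ hJ', Submodule.mem_bot] at hinf
  have hspan1 : Ideal.span {x} ≤ IsLocalRing.maximalIdeal A :=
    (Ideal.span_singleton_le_iff_mem _).mpr hxm
  have hxbot : RegMod (⊥ : Ideal A) x := hlim ⊥ x bot_le fun n => by rw [sup_bot_eq]; exact (hP n).1
  have hyx : RegMod (Ideal.span {x}) y := hlim _ y hspan1 fun n => (hP n).2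
  have hzxy : RegMod (Ideal.span {x, y}) z := hlim _ z (Ideal.span_le.mpr (by
    rintro w (rfl | rfl) <;> assumption)) hT
  have hd3 : (3 : ℕ∞) ≤ LocCoh.depth A A := depth_ge_of_triple hxm hym hzm hxbot hyx hzxy
  refine ⟨hd3, ⟨fun V => ?_⟩⟩
  obtain ⟨Y₀, ⟨e⟩⟩ := exists_trace_extension h0 V
  obtain ⟨Y, hY⟩ := extends_of_trace V Y₀ e fun C _ _ _ _ _ hm _ => by
    have hmem : ∀ {a : A}, a ∈ IsLocalRing.maximalIdeal A → algebraMap A C a ∈ IsLocalRing.maximalIdeal C :=
      fun ha => hm ▸ Ideal.mem_map_of_mem _ ha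
    have hJC : J.map (algebraMap A C) ≤ IsLocalRing.maximalIdeal C := hm ▸ Ideal.map_mono hJm
    have hx1 : IsSMulRegular C (algebraMap A C x) := isSMulRegular_iff_right_eq_zero_of_smul.mpr fun c hc => by
      have := hxbot.map_flat (C := C) c (by rw [Ideal.map_bot, Submodule.mem_bot]; exact hc)
      rwa [Ideal.map_bot, Submodule.mem_bot] at this
    have hy1 : RegMod (Ideal.span {algebraMap A C x}) (algebraMap A C y) :=
      map_span_singleton (C := C) x ▸ hyx.map_flat
    obtain ⟨n, g, hg0, hg1, hgm, -, hspan⟩ := exists_regular_generators (hmem hxm) hx1 (hmem hym)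
      (hy1.isSMulRegular (hmem hxm) hx1)
    refine ⟨two_le_depth_of_pair (hmem hxm) (hmem hym) hx1 hy1, hJC, n + 2, g, hgm,
      coversPunctured_of_span g hspan,
      formalSys_of_regPair (ne_top_of_le_ne_top (IsLocalRing.maximalIdeal.isMaximal C).ne_top hJC) 0 1
        (fun k => ?_) (fun k => ?_)⟩
    · rw [hg0, ← Ideal.map_pow]
      exact (hP k).1.map_flat
    · rw [hg0, hg1, ← Ideal.map_pow, ← map_span_singleton, ← Ideal.map_sup]
      exact (hP k).2.map_flat
  exact ⟨Y, hY⟩

end Groth.Agent.Pure83
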