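import Groth.Agent.Pure83.Setup
import Groth.Agent.Hensel20.PairApi
import Groth.Agent.Hensel20.PairEtale
import Groth.Agent.FEt83.DiscrPurity

/-!
# Extending sections from a hypersurface
-/

universe u

open TensorProduct

namespace Groth.Agent.Pure83

variable {A : Type u} [CommRing A]

theorem algebraMap_locQuot_self {R : Type u} [CommRing R] [Algebra A R] (f : A) (T : Subalgebra A R) :
    algebraMap A (LocQuot f 1 T) f = 0 :=
  Ideal.Quotient.eq_zero_iff_mem.mpr (Ideal.subset_span (by rw [Set.mem_singleton_iff, pow_one]))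

section Evaluation

variable {M : Type u} [CommRing M] [Algebra A M] {ι : Type}

/-- An algebra of sections on the punctured hyperplane, evaluated in every `A`-algebra lying over
`f = 0` and over one of the basic opens. -/
structure SectionsEval (f : A) (g : ι → A) (C0 : Type u) [CommRing C0] [Algebra A C0] where
  /-- restriction of global sections -/
  ρ : M →ₐ[A] C0
  /-- evaluation -/
  ev : ∀ (P : Type u) [CommRing P] [Algebra A P] (_q : M →ₐ[A] P),
    algebraMap A P f = 0 → (∃ i, IsUnit (algebraMap A P (g i))) → (C0 →ₐ[A] P)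
  natural : ∀ (P P' : Type u) [CommRing P] [Algebra A P] [CommRing P'] [Algebra A P']
    (q : M →ₐ[A] P) (u : P →ₐ[A] P') h1 h2 h1' h2',
    u.comp (ev P q h1 h2) = ev P' (u.comp q) h1' h2'
  ev_ρ : ∀ (P : Type u) [CommRing P] [Algebra A P] (q : M →ₐ[A] P) h1 h2,
    (ev P q h1 h2).comp ρ = q
  sep : ∀ b : C0, (∀ (i : ι) (P : Type u) [CommRing P] [Algebra A P] (q : M →ₐ[A] P) h1
    (hP : IsUnit (algebraMap A P (g i))), ev P q h1 ⟨i, hP⟩ b = 0) → b = 0

variable {R : Type u} [CommRing R] [Algebra A R] [Algebra M R] [IsScalarTower A M R]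

/-- The image of `M` in the ambient ring. -/
abbrev imSub (R : Type u) [CommRing R] [Algebra A R] [Algebra M R] [IsScalarTower A M R] :
    Subalgebra A R := (IsScalarTower.toAlgHom A M R).range

theorem imSub_le_locSub (c : A) : imSub (M := M) R ≤ locSub (imSub (M := M) R) c :=
  fun _ hx => InLoc.of_mem hx

/-- Reduction of `M` in the sections over a basic open modulo `f`. -/
def locEvalMap (f c : A) : M →ₐ[A] LocQuot f 1 (locSub (imSub (M := M) R) c) :=
  ((Ideal.Quotient.mkₐ A _).comp (Subalgebra.inclusion (imSub_le_locSub c))).comp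
    (IsScalarTower.toAlgHom A M R).rangeRestrict

theorem isUnit_locSub (c : A) (hc : IsUnit (algebraMap A R c)) :
    IsUnit (algebraMap A (locSub (imSub (M := M) R) c) c) := by
  obtain ⟨v, hv⟩ := hc.exists_right_inv
  refine IsUnit.of_mul_eq_one ⟨v, ⟨1, ?_⟩⟩ (Subtype.ext hv)
  rw [pow_one, Algebra.smul_def, hv]
  exact one_mem (imSub (M := M) R)

theorem isUnit_locQuot (f c : A) (hc : IsUnit (algebraMap A R c)) :
    IsUnit (algebraMap A (LocQuot f 1 (locSub (imSub (M := M) R) c)) c) :=
  (isUnit_locSub (M := M) c hc).map (Ideal.Quotient.mk _)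

/-- Algebras over a basic open receive maps from the sections over it. -/
theorem exists_factor_locQuot (f c : A) (hc : IsUnit (algebraMap A R c))
    (hinj : Function.Injective (algebraMap M R)) (hcM : IsSMulRegular M c)
    (P : Type u) [CommRing P] [Algebra A P] (q : M →ₐ[A] P) (hfP : algebraMap A P f = 0)
    (hP : IsUnit (algebraMap A P c)) :
    ∃ θ : LocQuot f 1 (locSub (imSub (M := M) R) c) →ₐ[A] P, θ.comp (locEvalMap f c) = q := by
  let L := Localization.Away (algebraMap A M c)
  let jL : L →ₐ[A] R := IsLocalization.liftAlgHom (M := Submonoid.powers (algebraMap A M c))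
    (f := IsScalarTower.toAlgHom A M R) fun ⟨_, k, e⟩ => by
      subst e
      rw [IsScalarTower.coe_toAlgHom', map_pow, ← IsScalarTower.algebraMap_apply]
      exact hc.pow k
  have hjL : ∀ m, jL (algebraMap M L m) = algebraMap M R m := fun m => IsLocalization.lift_eq _ m
  have hjinj : Function.Injective jL := by
    refine (IsLocalization.lift_injective_iff _).mpr fun x y => ⟨fun e => ?_, fun e => ?_⟩
    · refine congrArg _ (IsLocalization.injective (M := Submonoid.powers (algebraMap A M c)) L
        (Submonoid.powers_le.mpr (mem_nonZeroDivisors_iff_right.mpr fun b hb =>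
          hcM.right_eq_zero_of_smul ?_)) e)
      rw [Algebra.smul_def, mul_comm]; exact hb
    · exact congrArg _ (hinj e)
  have hrange : locSub (imSub (M := M) R) c ≤ jL.range := by
    rintro w ⟨k, m, hm⟩
    refine ⟨IsLocalization.mk' L m (⟨_, k, rfl⟩ : Submonoid.powers (algebraMap A M c)), (hc.pow k).mul_left_cancel ?_⟩
    have := congrArg jL (IsLocalization.mk'_spec' L m (⟨_, k, rfl⟩ : Submonoid.powers (algebraMap A M c)))
    simp only [map_mul, map_pow, hjL, ← IsScalarTower.algebraMap_apply, AlgHom.commutes] at this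
    exact this.trans ((hm).trans (by rw [Algebra.smul_def, map_pow]))
  let eL : L ≃ₐ[A] jL.range := AlgEquiv.ofInjective jL hjinj
  let toP : L →ₐ[A] P := IsLocalization.liftAlgHom (M := Submonoid.powers (algebraMap A M c))
    (f := q) fun ⟨_, k, e⟩ => by subst e; rw [map_pow, AlgHom.commutes]; exact hP.pow k
  let θ0 : locSub (imSub (M := M) R) c →ₐ[A] P :=
    (toP.comp eL.symm.toAlgHom).comp (Subalgebra.inclusion hrange)
  refine ⟨Ideal.Quotient.liftₐ _ θ0 fun a ha => ?_, AlgHom.ext fun m => ?_⟩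
  · obtain ⟨d, rfl⟩ := Ideal.mem_span_singleton'.mp ha
    rw [map_mul, AlgHom.commutes, pow_one, hfP, mul_zero]
  · show toP (eL.symm ⟨algebraMap M R m, _⟩) = q m
    have : eL.symm ⟨algebraMap M R m, ⟨algebraMap M L m, hjL m⟩⟩ = algebraMap M L m :=
      eL.symm_apply_eq.mpr (Subtype.ext (hjL m).symm)
    rw [this]
    exact IsLocalization.lift_eq _ m

/-- Evaluation in the sections over a basic open modulo `f`. -/
noncomputable def SectionsEval.evLoc {f : A} {g : ι → A} {C0 : Type u} [CommRing C0] [Algebra A C0]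
    (E : SectionsEval (M := M) f g C0) (i : ι) (hu : IsUnit (algebraMap A R (g i))) :
    C0 →ₐ[A] LocQuot f 1 (locSub (imSub (M := M) R) (g i)) :=
  E.ev (LocQuot f 1 (locSub (imSub (M := M) R) (g i))) (locEvalMap (M := M) (R := R) f (g i))
    (algebraMap_locQuot_self f _) ⟨i, isUnit_locQuot (M := M) f (g i) hu⟩

theorem SectionsEval.evLoc_ρ {f : A} {g : ι → A} {C0 : Type u} [CommRing C0] [Algebra A C0]
    (E : SectionsEval (M := M) f g C0) (i : ι) (hu : IsUnit (algebraMap A R (g i))) :
    (E.evLoc (R := R) i hu).comp E.ρ = locEvalMap (M := M) (R := R) f (g i) :=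
  E.ev_ρ _ _ _ _

theorem SectionsEval.evLoc_compat {f : A} {g : ι → A} {C0 : Type u} [CommRing C0] [Algebra A C0]
    (E : SectionsEval (M := M) f g C0) (i j : ι) (hi : IsUnit (algebraMap A R (g i)))
    (hj : IsUnit (algebraMap A R (g j))) :
    (locQuotMap f 1 (locSub_le_mul (imSub (M := M) R) (g i) (g j))).comp (E.evLoc i hi) =
      (locQuotMap f 1 (locSub_le_mul' (imSub (M := M) R) (g i) (g j))).comp (E.evLoc j hj) := by
  have hu2 : ∃ k, IsUnit (algebraMap A (LocQuot f 1 (locSub (imSub (M := M) R) (g i * g j))) (g k)) := by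
    have := (isUnit_locQuot (M := M) f (g i) hi).map
      (locQuotMap f 1 (locSub_le_mul (imSub (M := M) R) (g i) (g j)))
    rw [AlgHom.commutes] at this
    exact ⟨i, this⟩
  have hq : (locQuotMap f 1 (locSub_le_mul (imSub (M := M) R) (g i) (g j))).comp
      (locEvalMap (M := M) (R := R) f (g i)) =
      (locQuotMap f 1 (locSub_le_mul' (imSub (M := M) R) (g i) (g j))).comp
        (locEvalMap (M := M) (R := R) f (g j)) := AlgHom.ext fun m => rfl
  have e1 := E.natural _ _ (locEvalMap (M := M) (R := R) f (g i))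
    (locQuotMap f 1 (locSub_le_mul (imSub (M := M) R) (g i) (g j)))
    (algebraMap_locQuot_self f _) ⟨i, isUnit_locQuot (M := M) f (g i) hi⟩
    (algebraMap_locQuot_self f _) hu2
  have e2 := E.natural _ _ (locEvalMap (M := M) (R := R) f (g j))
    (locQuotMap f 1 (locSub_le_mul' (imSub (M := M) R) (g i) (g j)))
    (algebraMap_locQuot_self f _) ⟨j, isUnit_locQuot (M := M) f (g j) hj⟩
    (algebraMap_locQuot_self f _) hu2
  simp only [SectionsEval.evLoc, e1, e2, hq]

/-- Evaluations on the sections over basic opens are jointly injective. -/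
theorem SectionsEval.sep_locQuot {f : A} {g : ι → A} {C0 : Type u} [CommRing C0] [Algebra A C0]
    (E : SectionsEval (M := M) f g C0) (hinj : Function.Injective (algebraMap M R))
    (hu : ∀ i, IsUnit (algebraMap A R (g i))) (hreg : ∀ i, IsSMulRegular M (g i)) (b : C0)
    (hb : ∀ i, E.evLoc (R := R) i (hu i) b = 0) : b = 0 := by
  refine E.sep b fun i P _ _ q h1 hP => ?_
  obtain ⟨θ, hθ⟩ := exists_factor_locQuot (R := R) f (g i) (hu i) hinj (hreg i) P q h1 hP
  subst hθ
  rw [← E.natural _ _ _ θ (algebraMap_locQuot_self f _) ⟨i, isUnit_locQuot f (g i) (hu i)⟩,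
    AlgHom.comp_apply]
  exact (congrArg θ (hb i)).trans (map_zero θ)

end Evaluation

variable {M : Type u} [CommRing M] [Algebra A M]

/-- Finite étale algebras modulo `f` lift modulo powers of `f`. -/
theorem exists_lift_mod_pow (f : A) (N : ℕ) (C0 : Type u) [CommRing C0] [Algebra A C0]
    [Algebra (A ⧸ Ideal.span {f}) C0] [IsScalarTower A (A ⧸ Ideal.span {f}) C0]
    [Module.Finite (A ⧸ Ideal.span {f}) C0] [Algebra.Etale (A ⧸ Ideal.span {f}) C0] :
    ∃ (B : Type u) (_ : CommRing B) (_ : Algebra A B)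
      (_ : Algebra (A ⧸ Ideal.span {f ^ (N + 1)}) B)
      (_ : IsScalarTower A (A ⧸ Ideal.span {f ^ (N + 1)}) B)
      (_ : Algebra.FormallyEtale (A ⧸ Ideal.span {f ^ (N + 1)}) B) (κ : B →ₐ[A] C0),
      Function.Surjective κ := by
  let An := A ⧸ Ideal.span {f ^ (N + 1)}
  let J : Ideal An := (Ideal.span {f}).map (Ideal.Quotient.mk _)
  have hle : Ideal.span {f ^ (N + 1)} ≤ Ideal.span {f} :=
    Ideal.span_singleton_le_span_singleton.mpr (dvd_pow_self f N.succ_ne_zero)
  have : HenselianRing An J := Hensel20.henselianRing_of_nilpotent fun a ha => by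
    obtain ⟨c, hc, rfl⟩ := (Ideal.mem_map_iff_of_surjective _ Ideal.Quotient.mk_surjective).mp ha
    obtain ⟨d, rfl⟩ := Ideal.mem_span_singleton'.mp hc
    refine ⟨N + 1, ?_⟩
    rw [← map_pow, Ideal.Quotient.eq_zero_iff_mem, mul_pow]
    exact Ideal.mul_mem_left _ _ (Ideal.mem_span_singleton_self _)
  let e : (An ⧸ J) ≃+* A ⧸ Ideal.span {f} := DoubleQuot.quotQuotEquivQuotOfLE hle
  let φ0 : An ⧸ J →+* C0 := (algebraMap (A ⧸ Ideal.span {f}) C0).comp e.toRingHom
  let _ : Algebra (An ⧸ J) C0 := φ0.toAlgebra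
  have : Module.Finite (An ⧸ J) C0 := RingHom.finite_algebraMap.mp (by
    rw [RingHom.algebraMap_toAlgebra]
    exact (RingHom.finite_algebraMap.mpr inferInstance).comp (RingHom.Finite.of_surjective _ e.surjective))
  have : Algebra.Etale (An ⧸ J) C0 := RingHom.etale_algebraMap.mp (by
    rw [RingHom.algebraMap_toAlgebra]
    exact RingHom.Etale.stableUnderComposition e.toRingHom _
      (RingHom.Etale.of_bijective e.bijective) (RingHom.etale_algebraMap.mpr inferInstance))
  obtain ⟨B, iB, iA, -, hBe, ⟨eB⟩⟩ := Hensel20.exists_finite_etale_lift (A := An) (I := J) C0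
  let algB : Algebra A B := Algebra.compHom B (Ideal.Quotient.mk (Ideal.span {f ^ (N + 1)}))
  have hT : IsScalarTower A An B := IsScalarTower.of_algebraMap_eq fun _ => rfl
  refine ⟨B, iB, algB, iA, hT, inferInstance,
    { toRingHom := eB.toAlgHom.toRingHom.comp
        (Algebra.TensorProduct.includeRight : B →ₐ[An] (An ⧸ J) ⊗[An] B).toRingHom
      commutes' := fun a => ?_ }, fun c => ?_⟩
  · show eB ((1 : An ⧸ J) ⊗ₜ[An] algebraMap An B (Ideal.Quotient.mk _ a)) = _
    rw [Algebra.algebraMap_eq_smul_one, ← TensorProduct.smul_tmul, Algebra.smul_def, mul_one,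
      show ((algebraMap An (An ⧸ J)) (Ideal.Quotient.mk _ a)) ⊗ₜ[An] (1 : B) =
        algebraMap (An ⧸ J) ((An ⧸ J) ⊗[An] B) (Ideal.Quotient.mk _ (Ideal.Quotient.mk _ a))
        from rfl, AlgEquiv.commutes]
    exact (congrArg (algebraMap (A ⧸ Ideal.span {f}) C0)
      (DoubleQuot.quotQuotEquivQuotOfLE_quotQuotMk a hle)).trans
        (IsScalarTower.algebraMap_apply A (A ⧸ Ideal.span {f}) C0 a).symm
  · obtain ⟨b, hb⟩ := Hensel20.exists_one_tmul (eB.symm c)
    exact ⟨b, (congrArg eB hb).trans (eB.apply_symm_apply c)⟩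

/-- Freeness from freeness of the reduction. -/
theorem free_of_reduction [IsNoetherianRing A] [IsLocalRing A] [Module.Finite A M] (f : A)
    (hf : f ∈ IsLocalRing.maximalIdeal A) (hfM : IsSMulRegular M f)
    (C0 : Type u) [CommRing C0] [Algebra A C0] [Algebra (A ⧸ Ideal.span {f}) C0]
    [IsScalarTower A (A ⧸ Ideal.span {f}) C0] [Module.Finite (A ⧸ Ideal.span {f}) C0]
    [Module.Flat (A ⧸ Ideal.span {f}) C0] (ρ : M →ₐ[A] C0) (hρ : Function.Surjective ρ)
    (hker : ∀ m, ρ m = 0 → ∃ m', m = f • m') : Module.Free A M := by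
  have : Nontrivial (A ⧸ Ideal.span {f}) := Ideal.Quotient.nontrivial_iff.mpr fun e =>
    (IsLocalRing.maximalIdeal.isMaximal A).ne_top
      (top_le_iff.mp (e.ge.trans ((Ideal.span_singleton_le_iff_mem _).mpr hf)))
  have : IsLocalRing (A ⧸ Ideal.span {f}) :=
    IsLocalRing.of_surjective' (Ideal.Quotient.mk _) Ideal.Quotient.mk_surjective
  have : Module.FinitePresentation (A ⧸ Ideal.span {f}) C0 :=
    Module.finitePresentation_of_finite _ _
  have : Module.Free (A ⧸ Ideal.span {f}) C0 := Module.free_of_flat_of_isLocalRing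
  let bC := Module.Free.chooseBasis (A ⧸ Ideal.span {f}) C0
  choose b hb using fun k => hρ (bC k)
  have hlin : ∀ c : _ →₀ A, ρ (Finsupp.linearCombination A b c) =
      Finsupp.linearCombination (A ⧸ Ideal.span {f}) bC
        (c.mapRange (Ideal.Quotient.mk (Ideal.span {f})) (map_zero _)) := by
    intro c
    induction c using Finsupp.induction_linear with
    | zero => simp
    | add x y hx hy => rw [map_add, map_add, hx, hy, Finsupp.mapRange_add (map_add _), map_add]
    | single k a => simp [hb, Algebra.smul_def, IsScalarTower.algebraMap_apply A (A ⧸ Ideal.span {f}) C0]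
  refine free_of_quotient_free f hf hfM b (fun m => ?_) (fun c ⟨m', hm'⟩ k => ?_)
  · obtain ⟨c, hc⟩ := Finsupp.mapRange_surjective (Ideal.Quotient.mk (Ideal.span {f})) (map_zero _)
      Ideal.Quotient.mk_surjective (bC.repr (ρ m))
    obtain ⟨m', hm'⟩ := hker (m - Finsupp.linearCombination A b c) (by
      rw [map_sub, hlin, hc, bC.linearCombination_repr, sub_self])
    exact ⟨c, m', by rw [← hm']; abel⟩
  · have h0 := congrArg ρ hm'
    rw [hlin, map_smul, ← IsScalarTower.algebraMap_smul (A ⧸ Ideal.span {f}) f (ρ m'),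
      Ideal.Quotient.algebraMap_eq, Ideal.Quotient.eq_zero_iff_mem.mpr
        (Ideal.mem_span_singleton_self f), zero_smul] at h0
    have := linearIndependent_iff.mp bC.linearIndependent _ h0
    exact Ideal.Quotient.eq_zero_iff_mem.mp (by simpa using DFunLike.congr_fun this k)

variable [IsNoetherianRing A] [IsLocalRing A] {ι : Type} {g : ι → A}

namespace IsSectionRing

variable (h : IsSectionRing A M g)

include h

omit [IsNoetherianRing A] in
theorem isEtaleAt [Algebra.FinitePresentation A M]
    (q : PrimeSpectrum M) (hq : q.asIdeal.comap (algebraMap A M) ≠ IsLocalRing.maximalIdeal A) :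
    Algebra.IsEtaleAt A q.asIdeal := by
  obtain ⟨c, hc, hcq⟩ := SetLike.exists_of_lt
    ((IsLocalRing.le_maximalIdeal (Ideal.comap_ne_top (algebraMap A M) q.isPrime.ne_top)).lt_of_ne hq)
  let Ac := Localization.Away c
  let Mc := Localization.Away (algebraMap A M c)
  let _ := (awayStr A M c).toAlgebra
  have : IsScalarTower A Ac Mc := IsScalarTower.of_algebraMap_eq fun a =>
    ((IsLocalization.map_eq _ a : (awayStr A M c) (algebraMap A Ac a) = _).trans
      (IsScalarTower.algebraMap_apply A M Mc a).symm).symm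
  have : Algebra.Etale Ac Mc :=
    RingHom.etale_algebraMap.mp (by rw [RingHom.algebraMap_toAlgebra]; exact h.etale c hc)
  have : Algebra.Etale A Ac := Algebra.Etale.of_isLocalizationAway c
  have : Algebra.Etale A Mc := Algebra.Etale.comp A Ac Mc
  exact (Algebra.basicOpen_subset_etaleLocus_iff_etale.mpr this) hcq

/-- The hyperplane theorem, first part: sections surject onto those of the hyperplane. -/
theorem surjective_and_ker [Finite ι] (hg : ∀ i, g i ∈ IsLocalRing.maximalIdeal A)
    (hreg : ∀ i, IsSMulRegular A (g i)) (i0 i1 : ι) (hy : RegMod (Ideal.span {g i0}) (g i1))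
    (z : A) (hz : RegMod (Ideal.span {g i0, g i1}) z)
    (hzrad : z ∈ (Ideal.span (Set.range g)).radical)
    (f : A) (hf : f ∈ IsLocalRing.maximalIdeal A) (hfreg : IsSMulRegular A f)
    (C0 : Type u) [CommRing C0] [Algebra A C0] [Algebra (A ⧸ Ideal.span {f}) C0]
    [IsScalarTower A (A ⧸ Ideal.span {f}) C0] [Module.Finite (A ⧸ Ideal.span {f}) C0]
    [Algebra.Etale (A ⧸ Ideal.span {f}) C0] (E : SectionsEval (M := M) f g C0) :
    Function.Surjective E.ρ ∧ ∀ m, E.ρ m = 0 → ∃ m', m = f • m' := by
  classical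
  have := Fintype.ofFinite ι
  have : Nonempty ι := ⟨i0⟩
  let G := ∏ i, g i
  have hGreg : IsSMulRegular A G :=
    Finset.prod_induction g (IsSMulRegular A) (fun a b => IsSMulRegular.mul) (IsSMulRegular.one A)
      fun i _ => hreg i
  have hGdvd : ∀ i, g i ∣ G := fun i => Finset.dvd_prod_of_mem g (Finset.mem_univ i)
  have hGM : IsSMulRegular M G := h.isSMulRegular hg hGreg
  have hfM : IsSMulRegular M f := h.isSMulRegular hg hfreg
  let R := Localization.Away (algebraMap A M G)
  have hinj : Function.Injective (algebraMap M R) :=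
    IsLocalization.injective (M := Submonoid.powers (algebraMap A M G)) R
      (Submonoid.powers_le.mpr (mem_nonZeroDivisors_iff_right.mpr fun b hb =>
        hGM.right_eq_zero_of_smul (by rw [Algebra.smul_def, mul_comm]; exact hb)))
  have hu : ∀ i, IsUnit (algebraMap A R (g i)) := fun i => by
    rw [IsScalarTower.algebraMap_apply A M R]
    exact isUnit_of_dvd_unit (map_dvd _ (map_dvd _ (hGdvd i)))
      (IsLocalization.Away.algebraMap_isUnit _)
  have hfR : IsSMulRegular R f := by
    refine isSMulRegular_iff_right_eq_zero_of_smul.mpr fun w hw => ?_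
    obtain ⟨⟨m, ⟨_, k, rfl⟩⟩, hm⟩ :=
      IsLocalization.surj (Submonoid.powers (algebraMap A M G)) w
    have h2 : algebraMap M R (f • m) = 0 := by
      rw [Algebra.smul_def, map_mul, ← IsScalarTower.algebraMap_apply, ← hm, ← mul_assoc,
        ← Algebra.smul_def, hw, zero_mul]
    have h3 : m = 0 := hfM.right_eq_zero_of_smul (hinj (h2.trans (map_zero _).symm))
    rw [h3, map_zero] at hm
    refine (IsUnit.mul_left_eq_zero ?_).mp hm
    rw [map_pow]
    exact (IsLocalization.Away.algebraMap_isUnit _).pow k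
  obtain ⟨N, h1⟩ := h.exists_h1Prop hg hreg i0 i1 hy z hz hzrad f hf hfreg G hGreg hGdvd (R := R)
  have h0 := h.h0Prop hinj hu
  let evR := fun i => E.evLoc (R := R) i (hu i)
  have hsep : ∀ b, (∀ i, evR i b = 0) → b = 0 := fun b hb =>
    E.sep_locQuot hinj hu (fun i => h.isSMulRegular hg (hreg i)) b hb
  refine ⟨fun b => ?_, fun m hm => ?_⟩
  · obtain ⟨B, _, _, _, _, _, κ, hκ⟩ := exists_lift_mod_pow f N C0
    obtain ⟨c, rfl⟩ := hκ b
    have hcompat : ∀ i j,
        (locQuotMap f 1 (locSub_le_mul (imSub (M := M) R) (g i) (g j))).comp ((evR i).comp κ) =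
        (locQuotMap f 1 (locSub_le_mul' (imSub (M := M) R) (g i) (g j))).comp ((evR j).comp κ) := by
      intro i j
      rw [← AlgHom.comp_assoc, ← AlgHom.comp_assoc, E.evLoc_compat i j (hu i) (hu j)]
    obtain ⟨⟨_, m, rfl⟩, hσ⟩ :=
      exists_global_lift g N hfR h0 h1 B (fun i => (evR i).comp κ) hcompat c
    refine ⟨m, sub_eq_zero.mp (hsep _ fun i => ?_)⟩
    rw [map_sub, sub_eq_zero]
    exact (AlgHom.congr_fun (E.evLoc_ρ i (hu i)) m).trans (hσ i)
  · have hz : ∀ i, locEvalMap (R := R) f (g i) m = 0 := fun i => by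
      rw [← AlgHom.congr_fun (E.evLoc_ρ (R := R) i (hu i)) m, AlgHom.comp_apply, hm, map_zero]
    choose w hw using fun i => Ideal.mem_span_singleton'.mp (Ideal.Quotient.eq_zero_iff_mem.mp (hz i))
    have hw' : ∀ i, f • (w i : R) = algebraMap M R m := fun i => by
      have := congrArg Subtype.val (hw i)
      rw [Algebra.smul_def, mul_comm]
      simpa using this
    have hall : ∀ i, InLoc (Subalgebra.toSubmodule (imSub (M := M) R)) (g i) (w i0 : R) := fun i => by
      have : (w i0 : R) = w i := hfR ((hw' i0).trans (hw' i).symm)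
      rw [this]; exact (w i).2
    obtain ⟨m', hm'⟩ := h0 _ hall
    refine ⟨m', hinj ?_⟩
    rw [Algebra.smul_def, map_mul, ← IsScalarTower.algebraMap_apply, ← hw' i0, Algebra.smul_def]
    exact congrArg (algebraMap A R f * ·) hm'.symm

/-- The hyperplane theorem. -/
theorem etale_of_hyperplane [Finite ι] (hg : ∀ i, g i ∈ IsLocalRing.maximalIdeal A)
    (hreg : ∀ i, IsSMulRegular A (g i)) (i0 i1 : ι) (hy : RegMod (Ideal.span {g i0}) (g i1))
    (z : A) (hz : RegMod (Ideal.span {g i0, g i1}) z)
    (hzrad : z ∈ (Ideal.span (Set.range g)).radical)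
    (f : A) (hf : f ∈ IsLocalRing.maximalIdeal A) (hfreg : IsSMulRegular A f)
    (hdim : (2 : WithBot ℕ∞) ≤ ringKrullDim A)
    (C0 : Type u) [CommRing C0] [Algebra A C0] [Algebra (A ⧸ Ideal.span {f}) C0]
    [IsScalarTower A (A ⧸ Ideal.span {f}) C0] [Module.Finite (A ⧸ Ideal.span {f}) C0]
    [Algebra.Etale (A ⧸ Ideal.span {f}) C0] (E : SectionsEval (M := M) f g C0) :
    Module.Finite A M ∧ Algebra.Etale A M := by
  have hfin := h.module_finite hg hreg i0 i1 hy
  refine ⟨hfin, ?_⟩
  obtain ⟨hρ, hker⟩ := h.surjective_and_ker hg hreg i0 i1 hy z hz hzrad f hf hfreg C0 E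
  have := free_of_reduction f hf (h.isSMulRegular hg hfreg) C0 E.ρ hρ hker
  have : Module.FinitePresentation A M := Module.finitePresentation_of_finite A M
  have : Algebra.FinitePresentation A M := inferInstance
  exact FEt83.etale_of_flat_of_etale_off_closedPoint hdim fun q hq => h.isEtaleAt q hq

end IsSectionRing

end Groth.Agent.Pure83
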