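import Groth.Agent.Pure83.Elem
import Mathlib.RingTheory.Nilpotent.Defs
import Mathlib.RingTheory.Ideal.Operations
import Mathlib.RingTheory.Ideal.Colon

/-!
# Čech degree zero and one on the punctured spectrum, inside an ambient ring
-/

universe u v w

namespace Groth.Agent.Pure83

variable {A : Type u} [CommRing A]

/-- `z` lies in the localization of `N` at `c`. -/
def InLoc {R : Type v} [AddCommGroup R] [Module A R] (N : Submodule A R) (c : A) (z : R) : Prop :=
  ∃ k : ℕ, c ^ k • z ∈ N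

namespace InLoc

variable {R : Type v} [AddCommGroup R] [Module A R] {N : Submodule A R} {c d : A} {z w : R}

theorem of_mem (h : z ∈ N) : InLoc N c z := ⟨0, by simpa using h⟩

theorem mono_exp {k : ℕ} (h : c ^ k • z ∈ N) {l : ℕ} (hl : k ≤ l) : c ^ l • z ∈ N := by
  rw [← Nat.sub_add_cancel hl, pow_add, mul_smul]
  exact N.smul_mem _ h

theorem add (h : InLoc N c z) (h' : InLoc N c w) : InLoc N c (z + w) := by
  obtain ⟨k, hk⟩ := h; obtain ⟨l, hl⟩ := h'
  refine ⟨max k l, ?_⟩
  rw [smul_add]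
  exact N.add_mem (mono_exp hk (le_max_left k l)) (mono_exp hl (le_max_right k l))

theorem smul (a : A) (h : InLoc N c z) : InLoc N c (a • z) := by
  obtain ⟨k, hk⟩ := h
  exact ⟨k, by rw [smul_comm]; exact N.smul_mem _ hk⟩

theorem neg (h : InLoc N c z) : InLoc N c (-z) := by simpa using h.smul (-1)

theorem sub (h : InLoc N c z) (h' : InLoc N c w) : InLoc N c (z - w) :=
  sub_eq_add_neg z w ▸ h.add h'.neg

theorem mul (d : A) (h : InLoc N c z) : InLoc N (c * d) z := by
  obtain ⟨k, hk⟩ := h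
  exact ⟨k, by rw [mul_pow, mul_comm, mul_smul]; exact N.smul_mem _ hk⟩

theorem mul_left (c : A) (h : InLoc N d z) : InLoc N (c * d) z := mul_comm d c ▸ h.mul c

end InLoc

/-- Degree zero for a pair of elements. -/
def H0Prop {R : Type v} [AddCommGroup R] [Module A R] (N : Submodule A R) {ι : Type w}
    (g : ι → A) : Prop :=
  ∀ z : R, (∀ i, InLoc N (g i) z) → z ∈ N

/-- Degree one, up to the factor `e`. -/
def H1Prop {R : Type v} [AddCommGroup R] [Module A R] (N : Submodule A R) {ι : Type w}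
    (g : ι → A) (e : A) : Prop :=
  ∀ a : ι → R, (∀ i j, InLoc N (g i * g j) (a i - a j)) → ∃ c, ∀ i, InLoc N (g i) (e • a i - c)

section Base

variable {R : Type v} [CommRing R] [Algebra A R] (hinj : Function.Injective (algebraMap A R))
variable {ι : Type w} (g : ι → A)

include hinj

theorem h0Prop_base (i0 i1 : ι) (hu : IsUnit (algebraMap A R (g i0))) (hx : IsSMulRegular A (g i0))
    (hy : RegMod (Ideal.span {g i0}) (g i1)) : H0Prop (1 : Submodule A R) g := by
  intro z hz
  obtain ⟨k, hk⟩ := hz i0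
  obtain ⟨l, hl⟩ := hz i1
  obtain ⟨p, hp⟩ := Submodule.mem_one.mp hk
  obtain ⟨q, hq⟩ := Submodule.mem_one.mp hl
  have h1 : g i1 ^ l * p = g i0 ^ k * q := hinj (by
    rw [map_mul, map_mul, hp, hq, Algebra.smul_def, Algebra.smul_def]; ring)
  obtain ⟨r, rfl⟩ := Ideal.mem_span_singleton.mp
    ((hy.pow_base hx k).pow l p (Ideal.mem_span_singleton.mpr ⟨q, h1⟩))
  have hq' : q = g i1 ^ l * r := (hx.pow k) (by
    show g i0 ^ k * q = g i0 ^ k * (g i1 ^ l * r)
    rw [← h1]; ring)
  refine Submodule.mem_one.mpr ⟨r, ?_⟩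
  refine (hu.pow k).mul_left_cancel ?_
  rw [Algebra.smul_def, map_pow, map_mul, map_pow] at hp
  exact hp

theorem h1Prop_base (hu : ∀ i, IsUnit (algebraMap A R (g i))) (i0 i1 : ι)
    (hx : IsSMulRegular A (g i0)) (hy : RegMod (Ideal.span {g i0}) (g i1)) (z : A)
    (hz : RegMod (Ideal.span {g i0, g i1}) z) (hzrad : z ∈ (Ideal.span (Set.range g)).radical)
    [Finite ι] : H1Prop (1 : Submodule A R) g 1 := by
  intro a ha
  let x := g i0
  let y := g i1
  -- move to a common power of `x`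
  choose k hk using fun i => ha i i0
  obtain ⟨k₀, hk₀⟩ := Finite.exists_le k
  let K := k₀ + 1
  let u : ι → R := fun i => x ^ K • (a i - a i0)
  have hu' : ∀ i, InLoc (1 : Submodule A R) (g i) (u i) := fun i => ⟨K, by
    have := InLoc.mono_exp (hk i) (l := K) ((hk₀ i).trans (Nat.le_succ _))
    rwa [mul_pow, mul_smul] at this⟩
  obtain ⟨L₀, hL₀⟩ := hu' i1
  let L := L₀ + 1
  obtain ⟨p, hp⟩ := Submodule.mem_one.mp (InLoc.mono_exp hL₀ (Nat.le_add_right L₀ 1))
  -- `p` lies in `(x ^ K, y ^ L)`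
  have key : ∀ i, ∃ n, g i ^ n * p ∈ Ideal.span {x ^ K, y ^ L} := by
    intro i
    obtain ⟨m, hm⟩ := hu' i
    obtain ⟨n, hn⟩ := Submodule.mem_one.mp hm
    obtain ⟨m', hm'⟩ := ha i i1
    obtain ⟨n', hn'⟩ := Submodule.mem_one.mp hm'
    refine ⟨m + m', ?_⟩
    have h2 : y ^ m' * (g i ^ m' * (g i ^ m * p - y ^ L * n)) =
        x ^ K * (-(y ^ L * g i ^ m * n')) := hinj (by
      simp only [map_mul, map_sub, map_neg, map_pow, hn, hn', hp, u, y, L, Algebra.smul_def]
      ring)
    obtain ⟨s, hs⟩ := Ideal.mem_span_singleton.mp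
      ((hy.pow_base hx K).pow m' _ (Ideal.mem_span_singleton.mpr ⟨_, h2⟩))
    exact mem_pair_iff.mpr ⟨s, g i ^ m' * n, by linear_combination -hs⟩
  have hzp : ∃ n, z ^ n * p ∈ Ideal.span {x ^ K, y ^ L} := by
    obtain ⟨n, hn⟩ := Ideal.radical_le_radical_iff.mpr (Ideal.span_le.mpr (fun _ ⟨i, e⟩ => e ▸ by
      obtain ⟨n, hn⟩ := key i
      exact ⟨n, Submodule.mem_colon_singleton.mpr hn⟩) :
        Ideal.span (Set.range g) ≤ ((Ideal.span {x ^ K, y ^ L}).colon ({p} : Set A)).radical)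
      hzrad
    exact ⟨n, Submodule.mem_colon_singleton.mp hn⟩
  obtain ⟨n, hn⟩ := hzp
  obtain ⟨e, q, heq⟩ := mem_pair_iff.mp ((RegMod.pow_both hx hy hz k₀ L₀).pow n p hn)
  obtain ⟨X, hX⟩ := ((hu i0).pow K).exists_left_inv
  refine ⟨a i0 + algebraMap A R q * X, fun i => ?_⟩
  obtain ⟨m, hm⟩ := hu' i
  obtain ⟨w, hw⟩ := Submodule.mem_one.mp hm
  -- the class of `u i - q` in `A_{g i}` is divisible by `x ^ K`
  obtain ⟨m', hm'⟩ := ha i i1
  obtain ⟨n', hn'⟩ := Submodule.mem_one.mp hm'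
  have h2 : y ^ m' * (y ^ L * (g i ^ m' * (w - g i ^ m * q))) =
      x ^ K * (y ^ m' * g i ^ (m' + m) * e + y ^ L * g i ^ m * n') := hinj (by
    have hp' : algebraMap A R p = algebraMap A R e * algebraMap A R x ^ K
        + algebraMap A R q * algebraMap A R y ^ L := by
      rw [← heq]; simp [map_add, map_mul, map_pow, x, y, K, L]
    simp only [u, Algebra.smul_def, map_pow, map_mul] at hw hn' hp
    simp only [map_mul, map_sub, map_add, map_pow, hw, hn', pow_add]
    simp only [y, L, mul_pow] at hp hp' ⊢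
    linear_combination (algebraMap A R y ^ m' * algebraMap A R (g i) ^ m' *
      algebraMap A R (g i) ^ m) * (hp'.symm.trans hp).symm)
  obtain ⟨s, hs⟩ := Ideal.mem_span_singleton.mp ((hy.pow_base hx K).pow L _
    ((hy.pow_base hx K).pow m' _ (Ideal.mem_span_singleton.mpr ⟨_, h2⟩)))
  refine ⟨m' + m, Submodule.mem_one.mpr ⟨s, ?_⟩⟩
  have hs' := congrArg (algebraMap A R) hs
  simp only [u, Algebra.smul_def, map_pow] at hw
  simp only [map_mul, map_sub, map_pow, hw] at hs'
  simp only [Algebra.smul_def, map_pow, map_mul, map_one, pow_add, x] at hs' ⊢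
  refine ((hu i0).pow K).mul_left_cancel ?_
  linear_combination -hs' + (algebraMap A R (g i) ^ m' * algebraMap A R (g i) ^ m *
    algebraMap A R q) * (hX.trans rfl)

end Base

end Groth.Agent.Pure83
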