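import Groth.Agent.LC16.DTH
import Groth.Agent.Pure83.Cech

/-!
# Modules which glue from the basic opens of a family
-/

universe u

open LocCoh

namespace Groth.Agent.Pure83

variable {A : Type u} [CommRing A] {ι : Type}

/-- No element is locally zero on all basic opens of the family. -/
def SepMod (g : ι → A) (X : Type u) [AddCommGroup X] [Module A X] : Prop :=
  ∀ m : X, (∀ i, ∃ k : ℕ, g i ^ k • m = 0) → m = 0

/-- Compatible families of fractions glue. -/
def GlueMod (g : ι → A) (X : Type u) [AddCommGroup X] [Module A X] : Prop :=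
  ∀ (k : ℕ) (a : ι → X), (∀ i j, g j ^ k • a i = g i ^ k • a j) → ∃ m : X, ∀ i, g i ^ k • m = a i

theorem span_pow_le_radical (g : ι → A) (k : ℕ) :
    Ideal.span (Set.range g) ≤ (Ideal.span (Set.range fun i => g i ^ k)).radical := by
  rw [Ideal.span_le]
  rintro _ ⟨i, rfl⟩
  exact ⟨k, Ideal.subset_span ⟨i, rfl⟩⟩

variable [IsNoetherianRing A] {g : ι → A} {X : Type u} [AddCommGroup X] [Module A X]

theorem SepMod.toDT_injective (h : SepMod g X) :
    Function.Injective (toDT (Ideal.span (Set.range g)) X) := by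
  refine (injective_iff_map_eq_zero _).mpr fun m hm => h m fun i => ?_
  have hm' : m ∈ LinearMap.ker (toDT (Ideal.span (Set.range g)) X) := hm
  rw [LC16.DT.ker_toDT] at hm'
  obtain ⟨n, hn⟩ := hm'
  exact ⟨n, hn (g i ^ n) (Ideal.pow_mem_pow (Ideal.subset_span (Set.mem_range_self i)) n)⟩

theorem GlueMod.subsingleton_H1 (h : GlueMod g X) :
    Subsingleton (LocCoh.H (Ideal.span (Set.range g)) 1 X) := by
  refine LC16.DT.toDT_surjective_iff.mp fun x => ?_
  obtain ⟨t, φ, rfl⟩ := LC16.DT.inc_surjective x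
  have hmem : ∀ i, g i ^ t ∈ Ideal.span (Set.range g) ^ t := fun i =>
    Ideal.pow_mem_pow (Ideal.subset_span (Set.mem_range_self i)) t
  obtain ⟨m, hm⟩ := h t (fun i => φ ⟨_, hmem i⟩) fun i j => by
    rw [← map_smul, ← map_smul]
    exact congrArg φ (Subtype.ext (mul_comm (g j ^ t) (g i ^ t)))
  refine ⟨m, ?_⟩
  obtain ⟨N, hN⟩ := Ideal.exists_pow_le_of_le_radical_of_fg (span_pow_le_radical g t)
    (IsNoetherian.noetherian _)
  refine LC16.DT.eq_of_smul_eq N fun a ha => ?_
  have ha' := hN ha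
  clear ha
  induction ha' using Submodule.span_induction with
  | mem a ha =>
    obtain ⟨i, rfl⟩ := ha
    show g i ^ t • _ = g i ^ t • _
    rw [LC16.DT.smul_inc_eq_toDT φ ⟨_, hmem i⟩, ← map_smul, hm i]
  | zero => simp only [zero_smul]
  | add a b _ _ ha hb => rw [add_smul, add_smul, ha, hb]
  | smul c a _ ha => rw [smul_eq_mul, mul_smul, mul_smul, ha]

end Groth.Agent.Pure83
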