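import Groth.Agent.Pure83.Setup
import Groth.Agent.Pure83.GlueVanish
import Groth.Agent.LC15.LocFree
import Groth.Agent.LC16.ChangeRings
import Mathlib.RingTheory.Localization.Module

/-!
# Finiteness for sections of covers and their local cohomology
-/

universe u

open LocCoh

namespace Groth.Agent.Pure83

section Transfer

variable {R R' : Type u} [CommRing R] [CommRing R'] [Algebra R R'] [IsNoetherianRing R] [IsNoetherianRing R']
  (I : Ideal R) (M : Type u) [AddCommGroup M] [Module R' M] [Module R M] [IsScalarTower R R' M]

/-- Finiteness of local cohomology does not depend on the base ring. -/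
theorem finite_H_iff_of_surjective (hπ : Function.Surjective (algebraMap R R')) (i : ℕ) :
    Module.Finite R' (LocCoh.H (I.map (algebraMap R R')) i M) ↔ Module.Finite R (LocCoh.H I i M) := by
  classical
  obtain ⟨φ, hφ⟩ := LC16.ChangeRings.exists_equiv (R := R) (R' := R') I i M
  constructor
  · rintro ⟨⟨s, hs⟩⟩
    refine ⟨⟨s.image φ, eq_top_iff.mpr fun y hy => ?_⟩⟩
    clear hy
    obtain ⟨x, rfl⟩ := φ.surjective y
    induction (hs.ge trivial : x ∈ Submodule.span R' (s : Set _)) using Submodule.span_induction with
    | mem x hx => exact Submodule.subset_span (Finset.mem_image_of_mem _ hx)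
    | zero => rw [map_zero]; exact zero_mem _
    | add a b _ _ ha hb => rw [map_add]; exact add_mem ha hb
    | smul c x _ hx =>
      obtain ⟨c, rfl⟩ := hπ c
      rw [hφ]
      exact Submodule.smul_mem _ _ hx
  · rintro ⟨⟨s, hs⟩⟩
    refine ⟨⟨s.image φ.symm, eq_top_iff.mpr fun x hx => ?_⟩⟩
    clear hx
    rw [← φ.symm_apply_apply x]
    generalize hy : φ x = z
    clear hy
    induction (hs.ge trivial : z ∈ Submodule.span R (s : Set _)) using Submodule.span_induction with
    | mem x hx => exact Submodule.subset_span (Finset.mem_image_of_mem _ hx)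
    | zero => rw [map_zero]; exact zero_mem _
    | add a b _ _ ha hb => rw [map_add]; exact add_mem ha hb
    | smul c y _ hy =>
      have : φ.symm (c • y) = algebraMap R R' c • φ.symm y :=
        φ.injective (by rw [hφ, φ.apply_symm_apply, φ.apply_symm_apply])
      rw [this]
      exact Submodule.smul_mem _ _ hy

end Transfer

theorem finite_H_zero {R : Type u} [CommRing R] [IsNoetherianRing R] (I : Ideal R) (M : Type u)
    [AddCommGroup M] [Module R M] [Module.Finite R M] : Module.Finite R (LocCoh.H I 0 M) :=
  Module.Finite.of_injective (LC15.h0 I M) (LC15.h0_injective I M)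

variable {R : Type u} [CommRing R] [IsNoetherianRing R] [IsLocalRing R] {M : Type u} [CommRing M]
  [Algebra R M] {r : ℕ} {g : Fin r → R}

/-- The sections of a finite étale cover of the punctured spectrum are finite, with finite `H²`,
if the local cohomology of the ring is finite up to degree two. -/
theorem finite_of_isSectionRing (hg : Ideal.span (Set.range g) = IsLocalRing.maximalIdeal R)
    (h : IsSectionRing R M g)
    (hR : ∀ i, i ≤ 2 → Module.Finite R (LocCoh.H (IsLocalRing.maximalIdeal R) i R)) :
    Module.Finite R M ∧ Module.Finite R (LocCoh.H (IsLocalRing.maximalIdeal R) 2 M) := by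
  classical
  let I := IsLocalRing.maximalIdeal R
  have hgm : ∀ i, g i ∈ I := fun i => hg.le (Ideal.subset_span (Set.mem_range_self i))
  choose S hS using h.exists_span hgm
  let P : Submodule R M := Submodule.span R ((Finset.univ.biUnion S : Finset M) : Set M)
  have : Module.Finite R P := Module.Finite.iff_fg.mpr ⟨_, rfl⟩
  have hPk : ∀ m : M, ∃ n, ∀ a ∈ I ^ n, a • m ∈ P := fun m => by
    choose k hk using fun i => hS i m
    obtain ⟨K, hK⟩ := Finite.exists_le k
    obtain ⟨N, hN⟩ := Ideal.exists_pow_le_of_le_radical_of_fg (span_pow_le_radical g K)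
      (IsNoetherian.noetherian _)
    have hJ : Ideal.span (Set.range fun i => g i ^ K) ≤ P.comap (LinearMap.toSpanSingleton R M m) := by
      rw [Ideal.span_le]
      rintro _ ⟨i, rfl⟩
      show g i ^ K • m ∈ P
      rw [← Nat.sub_add_cancel (hK i), pow_add, mul_smul]
      exact Submodule.smul_mem _ _ (Submodule.span_mono
        (Finset.coe_subset.mpr (Finset.subset_biUnion_of_mem S (Finset.mem_univ i))) (hk i))
    exact ⟨N, fun a ha => hJ (hN (hg ▸ ha))⟩
  -- local projectivity
  have hproj : ∀ c ∈ I, Module.Projective (Localization.Away c) (LocalizedModule (Submonoid.powers c) M) ∧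
      Module.Projective (Localization.Away c) (LocalizedModule (Submonoid.powers c) P) := by
    intro c hc
    let Rc := Localization.Away c
    let Tc := Localization.Away (algebraMap R M c)
    let _ := (awayStr R M c).toAlgebra
    have : IsScalarTower R Rc Tc := IsScalarTower.of_algebraMap_eq fun a => by
      rw [IsScalarTower.algebraMap_apply R M Tc]
      exact ((IsLocalization.map_eq (Q := Tc) (S := Rc) (M := Submonoid.powers c) _ a) :
        (awayStr R M c) (algebraMap R Rc a) = _).symm
    have : Module.Flat Rc Tc := h.flat c hc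
    have : Module.Finite Rc Tc :=
      RingHom.finite_algebraMap.mp (by rw [RingHom.algebraMap_toAlgebra]; exact h.finite c hc)
    have : Module.FinitePresentation Rc Tc := Module.finitePresentation_of_finite Rc Tc
    have hTc : Module.Projective Rc Tc := Module.Flat.projective_of_finitePresentation
    let toTc : M →ₗ[R] Tc := (IsScalarTower.toAlgHom R M Tc).toLinearMap
    have hM : IsLocalizedModule (Submonoid.powers c) toTc := isLocalizedModule_away c
    have hP : IsLocalizedModule (Submonoid.powers c) (toTc ∘ₗ P.subtype) :=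
      ⟨hM.map_units, fun y => by
        obtain ⟨⟨m, s⟩, hms⟩ := hM.surj y
        obtain ⟨n, hn⟩ := hPk m
        refine ⟨(⟨c ^ n • m, hn _ (Ideal.pow_mem_pow hc n)⟩, s * ⟨c ^ n, n, rfl⟩), ?_⟩
        show (s * ⟨c ^ n, n, rfl⟩ : Submonoid.powers c) • y = toTc (c ^ n • m)
        rw [map_smul, ← hms, mul_comm, mul_smul]
        rfl,
      fun {x₁ x₂} e => by
        obtain ⟨s, hs⟩ := hM.exists_of_eq e
        exact ⟨s, Subtype.ext hs⟩⟩
    exact ⟨Module.Projective.of_equiv ((IsLocalizedModule.iso (Submonoid.powers c) toTc).extendScalarsOfIsLocalization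
        (Submonoid.powers c) Rc).symm,
      Module.Projective.of_equiv ((IsLocalizedModule.iso (Submonoid.powers c) (toTc ∘ₗ P.subtype)).extendScalarsOfIsLocalization
        (Submonoid.powers c) Rc).symm⟩
  -- the transform of the finite submodule
  have hH1 : Module.Finite R (LocCoh.H I 1 P) :=
    LC15.finite_H_of_locProjective I 2 hR P (fun c hc => (hproj c hc).2) 1 (by omega)
  obtain ⟨e⟩ := LC16.DT.exists_coker_equiv_H1 (R := R) (I := I) (M := P)
  have : Module.Finite R (DT I P ⧸ LinearMap.range (toDT I P)) := Module.Finite.equiv e.symm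
  have : Module.Finite R (DT I P) := Module.Finite.of_submodule_quotient (LinearMap.range (toDT I P))
  have hker : LinearMap.ker P.subtype ≤ DRing.torsionSub I P := by
    rw [Submodule.ker_subtype]; exact bot_le
  have hcoker : IsPowerTorsion I (M ⧸ LinearMap.range P.subtype) := by
    intro z
    obtain ⟨z, rfl⟩ := Submodule.Quotient.mk_surjective _ z
    obtain ⟨n, hn⟩ := hPk z
    refine ⟨n, fun a ha => ?_⟩
    rw [← Submodule.Quotient.mk_smul, Submodule.Quotient.mk_eq_zero, Submodule.range_subtype]
    exact hn a ha
  obtain ⟨Φ, hΦ, -⟩ := LC16.DT.existsUnique_factor P.subtype hker hcoker LinearMap.id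
  have hsepP : SepMod g P := fun w hw => Subtype.ext (h.sep _ fun i => by
    obtain ⟨k, hk⟩ := hw i
    exact ⟨k, congrArg Subtype.val hk⟩)
  have hinjT : Function.Injective (toDT I P) := by
    have := hsepP.toDT_injective
    rwa [hg] at this
  have hΦinj : Function.Injective Φ := (injective_iff_map_eq_zero Φ).mpr fun z hz0 => by
    obtain ⟨n, hn⟩ := hPk z
    refine h.sep z fun i => ⟨n, ?_⟩
    have hm : g i ^ n ∈ I ^ n := Ideal.pow_mem_pow (hgm i) n
    have h1 : toDT I P ⟨g i ^ n • z, hn _ hm⟩ = 0 := by
      refine (LinearMap.congr_fun hΦ ⟨_, hn _ hm⟩).symm.trans ?_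
      show Φ (g i ^ n • z) = 0
      rw [map_smul, hz0, smul_zero]
    exact congrArg Subtype.val (hinjT (h1.trans (map_zero _).symm))
  have hfinM : Module.Finite R M := Module.Finite.of_injective Φ hΦinj
  exact ⟨hfinM, LC15.finite_H_of_locProjective I 2 hR M (fun c hc => (hproj c hc).1) 2 le_rfl⟩

end Groth.Agent.Pure83
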