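import Groth.Agent.Pure83.CoverTower
import Groth.Agent.Pure83.SectionFinite
import Groth.Agent.Pure83.Hyperplane

/-!
# Algebraisation of covers of the punctured spectrum of a hypersurface
-/

universe u

open CategoryTheory Limits AlgebraicGeometry TopologicalSpace Opposite TensorProduct

namespace Groth.Agent.Pure83

set_option linter.unusedSectionVars false

section Limit

variable {A : Type u} [CommRing A] {M : ℕ → Type u} [∀ n, CommRing (M n)] [∀ n, Algebra A (M n)]
  (p : ∀ n, M (n + 1) →ₐ[A] M n)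

/-- The limit of a tower of algebras. -/
def limAlg : Subalgebra A (∀ n, M n) where
  carrier := {s | ∀ n, p n (s (n + 1)) = s n}
  mul_mem' hs ht n := by simp [hs n, ht n]
  one_mem' n := by simp
  add_mem' hs ht n := by simp [hs n, ht n]
  zero_mem' n := by simp
  algebraMap_mem' a n := by simp

theorem toSubmodule_limAlg :
    Subalgebra.toSubmodule (limAlg p) = limSub (fun n => (p n).toLinearMap) := rfl

/-- The projection to the zeroth stage. -/
def limProj : limAlg p →ₐ[A] M 0 :=
  (Pi.evalAlgHom A M 0).comp (limAlg p).val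

end Limit

variable {A : Type u} [CommRing A] [IsLocalRing A] [IsNoetherianRing A] {f : A}
  [hR : ∀ n, IsLocalRing (Rn f n)] (Y0 : FEt.Cat (Un f 0))

/-- The algebraisation of a cover. -/
structure IsAlgebraisation (N : Type u) [CommRing N] [Algebra A N] (ρ : N →ₐ[A] Mn Y0 0) : Prop where
  finite : Module.Finite A N
  regular : IsSMulRegular N f
  ker : ∀ s, ρ s = 0 → ∃ t, s = f • t
  locSurj : ∀ (c : A), c ∈ IsLocalRing.maximalIdeal A → ∀ x, ∃ (k : ℕ) (s : N), ρ s = c ^ k • x

set_option maxHeartbeats 1000000 in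
theorem exists_algebraisation [IsPrecomplete (Ideal.span {f}) A] (hfz : f ∈ nonZeroDivisors A)
    (h1 : Module.Finite A (LocCoh.H (IsLocalRing.maximalIdeal A) 1 (A ⧸ Ideal.span {f})))
    (h2 : Module.Finite A (LocCoh.H (IsLocalRing.maximalIdeal A) 2 (A ⧸ Ideal.span {f}))) :
    ∃ (N : Type u) (_ : CommRing N) (_ : Algebra A N) (ρ : N →ₐ[A] Mn Y0 0),
      IsAlgebraisation Y0 N ρ := by
  classical
  obtain ⟨r, g, hg⟩ : ∃ (r : ℕ) (g : Fin r → A), Ideal.span (Set.range g) = IsLocalRing.maximalIdeal A :=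
    Submodule.fg_iff_exists_fin_generating_family.mp (IsNoetherian.noetherian _)
  have h := tower_mn Y0 hfz hg
  have hmap := (maximalIdeal_rn (f := f) 0).1
  have hπ : Function.Surjective (algebraMap A (Rn f 0)) := Ideal.Quotient.mk_surjective
  have hH : ∀ i, i ≤ 2 → Module.Finite (Rn f 0) (LocCoh.H (IsLocalRing.maximalIdeal (Rn f 0)) i (Rn f 0)) := by
    intro i hi
    have hA : Module.Finite A (LocCoh.H (IsLocalRing.maximalIdeal A) i (Rn f 0)) := by
      interval_cases i
      · exact finite_H_zero _ _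
      · exact h1
      · exact h2
    have := (finite_H_iff_of_surjective (IsLocalRing.maximalIdeal A) (Rn f 0) hπ i).mpr hA
    rwa [show (IsLocalRing.maximalIdeal A).map (algebraMap A (Rn f 0)) =
      IsLocalRing.maximalIdeal (Rn f 0) from hmap] at this
  obtain ⟨hf0, hH0⟩ := finite_of_isSectionRing (span_image hg 0) (isSectionRing_mn Y0 hg 0) hH
  have : IsScalarTower A (Rn f 0) (Mn Y0 0) := IsScalarTower.of_algebraMap_eq fun _ => rfl
  have : Module.Finite A (Rn f 0) := Module.Finite.of_surjective (Algebra.linearMap A (Rn f 0)) hπ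
  have : Module.Finite A (Mn Y0 0) := Module.Finite.trans (Rn f 0) _
  have hH2 : Module.Finite A (LocCoh.H (Ideal.span (Set.range g)) 2 (Mn Y0 0)) := by
    rw [hg]
    refine (finite_H_iff_of_surjective (R' := Rn f 0) (IsLocalRing.maximalIdeal A) (Mn Y0 0) hπ 2).mp ?_
    rwa [show (IsLocalRing.maximalIdeal A).map (algebraMap A (Rn f 0)) =
      IsLocalRing.maximalIdeal (Rn f 0) from hmap]
  refine ⟨limAlg (pn Y0), inferInstance, inferInstance, limProj (pn Y0), h.finite_limSub,
    fun s s' e => h.smul_injective e, fun s hs => h.exists_eq_smul s hs, fun c hc x => ?_⟩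
  have hloc : ∀ i, ∃ (k : ℕ) (s : limAlg (pn Y0)), limProj (pn Y0) s = g i ^ k • x := fun i => by
    obtain ⟨k, s, hs, e⟩ := h.loc_surj hH2 x i
    exact ⟨k, ⟨s, hs⟩, e⟩
  choose k s hs using hloc
  let J : Ideal A := (LinearMap.range (limProj (pn Y0)).toLinearMap).comap
    (LinearMap.toSpanSingleton A (Mn Y0 0) x)
  have hJ : IsLocalRing.maximalIdeal A ≤ J.radical := by
    rw [← hg, Ideal.span_le]
    rintro _ ⟨i, rfl⟩
    exact ⟨k i, s i, hs i⟩
  obtain ⟨l, hl⟩ := hJ hc
  obtain ⟨t, ht⟩ := hl
  exact ⟨l, t, ht⟩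

namespace IsAlgebraisation

variable {Y0} {N : Type u} [CommRing N] [Algebra A N] {ρ : N →ₐ[A] Mn Y0 0}

set_option maxHeartbeats 2000000 in
/-- The algebraisation is étale along the punctured hypersurface. -/
theorem isEtaleAt (hN : IsAlgebraisation Y0 N ρ) (q : PrimeSpectrum N)
    (hqm : q.asIdeal.comap (algebraMap A N) ≠ IsLocalRing.maximalIdeal A)
    (hqf : algebraMap A N f ∈ q.asIdeal) : Algebra.IsEtaleAt A q.asIdeal := by
  classical
  have := hN.finite
  let P := q.asIdeal.comap (algebraMap A N)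
  let S := P.primeCompl
  obtain ⟨c, hcm, hcP⟩ := SetLike.exists_of_lt
    ((IsLocalRing.le_maximalIdeal (Ideal.comap_ne_top (algebraMap A N) q.isPrime.ne_top)).lt_of_ne hqm)
  obtain ⟨r, g, hg⟩ : ∃ (r : ℕ) (g : Fin r → A), Ideal.span (Set.range g) = IsLocalRing.maximalIdeal A :=
    Submodule.fg_iff_exists_fin_generating_family.mp (IsNoetherian.noetherian _)
  have hsec := isSectionRing_mn Y0 hg 0
  -- the localisations
  let Ap := Localization S
  let B := Localization (Algebra.algebraMapSubmonoid N S)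
  let M0 := Mn Y0 0
  let C0 := Localization (Algebra.algebraMapSubmonoid M0 S)
  have : IsLocalRing Ap := inferInstanceAs (IsLocalRing (Localization.AtPrime P))
  let _ : Algebra Ap B := (localizationAlgebra S N)
  let _ : Algebra Ap C0 := (localizationAlgebra S M0)
  have : IsScalarTower A Ap B := IsScalarTower.of_algebraMap_eq fun a => by
    rw [IsScalarTower.algebraMap_apply A N B]
    exact ((IsLocalization.map_eq (Q := B) (S := Ap) (M := S) _ a) :
      algebraMap Ap B (algebraMap A Ap a) = _).symm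
  have : IsScalarTower A Ap C0 := IsScalarTower.of_algebraMap_eq fun a => by
    rw [IsScalarTower.algebraMap_apply A M0 C0]
    exact ((IsLocalization.map_eq (Q := C0) (S := Ap) (M := S) _ a) :
      algebraMap Ap C0 (algebraMap A Ap a) = _).symm
  have : Module.Finite Ap B :=
    Module.Finite.of_isLocalization A N S
  have : Module.Finite A (Rn f 0) :=
    Module.Finite.of_surjective (Algebra.linearMap A (Rn f 0)) Ideal.Quotient.mk_surjective
  let fp : Ap := algebraMap A Ap f
  have hfp : fp ∈ IsLocalRing.maximalIdeal Ap :=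
    (IsLocalization.AtPrime.to_map_mem_maximal_iff Ap P f).mpr hqf
  have : IsNoetherianRing Ap := IsLocalization.isNoetherianRing S Ap inferInstance
  -- the reduction
  have hρS : Algebra.algebraMapSubmonoid N S ≤
      (Algebra.algebraMapSubmonoid M0 S).comap ρ.toRingHom := by
    rintro _ ⟨a, ha, rfl⟩
    exact ⟨a, ha, (ρ.commutes a).symm⟩
  let ρ0 : B →+* C0 := IsLocalization.map C0 ρ.toRingHom hρS
  have hρ0 : ∀ n : N, ρ0 (algebraMap N B n) = algebraMap M0 C0 (ρ n) := fun n => IsLocalization.map_eq _ n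
  have hρA : ρ0.comp (algebraMap Ap B) = algebraMap Ap C0 := by
    refine IsLocalization.ringHom_ext S (RingHom.ext fun a => ?_)
    show ρ0 (algebraMap Ap B (algebraMap A Ap a)) = algebraMap Ap C0 (algebraMap A Ap a)
    rw [← IsScalarTower.algebraMap_apply, ← IsScalarTower.algebraMap_apply,
      IsScalarTower.algebraMap_apply A N B, hρ0, ρ.commutes, ← IsScalarTower.algebraMap_apply]
  let ρp : B →ₐ[Ap] C0 := { ρ0 with commutes' := fun z => RingHom.congr_fun hρA z }
  have hρp : ∀ b, ρp b = ρ0 b := fun _ => rfl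
  have hsurj : Function.Surjective ρp := by
    intro z
    obtain ⟨⟨x, _, a, ha, rfl⟩, hx⟩ := IsLocalization.surj (Algebra.algebraMapSubmonoid M0 S) z
    obtain ⟨k, s, hs⟩ := hN.locSurj c hcm x
    have hu : IsUnit (algebraMap A B (c ^ k * a)) := by
      rw [IsScalarTower.algebraMap_apply A N B]
      exact IsLocalization.map_units B (⟨algebraMap A N (c ^ k * a), c ^ k * a,
        S.mul_mem (S.pow_mem hcP k) ha, rfl⟩ : Algebra.algebraMapSubmonoid N S)
    refine ⟨algebraMap N B s * hu.unit⁻¹.1, (hu.map ρ0).mul_right_cancel ?_⟩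
    rw [hρp, ← map_mul, mul_assoc, IsUnit.val_inv_mul, mul_one, hρ0, hs,
      IsScalarTower.algebraMap_apply A N B, hρ0, ρ.commutes, Algebra.smul_def, map_mul, map_mul,
      map_mul, ← hx]
    ring
  have hker : ∀ b, ρp b = 0 → ∃ b', b = fp • b' := by
    intro b hb
    obtain ⟨n, ⟨_, a, ha, rfl⟩, rfl⟩ := IsLocalization.exists_mk'_eq (Algebra.algebraMapSubmonoid N S) b
    rw [hρp, IsLocalization.map_mk', IsLocalization.mk'_eq_zero_iff] at hb
    obtain ⟨⟨_, a', ha', rfl⟩, e⟩ := hb
    obtain ⟨t, ht⟩ := hN.ker (a' • n) (by rw [map_smul, Algebra.smul_def]; exact e)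
    refine ⟨IsLocalization.mk' B t (⟨algebraMap A N (a' * a), a' * a, S.mul_mem ha' ha, rfl⟩ :
      Algebra.algebraMapSubmonoid N S), ?_⟩
    rw [IsScalarTower.algebraMap_smul, Algebra.smul_def, IsScalarTower.algebraMap_apply A N B,
      IsLocalization.mul_mk'_eq_mk'_of_mul, ← Algebra.smul_def, ← ht, IsLocalization.mk'_eq_iff_eq]
    congr 1
    simp only [Algebra.smul_def, map_mul]
    ring
  have hreg : IsSMulRegular B fp := by
    refine isSMulRegular_iff_right_eq_zero_of_smul.mpr fun b hb => ?_
    obtain ⟨n, s, rfl⟩ := IsLocalization.exists_mk'_eq (Algebra.algebraMapSubmonoid N S) b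
    rw [IsScalarTower.algebraMap_smul, Algebra.smul_def, IsScalarTower.algebraMap_apply A N B,
      IsLocalization.mul_mk'_eq_mk'_of_mul, IsLocalization.mk'_eq_zero_iff] at hb
    obtain ⟨m, hm⟩ := hb
    refine (IsLocalization.mk'_eq_zero_iff _ _).mpr ⟨m, hN.regular.right_eq_zero_of_smul ?_⟩
    rw [Algebra.smul_def, mul_left_comm]
    exact hm
  -- the reduction is étale
  let c' : Rn f 0 := Ideal.Quotient.mk _ c
  have hc' : c' ∈ IsLocalRing.maximalIdeal (Rn f 0) :=
    (maximalIdeal_rn (f := f) 0).2.ge hcm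
  have hTe := hsec.etale c' hc'
  let Rc := Localization.Away c'
  let Tc := Localization.Away (algebraMap (Rn f 0) M0 c')
  let _ := (awayStr (Rn f 0) M0 c').toAlgebra
  have : IsScalarTower (Rn f 0) Rc Tc := IsScalarTower.of_algebraMap_eq fun a => by
    rw [IsScalarTower.algebraMap_apply (Rn f 0) M0 Tc]
    exact ((IsLocalization.map_eq (Q := Tc) (S := Rc) (M := Submonoid.powers c') _ a) :
      (awayStr (Rn f 0) M0 c') (algebraMap (Rn f 0) Rc a) = _).symm
  have : Algebra.Etale Rc Tc :=
    RingHom.etale_algebraMap.mp (show (algebraMap Rc Tc).Etale from hTe)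
  have : Algebra.Etale (Rn f 0) Rc := Algebra.Etale.of_isLocalizationAway c'
  have hT : Algebra.Etale (Rn f 0) Tc := Algebra.Etale.comp (Rn f 0) Rc Tc
  have hcu : ∀ y : Submonoid.powers (algebraMap (Rn f 0) M0 c'), IsUnit (algebraMap M0 C0 y) := by
    rintro ⟨_, k, rfl⟩
    exact IsLocalization.map_units C0 (⟨algebraMap (Rn f 0) M0 c' ^ k, c ^ k, S.pow_mem hcP k,
      map_pow (algebraMap A M0) c k⟩ : Algebra.algebraMapSubmonoid M0 S)
  let _ : Algebra Tc C0 := (IsLocalization.lift (S := Tc) hcu).toAlgebra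
  have : IsScalarTower M0 Tc C0 := IsScalarTower.of_algebraMap_eq fun x =>
    (IsLocalization.lift_eq (S := Tc) hcu x).symm
  have : IsLocalization ((Algebra.algebraMapSubmonoid M0 S).map (algebraMap M0 Tc)) C0 :=
    IsLocalization.isLocalization_of_submonoid_le Tc C0 (Submonoid.powers (algebraMap (Rn f 0) M0 c')) _
      (Submonoid.powers_le.mpr (show algebraMap (Rn f 0) M0 c' ∈ Algebra.algebraMapSubmonoid M0 S from ⟨c, hcP, rfl⟩))
  have : IsScalarTower A (Rn f 0) M0 := IsScalarTower.of_algebraMap_eq fun _ => rfl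
  have : IsScalarTower (Rn f 0) Tc C0 := IsScalarTower.of_algebraMap_eq fun a => by
    rw [IsScalarTower.algebraMap_apply (Rn f 0) M0 Tc, ← IsScalarTower.algebraMap_apply M0 Tc C0,
      ← IsScalarTower.algebraMap_apply]
  have : IsScalarTower A (Rn f 0) C0 := IsScalarTower.of_algebraMap_eq fun a => by
    rw [IsScalarTower.algebraMap_apply A M0 C0, IsScalarTower.algebraMap_apply (Rn f 0) M0 C0,
      ← IsScalarTower.algebraMap_apply A (Rn f 0) M0]
  have : Module.Flat Tc C0 := IsLocalization.flat C0 ((Algebra.algebraMapSubmonoid M0 S).map (algebraMap M0 Tc))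
  have hflat0 : Module.Flat (Rn f 0) C0 := Module.Flat.trans (Rn f 0) Tc C0
  have : Algebra.FormallyUnramified Tc C0 :=
    .of_isLocalization ((Algebra.algebraMapSubmonoid M0 S).map (algebraMap M0 Tc))
  have : Algebra.FormallyUnramified (Rn f 0) C0 := .comp (Rn f 0) Tc C0
  have : Algebra.FormallyUnramified A C0 := .comp A (Rn f 0) C0
  have hunr0 : Algebra.FormallyUnramified Ap C0 := .of_restrictScalars A Ap C0
  -- the base of the reduction
  let R' := Ap ⧸ Ideal.span {fp}
  have hmapf : (Jn f 0).map (algebraMap A Ap) = Ideal.span {fp} := by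
    show (Ideal.span {f}).map _ = _
    rw [Ideal.map_span, Set.image_singleton]
  let _ : Algebra (Rn f 0) R' := (Ideal.quotientMap (Ideal.span {fp}) (algebraMap A Ap)
    (Ideal.map_le_iff_le_comap.mp hmapf.le)).toAlgebra
  have hlocR : IsLocalization (S.map (Ideal.Quotient.mk (Jn f 0))) R' :=
    IsLocalization.of_surjective S Ap (Ideal.Quotient.mk (Jn f 0)) Ideal.Quotient.mk_surjective
      (Ideal.Quotient.mk (Ideal.span {fp})) Ideal.Quotient.mk_surjective rfl
      (by rw [Ideal.mk_ker, Ideal.mk_ker, hmapf])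
  have hf0 : ∀ z ∈ Ideal.span {fp}, algebraMap Ap C0 z = 0 := fun z hz => by
    obtain ⟨y, rfl⟩ := Ideal.mem_span_singleton'.mp hz
    rw [map_mul, ← IsScalarTower.algebraMap_apply A Ap C0, IsScalarTower.algebraMap_apply A (Rn f 0) C0,
      Ideal.Quotient.algebraMap_eq, Ideal.Quotient.eq_zero_iff_mem.mpr (show f ∈ Jn f 0 from
        Ideal.mem_span_singleton_self f), map_zero, mul_zero]
  let _ : Algebra R' C0 := (Ideal.Quotient.lift _ (algebraMap Ap C0) hf0).toAlgebra
  have : IsScalarTower Ap R' C0 := by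
    exact IsScalarTower.of_algebraMap_eq (R := Ap) (S := R') (A := C0) fun _ => rfl
  have : IsScalarTower (Rn f 0) R' C0 := IsScalarTower.of_algebraMap_eq fun a => by
    obtain ⟨a, rfl⟩ := Ideal.Quotient.mk_surjective a
    exact ((IsScalarTower.algebraMap_apply A (Rn f 0) C0 a).symm.trans (IsScalarTower.algebraMap_apply A Ap C0 a))
  have : Module.Flat R' C0 :=
    (Module.flat_iff_of_isLocalization R' (S.map (Ideal.Quotient.mk (Jn f 0))) C0).mpr hflat0
  have : Module.Finite Ap C0 := Module.Finite.of_surjective ρp.toLinearMap hsurj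
  have : Module.Finite R' C0 := Module.Finite.of_restrictScalars_finite Ap R' C0
  have : Module.Free Ap B := free_of_reduction fp hfp hreg C0 ρp hsurj hker
  -- unramified
  let I : Ideal B := Ideal.span {algebraMap Ap B fp}
  have hIker : I = RingHom.ker ρp.toRingHom := by
    refine le_antisymm ?_ fun b hb => ?_
    · rw [Ideal.span_singleton_le_iff_mem, RingHom.mem_ker]
      exact (ρp.commutes fp).trans (hf0 fp (Ideal.mem_span_singleton_self fp))
    · obtain ⟨b', rfl⟩ := hker b hb
      exact Ideal.mem_span_singleton'.mpr ⟨b', by rw [Algebra.smul_def, mul_comm]⟩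
  let eC : (B ⧸ RingHom.ker ρp) ≃ₐ[Ap] C0 := Ideal.quotientKerAlgEquivOfSurjective hsurj
  have : Algebra.FormallyUnramified Ap (B ⧸ I) :=
    .of_equiv ((Ideal.quotientEquivAlgOfEq Ap hIker).trans eC).symm
  have : Algebra.FormallyUnramified Ap B := by
    constructor
    have hle : (⊤ : Submodule B Ω[B⁄Ap]) ≤ I • ⊤ := by
      intro w _
      rw [← Submodule.Quotient.mk_eq_zero]
      let e := TensorProduct.quotTensorEquivQuotSMul Ω[B⁄Ap] I
      refine e.symm.injective ?_
      rw [map_zero, TensorProduct.quotTensorEquivQuotSMul_symm_mk]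
      have hz : ∀ z : (B ⧸ I) ⊗[B] Ω[B⁄Ap], z = 0 := by
        intro z
        obtain ⟨x, rfl⟩ := (KaehlerDifferential.exact_kerCotangentToTensor_mapBaseChange Ap B
          (B ⧸ I) Ideal.Quotient.mk_surjective z).mp (Subsingleton.elim _ _)
        obtain ⟨⟨x, hx⟩, rfl⟩ := Ideal.toCotangent_surjective _ x
        simp only [KaehlerDifferential.kerCotangentToTensor_toCotangent]
        obtain ⟨y, rfl⟩ := Ideal.mem_span_singleton'.mp (show x ∈ I by
          rw [← Ideal.mk_ker (I := I)]; exact hx)
        rw [Derivation.leibniz, Derivation.map_algebraMap, smul_zero, zero_add,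
          TensorProduct.tmul_smul, TensorProduct.smul_tmul', ← Algebra.algebraMap_eq_smul_one,
          Ideal.Quotient.algebraMap_eq, Ideal.Quotient.eq_zero_iff_mem.mpr (Ideal.mem_span_singleton_self _),
          TensorProduct.zero_tmul]
      exact hz _
    have hIj : I ≤ (⊥ : Ideal B).jacobson := by
      rw [Ideal.span_singleton_le_iff_mem]
      refine Submodule.mem_sInf.mpr fun (M' : Ideal B) hM' => ?_
      have := hM'.2
      have hc : (Ideal.comap (algebraMap Ap B) M').IsMaximal := Ideal.isMaximal_comap_of_isIntegral_of_isMaximal M'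
      exact (IsLocalRing.eq_maximalIdeal hc).ge hfp
    have := Submodule.eq_bot_of_le_smul_of_le_jacobson_bot I (⊤ : Submodule B Ω[B⁄Ap]) Module.Finite.fg_top hle hIj
    exact subsingleton_of_forall_eq 0 fun w => (Submodule.mem_bot B).mp (this ▸ Submodule.mem_top)
  have : Algebra.FinitePresentation Ap B := Algebra.FinitePresentation.of_finiteType.mp inferInstance
  have : Algebra.Etale Ap B := .of_formallyUnramified_of_flat
  -- back to the prime
  let Nq := Localization.AtPrime q.asIdeal
  have hle : Algebra.algebraMapSubmonoid N S ≤ q.asIdeal.primeCompl := by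
    rintro _ ⟨a, ha, rfl⟩
    exact ha
  have hu : ∀ y : Algebra.algebraMapSubmonoid N S, IsUnit (algebraMap N Nq y) := fun y =>
    IsLocalization.map_units Nq (⟨y, hle y.2⟩ : q.asIdeal.primeCompl)
  let _ : Algebra B Nq := (IsLocalization.lift (S := B) hu).toAlgebra
  have : IsScalarTower N B Nq := IsScalarTower.of_algebraMap_eq fun x =>
    (IsLocalization.lift_eq (S := B) hu x).symm
  have : IsScalarTower A B Nq := IsScalarTower.of_algebraMap_eq fun a => by
    rw [IsScalarTower.algebraMap_apply A N B, ← IsScalarTower.algebraMap_apply N B Nq,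
      ← IsScalarTower.algebraMap_apply]
  have : IsLocalization (q.asIdeal.primeCompl.map (algebraMap N B)) Nq :=
    IsLocalization.isLocalization_of_submonoid_le B Nq _ _ hle
  have : Algebra.FormallyEtale B Nq := .of_isLocalization (q.asIdeal.primeCompl.map (algebraMap N B))
  have : Algebra.FormallyEtale A Ap := .of_isLocalization S
  have : Algebra.FormallyEtale A B := .comp A Ap B
  exact Algebra.FormallyEtale.comp A B Nq

end IsAlgebraisation

end Groth.Agent.Pure83
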