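import Groth.Agent.Pure83.AlgebraiseMain
import Groth.Agent.FEt83.PurityExtend
import Groth.Agent.FEt83.PureDescent

/-!
# Extension from a neighbourhood to the punctured spectrum
-/

universe u

open CategoryTheory Limits AlgebraicGeometry TopologicalSpace Opposite

namespace Groth.Agent.Pure83

set_option backward.isDefEq.respectTransparency.types false in
/-- Purity is invariant under isomorphisms of rings. -/
theorem purityHolds_congr {B C : Type u} [CommRing B] [IsLocalRing B] [CommRing C] [IsLocalRing C]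
    (e : B ≃+* C) (hC : FEt.PurityHolds C) : FEt.PurityHolds B := by
  refine ⟨fun V => ?_⟩
  let σ : Spec (CommRingCat.of B) ≅ Spec (CommRingCat.of C) :=
    (Scheme.Spec.mapIso e.toCommRingCatIso.op).symm
  have hloc : IsLocalRing.maximalIdeal B = (IsLocalRing.maximalIdeal C).comap e.toRingHom :=
    (IsLocalRing.eq_maximalIdeal (Ideal.comap_isMaximal_of_surjective e.toRingHom e.surjective)).symm
  have hmem : ∀ q : Spec (CommRingCat.of C),
      σ.inv q ∈ FEt.puncturedSpec B ↔ q ∈ FEt.puncturedSpec C := fun q => by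
    refine Iff.trans (mem_puncturedSpec_iff _) (Iff.trans (not_congr ?_) (mem_puncturedSpec_iff _).symm)
    show (q : PrimeSpectrum C).asIdeal.comap e.toRingHom = _ ↔ _
    rw [hloc]
    exact ⟨fun h => Ideal.comap_injective_of_surjective _ e.surjective h, fun h => by rw [h]⟩
  have hr : Set.range ((FEt.puncturedSpec C).ι ≫ σ.inv) = Set.range (FEt.puncturedSpec B).ι := by
    rw [Scheme.Opens.range_ι]
    ext p
    refine ⟨?_, fun hp => ?_⟩
    · rintro ⟨q, rfl⟩
      exact (hmem _).mpr q.2
    · have : σ.inv (σ.hom p) = p := by rw [← Scheme.Hom.comp_apply, σ.hom_inv_id]; rfl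
      exact ⟨⟨σ.hom p, (hmem _).mp (this.symm ▸ hp)⟩, this⟩
  let k := IsOpenImmersion.isoOfRangeEq ((FEt.puncturedSpec C).ι ≫ σ.inv) (FEt.puncturedSpec B).ι hr
  have hk : k.hom ≫ (FEt.puncturedSpec B).ι = (FEt.puncturedSpec C).ι ≫ σ.inv :=
    IsOpenImmersion.isoOfRangeEq_hom_fac _ _ _
  obtain ⟨Y, ⟨eY⟩⟩ := hC.mem_essImage ((FEt.restrict k.hom).obj V)
  refine ⟨(FEt.restrict σ.hom).obj Y, ⟨?_⟩⟩
  have h2 : (FEt.puncturedSpec B).ι ≫ σ.hom = k.inv ≫ (FEt.puncturedSpec C).ι := by
    rw [← cancel_mono σ.inv, Category.assoc, Category.assoc, σ.hom_inv_id, Category.comp_id, ← hk,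
      k.inv_hom_id_assoc]
  exact FEt83.restrictSqIso _ _ _ _ h2 Y ≪≫ (FEt.restrict k.inv).mapIso eY ≪≫
    ((FEt83.restrictCompIso k.inv k.hom).app V).symm ≪≫ FEt83.restrictEqIso k.inv_hom_id _ ≪≫
    FEt83.restrictIdIso _

set_option backward.isDefEq.respectTransparency.types false in
/-- Covers of a neighbourhood of the hypersurface extend to the punctured spectrum. -/
theorem exists_extension_punctured {A : Type u} [CommRing A] [IsNoetherianRing A] [IsLocalRing A] {f : A}
    (hf : f ∈ IsLocalRing.maximalIdeal A)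
    (hp : ∀ P : Ideal (Localization.Away f), ∀ _ : P.IsMaximal, FEt.PurityHolds (Localization.AtPrime P))
    (U' : (Spec (CommRingCat.of A)).Opens) (hU' : U' ≤ FEt.puncturedSpec A)
    (hYU : ∀ q : PrimeSpectrum A, q.asIdeal ≠ IsLocalRing.maximalIdeal A → f ∈ q.asIdeal → q ∈ U')
    (V' : FEt.Cat (U' : Scheme.{u})) :
    ∃ V : FEt.Cat (FEt.puncturedSpec A : Scheme.{u}),
      Nonempty ((FEt.restrict ((Spec (CommRingCat.of A)).homOfLE hU')).obj V ≅ V') := by
  classical
  let p := FEt.puncturedSpec A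
  have hN : IsNoetherian (p : Scheme.{u}) :=
    { toIsLocallyNoetherian := isLocallyNoetherian_of_isOpenImmersion p.ι
      toCompactSpace := isCompact_iff_compactSpace.mp (NoetherianSpace.isCompact _) }
  let O : (p : Scheme.{u}).Opens := p.ι ⁻¹ᵁ U'
  have hr : Set.range (O.ι ≫ p.ι) = Set.range U'.ι := by
    rw [Scheme.Opens.range_ι]
    ext q
    refine ⟨?_, fun hq => ⟨⟨⟨q, hU' hq⟩, hq⟩, rfl⟩⟩
    rintro ⟨z, rfl⟩
    exact z.2
  let k := IsOpenImmersion.isoOfRangeEq (O.ι ≫ p.ι) U'.ι hr
  have hk : k.hom ≫ U'.ι = O.ι ≫ p.ι := IsOpenImmersion.isoOfRangeEq_hom_fac _ _ _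
  have hpur : ∀ x : (p : Scheme.{u}), x ∉ O → FEt.PurityHolds ((p : Scheme.{u}).presheaf.stalk x) := by
    intro x hx
    let P : PrimeSpectrum A := p.ι x
    have hPm : P.asIdeal ≠ IsLocalRing.maximalIdeal A := (mem_puncturedSpec_iff _).mp x.2
    have hfP : f ∉ P.asIdeal := fun h => hx (hYU P hPm h)
    -- nothing lies strictly between `P` and the maximal ideal
    have hmax : ∀ Q : Ideal A, Q.IsPrime → P.asIdeal < Q → Q = IsLocalRing.maximalIdeal A := by
      intro Q hQ hPQ
      by_contra hQm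
      have hlt : Q < IsLocalRing.maximalIdeal A := (IsLocalRing.le_maximalIdeal hQ.ne_top).lt_of_ne hQm
      obtain ⟨q, hq⟩ := Ideal.nonempty_minimalPrimes (I := P.asIdeal ⊔ Ideal.span {f})
        (ne_top_of_le_ne_top (IsLocalRing.maximalIdeal.isMaximal A).ne_top
          (sup_le (hlt.le.trans' hPQ.le) ((Ideal.span_singleton_le_iff_mem _).mpr hf)))
      have := hq.1.1
      have hqm : q ≠ IsLocalRing.maximalIdeal A := by
        rintro rfl
        have hPI := P.isPrime
        have hnt : Nontrivial (A ⧸ P.asIdeal) := Ideal.Quotient.nontrivial_iff.mpr hPI.ne_top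
        have : (IsLocalRing.maximalIdeal A).map (Ideal.Quotient.mk P.asIdeal) ∈
            (Ideal.span {Ideal.Quotient.mk P.asIdeal f}).minimalPrimes := by
          refine ⟨⟨Ideal.map_isPrime_of_surjective Ideal.Quotient.mk_surjective
            (by rw [Ideal.mk_ker]; exact le_sup_left.trans hq.1.2), ?_⟩, fun r hr hrle => ?_⟩
          · rw [Ideal.span_singleton_le_iff_mem]
            exact Ideal.mem_map_of_mem _ hf
          · have := hr.1
            have h1 : P.asIdeal ⊔ Ideal.span {f} ≤ r.comap (Ideal.Quotient.mk P.asIdeal) := by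
              refine sup_le (fun a ha => ?_) ((Ideal.span_singleton_le_iff_mem _).mpr
                (hr.2 (Ideal.mem_span_singleton_self _)))
              show Ideal.Quotient.mk P.asIdeal a ∈ r
              rw [Ideal.Quotient.eq_zero_iff_mem.mpr ha]
              exact zero_mem _
            have h2 : r.comap (Ideal.Quotient.mk P.asIdeal) ≤ IsLocalRing.maximalIdeal A :=
              IsLocalRing.le_maximalIdeal (Ideal.comap_ne_top _ hr.1.ne_top)
            exact Ideal.map_le_iff_le_comap.mpr (hq.2 ⟨inferInstance, h1⟩ h2)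
        have hh := Ideal.height_le_one_of_isPrincipal_of_mem_minimalPrimes _ _ this
        have hQ' : (Q.map (Ideal.Quotient.mk P.asIdeal)).IsPrime :=
          Ideal.map_isPrime_of_surjective Ideal.Quotient.mk_surjective (by rw [Ideal.mk_ker]; exact hPQ.le)
        have hbot : (⊥ : Ideal (A ⧸ P.asIdeal)).IsPrime := Ideal.isPrime_bot
        have hcm : ∀ R : Ideal A, P.asIdeal ≤ R →
            (R.map (Ideal.Quotient.mk P.asIdeal)).comap (Ideal.Quotient.mk P.asIdeal) = R := fun R hR => by
          rw [Ideal.comap_map_of_surjective _ Ideal.Quotient.mk_surjective, ← RingHom.ker_eq_comap_bot,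
            Ideal.mk_ker, sup_eq_left]
          exact hR
        have hmm := this.1.1
        have hlt1 : (⊥ : Ideal (A ⧸ P.asIdeal)) < Q.map (Ideal.Quotient.mk P.asIdeal) := by
          refine bot_lt_iff_ne_bot.mpr fun e => hPQ.ne ?_
          have := hcm Q hPQ.le
          rw [e, ← RingHom.ker_eq_comap_bot, Ideal.mk_ker] at this
          exact this
        have hlt2 : Q.map (Ideal.Quotient.mk P.asIdeal) <
            (IsLocalRing.maximalIdeal A).map (Ideal.Quotient.mk P.asIdeal) := by
          refine (Ideal.map_mono hlt.le).lt_of_ne fun e => hlt.ne ?_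
          rw [← hcm Q hPQ.le, e, hcm _ (hPQ.le.trans hlt.le)]
        have h1 : (Q.map (Ideal.Quotient.mk P.asIdeal)).height < 1 :=
          lt_of_lt_of_le (Ideal.height_strict_mono_of_isPrime hlt2) hh
        have h0 : (⊥ : Ideal (A ⧸ P.asIdeal)).height < (Q.map (Ideal.Quotient.mk P.asIdeal)).height :=
          Ideal.height_strict_mono_of_isPrime hlt1
        rw [Order.lt_one_iff] at h1
        rw [h1] at h0
        exact not_lt_bot h0
      -- `q` is a point of the hypersurface in the closure of `P`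
      have hspec : P ≤ (⟨q, hq.1.1⟩ : PrimeSpectrum A) := le_sup_left.trans hq.1.2
      exact hx (((PrimeSpectrum.le_iff_specializes _ _).mp hspec).mem_open U'.isOpen
        (hYU ⟨q, hq.1.1⟩ hqm (hq.1.2 (Submodule.mem_sup_right (Ideal.mem_span_singleton_self f)))))
    let Af := Localization.Away f
    have hdisj : Disjoint (Submonoid.powers f : Set A) P.asIdeal :=
      (Ideal.disjoint_powers_iff_notMem f P.isPrime.isRadical).mpr hfP
    let P' : Ideal Af := P.asIdeal.map (algebraMap A Af)
    have hP'p : P'.IsPrime :=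
      IsLocalization.isPrime_of_isPrime_disjoint (Submonoid.powers f) Af _ P.isPrime hdisj
    have hP'c : P'.comap (algebraMap A Af) = P.asIdeal :=
      IsLocalization.under_map_of_isPrime_disjoint (Submonoid.powers f) Af P.isPrime hdisj
    have hP'm : P'.IsMaximal := by
      refine ⟨⟨hP'p.ne_top, fun J hJ => by_contra fun hJt => ?_⟩⟩
      obtain ⟨M', hM', hJM⟩ := Ideal.exists_le_maximal J hJt
      have hd := (IsLocalization.isPrime_iff_isPrime_disjoint (Submonoid.powers f) Af M').mp hM'.isPrime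
      have hlt : P.asIdeal < M'.comap (algebraMap A Af) := by
        refine lt_of_le_of_ne (hP'c ▸ Ideal.comap_mono (hJ.le.trans hJM)) fun e => ?_
        have h := IsLocalization.map_under (Submonoid.powers f) Af M'
        rw [Ideal.under_def, ← e] at h
        exact (hJ.trans_le hJM).ne h
      exact Set.disjoint_left.mp hd.2 (Submonoid.mem_powers f) ((hmax _ hd.1 hlt).ge hf)
    let L := Localization.AtPrime P'
    have hL : IsLocalization.AtPrime L P.asIdeal := by
      have h := IsLocalization.isLocalization_isLocalization_atPrime_isLocalization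
        (Submonoid.powers f) L P'
      have he : (P'.under A).primeCompl = P.asIdeal.primeCompl := by
        ext a
        show a ∉ P'.under A ↔ a ∉ P.asIdeal
        rw [Ideal.under_def, hP'c]
      unfold IsLocalization.AtPrime at h ⊢
      rwa [he] at h
    let e1 : (p : Scheme.{u}).presheaf.stalk x ≃+* (Spec (CommRingCat.of A)).presheaf.stalk (p.ι x) :=
      (p.stalkIso x).commRingCatIsoToRingEquiv
    let e2 : (Spec (CommRingCat.of A)).presheaf.stalk (p.ι x) ≃+* Localization.AtPrime P.asIdeal :=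
      (Spec.stalkIso (CommRingCat.of A) P).commRingCatIsoToRingEquiv
    let e3 : Localization.AtPrime P.asIdeal ≃+* L :=
      (IsLocalization.algEquiv P.asIdeal.primeCompl (Localization.AtPrime P.asIdeal) L).toRingEquiv
    exact purityHolds_congr ((e1.trans e2).trans e3) (hp P' hP'm)
  obtain ⟨V, ⟨e⟩⟩ := (FEt83.essSurj_of_purityHolds O hpur).mem_essImage ((FEt.restrict k.hom).obj V')
  refine ⟨V, ⟨?_⟩⟩
  have h2 : k.inv ≫ O.ι = (Spec (CommRingCat.of A)).homOfLE hU' := by
    rw [← cancel_mono p.ι, Category.assoc, ← hk, k.inv_hom_id_assoc, Scheme.homOfLE_ι]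
  exact FEt83.restrictEqIso h2.symm V ≪≫ (FEt83.restrictCompIso k.inv O.ι).app V ≪≫
    (FEt.restrict k.inv).mapIso e ≪≫ ((FEt83.restrictCompIso k.inv k.hom).app V').symm ≪≫
    FEt83.restrictEqIso k.inv_hom_id _ ≪≫ FEt83.restrictIdIso _

end Groth.Agent.Pure83

namespace Groth.Agent.Pure83

variable {A : Type u} [CommRing A] [IsNoetherianRing A] [IsLocalRing A] {f : A}

set_option backward.isDefEq.respectTransparency.types false in
/-- Points of the punctured hypersurface lie in every open through which it factors. -/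
theorem mem_of_factor {J : Ideal A} (U' : (Spec (CommRingCat.of A)).Opens)
    (u' : pullback (FEt.puncturedSpec A).ι (qMap J) ⟶ (U' : Scheme.{u}))
    (hu : u' ≫ U'.ι = pullback.fst (FEt.puncturedSpec A).ι (qMap J) ≫ (FEt.puncturedSpec A).ι)
    (q : PrimeSpectrum A) (hq : q.asIdeal ≠ IsLocalRing.maximalIdeal A) (hJq : J ≤ q.asIdeal) :
    q ∈ U' := by
  let q0 : (FEt.puncturedSpec A : Scheme.{u}) := ⟨q, (mem_puncturedSpec_iff q).mpr hq⟩
  let qJ : Spec (CommRingCat.of (A ⧸ J)) :=
    (⟨q.asIdeal.map (Ideal.Quotient.mk J), Ideal.map_isPrime_of_surjective Ideal.Quotient.mk_surjective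
      (by rwa [Ideal.mk_ker])⟩ : PrimeSpectrum (A ⧸ J))
  have hqJ : qMap J qJ = q := by
    refine PrimeSpectrum.ext ?_
    show (q.asIdeal.map (Ideal.Quotient.mk J)).comap (Ideal.Quotient.mk J) = q.asIdeal
    rw [Ideal.comap_map_of_surjective _ Ideal.Quotient.mk_surjective, ← RingHom.ker_eq_comap_bot,
      Ideal.mk_ker, sup_eq_left]
    exact hJq
  obtain ⟨w, hw, -⟩ := Scheme.Pullback.exists_preimage_pullback (f := (FEt.puncturedSpec A).ι)
    (g := qMap J) q0 qJ hqJ.symm
  have : U'.ι (u' w) = q := by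
    rw [← Scheme.Hom.comp_apply, hu, Scheme.Hom.comp_apply, hw]
    rfl
  exact this ▸ (u' w).2

set_option backward.isDefEq.respectTransparency.types false in
/-- Every cover of the punctured hypersurface comes from the punctured spectrum. -/
theorem exists_extension_hypersurface (hf : f ∈ IsLocalRing.maximalIdeal A)
    [IsPrecomplete (Ideal.span {f}) A] (hfz : f ∈ nonZeroDivisors A)
    (h1 : Module.Finite A (LocCoh.H (IsLocalRing.maximalIdeal A) 1 (A ⧸ Ideal.span {f})))
    (h2 : Module.Finite A (LocCoh.H (IsLocalRing.maximalIdeal A) 2 (A ⧸ Ideal.span {f})))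
    (hp : ∀ P : Ideal (Localization.Away f), ∀ _ : P.IsMaximal, FEt.PurityHolds (Localization.AtPrime P))
    (V₀ : FEt.Cat (pullback (FEt.puncturedSpec A).ι (qMap (Ideal.span {f})))) :
    ∃ V : FEt.Cat (FEt.puncturedSpec A : Scheme.{u}),
      Nonempty ((FEt.restrict (pullback.fst (FEt.puncturedSpec A).ι (qMap (Ideal.span {f})))).obj V ≅ V₀) := by
  obtain ⟨U', hU', u', hu', V', ⟨e'⟩⟩ := exists_extension_nbhd hf hfz h1 h2 V₀
  obtain ⟨V, ⟨e⟩⟩ := exists_extension_punctured hf hp U' hU'
    (fun q hq hfq => mem_of_factor U' u' hu' q hq ((Ideal.span_singleton_le_iff_mem _).mpr hfq)) V'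
  refine ⟨V, ⟨?_⟩⟩
  have h3 : u' ≫ (Spec (CommRingCat.of A)).homOfLE hU' =
      pullback.fst (FEt.puncturedSpec A).ι (qMap (Ideal.span {f})) := by
    rw [← cancel_mono (FEt.puncturedSpec A).ι, Category.assoc, Scheme.homOfLE_ι]
    exact hu'
  exact FEt83.restrictEqIso h3.symm V ≪≫
    (FEt83.restrictCompIso u' ((Spec (CommRingCat.of A)).homOfLE hU')).app V ≪≫
    (FEt.restrict u').mapIso e ≪≫ e'

set_option backward.isDefEq.respectTransparency.types false in
/-- Purity descends to the hypersurface. -/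
theorem purityHolds_hypersurface (hf : f ∈ IsLocalRing.maximalIdeal A)
    [IsPrecomplete (Ideal.span {f}) A] (hfz : f ∈ nonZeroDivisors A)
    (h1 : Module.Finite A (LocCoh.H (IsLocalRing.maximalIdeal A) 1 (A ⧸ Ideal.span {f})))
    (h2 : Module.Finite A (LocCoh.H (IsLocalRing.maximalIdeal A) 2 (A ⧸ Ideal.span {f})))
    (hp : ∀ P : Ideal (Localization.Away f), ∀ _ : P.IsMaximal, FEt.PurityHolds (Localization.AtPrime P))
    (hA : FEt.PurityHolds A) [IsLocalRing (A ⧸ Ideal.span {f})] :
    FEt.PurityHolds (A ⧸ Ideal.span {f}) := by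
  let J := Ideal.span {f}
  refine ⟨fun W => ?_⟩
  let snd := pullback.snd (FEt.puncturedSpec A).ι (qMap J)
  have hr : Set.range snd = Set.range (FEt.puncturedSpec (A ⧸ J)).ι := by
    rw [IsOpenImmersion.range_pullbackSnd, Scheme.Opens.opensRange_ι, Scheme.Opens.range_ι]
    ext q
    show qMap J q ∈ FEt.puncturedSpec A ↔ q ∈ FEt.puncturedSpec (A ⧸ J)
    refine Iff.trans (mem_puncturedSpec_iff _) (Iff.trans ?_ (mem_puncturedSpec_iff _).symm)
    have hm : (IsLocalRing.maximalIdeal (A ⧸ J)).comap (Ideal.Quotient.mk _) =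
        IsLocalRing.maximalIdeal A := IsLocalRing.eq_maximalIdeal
      (Ideal.comap_isMaximal_of_surjective _ Ideal.Quotient.mk_surjective)
    exact not_congr ⟨fun e => Ideal.comap_injective_of_surjective _ Ideal.Quotient.mk_surjective
      (e.trans hm.symm), fun e => (congrArg (Ideal.comap (Ideal.Quotient.mk _)) e).trans hm⟩
  let j := IsOpenImmersion.isoOfRangeEq snd (FEt.puncturedSpec (A ⧸ J)).ι hr
  have hj : j.hom ≫ (FEt.puncturedSpec (A ⧸ J)).ι = snd := IsOpenImmersion.isoOfRangeEq_hom_fac _ _ _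
  obtain ⟨V, ⟨eV⟩⟩ := exists_extension_hypersurface hf hfz h1 h2 hp ((FEt.restrict j.hom).obj W)
  obtain ⟨Y, ⟨eY⟩⟩ := hA.mem_essImage V
  refine ⟨(FEt.restrict (qMap J)).obj Y, ⟨?_⟩⟩
  let fst := pullback.fst (FEt.puncturedSpec A).ι (qMap J)
  have h4 : (FEt.puncturedSpec (A ⧸ J)).ι ≫ qMap J = (j.inv ≫ fst) ≫ (FEt.puncturedSpec A).ι := by
    rw [← cancel_epi j.hom, ← Category.assoc, hj, Category.assoc, j.hom_inv_id_assoc]
    exact pullback.condition.symm
  exact FEt83.restrictSqIso _ _ _ _ h4 Y ≪≫ (FEt.restrict (j.inv ≫ fst)).mapIso eY ≪≫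
    (FEt83.restrictCompIso j.inv fst).app V ≪≫ (FEt.restrict j.inv).mapIso eV ≪≫
    ((FEt83.restrictCompIso j.inv j.hom).app W).symm ≪≫ FEt83.restrictEqIso j.inv_hom_id _ ≪≫
    FEt83.restrictIdIso _

end Groth.Agent.Pure83
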