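import Groth.Agent.Pure83.FormalBase
import Groth.Agent.Pure83.Sections

/-!
# Covers with isomorphic traces on a formal neighbourhood
-/

universe u

open CategoryTheory Limits AlgebraicGeometry TopologicalSpace Opposite

namespace Groth.Agent.Pure83

variable {A : Type u} [CommRing A] [IsLocalRing A] [IsNoetherianRing A]
  (J : Ideal A)

omit [IsNoetherianRing A] in
theorem IsSectionRing.formallyEtale_away {ι : Type} {g : ι → A} {S : Type u} [CommRing S]
    [Algebra A S] (hS : IsSectionRing A S g) (hg : ∀ i, g i ∈ IsLocalRing.maximalIdeal A) (i : ι) :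
    Algebra.FormallyEtale A (Localization.Away (algebraMap A S (g i))) := by
  let _ := (awayStr A S (g i)).toAlgebra
  have : IsScalarTower A (Localization.Away (g i)) (Localization.Away (algebraMap A S (g i))) :=
    IsScalarTower.of_algebraMap_eq fun a => by
      rw [IsScalarTower.algebraMap_apply A S (Localization.Away (algebraMap A S (g i)))]
      exact ((IsLocalization.map_eq (Q := Localization.Away (algebraMap A S (g i)))
        (S := Localization.Away (g i)) (M := Submonoid.powers (g i)) _ a) :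
          (awayStr A S (g i)) (algebraMap A _ a) = _).symm
  have : Algebra.Etale (Localization.Away (g i)) (Localization.Away (algebraMap A S (g i))) :=
    RingHom.etale_algebraMap.mp (by rw [RingHom.algebraMap_toAlgebra]; exact hS.etale _ (hg i))
  have : Algebra.FormallyEtale A (Localization.Away (g i)) :=
    Algebra.FormallyEtale.of_isLocalization (Submonoid.powers (g i))
  exact Algebra.FormallyEtale.comp A (Localization.Away (g i)) _

/-- The closed subscheme defined by `J`. -/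
noncomputable abbrev qMap : Spec (CommRingCat.of (A ⧸ J)) ⟶ Spec (CommRingCat.of A) :=
  Spec.map (CommRingCat.ofHom (Ideal.Quotient.mk J))

/-- The trace of a cover on the punctured closed subscheme. -/
noncomputable abbrev trCover (V : FEt.Cat (FEt.puncturedSpec A : Scheme.{u})) :
    FEt.Cat (pullback (FEt.puncturedSpec A).ι (qMap J)) :=
  (FEt.restrict (pullback.fst (FEt.puncturedSpec A).ι (qMap J))).obj V

/-- The inclusion of the trace. -/
noncomputable abbrev trIncl (V : FEt.Cat (FEt.puncturedSpec A : Scheme.{u})) :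
    (trCover J V).left ⟶ V.left :=
  pullback.fst V.hom (pullback.fst (FEt.puncturedSpec A).ι (qMap J))

variable {J}
variable {ι : Type} {g : ι → A}
variable {V W : FEt.Cat (FEt.puncturedSpec A : Scheme.{u})}

set_option backward.isDefEq.respectTransparency.types false in
theorem mono_trIncl (V : FEt.Cat (FEt.puncturedSpec A : Scheme.{u})) :
    Mono (trIncl J V ≫ V.left.toSpecΓ) := by
  have := isQuasiAffine_left V
  have : IsClosedImmersion (qMap J) := IsClosedImmersion.spec_of_surjective _ Ideal.Quotient.mk_surjective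
  have : IsClosedImmersion (trIncl J V) := MorphismProperty.pullback_fst (P := @IsClosedImmersion) _ _
    (MorphismProperty.pullback_fst (P := @IsClosedImmersion) _ _ ‹_›)
  exact mono_comp _ _

set_option backward.isDefEq.respectTransparency.types false in
theorem exists_trace_lift (hdepth : (2 : ℕ∞) ≤ LocCoh.depth A A)
    (hg : ∀ i, g i ∈ IsLocalRing.maximalIdeal A) {P : Type u} [CommRing P] [Algebra A P]
    (q : Γ(V.left, ⊤) →ₐ[A] P) (h1 : ∀ r ∈ J, algebraMap A P r = 0)
    (h2 : ∃ i, IsUnit (algebraMap A P (g i))) :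
    ∃ l : Spec (CommRingCat.of P) ⟶ (trCover J V).left,
      l ≫ trIncl J V ≫ V.left.toSpecΓ = Spec.map (CommRingCat.ofHom q.toRingHom) := by
  obtain ⟨i, hi⟩ := h2
  let sP : Spec (CommRingCat.of P) ⟶ Spec (CommRingCat.of A) :=
    Spec.map (CommRingCat.ofHom (algebraMap A P))
  have hr : Set.range sP ⊆ Set.range (FEt.puncturedSpec A).ι := by
    rintro _ ⟨p, rfl⟩
    rw [Scheme.Opens.range_ι]
    refine (mem_puncturedSpec_iff _).mpr fun e => ?_
    exact (p : PrimeSpectrum P).isPrime.ne_top (Ideal.eq_top_of_isUnit_mem _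
      (show algebraMap A P (g i) ∈ (p : PrimeSpectrum P).asIdeal from e.ge (hg i)) hi)
  let lU := IsOpenImmersion.lift (FEt.puncturedSpec A).ι sP hr
  have hlU : lU ≫ (FEt.puncturedSpec A).ι = sP := IsOpenImmersion.lift_fac _ _ _
  have hw : Spec.map (CommRingCat.ofHom q.toRingHom) ≫ Spec.map (CommRingCat.ofHom (secStr V)) =
      lU ≫ (FEt.puncturedSpec A).ι := by
    rw [hlU]
    refine (Spec.map_comp _ _).symm.trans (congrArg Spec.map ?_)
    ext a
    exact q.commutes a
  let lV := (isPullback_sec V hdepth).lift _ lU hw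
  let lQ : Spec (CommRingCat.of P) ⟶ Spec (CommRingCat.of (A ⧸ J)) :=
    Spec.map (CommRingCat.ofHom (Ideal.Quotient.lift _ (algebraMap A P) h1))
  have hlQ : lU ≫ (FEt.puncturedSpec A).ι = lQ ≫ qMap J := by
    rw [hlU]
    refine Eq.trans ?_ (Spec.map_comp _ _)
    exact congrArg Spec.map (by ext a; rfl)
  refine ⟨pullback.lift lV (pullback.lift lU lQ hlQ) ?_, ?_⟩
  · exact ((isPullback_sec V hdepth).lift_snd _ _ _).trans (pullback.lift_fst _ _ _).symm
  · refine (Category.assoc _ _ _).symm.trans ?_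
    exact (congrArg (· ≫ V.left.toSpecΓ) (pullback.lift_fst _ _ _)).trans
      ((isPullback_sec V hdepth).lift_fst _ _ _)

/-- `φ` is the evaluation at `q` of the morphism of traces `θ`. -/
def IsEval (θ : trCover J V ⟶ trCover J W) {P : Type u} [CommRing P] [Algebra A P]
    (q : Γ(V.left, ⊤) →ₐ[A] P) (φ : Γ(W.left, ⊤) →ₐ[A] P) : Prop :=
  ∃ l : Spec (CommRingCat.of P) ⟶ (trCover J V).left,
    l ≫ trIncl J V ≫ V.left.toSpecΓ = Spec.map (CommRingCat.ofHom q.toRingHom) ∧
    l ≫ θ.left ≫ trIncl J W ≫ W.left.toSpecΓ = Spec.map (CommRingCat.ofHom φ.toRingHom)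

namespace IsEval

variable {θ : trCover J V ⟶ trCover J W} {P P' : Type u} [CommRing P] [Algebra A P] [CommRing P']
  [Algebra A P']

theorem unique {q : Γ(V.left, ⊤) →ₐ[A] P} {φ φ' : Γ(W.left, ⊤) →ₐ[A] P}
    (h : IsEval θ q φ) (h' : IsEval θ q φ') : φ = φ' := by
  obtain ⟨l, hl, hφ⟩ := h
  obtain ⟨l', hl', hφ'⟩ := h'
  have := mono_trIncl (J := J) V
  obtain rfl : l = l' := (cancel_mono (trIncl J V ≫ V.left.toSpecΓ)).mp (hl.trans hl'.symm)
  exact AlgHom.ext fun x => congr($(Spec.map_injective (hφ.symm.trans hφ')) x)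

omit [IsNoetherianRing A] in
theorem natural {q : Γ(V.left, ⊤) →ₐ[A] P} {φ : Γ(W.left, ⊤) →ₐ[A] P} (h : IsEval θ q φ)
    (u : P →ₐ[A] P') : IsEval θ (u.comp q) (u.comp φ) := by
  obtain ⟨l, hl, hφ⟩ := h
  refine ⟨Spec.map (CommRingCat.ofHom u.toRingHom) ≫ l, ?_, ?_⟩
  · refine (Category.assoc _ _ _).trans ((congrArg (_ ≫ ·) hl).trans ?_)
    exact (Spec.map_comp _ _).symm.trans (congrArg Spec.map (by ext; rfl))
  · refine (Category.assoc _ _ _).trans ((congrArg (_ ≫ ·) hφ).trans ?_)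
    exact (Spec.map_comp _ _).symm.trans (congrArg Spec.map (by ext; rfl))

set_option backward.isDefEq.respectTransparency.types false in
theorem comp {X : FEt.Cat (FEt.puncturedSpec A : Scheme.{u})} {θ' : trCover J W ⟶ trCover J X}
    {q : Γ(V.left, ⊤) →ₐ[A] P} {φ : Γ(W.left, ⊤) →ₐ[A] P} {χ : Γ(X.left, ⊤) →ₐ[A] P}
    (h : IsEval θ q φ) (h' : IsEval θ' φ χ) : IsEval (θ ≫ θ') q χ := by
  obtain ⟨l, hl, hφ⟩ := h
  obtain ⟨l', hl', hχ⟩ := h'
  have := mono_trIncl (J := J) W
  obtain rfl : l' = l ≫ θ.left :=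
    (cancel_mono (trIncl J W ≫ W.left.toSpecΓ)).mp (hl'.trans (hφ.symm.trans (Category.assoc _ _ _).symm))
  refine ⟨l, hl, ?_⟩
  refine Eq.trans ?_ hχ
  exact (congrArg (fun r => l ≫ r) (Category.assoc θ.left θ'.left (trIncl J X ≫ X.left.toSpecΓ))).trans
    (Category.assoc _ _ _).symm

omit [IsNoetherianRing A] in
theorem id {q : Γ(V.left, ⊤) →ₐ[A] P} {φ : Γ(W.left, ⊤) →ₐ[A] P} (h : IsEval θ q φ) :
    IsEval (𝟙 (trCover J V)) q q :=
  ⟨h.choose, h.choose_spec.1, (congrArg (h.choose ≫ ·) (Category.id_comp _)).trans h.choose_spec.1⟩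

end IsEval

set_option backward.isDefEq.respectTransparency.types false in
theorem exists_isEval (hdepth : (2 : ℕ∞) ≤ LocCoh.depth A A)
    (hg : ∀ i, g i ∈ IsLocalRing.maximalIdeal A) (θ : trCover J V ⟶ trCover J W)
    {P : Type u} [CommRing P] [Algebra A P] (q : Γ(V.left, ⊤) →ₐ[A] P)
    (h1 : ∀ r ∈ J, algebraMap A P r = 0) (h2 : ∃ i, IsUnit (algebraMap A P (g i))) :
    ∃ φ, IsEval θ q φ := by
  obtain ⟨l, hl⟩ := exists_trace_lift hdepth hg q h1 h2
  let φ := (Spec.preimage (l ≫ θ.left ≫ trIncl J W ≫ W.left.toSpecΓ)).hom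
  have hθ : θ.left ≫ trIncl J W ≫ strHom W = trIncl J V ≫ strHom V := by
    have hW : trIncl J W ≫ strHom W = (trCover J W).hom ≫ pullback.fst _ _ ≫ (FEt.puncturedSpec A).ι := by
      refine (Category.assoc _ _ _).symm.trans ?_
      exact (congrArg (· ≫ _) pullback.condition).trans (Category.assoc _ _ _)
    have hV : trIncl J V ≫ strHom V = (trCover J V).hom ≫ pullback.fst _ _ ≫ (FEt.puncturedSpec A).ι := by
      refine (Category.assoc _ _ _).symm.trans ?_
      exact (congrArg (· ≫ _) pullback.condition).trans (Category.assoc _ _ _)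
    rw [hV]
    exact (congrArg (θ.left ≫ ·) hW).trans ((Category.assoc _ _ _).symm.trans
      (congrArg (· ≫ _) (Over.w θ.hom)))
  have hφ : ∀ a : A, φ (algebraMap A Γ(W.left, ⊤) a) = algebraMap A P a := by
    intro a
    have h : CommRingCat.ofHom (secStr W) ≫ Spec.preimage (l ≫ θ.left ≫ trIncl J W ≫ W.left.toSpecΓ) =
        CommRingCat.ofHom (algebraMap A P) := by
      refine Spec.map_injective ((Spec.map_comp _ _).trans
        ((congrArg (· ≫ _) (Spec.map_preimage _)).trans ?_))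
      have e1 : W.left.toSpecΓ ≫ Spec.map (CommRingCat.ofHom (secStr W)) = strHom W :=
        (isPullback_sec W hdepth).w
      have e2 : V.left.toSpecΓ ≫ Spec.map (CommRingCat.ofHom (secStr V)) = strHom V :=
        (isPullback_sec V hdepth).w
      refine Eq.trans (b := l ≫ θ.left ≫ trIncl J W ≫ strHom W) ?_ ?_
      · rw [← e1]; simp only [Category.assoc]
      rw [hθ, ← e2, ← Category.assoc (trIncl J V), ← Category.assoc, hl]
      exact (Spec.map_comp _ _).symm.trans (congrArg Spec.map (by ext b; exact q.commutes b))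
    exact congr($h a)
  exact ⟨⟨φ, hφ⟩, l, hl, (Spec.map_preimage _).symm⟩

set_option backward.isDefEq.respectTransparency.types false in
/-- A morphism of traces lifts to the sections. -/
theorem exists_hom_of_trace [Finite ι] [IsAdicComplete (IsLocalRing.maximalIdeal A) A]
    (hdepth : (2 : ℕ∞) ≤ LocCoh.depth A A) (hg : ∀ i, g i ∈ IsLocalRing.maximalIdeal A)
    (hcov : CoversPunctured g) (F : FormalSys g J) (θ : trCover J V ⟶ trCover J W) :
    ∃ ν : Γ(W.left, ⊤) →ₐ[A] Γ(V.left, ⊤), ∀ i,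
      IsEval θ (toLq J Γ(V.left, ⊤) (g i) 1) ((toLq J Γ(V.left, ⊤) (g i) 1).comp ν) := by
  have := finite_sections hdepth V
  have hS := isSectionRing W g hcov
  have := (isSectionRing W g hcov).formallyEtale_away hg
  choose φ hφ using fun i => exists_isEval hdepth hg θ (toLq J Γ(V.left, ⊤) (g i) 1) lq_zero_one
    ⟨i, isUnit_lq J _ (g i) 1⟩
  obtain ⟨ν, hν⟩ := F.exists_hom ((isSectionRing V g hcov).toLoc hg) φ fun i j => by
    refine ((hφ i).natural (lqRes J _ (dvd_mul_right (g i) (g j)) 1)).unique ?_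
    rw [lqRes_comp_toLq]
    have := (hφ j).natural (lqRes J _ (dvd_mul_left (g j) (g i)) 1)
    rwa [lqRes_comp_toLq] at this
  exact ⟨ν, fun i => (hν i).symm ▸ hφ i⟩

set_option backward.isDefEq.respectTransparency.types false in
/-- Inverse morphisms of traces give inverse maps of sections. -/
theorem comp_eq_id [Finite ι] (hdepth : (2 : ℕ∞) ≤ LocCoh.depth A A)
    (hg : ∀ i, g i ∈ IsLocalRing.maximalIdeal A) (hcov : CoversPunctured g) (F : FormalSys g J)
    {θ : trCover J V ⟶ trCover J W} {θ' : trCover J W ⟶ trCover J V} (hθ : θ ≫ θ' = 𝟙 _)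
    {ν : Γ(W.left, ⊤) →ₐ[A] Γ(V.left, ⊤)} {μ : Γ(V.left, ⊤) →ₐ[A] Γ(W.left, ⊤)}
    (hν : ∀ i, IsEval θ (toLq J Γ(V.left, ⊤) (g i) 1) ((toLq J Γ(V.left, ⊤) (g i) 1).comp ν))
    (hμ : ∀ i, IsEval θ' (toLq J Γ(W.left, ⊤) (g i) 1) ((toLq J Γ(W.left, ⊤) (g i) 1).comp μ)) :
    ν.comp μ = AlgHom.id A _ := by
  have := finite_sections hdepth V
  have hT := isSectionRing V g hcov
  have := (isSectionRing V g hcov).formallyEtale_away hg
  refine F.hom_unique (hT.toLoc hg) fun i => ?_
  let u : Lq J Γ(W.left, ⊤) (g i) 1 →ₐ[A] Lq J Γ(V.left, ⊤) (g i) 1 :=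
    lqLift ((toLq J _ (g i) 1).comp ν) (isUnit_lq J _ (g i) 1) (lq_zero J _)
  have h1 := (hμ i).natural u
  rw [← AlgHom.comp_assoc, lqLift_comp] at h1
  have h2 := (hν i).comp h1
  rw [hθ] at h2
  exact (AlgHom.comp_assoc _ _ _).symm.trans ((h2.unique (hν i).id).trans (AlgHom.comp_id _).symm)

/-- Covers with isomorphic traces have isomorphic sections. -/
theorem nonempty_sections_equiv [Finite ι] [IsAdicComplete (IsLocalRing.maximalIdeal A) A]
    (hdepth : (2 : ℕ∞) ≤ LocCoh.depth A A) (hg : ∀ i, g i ∈ IsLocalRing.maximalIdeal A)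
    (hcov : CoversPunctured g) (F : FormalSys g J) (e : trCover J V ≅ trCover J W) :
    Nonempty (Γ(W.left, ⊤) ≃ₐ[A] Γ(V.left, ⊤)) := by
  obtain ⟨ν, hν⟩ := exists_hom_of_trace hdepth hg hcov F e.hom
  obtain ⟨μ, hμ⟩ := exists_hom_of_trace hdepth hg hcov F e.inv
  exact ⟨AlgEquiv.ofAlgHom ν μ (comp_eq_id hdepth hg hcov F e.hom_inv_id hν hμ)
    (comp_eq_id hdepth hg hcov F e.inv_hom_id hμ hν)⟩

end Groth.Agent.Pure83
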