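import Groth.Agent.Pure83.AlgebraiseScheme
import Groth.Agent.Pure83.FormalScheme
import Groth.Agent.Pure83.FormalApps

/-!
# Extension of covers of the punctured hypersurface to neighbourhoods
-/

universe u

open CategoryTheory Limits AlgebraicGeometry TopologicalSpace Opposite

namespace Groth.Agent.Pure83

set_option backward.isDefEq.respectTransparency.types false in
theorem exists_extension_nbhd {A : Type u} [CommRing A] [IsNoetherianRing A] [IsLocalRing A] {f : A}
    (hf : f ∈ IsLocalRing.maximalIdeal A) [IsPrecomplete (Ideal.span {f}) A] (hfz : f ∈ nonZeroDivisors A)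
    (h1 : Module.Finite A (LocCoh.H (IsLocalRing.maximalIdeal A) 1 (A ⧸ Ideal.span {f})))
    (h2 : Module.Finite A (LocCoh.H (IsLocalRing.maximalIdeal A) 2 (A ⧸ Ideal.span {f})))
    (V₀ : FEt.Cat (pullback (FEt.puncturedSpec A).ι (qMap (Ideal.span {f})))) :
    ∃ (U' : (Spec (CommRingCat.of A)).Opens) (_ : U' ≤ FEt.puncturedSpec A)
      (u' : pullback (FEt.puncturedSpec A).ι (qMap (Ideal.span {f})) ⟶ (U' : Scheme.{u}))
      (_ : u' ≫ U'.ι = pullback.fst (FEt.puncturedSpec A).ι (qMap (Ideal.span {f})) ≫ (FEt.puncturedSpec A).ι)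
      (V' : FEt.Cat (U' : Scheme.{u})), Nonempty ((FEt.restrict u').obj V' ≅ V₀) := by
  have hR : ∀ n, IsLocalRing (Rn f n) := isLocalRing_rn hf
  have : IsLocalRing (A ⧸ Ideal.span {f}) := hR 0
  let p0 : (Spec (CommRingCat.of (A ⧸ Ideal.span {f}))).Opens := FEt.puncturedSpec (Rn f 0)
  have hoi : IsOpenImmersion p0.ι := inferInstance
  let snd := pullback.snd (FEt.puncturedSpec A).ι (qMap (Ideal.span {f}))
  have hr : Set.range snd = Set.range p0.ι := by
    rw [IsOpenImmersion.range_pullbackSnd, Scheme.Opens.opensRange_ι, Scheme.Opens.range_ι]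
    ext q
    show qMap (Ideal.span {f}) q ∈ FEt.puncturedSpec A ↔ q ∈ FEt.puncturedSpec (A ⧸ Ideal.span {f})
    refine Iff.trans (mem_puncturedSpec_iff _) (Iff.trans ?_ (mem_puncturedSpec_iff _).symm)
    have hm : (IsLocalRing.maximalIdeal (A ⧸ Ideal.span {f})).comap (Ideal.Quotient.mk _) =
        IsLocalRing.maximalIdeal A := IsLocalRing.eq_maximalIdeal
      (Ideal.comap_isMaximal_of_surjective _ Ideal.Quotient.mk_surjective)
    exact not_congr ⟨fun e => Ideal.comap_injective_of_surjective _ Ideal.Quotient.mk_surjective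
      (e.trans hm.symm), fun e => (congrArg (Ideal.comap (Ideal.Quotient.mk _)) e).trans hm⟩
  let j : pullback (FEt.puncturedSpec A).ι (qMap (Ideal.span {f})) ≅ Un f 0 :=
    @IsOpenImmersion.isoOfRangeEq _ _ _ snd p0.ι inferInstance hoi hr
  have hj : j.hom ≫ p0.ι = snd :=
    @IsOpenImmersion.isoOfRangeEq_hom_fac _ _ _ snd p0.ι inferInstance hoi hr
  obtain ⟨U', hU', u0, hu0, V', ⟨e⟩⟩ := exists_nbhd_extension ((FEt.restrict j.inv).obj V₀) hfz h1 h2
  refine ⟨U', hU', j.hom ≫ u0, ?_, V', ⟨(FEt83.restrictCompIso j.hom u0).app V' ≪≫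
    (FEt.restrict j.hom).mapIso e ≪≫ ((FEt83.restrictCompIso j.hom j.inv).app _).symm ≪≫
    FEt83.restrictEqIso j.hom_inv_id _ ≪≫ FEt83.restrictIdIso _⟩⟩
  rw [Category.assoc, hu0, pullback.condition]
  exact (Category.assoc _ _ _).symm.trans (congrArg (· ≫ _) hj)

end Groth.Agent.Pure83
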