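import Groth.Agent.Pure83.Algebraise
import Groth.Agent.Pure83.Sections
import Mathlib.AlgebraicGeometry.Morphisms.FlatMono

/-!
# The algebraised cover on a neighbourhood of the punctured hypersurface
-/

universe u

open CategoryTheory Limits AlgebraicGeometry TopologicalSpace Opposite

namespace Groth.Agent.Pure83

set_option linter.unusedSectionVars false

set_option backward.isDefEq.respectTransparency.types false in
/-- An algebra étale at all primes over an open of the base gives an étale morphism over it. -/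
theorem etale_snd_open {A B : Type u} [CommRing A] [CommRing B] [Algebra A B]
    [Algebra.FinitePresentation A B] (U : (Spec (CommRingCat.of A)).Opens)
    (het : ∀ q : PrimeSpectrum B, PrimeSpectrum.comap (algebraMap A B) q ∈ U →
      Algebra.IsEtaleAt A q.asIdeal) :
    Etale (pullback.snd (Spec.map (CommRingCat.ofHom (algebraMap A B))) U.ι) := by
  let q0 := Spec.map (CommRingCat.ofHom (algebraMap A B))
  let I := {c : A // (PrimeSpectrum.basicOpen c : (Spec (CommRingCat.of A)).Opens) ≤ U}
  let X := fun c : I => Spec (CommRingCat.of (Localization.Away (algebraMap A B c.1)))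
  let loc := fun c : I => Spec.map (CommRingCat.ofHom
    (algebraMap B (Localization.Away (algebraMap A B c.1))))
  have hoi : ∀ c, IsOpenImmersion (loc c) := fun c => .of_isLocalization (algebraMap A B c.1)
  have hloc : ∀ c, Set.range (loc c ≫ q0) ⊆ Set.range U.ι := by
    rintro c _ ⟨p, rfl⟩
    rw [Scheme.Opens.range_ι]
    refine c.2 (fun hp => ?_)
    exact (p : PrimeSpectrum (Localization.Away (algebraMap A B c.1))).isPrime.ne_top
      (Ideal.eq_top_of_isUnit_mem _ hp (IsLocalization.Away.algebraMap_isUnit _))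
  let k : ∀ c : I, X c ⟶ pullback q0 U.ι := fun c =>
    pullback.lift (loc c) (IsOpenImmersion.lift U.ι (loc c ≫ q0) (hloc c))
      (IsOpenImmersion.lift_fac _ _ _).symm
  have hk : ∀ c, IsOpenImmersion (k c) := fun c => by
    have : IsOpenImmersion (pullback.fst q0 U.ι) :=
      MorphismProperty.pullback_fst (P := @IsOpenImmersion) _ _ inferInstance
    have : IsOpenImmersion (k c ≫ pullback.fst q0 U.ι) := by
      rw [pullback.lift_fst]; exact hoi c
    exact IsOpenImmersion.of_comp (k c) (pullback.fst q0 U.ι)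
  have hcover : ∀ y : ↥(pullback q0 U.ι), ∃ c z, k c z = y := fun y => by
    have hU : q0 (pullback.fst q0 U.ι y) ∈ U := by
      rw [← Scheme.Hom.comp_apply, pullback.condition]
      exact (pullback.snd q0 U.ι y).2
    obtain ⟨_, ⟨c, rfl⟩, hcy, hcU⟩ := PrimeSpectrum.isTopologicalBasis_basic_opens.exists_subset_of_mem_open
      hU U.isOpen
    obtain ⟨z, hz⟩ : (pullback.fst q0 U.ι y : PrimeSpectrum B) ∈
        Set.range (PrimeSpectrum.comap (algebraMap B (Localization.Away (algebraMap A B c)))) := by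
      rw [PrimeSpectrum.localization_away_comap_range _ (algebraMap A B c)]
      exact hcy
    refine ⟨⟨c, hcU⟩, z, (pullback.fst q0 U.ι).isOpenEmbedding.injective ?_⟩
    rw [← Scheme.Hom.comp_apply, pullback.lift_fst]
    exact hz
  let 𝒰 : (pullback q0 U.ι).OpenCover := Scheme.Cover.mkOfCovers I X k hcover hk
  have hfst : Etale (pullback.fst q0 U.ι ≫ q0) := by
    refine IsZariskiLocalAtSource.of_openCover (P := @Etale) 𝒰 fun c => ?_
    show Etale (k c ≫ pullback.fst q0 U.ι ≫ q0)
    rw [← Category.assoc, pullback.lift_fst, ← Spec.map_comp]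
    refine (HasRingHomProperty.Spec_iff (P := @Etale)).mpr ?_
    have : Algebra.Etale A (Localization.Away (algebraMap A B c.1)) :=
      Algebra.basicOpen_subset_etaleLocus_iff_etale.mp fun p hp => het p (c.2 hp)
    rw [← CommRingCat.ofHom_comp, ← IsScalarTower.algebraMap_eq]
    exact RingHom.etale_algebraMap.mpr this
  rw [pullback.condition] at hfst
  exact Etale.of_comp (pullback.snd q0 U.ι) U.ι

variable {A : Type u} [CommRing A] [IsLocalRing A] [IsNoetherianRing A] {f : A}
  [hR : ∀ n, IsLocalRing (Rn f n)] (Y : FEt.Cat (Un f 0))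

/-- The punctured hypersurface in the spectrum. -/
noncomputable abbrev toSpecA : Un f 0 ⟶ Spec (CommRingCat.of A) :=
  (FEt.puncturedSpec (Rn f 0)).ι ≫ Spec.map (CommRingCat.ofHom (Ideal.Quotient.mk (Jn f 0)))

set_option maxHeartbeats 2000000 in
set_option backward.isDefEq.respectTransparency.types false in
/-- The algebraised cover restricts to the given one. -/
theorem exists_nbhd_extension [IsPrecomplete (Ideal.span {f}) A] (hfz : f ∈ nonZeroDivisors A)
    (h1 : Module.Finite A (LocCoh.H (IsLocalRing.maximalIdeal A) 1 (A ⧸ Ideal.span {f})))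
    (h2 : Module.Finite A (LocCoh.H (IsLocalRing.maximalIdeal A) 2 (A ⧸ Ideal.span {f}))) :
    ∃ (U' : (Spec (CommRingCat.of A)).Opens) (_ : U' ≤ FEt.puncturedSpec A)
      (u0 : Un f 0 ⟶ (U' : Scheme.{u})) (_ : u0 ≫ U'.ι = toSpecA)
      (V' : FEt.Cat (U' : Scheme.{u})), Nonempty ((FEt.restrict u0).obj V' ≅ Y) := by
  classical
  obtain ⟨N, _, _, ρ, hN⟩ := exists_algebraisation Y hfz h1 h2
  have := hN.finite
  have : Algebra.FinitePresentation A N := Algebra.FinitePresentation.of_finiteType.mp inferInstance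
  let Z : Set (PrimeSpectrum A) := PrimeSpectrum.comap (algebraMap A N) '' (Algebra.etaleLocus A N)ᶜ
  have hZ : IsClosed Z := PrimeSpectrum.isClosedMap_comap_of_isIntegral _
    (algebraMap_isIntegral_iff.mpr inferInstance) _ Algebra.isOpen_etaleLocus.isClosed_compl
  let U' : (Spec (CommRingCat.of A)).Opens := FEt.puncturedSpec A ⊓ ⟨Zᶜ, hZ.isOpen_compl⟩
  let q0 : Spec (CommRingCat.of N) ⟶ Spec (CommRingCat.of A) :=
    Spec.map (CommRingCat.ofHom (algebraMap A N))
  have hs : ∀ z : Un f 0, (toSpecA z : PrimeSpectrum A).asIdeal ≠ IsLocalRing.maximalIdeal A ∧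
      f ∈ (toSpecA z : PrimeSpectrum A).asIdeal := fun z => by
    refine ⟨fun e => (mem_puncturedSpec_iff _).mp z.2 ?_, ?_⟩
    · exact Ideal.comap_injective_of_surjective _ Ideal.Quotient.mk_surjective
        (e.trans (maximalIdeal_rn (f := f) 0).2.symm)
    · show Ideal.Quotient.mk (Jn f 0) f ∈ ((FEt.puncturedSpec (Rn f 0)).ι z : PrimeSpectrum (Rn f 0)).asIdeal
      rw [Ideal.Quotient.eq_zero_iff_mem.mpr (show f ∈ Jn f 0 from Ideal.mem_span_singleton_self f)]
      exact zero_mem _
  have hrange : Set.range (toSpecA (f := f)) ⊆ Set.range U'.ι := by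
    rintro _ ⟨z, rfl⟩
    rw [Scheme.Opens.range_ι]
    refine ⟨(mem_puncturedSpec_iff _).mpr (hs z).1, ?_⟩
    rintro ⟨q, hq, hqz⟩
    have e : q.asIdeal.comap (algebraMap A N) = (toSpecA z : PrimeSpectrum A).asIdeal :=
      congrArg PrimeSpectrum.asIdeal hqz
    exact hq (hN.isEtaleAt q (e ▸ (hs z).1) (e.ge (hs z).2))
  let u0 := IsOpenImmersion.lift U'.ι toSpecA hrange
  have hu0 : u0 ≫ U'.ι = toSpecA := IsOpenImmersion.lift_fac _ _ _
  have hfin : IsFinite q0 := (IsFinite.SpecMap_iff _).mpr (RingHom.finite_algebraMap.mpr inferInstance)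
  let V' : FEt.Cat (U' : Scheme.{u}) := MorphismProperty.Over.mk ⊤ (pullback.snd q0 U'.ι)
    ⟨MorphismProperty.pullback_snd (P := @IsFinite) _ _ hfin,
      etale_snd_open U' fun q hq => by_contra fun h => hq.2 ⟨q, h, rfl⟩⟩
  refine ⟨U', inf_le_left, u0, hu0, V', ?_⟩
  -- the comparison
  let W := (FEt.restrict u0).obj V'
  let M0 : Type u := Mn Y 0
  let ψ : Y.left ⟶ Spec (CommRingCat.of N) :=
    Y.left.toSpecΓ ≫ Spec.map (CommRingCat.ofHom ρ.toRingHom)
  have hqa : Y.left.IsQuasiAffine := isQuasiAffine_left Y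
  have hcs : CompactSpace Y.left := compactSpace_left Y
  have : CompactSpace ↥(coverSeq Y 0).left := hcs
  have : (coverSeq Y 0).left.IsQuasiAffine := hqa
  have hψ : ψ ≫ q0 = Y.hom ≫ toSpecA := by
    refine ext_of_isAffine ?_
    ext a
    obtain ⟨a, rfl⟩ : ∃ b, (Scheme.ΓSpecIso (CommRingCat.of A)).inv b = a :=
      ⟨(Scheme.ΓSpecIso (CommRingCat.of A)).hom a,
        congr($((Scheme.ΓSpecIso (CommRingCat.of A)).hom_inv_id) a)⟩
    have e1 := congr($(Scheme.ΓSpecIso_inv_naturality (CommRingCat.ofHom (algebraMap A N))) a)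
    have e2 := congr($(Scheme.ΓSpecIso_inv_naturality (CommRingCat.ofHom ρ.toRingHom)) (algebraMap A N a))
    have e3 := congr($(Scheme.ΓSpecIso_inv_naturality (CommRingCat.ofHom (Ideal.Quotient.mk (Jn f 0)))) a)
    show Y.left.toSpecΓ.appTop ((Spec.map (CommRingCat.ofHom ρ.toRingHom)).appTop
        (q0.appTop ((Scheme.ΓSpecIso (CommRingCat.of A)).inv a))) =
      ((Spec.map (CommRingCat.ofHom (Ideal.Quotient.mk (Jn f 0)))).appTop ≫
        ((strHom Y).appTop)) ((Scheme.ΓSpecIso (CommRingCat.of A)).inv a)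
    refine ((congrArg (fun w => Y.left.toSpecΓ.appTop ((Spec.map (CommRingCat.ofHom ρ.toRingHom)).appTop w)) e1.symm).trans
      ((congrArg Y.left.toSpecΓ.appTop e2.symm).trans ?_)).trans (congrArg (strHom Y).appTop e3)
    rw [Scheme.toSpecΓ_appTop]
    refine Eq.trans ?_ (show algebraMap A M0 a = _ from rfl)
    show (Scheme.ΓSpecIso (CommRingCat.of M0)).hom ((Scheme.ΓSpecIso (CommRingCat.of M0)).inv _) = _
    rw [← ConcreteCategory.comp_apply, Iso.inv_hom_id]
    exact ρ.commutes a
  let e : W.left ≅ pullback q0 (toSpecA (f := f)) :=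
    pullbackLeftPullbackSndIso q0 U'.ι u0 ≪≫ pullback.congrHom rfl hu0
  have he2 : e.hom ≫ pullback.snd q0 toSpecA = W.hom := by
    show (pullbackLeftPullbackSndIso q0 U'.ι u0 ≪≫ pullback.congrHom rfl hu0).hom ≫ _ =
      pullback.snd (pullback.snd q0 U'.ι) u0
    rw [Iso.trans_hom, Category.assoc]
    refine (congrArg (_ ≫ ·) (pullback.lift_snd _ _ _)).trans ?_
    rw [Category.comp_id]
    exact pullbackLeftPullbackSndIso_hom_snd _ _ _
  let l0 : Y.left ⟶ pullback q0 (toSpecA (f := f)) := pullback.lift ψ Y.hom hψ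
  let l : Y.left ⟶ W.left := l0 ≫ e.inv
  have hl : l ≫ W.hom = Y.hom := by
    show (l0 ≫ e.inv) ≫ W.hom = Y.hom
    rw [← he2, Category.assoc, e.inv_hom_id_assoc, pullback.lift_snd]
  have : Etale W.hom := W.prop.2
  have hYe : Etale (l ≫ W.hom) := by rw [hl]; exact Y.prop.2
  have : Etale l := Etale.of_comp l W.hom
  -- monomorphism
  obtain ⟨r, g, hg⟩ : ∃ (r : ℕ) (g : Fin r → A), Ideal.span (Set.range g) = IsLocalRing.maximalIdeal A :=
    Submodule.fg_iff_exists_fin_generating_family.mp (IsNoetherian.noetherian _)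
  have hgm : ∀ i, g i ∈ IsLocalRing.maximalIdeal A := fun i => hg.le (Ideal.subset_span (Set.mem_range_self i))
  have : Mono l := by
    refine ⟨fun {T} a b hab => ?_⟩
    have h1 : a ≫ ψ = b ≫ ψ := by
      have := congrArg (· ≫ e.hom ≫ pullback.fst q0 toSpecA) hab
      simpa only [l, Category.assoc, Iso.inv_hom_id_assoc, l0, pullback.lift_fst] using this
    have h1' : a ≫ Y.hom = b ≫ Y.hom := by rw [← hl, ← Category.assoc, hab, Category.assoc]
    have hρ : ∀ s : N, a.appTop (ρ s) = b.appTop (ρ s) := fun s => by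
      have hψs : ψ.appTop ((Scheme.ΓSpecIso (CommRingCat.of N)).inv s) = ρ s := by
        show Y.left.toSpecΓ.appTop ((Spec.map (CommRingCat.ofHom ρ.toRingHom)).appTop
          ((Scheme.ΓSpecIso (CommRingCat.of N)).inv s)) = _
        have e1 := congr($(Scheme.ΓSpecIso_inv_naturality (CommRingCat.ofHom ρ.toRingHom)) s)
        refine (congrArg Y.left.toSpecΓ.appTop e1.symm).trans ?_
        rw [Scheme.toSpecΓ_appTop]
        exact congr($((Scheme.ΓSpecIso (CommRingCat.of M0)).inv_hom_id) (ρ s))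
      have := congr(($h1).appTop ((Scheme.ΓSpecIso (CommRingCat.of N)).inv s))
      rw [Scheme.Hom.comp_appTop, Scheme.Hom.comp_appTop] at this
      change a.appTop (ψ.appTop _) = b.appTop (ψ.appTop _) at this
      exact ((congrArg a.appTop hψs).symm.trans this).trans (congrArg b.appTop hψs)
    have hA' : ∀ x : A, a.appTop (algebraMap A M0 x) = b.appTop (algebraMap A M0 x) := fun x => by
      simpa using hρ (algebraMap A N x)
    refine (cancel_mono Y.left.toSpecΓ).mp (ext_of_isAffine ?_)
    rw [Scheme.Hom.comp_appTop, Scheme.Hom.comp_appTop, cancel_epi]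
    ext x
    let Wi := fun i => T.basicOpen (a.appTop (algebraMap A M0 (g i)))
    refine T.sheaf.eq_of_locally_eq' Wi ⊤ (fun i => homOfLE le_top) (fun t _ => ?_) _ _ fun i => ?_
    · have hmem : a t ∈ ⨆ i, Y.left.basicOpen (algebraMap (Rn f 0) M0 (Ideal.Quotient.mk (Jn f 0) (g i))) :=
        iSup_basicOpen_eq_top Y _ (coversPunctured_of_span _ (span_image hg 0)) trivial
      obtain ⟨i, hi⟩ := Opens.mem_iSup.mp hmem
      refine Opens.mem_iSup.mpr ⟨i, ?_⟩
      show t ∈ T.basicOpen _
      rw [← Scheme.preimage_basicOpen_top]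
      exact hi
    · obtain ⟨k, s, hs⟩ := hN.locSurj (g i) (hgm i) x
      let res := T.presheaf.map (homOfLE (le_top : Wi i ≤ ⊤)).op
      have hu : IsUnit (res (a.appTop (algebraMap A M0 (g i)))) := RingedSpace.isUnit_res_basicOpen _ _
      refine (hu.pow k).mul_left_cancel ?_
      show res _ ^ k * res (a.appTop x) = res _ ^ k * res (b.appTop x)
      rw [← map_pow, ← map_mul, ← map_mul]
      refine congrArg res ?_
      let G : Γ(Y.left, ⊤) := algebraMap A M0 (g i)
      have e0 : (ρ s : Γ(Y.left, ⊤)) = G ^ k * x := by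
        refine hs.trans ?_
        rw [Algebra.smul_def, map_pow]
        rfl
      have h2 : a.appTop (G ^ k * x) = b.appTop (G ^ k * x) := e0 ▸ hρ s
      rw [map_mul, map_mul, map_pow, map_pow] at h2
      exact h2.trans (congrArg (· ^ k * b.appTop x) (hA' (g i)).symm)
  have : IsOpenImmersion l := IsOpenImmersion.of_flat_of_mono l
  -- surjectivity
  have : Surjective l := by
    refine ⟨fun w => ?_⟩
    let Q : PrimeSpectrum N := (e.hom ≫ pullback.fst q0 toSpecA) w
    have hQ : PrimeSpectrum.comap (algebraMap A N) Q = toSpecA (W.hom w) := by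
      show q0 ((e.hom ≫ pullback.fst q0 toSpecA) w) = _
      rw [← Scheme.Hom.comp_apply, ← he2, Category.assoc, pullback.condition, ← Scheme.Hom.comp_apply,
        Category.assoc]
    have hQ' : Q.asIdeal.comap (algebraMap A N) = (toSpecA (W.hom w) : PrimeSpectrum A).asIdeal :=
      congrArg PrimeSpectrum.asIdeal hQ
    obtain ⟨c, hcm, hcQ⟩ := SetLike.exists_of_lt
      ((IsLocalRing.le_maximalIdeal (Ideal.comap_ne_top (algebraMap A N) Q.isPrime.ne_top)).lt_of_ne
        (hQ' ▸ (hs _).1))
    let C := algebraMap A M0 c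
    obtain ⟨Q', hQ'p, hQ'c⟩ : ∃ Q' : Ideal M0, Q'.IsPrime ∧ Q'.comap ρ.toRingHom = Q.asIdeal := by
      refine (Ideal.comap_map_eq_self_iff_of_isPrime Q.asIdeal).mp (le_antisymm ?_ Ideal.le_comap_map)
      intro n hn
      have key : ∀ x ∈ Q.asIdeal.map ρ.toRingHom, ∃ k, ∃ s ∈ Q.asIdeal, ρ s = c ^ k • x := by
        intro x hx
        induction hx using Submodule.span_induction with
        | mem x hx =>
          obtain ⟨s, hs, rfl⟩ := hx
          exact ⟨0, s, hs, by simp⟩
        | zero => exact ⟨0, 0, zero_mem _, by simp⟩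
        | add x y _ _ hx hy =>
          obtain ⟨k, s, hs, e⟩ := hx
          obtain ⟨k', s', hs', e'⟩ := hy
          refine ⟨k + k', c ^ k' • s + c ^ k • s', add_mem (Submodule.smul_of_tower_mem _ _ hs)
            (Submodule.smul_of_tower_mem _ _ hs'), ?_⟩
          rw [map_add, map_smul, map_smul, e, e', pow_add, smul_add, smul_smul, smul_smul, mul_comm (c ^ k')]
        | smul z x _ hx =>
          obtain ⟨k, s, hs, e⟩ := hx
          obtain ⟨k', s', e'⟩ := hN.locSurj c hcm z
          refine ⟨k' + k, s' * s, Ideal.mul_mem_left _ _ hs, ?_⟩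
          rw [map_mul, e, e', smul_eq_mul, pow_add, smul_mul_smul_comm]
      obtain ⟨k, s, hs', e⟩ := key _ hn
      have h0 : ρ (s - c ^ k • n) = 0 := by rw [map_sub, map_smul, e]; exact sub_self _
      obtain ⟨t, ht⟩ := hN.ker _ h0
      have hfQ : algebraMap A N f ∈ Q.asIdeal := hQ'.ge (hs _).2
      have h3 : s - c ^ k • n ∈ Q.asIdeal := ht ▸ by
        rw [Algebra.smul_def]; exact Ideal.mul_mem_right _ _ hfQ
      have h4 : c ^ k • n ∈ Q.asIdeal := (sub_sub_cancel s (c ^ k • n)) ▸ sub_mem hs' h3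
      rw [Algebra.smul_def, map_pow] at h4
      exact (Q.isPrime.mem_or_mem h4).resolve_left fun h => hcQ (Q.isPrime.mem_of_pow_mem k h)
    have hCQ : C ∉ Q' := fun h => hcQ (hQ'c.le (show ρ (algebraMap A N c) ∈ Q' by rwa [ρ.commutes]))
    let D := Y.left.basicOpen C
    have hD : IsAffineOpen D := by
      have := isAffineOpen_basicOpen Y (c := Ideal.Quotient.mk (Jn f 0) c) ((maximalIdeal_rn (f := f) 0).2.ge hcm)
      exact (congrArg IsAffineOpen (preimage_basicOpen Y _)).mp this
    let res : M0 →+* Γ(Y.left, D) := (Y.left.presheaf.map (homOfLE (le_top : D ≤ ⊤)).op).hom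
    let _ : Algebra M0 Γ(Y.left, D) := res.toAlgebra
    have hloc : IsLocalization.Away C Γ(Y.left, D) :=
      isLocalization_basicOpen_of_qcqs isCompact_univ isQuasiSeparated_univ _
    obtain ⟨z, hz⟩ : (⟨Q', hQ'p⟩ : PrimeSpectrum M0) ∈
        Set.range (PrimeSpectrum.comap (algebraMap M0 Γ(Y.left, D))) := by
      rw [PrimeSpectrum.localization_away_comap_range _ C]
      exact hCQ
    let v : Y.left := hD.fromSpec (z : Spec Γ(Y.left, D))
    have hv : Y.left.toSpecΓ v = (⟨Q', hQ'p⟩ : PrimeSpectrum M0) := by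
      show (hD.fromSpec ≫ Y.left.toSpecΓ) z = _
      rw [IsAffineOpen.fromSpec_toSpecΓ]
      exact hz
    have : IsClosedImmersion (Spec.map (CommRingCat.ofHom (Ideal.Quotient.mk (Jn f 0)))) :=
      IsClosedImmersion.spec_of_surjective _ Ideal.Quotient.mk_surjective
    have himm : IsImmersion (toSpecA (f := f)) := inferInstance
    have : IsImmersion (pullback.fst q0 (toSpecA (f := f))) :=
      MorphismProperty.pullback_fst (P := @IsImmersion) _ _ himm
    refine ⟨v, (e.hom.isOpenEmbedding.injective ((pullback.fst q0 toSpecA).isEmbedding.injective ?_))⟩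
    rw [← Scheme.Hom.comp_apply, ← Scheme.Hom.comp_apply, ← Scheme.Hom.comp_apply]
    show (((l0 ≫ e.inv) ≫ e.hom) ≫ pullback.fst q0 toSpecA) v = Q
    rw [Category.assoc, Category.assoc, e.inv_hom_id_assoc, pullback.lift_fst]
    show Spec.map (CommRingCat.ofHom ρ.toRingHom) (Y.left.toSpecΓ v) = Q
    rw [hv]
    exact PrimeSpectrum.ext hQ'c
  have : IsIso l := (isIso_iff_isOpenImmersion_and_surjective l).mpr ⟨inferInstance, inferInstance⟩
  exact ⟨(MorphismProperty.Over.isoMk (asIso l) hl).symm⟩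

end Groth.Agent.Pure83
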