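import Groth.Agent.Pure83.BaseFinite

/-!
# The duals of the tower over a modification are killed by a power of `f` away from the closed point
-/

universe u

open CategoryTheory AlgebraicGeometry TopologicalSpace Opposite TensorProduct Groth.Agent.LC17

attribute [local instance] HasDerivedCategory.standard

namespace Groth.Agent.Pure83.BaseDual

open BaseTower

set_option linter.unusedSectionVars false

variable {A : Type u} [CommRing A] [IsLocalRing A] [IsNoetherianRing A] {f : A} {ω : Dual.D A}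

theorem annihilator_mod_le (X : Type u) [AddCommGroup X] [Module A X] (n : ℤ) {a : A}
    (ha : ∀ x : X, a • x = 0) : a ∈ gAnn ω (ModuleCat.of A X) n := by
  rw [mem_gAnn]
  intro φ
  rw [← pre_smul_id ω a n φ, show a • 𝟙 (ModuleCat.of A X) = 0 from
    ModuleCat.hom_ext (LinearMap.ext fun x => ha x)]
  show (DerivedCategory.singleFunctor _ 0).map (0 : ModuleCat.of A X ⟶ _) ≫ φ = 0
  rw [Functor.map_zero, Limits.zero_comp]

theorem smul_pre_comp_eq_zero {M N : Type u} [AddCommGroup M] [Module A M] [AddCommGroup N] [Module A N]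
    (n : ℤ) {a : A} (ha : a ∈ gAnn ω (ModuleCat.of A N) n) (g : N →ₗ[A] M) (h : M →ₗ[A] N)
    (φ : GM ω (ModuleCat.of A M) n) : a • pre ω (ModuleCat.ofHom (g ∘ₗ h)) n φ = 0 := by
  rw [ModuleCat.ofHom_comp, ← pre_pre, ← map_smul, (mem_gAnn ω).1 ha, map_zero]

theorem smul_pi_eq_zero {N : Type u} [AddCommGroup N] [Module A N] {d : ℕ} (n : ℤ) {a : A}
    (ha : a ∈ gAnn ω (ModuleCat.of A N) n) : a ∈ gAnn ω (ModuleCat.of A (Fin d → N)) n := by
  classical
  rw [mem_gAnn]
  intro φ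
  let Pr : Fin d → (Fin d → N) →ₗ[A] Fin d → N := fun l =>
    LinearMap.single A (fun _ => N) l ∘ₗ LinearMap.proj l
  have hPr : ∀ l, a • pre ω (ModuleCat.ofHom (Pr l)) n φ = 0 := fun l =>
    smul_pre_comp_eq_zero n ha (LinearMap.single A (fun _ => N) l) (LinearMap.proj l) φ
  let Φ : ((Fin d → N) →ₗ[A] Fin d → N) →+ GM ω (ModuleCat.of A (Fin d → N)) n :=
    AddMonoidHom.mk' (fun l => a • pre ω (ModuleCat.ofHom l) n φ) fun l l' => by
      refine Eq.trans ?_ (smul_add a _ _)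
      refine congrArg (a • ·) ?_
      show (DerivedCategory.singleFunctor _ 0).map (ModuleCat.ofHom l + ModuleCat.ofHom l') ≫ φ = _
      rw [Functor.map_add, Preadditive.add_comp]
      rfl
  have h2 : (∑ l, Pr l) = LinearMap.id := by
    refine LinearMap.ext fun v => ?_
    rw [LinearMap.sum_apply]
    exact Finset.univ_sum_single v
  have h3 : Φ LinearMap.id = 0 := by
    rw [← h2, map_sum]
    exact Finset.sum_eq_zero fun l _ => hPr l
  have h4 : pre ω (ModuleCat.ofHom (LinearMap.id : (Fin d → N) →ₗ[A] Fin d → N)) n φ = φ := by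
    show (DerivedCategory.singleFunctor _ 0).map (𝟙 _) ≫ φ = φ
    rw [CategoryTheory.Functor.map_id, Category.id_comp]
  exact (congrArg (a • ·) h4).symm.trans h3

/-- A power of `f` kills the duals of the ring in degrees `-2` and `-3` along the punctured
hypersurface. -/
theorem exists_pow_gAnn (hc : ModB.DepthCond A f) (hω : Dual.IsDualizing A ω) (hn : Dual.IsNormalized A ω)
    (j : ℤ) (hj : j = -2 ∨ j = -3) : ∃ t : ℕ, ∀ q : Ideal A, q.IsPrime → f ∈ q →
      q ≠ IsLocalRing.maximalIdeal A → ∃ u, u ∉ q ∧ u * f ^ t ∈ gAnn ω (ModuleCat.of A A) j := by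
  obtain ⟨J, hJ⟩ := LC15.DualFaltings.exists_product_split (T' := PrimeSpectrum.zeroLocus ({f} : Set A))
    (PrimeSpectrum.isClosed_zeroLocus _).stableUnderSpecialization (gAnn ω (ModuleCat.of A A) j)
  obtain ⟨t, ht⟩ : f ∈ (LC15.HT.idl J).radical := by
    rw [← PrimeSpectrum.vanishingIdeal_zeroLocus_eq_radical, PrimeSpectrum.mem_vanishingIdeal]
    exact fun r hr => LC15.HT.zeroLocus_idl J hr (Set.mem_singleton f)
  refine ⟨t, fun q hq hfq hqm => hJ (f ^ t) ht ⟨q, hq⟩ fun p hGp hpq => ?_⟩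
  by_contra hp
  have hfp : f ∉ p.asIdeal := fun h => hp (Set.singleton_subset_iff.mpr h)
  have hlt : p.asIdeal < q := lt_of_le_of_ne hpq fun e => hfp (by rw [e]; exact hfq)
  have hd := ModB.two_le_dim_of_lt hlt hqm
  obtain ⟨e, he⟩ := ModB.exists_dim_nat p.asIdeal
  have h3 := hc p.asIdeal inferInstance hfp hd
  obtain ⟨kp, hkp⟩ := LC15.DualKill.exists_deg hω p.asIdeal
  have he' : ringKrullDim (A ⧸ p.asIdeal) = ((e : ℕ∞) : WithBot ℕ∞) := he
  have hk := DR39.Mu.eq_neg_dim hω hn hkp.1 he'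
  obtain ⟨hjk, hdep⟩ := LC15.DualFaltings.depth_le_of_gAnn_le hω A hkp hGp
  rw [he, ← CAlg1.depth_locSelf] at h3
  have h4 : (LocCoh.depth (Localization.AtPrime p.asIdeal) (LocalizedModule p.asIdeal.primeCompl A) : WithBot ℕ∞) +
      (e : WithBot ℕ∞) ≤ ((((kp - j).toNat : ℕ) : ℕ∞) : WithBot ℕ∞) + (e : WithBot ℕ∞) :=
    add_le_add (WithBot.coe_le_coe.mpr hdep) le_rfl
  have h5 := lt_of_lt_of_le h3 h4
  rw [hk] at h5 hjk
  have h6 : (3 : ℕ) < (-(e : ℤ) - j).toNat + e := by
    rw [show (3 : WithBot ℕ∞) = (((3 : ℕ) : ℕ∞) : WithBot ℕ∞) from rfl] at h5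
    exact_mod_cast h5
  omega

/-- A power of `f` kills the duals of the hypersurfaces of a modification along the punctured
hypersurface. -/
theorem exists_pow_gAnn_Bn (B : Type u) [CommRing B] [Algebra A B] (hB : ModB.IsModification A f B)
    (hc : ModB.DepthCond A f) (hω : Dual.IsDualizing A ω) (hn : Dual.IsNormalized A ω) :
    ∃ t : ℕ, ∀ (n : ℕ) (q : Ideal A), q.IsPrime → f ∈ q → q ≠ IsLocalRing.maximalIdeal A →
      ∃ u, u ∉ q ∧ u * f ^ t ∈ gAnn ω (ModuleCat.of A (Bn B f n)) (-2) := by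
  classical
  obtain ⟨k, hk⟩ := hB.ker_kill
  obtain ⟨l, hl⟩ := hB.coker_kill
  obtain ⟨t2, ht2⟩ := exists_pow_gAnn hc hω hn (-2) (Or.inl rfl)
  obtain ⟨t3, ht3⟩ := exists_pow_gAnn hc hω hn (-3) (Or.inr rfl)
  refine ⟨(l + (k + t2)) + (l + (k + t3)), fun n q hq hfq hqm => ?_⟩
  let alg := Algebra.linearMap A B
  have hkB : ∀ j, ∀ t, (∀ q : Ideal A, q.IsPrime → f ∈ q → q ≠ IsLocalRing.maximalIdeal A →
      ∃ u, u ∉ q ∧ u * f ^ t ∈ gAnn ω (ModuleCat.of A A) j) →
      ∃ u, u ∉ q ∧ u * f ^ (l + (k + t)) ∈ gAnn ω (ModuleCat.of A B) j := by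
    intro j t ht
    obtain ⟨u, hu, hut⟩ := ht q hq hfq hqm
    obtain ⟨T, hT⟩ := (IsNoetherian.noetherian (LinearMap.ker alg) : (LinearMap.ker alg).FG)
    choose v hv hvz using fun x : T => hk x.1 (hT.le (Submodule.subset_span x.2)) q hq hfq hqm
    let w := ∏ x : T, v x
    have hw : w ∉ q := fun h => by
      obtain ⟨x, -, hx⟩ := hq.prod_mem_iff.mp h
      exact hv x hx
    have hK : w * f ^ k ∈ gAnn ω (ModuleCat.of A (LinearMap.ker alg)) (j - 1) := by
      refine annihilator_mod_le _ _ fun x => Subtype.ext ?_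
      show (w * f ^ k) • (x : A) = 0
      suffices h : ∀ y ∈ Submodule.span A (T : Set A), (w * f ^ k) • y = 0 from h _ (hT.ge x.2)
      intro y hx
      induction hx using Submodule.span_induction with
      | mem b hb =>
        obtain ⟨c, hc⟩ := Finset.dvd_prod_of_mem v (Finset.mem_univ (⟨b, hb⟩ : T))
        rw [show w = _ from hc, mul_right_comm, mul_comm, mul_smul]
        exact (congrArg (c • ·) (hvz ⟨b, hb⟩)).trans (smul_zero c)
      | zero => rw [smul_zero]
      | add a b _ _ ha hb => rw [smul_add, ha, hb, add_zero]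
      | smul a b _ hb => rw [smul_comm, hb, smul_zero]
    have hR : w * f ^ k * (u * f ^ t) ∈ gAnn ω (ModuleCat.of A (LinearMap.range alg)) j :=
      gAnn_right ω (shortExact_of_exact (LinearMap.ker alg).subtype alg.rangeRestrict
        (Submodule.subtype_injective _) alg.surjective_rangeRestrict
        (fun y => ⟨fun hy => ⟨⟨y, congrArg Subtype.val hy⟩, rfl⟩, by rintro ⟨z, rfl⟩; exact Subtype.ext z.2⟩))
        j (j - 1) (by omega) (Ideal.mul_mem_mul hK hut)
    have hC : f ^ l ∈ gAnn ω (ModuleCat.of A (B ⧸ LinearMap.range alg)) j := by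
      refine annihilator_mod_le _ _ fun z => ?_
      obtain ⟨b, rfl⟩ := Submodule.Quotient.mk_surjective _ z
      obtain ⟨a, ha⟩ := hl b
      rw [← Submodule.Quotient.mk_smul, Submodule.Quotient.mk_eq_zero, ← ha]
      exact ⟨a, rfl⟩
    have hfin := gAnn_mid ω (shortExact_of_exact (LinearMap.range alg).subtype (LinearMap.range alg).mkQ
      (Submodule.subtype_injective _) (Submodule.mkQ_surjective _) (LinearMap.exact_subtype_mkQ _))
      j (Ideal.mul_mem_mul hC hR)
    refine ⟨w * u, fun h => (hq.mem_or_mem h).elim hw hu, ?_⟩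
    rw [show w * u * f ^ (l + (k + t)) = f ^ l * (w * f ^ k * (u * f ^ t)) by ring]
    exact hfin
  obtain ⟨u2, hu2, h2⟩ := hkB (-2) t2 ht2
  obtain ⟨u3, hu3, h3⟩ := hkB (-3) t3 ht3
  let μ : B →ₗ[A] B := f ^ (n + 1) • LinearMap.id
  let π : B →ₗ[A] Bn B f n := (Ideal.Quotient.mkₐ A _).toLinearMap
  have hex : Function.Exact μ π := fun b => by
    show (Ideal.Quotient.mk _ b : Bn B f n) = 0 ↔ _
    rw [Ideal.Quotient.eq_zero_iff_mem, Ideal.mem_span_singleton']
    refine ⟨fun ⟨a, ha⟩ => ⟨a, ?_⟩, fun ⟨a, ha⟩ => ⟨a, ?_⟩⟩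
    · rw [← ha]
      show f ^ (n + 1) • a = _
      rw [Algebra.smul_def, map_pow, mul_comm]
    · rw [← ha]
      show _ = f ^ (n + 1) • a
      rw [Algebra.smul_def, map_pow, mul_comm]
  have hfin := gAnn_right ω (shortExact_of_exact μ π (hB.regular.pow (n + 1)) Ideal.Quotient.mk_surjective hex)
    (-2) (-3) (by norm_num) (Ideal.mul_mem_mul h3 h2)
  refine ⟨u2 * u3, fun h => (hq.mem_or_mem h).elim hu2 hu3, ?_⟩
  rw [show u2 * u3 * f ^ (l + (k + t2) + (l + (k + t3))) =
    u3 * f ^ (l + (k + t3)) * (u2 * f ^ (l + (k + t2))) by ring]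
  exact hfin

variable [hR : ∀ n, IsLocalRing (Rn f n)] (Y0 : FEt.Cat (Un f 0)) {r : ℕ} (g : Fin r → A)
  (B : Type u) [CommRing B] [Algebra A B]

/-- The images in the bottom stage stabilise. -/
theorem exists_stable_stage (hB : ModB.IsModification A f B) (hc : ModB.DepthCond A f)
    (hω : Dual.IsDualizing A ω) (hn : Dual.IsNormalized A ω)
    (hg : Ideal.span (Set.range g) = IsLocalRing.maximalIdeal A) :
    ∃ n₀, ∀ n, n₀ ≤ n →
      DualStab.img (tower Y0 g B hB.regular hg) n₀ ≤ DualStab.img (tower Y0 g B hB.regular hg) n := by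
  have := hB.finite
  have hfin := finite_stage Y0 g B hω hB.regular hg hB.ass
  obtain ⟨t, ht⟩ := exists_pow_gAnn_Bn B hB hc hω hn
  refine DualStab.exists_stable (hfin := hfin) (tower Y0 g B hB.regular hg) hg hω hn t fun n x q hq hqm => ?_
  refine ⟨n, le_rfl, ?_⟩
  by_cases hfq : f ∈ q
  · obtain ⟨i, hi⟩ : ∃ i, g i ∉ q := by
      by_contra hno
      push Not at hno
      exact hqm (le_antisymm (IsLocalRing.le_maximalIdeal hq.ne_top)
        (hg ▸ Ideal.span_le.mpr (by rintro _ ⟨i, rfl⟩; exact hno i)))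
    obtain ⟨u, hu, hut⟩ := ht n q hq hfq hqm
    have := hfin n
    obtain ⟨d, k, β, α, hαβ⟩ := BaseTower.exists_factor Y0 g B hg n i (Gn Y0 g B n) LinearMap.id
    refine ⟨u * g i ^ k, fun h => (hq.mem_or_mem h).elim hu fun h' => hi (hq.mem_of_pow_mem k h'), ?_⟩
    have hid : DualStab.tr (p := fun n => (pG Y0 g B n).toLinearMap) ω n n le_rfl x = x := by
      show pre ω (ModuleCat.ofHom (DualStab.pcn (fun n => (pG Y0 g B n).toLinearMap) (le_refl n))) (-2) x = x
      rw [DualStab.pcn_self]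
      refine Eq.trans ?_ (one_smul A x)
      refine Eq.trans ?_ (pre_smul_id ω (1 : A) (-2) x)
      rw [one_smul]; rfl
    have hk : g i ^ k • x = pre ω (ModuleCat.ofHom β) (-2) (pre ω (ModuleCat.ofHom α) (-2) x) := by
      refine (pre_smul_id ω (g i ^ k) (-2) x).symm.trans
        ((congrArg (fun φ => pre ω φ (-2) x) ?_).trans (pre_pre ω _ _ (-2) x).symm)
      exact ModuleCat.hom_ext (LinearMap.ext fun y => (hαβ y).symm)
    have h0 := (mem_gAnn ω).1 (smul_pi_eq_zero (d := d) (-2) hut) (pre ω (ModuleCat.ofHom α) (-2) x)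
    rw [hid, smul_smul, mul_right_comm, mul_smul, hk, ← map_smul]
    exact (congrArg _ h0).trans (map_zero _)
  · refine ⟨f ^ (n + 1), fun h => hfq (hq.mem_of_pow_mem _ h), ?_⟩
    rw [← map_smul, ← map_smul, ← pre_smul_id ω (f ^ (n + 1)) (-2) (f ^ t • x),
      show f ^ (n + 1) • 𝟙 (ModuleCat.of A (Gn Y0 g B n)) = 0 from
        ModuleCat.hom_ext (LinearMap.ext fun y => (tower Y0 g B hB.regular hg).kill n y)]
    refine (congrArg _ ?_).trans (map_zero _)
    show (DerivedCategory.singleFunctor _ 0).map (0 : ModuleCat.of A (Gn Y0 g B n) ⟶ _) ≫ _ = 0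
    rw [Functor.map_zero, Limits.zero_comp]

end Groth.Agent.Pure83.BaseDual
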