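import Groth.Agent.Pure83.BaseTower
import Groth.Agent.Pure83.DualLift

/-!
# Finiteness and duals of the tower over a modification
-/

universe u

open CategoryTheory AlgebraicGeometry TopologicalSpace Opposite TensorProduct

attribute [local instance] HasDerivedCategory.standard

namespace Groth.Agent.Pure83.BaseTower

open GlueRing

set_option linter.unusedSectionVars false

variable {A : Type u} [CommRing A] [IsLocalRing A] [IsNoetherianRing A] {f : A}
  [hR : ∀ n, IsLocalRing (Rn f n)] (Y0 : FEt.Cat (Un f 0)) {r : ℕ} (g : Fin r → A)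
  (B : Type u) [CommRing B] [Algebra A B]

theorem exists_uniform {X : Type u} [AddCommGroup X] [Module A X] [Module.Finite A X] {Y : Type u}
    [AddCommGroup Y] [Module A Y] (D : X →ₗ[A] Y) (c : A) (h : ∀ x, ∃ k : ℕ, c ^ k • D x = 0) :
    ∃ k : ℕ, ∀ x, c ^ k • D x = 0 := by
  classical
  obtain ⟨T, hT⟩ := (Module.Finite.fg_top : (⊤ : Submodule A X).FG)
  choose k hk using h
  refine ⟨T.sup k, fun x => ?_⟩
  induction (hT.ge trivial : x ∈ Submodule.span A (T : Set X)) using Submodule.span_induction with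
  | mem z hz =>
    obtain ⟨e, he⟩ := Nat.exists_eq_add_of_le (Finset.le_sup (f := k) hz)
    rw [he, pow_add, mul_comm, mul_smul, hk, smul_zero]
  | zero => rw [map_zero, smul_zero]
  | add a b _ _ ha hb => rw [map_add, smul_add, ha, hb, add_zero]
  | smul a z _ hz => rw [map_smul, smul_comm, hz, smul_zero]

/-- Multiplication by a power of `g i` on a finite module over the tower factors through a free
module over the thickening of the modification. -/
theorem exists_factor [Module.Finite A B] (hg : Ideal.span (Set.range g) = IsLocalRing.maximalIdeal A)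
    (n : ℕ) (i : Fin r) (X : Type u) [AddCommGroup X] [Module A X] [Module.Finite A X]
    (ψ : X →ₗ[A] Gn Y0 g B n) :
    ∃ (d k : ℕ) (β : X →ₗ[A] (Fin d → Bn B f n)) (α : (Fin d → Bn B f n) →ₗ[A] Gn Y0 g B n),
      ∀ x, α (β x) = g i ^ k • ψ x := by
  classical
  obtain ⟨d, E, γ, φ, hγ⟩ := coord Y0 g B hg n i
  choose kE sE hsE using fun j => exists_num g (Sn Y0 B n) i (E j)
  obtain ⟨K, hK⟩ := Finite.exists_le kE
  let e : Fin d → Sn Y0 B n := fun j => g i ^ (K - kE j) • sE j
  have he : ∀ j, algebraMap (Sn Y0 B n) (Piece g (Sn Y0 B n) i) (e j) = g i ^ K • E j := fun j => by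
    show IsScalarTower.toAlgHom A (Sn Y0 B n) (Piece g (Sn Y0 B n) i) (g i ^ (K - kE j) • sE j) = _
    rw [map_smul, IsScalarTower.coe_toAlgHom', hsE, smul_smul, ← pow_add, Nat.sub_add_cancel (hK j)]
  let α : (Fin d → Bn B f n) →ₗ[A] Gn Y0 g B n :=
    ∑ j, (LinearMap.mulRight A (toGlue g _ (e j))) ∘ₗ ((toGlue g _).comp φ).toLinearMap ∘ₗ LinearMap.proj j
  let F : (Fin d → Bn B f n) →ₗ[A] (Fin d → Piece g (Bn B f n) i) :=
    LinearMap.pi fun j =>
      (IsScalarTower.toAlgHom A (Bn B f n) (Piece g (Bn B f n) i)).toLinearMap ∘ₗ LinearMap.proj j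
  have h0 : IsLocalizedModule (Submonoid.powers (g i))
      (IsScalarTower.toAlgHom A (Bn B f n) (Piece g (Bn B f n) i)).toLinearMap :=
    isLocalizedModule_away (M := Bn B f n) (g i)
  have hF : IsLocalizedModule (Submonoid.powers (g i)) F :=
    IsLocalizedModule.pi (Submonoid.powers (g i)) fun _ : Fin d =>
      (IsScalarTower.toAlgHom A (Bn B f n) (Piece g (Bn B f n) i)).toLinearMap
  let comp : Gn Y0 g B n →ₗ[A] Piece g (Sn Y0 B n) i :=
    ((Pi.evalAlgHom A (fun i => Piece g (Sn Y0 B n) i) i).comp (glueSub g (Sn Y0 B n)).val).toLinearMap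
  have := Module.finitePresentation_of_finite A X
  obtain ⟨β, ⟨_, l, rfl⟩, hβ⟩ :=
    Module.FinitePresentation.exists_lift_of_isLocalizedModule (Submonoid.powers (g i)) F (γ ∘ₗ comp ∘ₗ ψ)
  have hβ' : ∀ x j, algebraMap (Bn B f n) (Piece g (Bn B f n) i) (β x j) = g i ^ l • γ (comp (ψ x)) j :=
    fun x j => congrFun (LinearMap.congr_fun hβ x) j
  let D : X →ₗ[A] Gn Y0 g B n := α ∘ₗ β - g i ^ (K + l) • ψ
  obtain ⟨m, hm⟩ := exists_uniform D (g i) fun x => exists_pow_of_component g (D x) i (by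
    show comp (α (β x) - g i ^ (K + l) • ψ x) = 0
    rw [map_sub, sub_eq_zero, map_smul, LinearMap.sum_apply, map_sum]
    conv_rhs => rw [← hγ (comp (ψ x)), Finset.smul_sum]
    refine Finset.sum_congr rfl fun j _ => ?_
    show algebraMap (Sn Y0 B n) (Piece g (Sn Y0 B n) i) (φ (β x j)) *
      algebraMap (Sn Y0 B n) (Piece g (Sn Y0 B n) i) (e j) = _
    rw [he, ← pieceMap_algebraMap g φ i, hβ', map_smul, smul_mul_smul_comm, ← pow_add, add_comm l K])
  refine ⟨d, m + (K + l), β, g i ^ m • α, fun x => ?_⟩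
  have := hm x
  rw [LinearMap.sub_apply, LinearMap.comp_apply, LinearMap.smul_apply, smul_sub, sub_eq_zero, smul_smul,
    ← pow_add] at this
  exact this

/-- The first local cohomology of the hypersurface in the modification is killed by a power of the
maximal ideal. -/
theorem exists_kill_H1_Bn [Module.Finite A B] {ω : Dual.D A} (hω : Dual.IsDualizing A ω)
    (hass : ∀ q : Ideal A, q.IsPrime → f ∈ q → ringKrullDim (A ⧸ q) ≤ 1 → ∀ y : B,
      (∀ s ∈ q, ∃ w : B, s • y = f • w) → ∃ w : B, y = f • w)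
    (c : A) (hc : c ∈ IsLocalRing.maximalIdeal A) :
    ∃ k : ℕ, ∀ y : LocCoh.H (IsLocalRing.maximalIdeal A) 1 (Bn B f 0), c ^ k • y = 0 := by
  refine FormalLC27.exists_pow_kill ⟨ω, hω⟩ (IsLocalRing.maximalIdeal A) c 1 (Bn B f 0)
    (fun p hp hcp q hq hpq hmq => ?_) 1 le_rfl
  obtain rfl : q = IsLocalRing.maximalIdeal A := le_antisymm (IsLocalRing.le_maximalIdeal hq.ne_top) hmq
  rw [Germ.dimBetween_maximal]
  have hpm : p ≠ IsLocalRing.maximalIdeal A := fun h => hcp (h ▸ hc)
  obtain ⟨e, he⟩ := ModB.exists_dim_nat p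
  have he1 := Germ.one_le_dim_quotient p hpm
  rw [he] at he1 ⊢
  have he1' : 1 ≤ e := by exact_mod_cast he1
  by_cases hass' : p ∈ associatedPrimes A (Bn B f 0)
  · have he2 : 2 ≤ e := by
      by_contra hlt
      obtain ⟨-, z, hz⟩ := isAssociatedPrime_iff.mp hass'
      obtain ⟨y, rfl⟩ := Ideal.Quotient.mk_surjective z
      have hmem : ∀ s, s ∈ p → ∃ w : B, s • y = f • w := fun s hs => by
        have h0 := hz.le hs
        rw [Submodule.mem_colon_singleton, Submodule.mem_bot, ← Ideal.Quotient.mkₐ_eq_mk A, ← map_smul,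
          Ideal.Quotient.mkₐ_eq_mk, Ideal.Quotient.eq_zero_iff_mem, pow_one, Ideal.mem_span_singleton'] at h0
        obtain ⟨w, hw⟩ := h0
        exact ⟨w, by rw [← hw, Algebra.smul_def, mul_comm]⟩
      have hfp : f ∈ p := hz.ge (by
        rw [Submodule.mem_colon_singleton, Submodule.mem_bot, ← Ideal.Quotient.mkₐ_eq_mk A, ← map_smul,
          Ideal.Quotient.mkₐ_eq_mk, Ideal.Quotient.eq_zero_iff_mem, pow_one, Algebra.smul_def]
        exact Ideal.mul_mem_right _ _ (Ideal.mem_span_singleton_self _))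
      obtain ⟨w, hw⟩ := hass p hp hfp (by rw [he]; exact_mod_cast (show e ≤ 1 by omega)) y hmem
      refine hp.ne_top (hz.trans (eq_top_iff.mpr fun a _ => ?_))
      rw [Submodule.mem_colon_singleton, Submodule.mem_bot, Ideal.Quotient.eq_zero_iff_mem.mpr (by
        rw [pow_one, hw, Algebra.smul_def]; exact Ideal.mul_mem_right _ _ (Ideal.mem_span_singleton_self _)),
        smul_zero]
    exact lt_of_lt_of_le (show (1 : WithBot ℕ∞) < (e : WithBot ℕ∞) by exact_mod_cast (show 1 < e by omega))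
      (le_add_of_nonneg_left (by simp))
  · have h0 := (ZClos93.LocDepth.one_le_depth_iff p (Localization.AtPrime p)
      (LocalizedModule.mkLinearMap p.primeCompl (Bn B f 0))).mpr hass'
    exact lt_of_lt_of_le (show (1 : WithBot ℕ∞) < ((1 : ℕ∞) : WithBot ℕ∞) + ((1 : ℕ) : WithBot ℕ∞) by decide)
      (add_le_add (WithBot.coe_le_coe.mpr h0) (by exact_mod_cast he1'))

theorem smul_H_eq_zero_of_factor (I : Ideal A) (j : ℕ) {M N : Type u} [AddCommGroup M] [Module A M]
    [AddCommGroup N] [Module A N] {d : ℕ} (β : M →ₗ[A] (Fin d → N)) (α : (Fin d → N) →ₗ[A] M) {c : A}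
    (h : LinearMap.lsmul A M c = α ∘ₗ β) {a : A} (ha : ∀ z : LocCoh.H I j N, a • z = 0)
    (y : LocCoh.H I j M) : (a * c) • y = 0 := by
  classical
  rw [mul_smul, ← LC15.Hmap_lsmul I j c y, h, LC15.Hmap_comp, LinearMap.comp_apply, ← map_smul]
  refine (congrArg _ ?_).trans (map_zero _)
  generalize LC15.Hmap I j β y = z
  let Pr : Fin d → (Fin d → N) →ₗ[A] Fin d → N := fun l =>
    LinearMap.single A (fun _ => N) l ∘ₗ LinearMap.proj l
  have h1 : ∀ (s : Finset (Fin d)), a • LC15.Hmap I j (∑ l ∈ s, Pr l) z = 0 := by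
    intro s
    induction s using Finset.induction with
    | empty => rw [Finset.sum_empty, LC15.Hmap_zero, LinearMap.zero_apply, smul_zero]
    | insert l s hl ih =>
      rw [Finset.sum_insert hl, LC15.Hmap_add, LinearMap.add_apply, smul_add, ih, add_zero,
        LC15.Hmap_comp, LinearMap.comp_apply, ← map_smul, ha, map_zero]
  have h2 : (∑ l, Pr l) = LinearMap.id := by
    refine LinearMap.ext fun v => ?_
    rw [LinearMap.sum_apply]
    exact Finset.univ_sum_single v
  have h3 := h1 Finset.univ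
  rwa [h2, LC15.Hmap_id, LinearMap.id_apply] at h3

/-- A module without sections at the closed point containing a lattice with finite first local
cohomology is finite. -/
theorem finite_of_lattice {g : Fin r → A} (hg : Ideal.span (Set.range g) = IsLocalRing.maximalIdeal A)
    {X : Type u} [AddCommGroup X] [Module A X] (hsep : SepMod g X) (P : Submodule A X) [Module.Finite A P]
    (hPk : ∀ x : X, ∃ n, ∀ a ∈ IsLocalRing.maximalIdeal A ^ n, a • x ∈ P)
    (hH1 : Module.Finite A (LocCoh.H (IsLocalRing.maximalIdeal A) 1 P)) : Module.Finite A X := by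
  let I := IsLocalRing.maximalIdeal A
  have hgm : ∀ i, g i ∈ I := fun i => hg.le (Ideal.subset_span (Set.mem_range_self i))
  obtain ⟨e⟩ := LC16.DT.exists_coker_equiv_H1 (R := A) (I := I) (M := P)
  have : Module.Finite A (LocCoh.DT I P ⧸ LinearMap.range (LocCoh.toDT I P)) := Module.Finite.equiv e.symm
  have : Module.Finite A (LocCoh.DT I P) := Module.Finite.of_submodule_quotient (LinearMap.range (LocCoh.toDT I P))
  have hker : LinearMap.ker P.subtype ≤ DRing.torsionSub I P := by
    rw [Submodule.ker_subtype]; exact bot_le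
  have hcoker : LocCoh.IsPowerTorsion I (X ⧸ LinearMap.range P.subtype) := by
    intro z
    obtain ⟨z, rfl⟩ := Submodule.Quotient.mk_surjective _ z
    obtain ⟨n, hn⟩ := hPk z
    refine ⟨n, fun a ha => ?_⟩
    rw [← Submodule.Quotient.mk_smul, Submodule.Quotient.mk_eq_zero, Submodule.range_subtype]
    exact hn a ha
  obtain ⟨Φ, hΦ, -⟩ := LC16.DT.existsUnique_factor P.subtype hker hcoker LinearMap.id
  have hsepP : SepMod g P := fun w hw => Subtype.ext (hsep _ fun i => by
    obtain ⟨k, hk⟩ := hw i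
    exact ⟨k, congrArg Subtype.val hk⟩)
  have hinjT : Function.Injective (LocCoh.toDT I P) := by
    have := hsepP.toDT_injective
    rwa [hg] at this
  refine Module.Finite.of_injective Φ ((injective_iff_map_eq_zero Φ).mpr fun z hz0 => ?_)
  obtain ⟨n, hn⟩ := hPk z
  refine hsep z fun i => ⟨n, ?_⟩
  have hm : g i ^ n ∈ I ^ n := Ideal.pow_mem_pow (hgm i) n
  have h1 : LocCoh.toDT I P ⟨g i ^ n • z, hn _ hm⟩ = 0 := by
    refine (LinearMap.congr_fun hΦ ⟨_, hn _ hm⟩).symm.trans ?_
    show Φ (g i ^ n • z) = 0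
    rw [map_smul, hz0, smul_zero]
  exact congrArg Subtype.val (hinjT (h1.trans (map_zero _).symm))


theorem finite_H1_of_kill {g : Fin r → A} (hg : Ideal.span (Set.range g) = IsLocalRing.maximalIdeal A)
    (P : Type u) [AddCommGroup P] [Module A P] [Module.Finite A P] (k : Fin r → ℕ)
    (hk : ∀ i, ∀ y : LocCoh.H (IsLocalRing.maximalIdeal A) 1 P, g i ^ k i • y = 0) :
    Module.Finite A (LocCoh.H (IsLocalRing.maximalIdeal A) 1 P) := by
  let I := IsLocalRing.maximalIdeal A
  have : Module.Finite A (LocCoh.H I 0 P) := LC15.finite_H_zero I P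
  obtain ⟨k0, hk0⟩ := LC15.exists_pow_smul_H_eq_zero I (i := 0) (M := P)
  obtain ⟨K, hK⟩ := Finite.exists_le k
  obtain ⟨N, hN⟩ := Ideal.exists_pow_le_of_le_radical_of_fg (span_pow_le_radical g K)
    (IsNoetherian.noetherian _)
  rw [hg] at hN
  refine LC15.finite_H_of_annihilated I 1 P (k0 + N) fun j hj a ha y => ?_
  interval_cases j
  · exact hk0 a (Ideal.pow_le_pow_right (Nat.le_add_right _ _) ha) y
  · have hle : Ideal.span (Set.range fun i => g i ^ K) ≤
        LinearMap.ker (LinearMap.toSpanSingleton A (LocCoh.H I 1 P) y) := by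
      rw [Ideal.span_le]
      rintro _ ⟨i, rfl⟩
      show g i ^ K • y = 0
      rw [← Nat.sub_add_cancel (hK i), pow_add, mul_smul, hk, smul_zero]
    exact LinearMap.mem_ker.mp (hle (hN (Ideal.pow_le_pow_right (Nat.le_add_left _ _) ha)))

/-- The zeroth stage is finite. -/
theorem finite_zero [Module.Finite A B] {ω : Dual.D A} (hω : Dual.IsDualizing A ω)
    (hg : Ideal.span (Set.range g) = IsLocalRing.maximalIdeal A)
    (hass : ∀ q : Ideal A, q.IsPrime → f ∈ q → ringKrullDim (A ⧸ q) ≤ 1 → ∀ y : B,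
      (∀ s ∈ q, ∃ w : B, s • y = f • w) → ∃ w : B, y = f • w) :
    Module.Finite A (Gn Y0 g B 0) := by
  classical
  let I := IsLocalRing.maximalIdeal A
  have hgm : ∀ i, g i ∈ I := fun i => hg.le (Ideal.subset_span (Set.mem_range_self i))
  have hmem : ∀ i, Ideal.Quotient.mk (Jn f 0) (g i) ∈ IsLocalRing.maximalIdeal (Rn f 0) := fun i =>
    (span_image (f := f) hg 0).le
      (Ideal.subset_span (Set.mem_range_self (f := fun i => Ideal.Quotient.mk (Jn f 0) (g i)) i))
  choose S hS using (isSectionRing_mn Y0 hg 0).exists_span hmem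
  let Q : Submodule A (Mn Y0 0) := Submodule.span A ((Finset.univ.biUnion S : Finset _) : Set (Mn Y0 0))
  have : Module.Finite A Q := Module.Finite.iff_fg.mpr ⟨_, rfl⟩
  have hQ0 : ∀ i, ∀ z ∈ Submodule.span (Rn f 0) (S i : Set (Mn Y0 0)), z ∈ Q := fun i z hz => by
    induction hz using Submodule.span_induction with
    | mem x hx => exact Submodule.subset_span (Finset.mem_biUnion.mpr ⟨i, Finset.mem_univ i, hx⟩)
    | zero => exact zero_mem _
    | add x y _ _ hx hy => exact add_mem hx hy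
    | smul c x _ hx =>
      obtain ⟨c, rfl⟩ := Ideal.Quotient.mk_surjective c
      exact Q.smul_mem c hx
  have hQ : ∀ (m : Mn Y0 0) i, ∃ k : ℕ, g i ^ k • m ∈ Q := fun m i => by
    obtain ⟨k, hk⟩ := hS i m
    refine ⟨k, ?_⟩
    have : IsScalarTower A (Rn f 0) (Mn Y0 0) := IsScalarTower.of_algebraMap_eq fun _ => rfl
    rw [smul_mn, map_pow]
    exact hQ0 i _ hk
  let π : B ⊗[A] Q →ₗ[A] Gn Y0 g B 0 :=
    (toGlue g (Sn Y0 B 0)).toLinearMap ∘ₗ LinearMap.lTensor B Q.subtype
  let P : Submodule A (Gn Y0 g B 0) := LinearMap.range π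
  have : Module.Finite A P := Module.Finite.range π
  have hstep : ∀ (s : Sn Y0 B 0) i, ∃ k : ℕ, toGlue g (Sn Y0 B 0) (g i ^ k • s) ∈ P := by
    intro s i
    induction s using TensorProduct.induction_on with
    | zero => exact ⟨0, by rw [smul_zero, map_zero]; exact zero_mem _⟩
    | tmul b m =>
      obtain ⟨k, hk⟩ := hQ m i
      exact ⟨k, b ⊗ₜ ⟨_, hk⟩, congrArg (toGlue g (Sn Y0 B 0)) (TensorProduct.tmul_smul _ _ _)⟩
    | add a b ha hb =>
      obtain ⟨k, hk⟩ := ha
      obtain ⟨l, hl⟩ := hb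
      refine ⟨k + l, ?_⟩
      rw [smul_add, map_add]
      refine add_mem ?_ ?_
      · rw [pow_add, mul_comm, mul_smul, map_smul]; exact P.smul_mem _ hk
      · rw [pow_add, mul_smul, map_smul]; exact P.smul_mem _ hl
  have hPi : ∀ (x : Gn Y0 g B 0) i, ∃ k : ℕ, g i ^ k • x ∈ P := fun x i => by
    obtain ⟨k, s, hs⟩ := exists_toGlue g (Sn Y0 B 0) x i
    obtain ⟨l, hl⟩ := hstep s i
    rw [map_smul, hs, smul_smul, ← pow_add] at hl
    exact ⟨l + k, hl⟩
  have hPk : ∀ x : Gn Y0 g B 0, ∃ n, ∀ a ∈ I ^ n, a • x ∈ P := fun x => by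
    choose k hk using hPi x
    obtain ⟨K, hK⟩ := Finite.exists_le k
    obtain ⟨N, hN⟩ := Ideal.exists_pow_le_of_le_radical_of_fg (span_pow_le_radical g K)
      (IsNoetherian.noetherian _)
    have hJ : Ideal.span (Set.range fun i => g i ^ K) ≤ P.comap (LinearMap.toSpanSingleton A _ x) := by
      rw [Ideal.span_le]
      rintro _ ⟨i, rfl⟩
      show g i ^ K • x ∈ P
      rw [← Nat.sub_add_cancel (hK i), pow_add, mul_smul]
      exact P.smul_mem _ (hk i)
    exact ⟨N, fun a ha => hJ (hN (hg ▸ ha))⟩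
  -- the first cohomology of the lattice
  choose kB hkB using fun i => exists_kill_H1_Bn B hω hass (g i) (hgm i)
  have hH1i : ∀ i, ∃ k : ℕ, ∀ y : LocCoh.H I 1 P, g i ^ k • y = 0 := fun i => by
    obtain ⟨d, k, β, α, hαβ⟩ := exists_factor Y0 g B hg 0 i P P.subtype
    obtain ⟨T, hT⟩ := (Module.Finite.fg_top : (⊤ : Submodule A (Fin d → Bn B f 0)).FG)
    choose l hl using fun v => hPi (α v) i
    let L := T.sup l
    have hα : ∀ v, g i ^ L • α v ∈ P := fun v => by
      induction (hT.ge trivial : v ∈ Submodule.span A (T : Set _)) using Submodule.span_induction with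
      | mem z hz =>
        obtain ⟨e, he⟩ := Nat.exists_eq_add_of_le (Finset.le_sup (f := l) hz)
        rw [show L = _ from he, pow_add, mul_comm, mul_smul]
        exact P.smul_mem _ (hl z)
      | zero => rw [map_zero, smul_zero]; exact zero_mem _
      | add a b _ _ ha hb => rw [map_add, smul_add]; exact add_mem ha hb
      | smul a z _ hz => rw [map_smul, smul_comm]; exact P.smul_mem _ hz
    let α' : (Fin d → Bn B f 0) →ₗ[A] P := LinearMap.codRestrict P (g i ^ L • α) hα
    refine ⟨kB i + (L + k), fun y => ?_⟩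
    have hcomp : LinearMap.lsmul A P (g i ^ (L + k)) = α' ∘ₗ β := LinearMap.ext fun x => Subtype.ext (by
      show g i ^ (L + k) • (x : Gn Y0 g B 0) = g i ^ L • α (β x)
      rw [hαβ, smul_smul, ← pow_add]
      rfl)
    rw [pow_add]
    exact smul_H_eq_zero_of_factor I 1 β α' hcomp (hkB i) y
  choose k1 hk1 using hH1i
  have hH1 : Module.Finite A (LocCoh.H I 1 P) := finite_H1_of_kill hg P k1 hk1
  exact finite_of_lattice (X := Gn Y0 g B 0) hg (sepMod g (Sn Y0 B 0)) P hPk hH1

/-- All stages are finite. -/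
theorem finite_stage [Module.Finite A B] {ω : Dual.D A} (hω : Dual.IsDualizing A ω) (hB : IsSMulRegular B f)
    (hg : Ideal.span (Set.range g) = IsLocalRing.maximalIdeal A)
    (hass : ∀ q : Ideal A, q.IsPrime → f ∈ q → ringKrullDim (A ⧸ q) ≤ 1 → ∀ y : B,
      (∀ s ∈ q, ∃ w : B, s • y = f • w) → ∃ w : B, y = f • w) (n : ℕ) :
    Module.Finite A (Gn Y0 g B n) := by
  have h := tower Y0 g B hB hg
  have := finite_zero Y0 g B hω hg hass
  induction n with
  | zero => assumption
  | succ n ih =>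
    let p : Gn Y0 g B (n + 1) →ₗ[A] Gn Y0 g B n := (pG Y0 g B n).toLinearMap
    have : IsNoetherian A (LinearMap.range (h.muc (Nat.zero_le (n + 1)))) := isNoetherian_range _
    have hle : LinearMap.ker p ≤ LinearMap.range (h.muc (Nat.zero_le (n + 1))) := fun y hy => by
      obtain ⟨x, hx⟩ := h.exists_muc_eq (Nat.zero_le (n + 1)) y (by
        rw [zero_add, pow_one]; exact h.eq_smul_of_p_zero hy)
      exact ⟨x, hx⟩
    have := isNoetherian_of_le hle
    have : Module.Finite A (Gn Y0 g B (n + 1) ⧸ LinearMap.ker p) :=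
      Module.Finite.equiv p.quotKerEquivRange.symm
    exact Module.Finite.of_submodule_quotient (LinearMap.ker p)

end Groth.Agent.Pure83.BaseTower
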