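import Groth.Agent.Pure83.GermDualH
import Groth.Agent.LC15.DualFaltings
import Groth.Agent.LC17.Adjacent
import Groth.Agent.ZClos93.LocDepth
import Groth.Agent.EGA4Alg4.CMMod

/-!
# A finite modification without associated points on the punctured hypersurface
-/

universe u

open CategoryTheory
attribute [local instance] HasDerivedCategory.standard

namespace Groth.Agent.Pure83.ModB

set_option linter.unusedSectionVars false

variable (A : Type u) [CommRing A] [IsLocalRing A] [IsNoetherianRing A] (f : A)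

/-- The depth condition. -/
def DepthCond : Prop :=
  ∀ p : Ideal A, ∀ _ : p.IsPrime, f ∉ p → (2 : WithBot ℕ∞) ≤ ringKrullDim (A ⧸ p) →
    (3 : WithBot ℕ∞) < (LocCoh.depth (Localization.AtPrime p) (Localization.AtPrime p) : WithBot ℕ∞) +
      ringKrullDim (A ⧸ p)

/-- A finite modification of `A`, an isomorphism up to powers of `f`, in which `f` is regular and the
hypersurface has no associated points of dimension one. -/
structure IsModification (B : Type u) [CommRing B] [Algebra A B] : Prop where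
  finite : Module.Finite A B
  regular : IsSMulRegular B f
  ker_kill : ∃ k : ℕ, ∀ x : A, algebraMap A B x = 0 → ∀ q : Ideal A, q.IsPrime → f ∈ q →
    q ≠ IsLocalRing.maximalIdeal A → ∃ u, u ∉ q ∧ u * f ^ k * x = 0
  coker_kill : ∃ k : ℕ, ∀ b : B, ∃ a : A, algebraMap A B a = f ^ k • b
  ass : ∀ q : Ideal A, q.IsPrime → f ∈ q → ringKrullDim (A ⧸ q) ≤ 1 → ∀ y : B,
    (∀ s ∈ q, ∃ w : B, s • y = f • w) → ∃ w : B, y = f • w

variable {A f}

theorem exists_dim_nat (p : Ideal A) [p.IsPrime] : ∃ d : ℕ, ringKrullDim (A ⧸ p) = d :=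
  CAlg4.CatDimFun.exists_dim (A := A) ⟨p, inferInstance⟩

theorem two_le_dim_of_lt {p q : Ideal A} [p.IsPrime] [q.IsPrime] (hpq : p < q)
    (hq : q ≠ IsLocalRing.maximalIdeal A) : (2 : WithBot ℕ∞) ≤ ringKrullDim (A ⧸ p) := by
  obtain ⟨d, hd⟩ := exists_dim_nat p
  obtain ⟨e, he⟩ := exists_dim_nat q
  have h1 := Germ.one_le_dim_quotient q hq
  have h2 := EGA4Alg4.ringKrullDim_quotient_lt hpq
  rw [hd, he] at h2
  rw [he] at h1
  rw [hd]
  have : e < d := by exact_mod_cast h2
  have : 1 ≤ e := by exact_mod_cast h1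
  exact_mod_cast (show 2 ≤ d by omega)

theorem radical_ne_of_two_le_dim (hf : f ∈ IsLocalRing.maximalIdeal A) (p : Ideal A) [p.IsPrime]
    (hdim : (2 : WithBot ℕ∞) ≤ ringKrullDim (A ⧸ p)) :
    (p ⊔ Ideal.span {f}).radical ≠ IsLocalRing.maximalIdeal A := by
  intro he
  have : Nontrivial (A ⧸ p) := Ideal.Quotient.nontrivial_iff.mpr ‹p.IsPrime›.ne_top
  have := IsLocalRing.of_surjective' (Ideal.Quotient.mk p) Ideal.Quotient.mk_surjective
  have hmin : IsLocalRing.maximalIdeal (A ⧸ p) ∈ (Ideal.span {Ideal.Quotient.mk p f}).minimalPrimes := by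
    refine ⟨⟨(IsLocalRing.maximalIdeal.isMaximal _).isPrime, ?_⟩, fun Q hQ hQm => ?_⟩
    · rw [Ideal.span_singleton_le_iff_mem, ← IsLocalRing.map_maximalIdeal_of_surjective (f := Ideal.Quotient.mk p)
        Ideal.Quotient.mk_surjective]
      exact Ideal.mem_map_of_mem _ hf
    · have := hQ.1
      have h1 : (p ⊔ Ideal.span {f}).radical ≤ Q.comap (Ideal.Quotient.mk p) := by
        refine (Ideal.IsPrime.radical_le_iff inferInstance).mpr (sup_le (fun a ha => ?_) ?_)
        · change Ideal.Quotient.mk p a ∈ Q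
          rw [Ideal.Quotient.eq_zero_iff_mem.mpr ha]
          exact Q.zero_mem
        · rw [Ideal.span_singleton_le_iff_mem]
          exact hQ.2 (Ideal.mem_span_singleton_self _)
      rw [he] at h1
      exact (IsLocalRing.map_maximalIdeal_of_surjective (f := Ideal.Quotient.mk p) Ideal.Quotient.mk_surjective).ge.trans (Ideal.map_le_iff_le_comap.mpr h1)
  have hh := Ideal.height_le_one_of_isPrincipal_of_mem_minimalPrimes _ _ hmin
  have h2 : ringKrullDim (A ⧸ p) ≤ ((1 : ℕ∞) : WithBot ℕ∞) := by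
    rw [← IsLocalRing.maximalIdeal_height_eq_ringKrullDim]
    exact WithBot.coe_le_coe.mpr hh
  exact absurd (hdim.trans h2) (by decide)

theorem depthCond_of_radical (hf : f ∈ IsLocalRing.maximalIdeal A)
    (hc : ∀ p : Ideal A, ∀ _ : p.IsPrime, f ∉ p → (p ⊔ Ideal.span {f}).radical ≠ IsLocalRing.maximalIdeal A →
      (3 : WithBot ℕ∞) < (LocCoh.depth (Localization.AtPrime p) (Localization.AtPrime p) : WithBot ℕ∞) +
        ringKrullDim (A ⧸ p)) : DepthCond A f :=
  fun p hp hfp hdim => hc p hp hfp (radical_ne_of_two_le_dim hf p hdim)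

theorem depthCond_of_S2 {ω : Dual.D A} (hω : Dual.IsDualizing A ω)
    (hS : LocCoh.HasSk 2 (Localization.Away f) (Localization.Away f))
    (hdim : ∀ p : Ideal A, p ∈ minimalPrimes A → f ∉ p → (4 : WithBot ℕ∞) ≤ ringKrullDim (A ⧸ p)) :
    DepthCond A f := by
  intro p _ hfp hd2
  obtain ⟨d, hd⟩ := exists_dim_nat p
  rw [hd] at hd2 ⊢
  have hd2' : 2 ≤ d := by exact_mod_cast hd2
  let L := Localization.Away f
  have : IsNoetherianRing L := IsLocalization.isNoetherianRing (Submonoid.powers f) L inferInstance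
  have hdisj : Disjoint (Submonoid.powers f : Set A) p := by
    rw [Set.disjoint_left]
    rintro _ ⟨n, rfl⟩ h
    exact hfp (Ideal.IsPrime.mem_of_pow_mem inferInstance n h)
  let P : Ideal L := p.map (algebraMap A L)
  have : P.IsPrime := IsLocalization.isPrime_of_isPrime_disjoint (Submonoid.powers f) L p inferInstance hdisj
  have hPc : P.comap (algebraMap A L) = p :=
    IsLocalization.comap_map_of_isPrime_disjoint (Submonoid.powers f) L inferInstance hdisj
  have : IsLocalization.AtPrime (Localization.AtPrime P) p := by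
    have := IsLocalization.isLocalization_isLocalization_atPrime_isLocalization (Submonoid.powers f)
      (Localization.AtPrime P) P
    convert! this using 2
    simp only [hPc]
  have hdepth : LocCoh.depth (Localization.AtPrime P) (Localization.AtPrime P) =
      LocCoh.depth (Localization.AtPrime p) (Localization.AtPrime p) :=
    CAlg1.depth_eq_of_ringEquiv (IsLocalization.algEquiv p.primeCompl
      (Localization.AtPrime P) (Localization.AtPrime p)).toRingEquiv
  have hS' := (CAlg1.hasSk_self_iff 2).mp hS P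
  rw [hdepth, ← IsLocalization.height_comap (Submonoid.powers f) P, show P.under A = p from hPc] at hS'
  obtain ⟨h, hh⟩ : ∃ h : ℕ, p.height = h :=
    ⟨_, (ENat.natCast_toNat (Ideal.height_ne_top ‹p.IsPrime›.ne_top)).symm⟩
  rw [hh] at hS'
  generalize LocCoh.depth (Localization.AtPrime p) (Localization.AtPrime p) = D at hS'
  have key : ∀ a b : ℕ, 4 ≤ a + b → (a : ℕ∞) ≤ D → b ≤ d → (3 : WithBot ℕ∞) < (D : WithBot ℕ∞) + d := by
    intro a b hab ha hb
    calc (3 : WithBot ℕ∞) < ((a + b : ℕ) : WithBot ℕ∞) := by exact_mod_cast hab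
      _ = ((a : ℕ∞) : WithBot ℕ∞) + (b : WithBot ℕ∞) := by push_cast; rfl
      _ ≤ _ := add_le_add (WithBot.coe_le_coe.mpr ha) (by exact_mod_cast hb)
  rcases lt_or_ge h 2 with hlt | hge
  · obtain ⟨q, hq, hqp⟩ := Ideal.exists_minimalPrimes_le (bot_le (a := p))
    have hqprime : q.IsPrime := hq.1.1
    have hq4 := hdim q hq fun h => hfp (hqp h)
    let q' : PrimeSpectrum A := ⟨q, hqprime⟩
    let p' : PrimeSpectrum A := ⟨p, inferInstance⟩
    rcases eq_or_lt_of_le (show q' ≤ p' from hqp) with e | hlt'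
    · refine key 0 4 le_rfl (by simp) ?_
      have e' : q = p := congrArg PrimeSpectrum.asIdeal e
      subst e'
      rw [hd] at hq4
      exact_mod_cast hq4
    · have hh1 : 1 ≤ h := by
        have : p.height ≠ 0 := fun h0 => hlt'.ne (PrimeSpectrum.ext
          (le_antisymm hqp ((Ideal.height_eq_zero_iff.mp h0).2 hq.1 hqp)))
        rw [hh] at this
        exact Nat.one_le_iff_ne_zero.mpr (fun e => this (by rw [e]; rfl))
      have hh' : h = 1 := by omega
      have hcov : q' ⋖ p' := ⟨hlt', fun r hr1 hr2 => by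
        have h2 : 2 ≤ p.height :=
          calc (2 : ℕ∞) = 0 + 1 + 1 := rfl
            _ ≤ r.asIdeal.height + 1 := add_le_add (by
                refine (add_le_add (zero_le (a := q.height)) le_rfl).trans ?_
                exact Order.add_one_le_of_lt (Ideal.height_strict_mono_of_isPrime (I := q) hr1)) le_rfl
            _ ≤ p.height := Order.add_one_le_of_lt (Ideal.height_strict_mono_of_isPrime (I := r.asIdeal) hr2)
        rw [hh, hh'] at h2
        exact absurd h2 (by decide)⟩
      have h2 := (CAlg4.CatDimFun.dimFun_of_catenary (Germ.isCatenary_of_dualizing hω) q' p' hlt').2 hcov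
      change ringKrullDim (A ⧸ q) = ringKrullDim (A ⧸ p) + 1 at h2
      rw [h2, hd] at hq4
      refine key 1 3 le_rfl ((le_of_eq (by simp [hh'])).trans hS') ?_
      have : 4 ≤ d + 1 := by exact_mod_cast hq4
      omega
  · exact key 2 2 le_rfl ((le_of_eq (by rw [min_eq_left (by exact_mod_cast hge)])).trans hS') hd2'

section Construction

variable (A f)

/-- The associated primes that survive. -/
def good : Set (Ideal A) :=
  {p | p ∈ associatedPrimes A A ∧ f ∉ p ∧ ¬ ringKrullDim (A ⧸ p) ≤ 1}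

/-- The elements vanishing at the surviving associated primes. -/
def kerGood : Ideal A where
  carrier := {x | ∀ p ∈ good A f, ∃ u, u ∉ p ∧ u * x = 0}
  zero_mem' := fun p hp => ⟨1, (Ideal.ne_top_iff_one p).mp hp.1.1.ne_top, by simp⟩
  add_mem' := fun {x y} hx hy p hp => by
    obtain ⟨u, hu, e⟩ := hx p hp
    obtain ⟨v, hv, e'⟩ := hy p hp
    refine ⟨u * v, fun h => (hp.1.1.mem_or_mem h).elim hu hv, ?_⟩
    rw [mul_add, mul_right_comm, e, zero_mul, mul_assoc, e', mul_zero, add_zero]
  smul_mem' := fun c x hx p hp => by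
    obtain ⟨u, hu, e⟩ := hx p hp
    exact ⟨u, hu, by rw [smul_eq_mul, mul_left_comm, e, mul_zero]⟩

variable {A f}

theorem isSMulRegular_quot : IsSMulRegular (A ⧸ kerGood A f) f := by
  refine isSMulRegular_iff_right_eq_zero_of_smul.mpr fun x hx => ?_
  obtain ⟨x, rfl⟩ := Submodule.Quotient.mk_surjective _ x
  rw [← Submodule.Quotient.mk_smul, Submodule.Quotient.mk_eq_zero] at hx
  rw [Submodule.Quotient.mk_eq_zero]
  intro p hp
  obtain ⟨u, hu, e⟩ := hx p hp
  exact ⟨u * f, fun h => (hp.1.1.mem_or_mem h).elim hu hp.2.1, by rw [mul_assoc]; exact e⟩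

theorem mem_assoc_of_mem_assoc_quot {p : Ideal A} (hp : p ∈ associatedPrimes A (A ⧸ kerGood A f)) :
    p ∈ associatedPrimes A A ∧ f ∉ p ∧ (2 : WithBot ℕ∞) ≤ ringKrullDim (A ⧸ p) := by
  obtain ⟨hpp, x, hx⟩ := isAssociatedPrime_iff.mp hp
  obtain ⟨x, rfl⟩ := Submodule.Quotient.mk_surjective _ x
  have hmem : ∀ a, a ∈ p ↔ a * x ∈ kerGood A f := fun a => by
    rw [hx, Submodule.mem_colon_singleton, Submodule.mem_bot, ← Submodule.Quotient.mk_smul,
      Submodule.Quotient.mk_eq_zero, smul_eq_mul]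
  obtain ⟨P, hP, hPx⟩ : ∃ P ∈ good A f, ∀ u, u ∉ P → u * x ≠ 0 := by
    by_contra hno
    push Not at hno
    exact hpp.ne_top ((Ideal.eq_top_iff_one p).mpr ((hmem 1).mpr (by rw [one_mul]; exact hno)))
  have hle : p ≤ P := fun a ha => by
    by_contra haP
    obtain ⟨u, hu, e⟩ := (hmem a).mp ha P hP
    exact hPx (u * a) (fun h => (hP.1.1.mem_or_mem h).elim hu haP) (by rw [mul_assoc]; exact e)
  have := hP.1.1
  have hdimP : (2 : WithBot ℕ∞) ≤ ringKrullDim (A ⧸ P) := by
    obtain ⟨d, hd⟩ := exists_dim_nat P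
    have h := hP.2.2
    rw [hd] at h ⊢
    have : ¬ d ≤ 1 := fun h' => h (by exact_mod_cast h')
    exact_mod_cast (show 2 ≤ d by omega)
  refine ⟨?_, fun h => hP.2.1 (hle h), hdimP.trans ?_⟩
  · classical
    obtain ⟨T, hT⟩ := (IsNoetherian.noetherian p : Submodule.FG p)
    choose v hv e using fun a : T => (hmem a.1).mp (hT.le (Submodule.subset_span a.2)) P hP
    let u := ∏ a : T, v a
    have hu : u ∉ P := fun h => by
      obtain ⟨a, -, ha⟩ := (hP.1.1.prod_mem_iff).mp h
      exact hv a ha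
    refine isAssociatedPrime_iff.mpr ⟨hpp, u * x, le_antisymm (fun a ha => ?_) fun a ha => ?_⟩
    · rw [Submodule.mem_colon_singleton, Submodule.mem_bot, smul_eq_mul]
      have hb : a ∈ Submodule.span A (T : Set A) := hT.ge ha
      clear ha
      induction hb using Submodule.span_induction with
      | mem b hb =>
        obtain ⟨c, hc⟩ := Finset.dvd_prod_of_mem v (Finset.mem_univ (⟨b, hb⟩ : T))
        calc b * (u * x) = c * (v ⟨b, hb⟩ * (b * x)) := by rw [show u = _ from hc]; ring
          _ = 0 := by rw [e ⟨b, hb⟩, mul_zero]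
      | zero => rw [zero_mul]
      | add b c _ _ hb hc => rw [add_mul, hb, hc, add_zero]
      | smul c b _ hb => rw [smul_eq_mul, mul_assoc, hb, mul_zero]
    · rw [Submodule.mem_colon_singleton, Submodule.mem_bot, smul_eq_mul] at ha
      have h0 : a * u ∈ p := (hmem _).mpr (by rw [mul_assoc, ha]; exact (kerGood A f).zero_mem)
      exact (hpp.mem_or_mem h0).resolve_right fun h => hu (hle h)
  · exact ringKrullDim_le_of_surjective (Ideal.Quotient.factor hle) (Ideal.Quotient.factor_surjective hle)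

theorem dim_of_mem_assoc_quot (hc : DepthCond A f) {p : Ideal A}
    (hp : p ∈ associatedPrimes A (A ⧸ kerGood A f)) :
    f ∉ p ∧ (4 : WithBot ℕ∞) ≤ ringKrullDim (A ⧸ p) := by
  obtain ⟨h1, h2, h3⟩ := mem_assoc_of_mem_assoc_quot hp
  have := h1.1
  refine ⟨h2, ?_⟩
  have h0 : LocCoh.depth (Localization.AtPrime p) (Localization.AtPrime p) = 0 :=
    (ZClos93.LocDepth.depth_eq_zero_iff_mem p (Localization.AtPrime p)
      (Algebra.linearMap A (Localization.AtPrime p))).mpr h1
  have h := hc p inferInstance h2 h3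
  obtain ⟨d, hd⟩ := exists_dim_nat p
  rw [h0, hd] at h
  rw [hd]
  have : (3 : WithBot ℕ∞) < d := by simpa using h
  have : 3 < d := by exact_mod_cast this
  exact_mod_cast (show 4 ≤ d by omega)

theorem exists_ker_kill : ∃ k : ℕ, ∀ x ∈ kerGood A f, ∀ q : Ideal A, q.IsPrime → f ∈ q →
    q ≠ IsLocalRing.maximalIdeal A → ∃ u, u ∉ q ∧ u * f ^ k * x = 0 := by
  obtain ⟨k, hk⟩ := monotone_stabilizes_iff_noetherian.mpr (inferInstanceAs (IsNoetherian A A))
    ⟨fun n => LinearMap.ker ((f ^ n) • (LinearMap.id : A →ₗ[A] A)), monotone_nat_of_le_succ fun n z hz => by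
      rw [LinearMap.mem_ker, LinearMap.smul_apply] at hz ⊢
      rw [pow_succ', mul_smul, hz, smul_zero]⟩
  refine ⟨k, fun x hx q hq hfq hqm => ?_⟩
  by_contra hno
  push Not at hno
  let y := f ^ k * x
  let N := Submodule.span A {y}
  obtain ⟨p, hp, hpy, hdis⟩ := LC17.exists_associated_disjoint (M := N) (S := q.primeCompl)
    (y := ⟨y, Submodule.mem_span_singleton_self y⟩)
    fun u hu e => hno u hu (by rw [mul_assoc]; exact congrArg Subtype.val e)
  have := hp.1
  have hpq : p ≤ q := fun a ha => by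
    by_contra haq
    exact Set.disjoint_left.mp hdis ha haq
  by_cases hfp : f ∈ p
  · obtain ⟨-, ⟨z, hzN⟩, hz⟩ := isAssociatedPrime_iff.mp hp
    obtain ⟨c, rfl⟩ := Submodule.mem_span_singleton.mp hzN
    have hz1 : f • c • y = 0 := by
      have := hz.le hfp
      rw [Submodule.mem_colon_singleton, Submodule.mem_bot] at this
      exact congrArg Subtype.val this
    have hmem : c * x ∈ LinearMap.ker ((f ^ (k + 1)) • (LinearMap.id : A →ₗ[A] A)) := by
      rw [LinearMap.mem_ker, LinearMap.smul_apply, LinearMap.id_apply, ← hz1]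
      simp only [y, smul_eq_mul]; ring
    have heq : LinearMap.ker ((f ^ k) • (LinearMap.id : A →ₗ[A] A)) =
      LinearMap.ker ((f ^ (k + 1)) • (LinearMap.id : A →ₗ[A] A)) := hk (k + 1) k.le_succ
    rw [← heq, LinearMap.mem_ker, LinearMap.smul_apply, LinearMap.id_apply] at hmem
    refine hp.1.ne_top (hz.trans (eq_top_iff.mpr fun a _ => ?_))
    rw [Submodule.mem_colon_singleton, Submodule.mem_bot]
    refine Subtype.ext ?_
    show a • c • y = 0
    simp only [y, smul_eq_mul] at hmem ⊢
    linear_combination a * hmem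
  · have hlt : p < q := lt_of_le_of_ne hpq fun e => hfp (e ▸ hfq)
    have hdim := two_le_dim_of_lt hlt hqm
    have hgood : p ∈ good A f := ⟨associatedPrimes.subset_of_injective (f := N.subtype)
      Subtype.val_injective hp, hfp, fun h => absurd (hdim.trans h) (by decide)⟩
    obtain ⟨u, hu, e⟩ := hx p hgood
    refine hu (hpy u (Subtype.ext ?_))
    show u • y = 0
    simp only [y, smul_eq_mul]
    rw [mul_left_comm, e, mul_zero]

variable (A f)

/-- The localization receiving the modification. -/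
abbrev Amb : Type u := Localization.Away (algebraMap A (A ⧸ kerGood A f) f)

/-- The points of the hypersurface of dimension at most one. -/
def smallPts : Set (PrimeSpectrum A) :=
  {q | f ∈ q.asIdeal ∧ ringKrullDim (A ⧸ q.asIdeal) ≤ 1}

theorem dim_anti {p q : Ideal A} (h : p ≤ q) : ringKrullDim (A ⧸ q) ≤ ringKrullDim (A ⧸ p) :=
  ringKrullDim_le_of_surjective (Ideal.Quotient.factor h) (Ideal.Quotient.factor_surjective h)

theorem stable_smallPts : StableUnderSpecialization (smallPts A f) := fun q r hqr hq =>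
  have hle : q.asIdeal ≤ r.asIdeal := (PrimeSpectrum.le_iff_specializes q r).2 hqr
  ⟨hle hq.1, (dim_anti A hle).trans hq.2⟩

/-- The sections away from the points of dimension at most one of the hypersurface. -/
def sat : Subalgebra A (Amb A f) where
  carrier := {x | ∃ I : Ideal A, PrimeSpectrum.zeroLocus (I : Set A) ⊆ smallPts A f ∧
    ∀ s ∈ I, ∃ a : A, algebraMap A (Amb A f) a = s • x}
  mul_mem' := fun {x y} hx hy => by
    obtain ⟨I, hI, hx⟩ := hx
    obtain ⟨J, hJ, hy⟩ := hy
    refine ⟨I * J, by rw [PrimeSpectrum.zeroLocus_mul]; exact Set.union_subset hI hJ, fun s hs => ?_⟩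
    induction hs using Submodule.mul_induction_on' with
    | mem_mul_mem a ha b hb =>
      obtain ⟨a', ea⟩ := hx a ha
      obtain ⟨b', eb⟩ := hy b hb
      exact ⟨a' * b', by rw [map_mul, ea, eb, smul_mul_smul_comm]⟩
    | add a _ b _ ha hb =>
      obtain ⟨a', ea⟩ := ha
      obtain ⟨b', eb⟩ := hb
      exact ⟨a' + b', by rw [map_add, ea, eb, add_smul]⟩
  add_mem' := fun {x y} hx hy => by
    obtain ⟨I, hI, hx⟩ := hx
    obtain ⟨J, hJ, hy⟩ := hy
    refine ⟨I ⊓ J, by rw [PrimeSpectrum.zeroLocus_inf]; exact Set.union_subset hI hJ, fun s hs => ?_⟩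
    obtain ⟨a, ea⟩ := hx s hs.1
    obtain ⟨b, eb⟩ := hy s hs.2
    exact ⟨a + b, by rw [map_add, ea, eb, smul_add]⟩
  algebraMap_mem' a := ⟨⊤, by simp, fun s _ => ⟨s * a, by rw [map_mul, Algebra.smul_def]⟩⟩

variable {A f}

theorem mem_nonZeroDivisors : algebraMap A (A ⧸ kerGood A f) f ∈ nonZeroDivisors (A ⧸ kerGood A f) :=
  mem_nonZeroDivisors_iff_left.mpr fun x hx =>
    isSMulRegular_quot.right_eq_zero_of_smul (by rw [Algebra.smul_def]; exact hx)

theorem injective_amb : Function.Injective (algebraMap (A ⧸ kerGood A f) (Amb A f)) :=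
  IsLocalization.injective (M := Submonoid.powers (algebraMap A (A ⧸ kerGood A f) f)) _
    (Submonoid.powers_le.mpr mem_nonZeroDivisors)

theorem algebraMap_amb_eq_zero {a : A} (ha : algebraMap A (Amb A f) a = 0) : a ∈ kerGood A f := by
  rw [IsScalarTower.algebraMap_apply A (A ⧸ kerGood A f) (Amb A f),
    ← map_zero (algebraMap (A ⧸ kerGood A f) (Amb A f))] at ha
  exact Ideal.Quotient.eq_zero_iff_mem.mp (injective_amb ha)

theorem isUnit_amb : IsUnit (algebraMap A (Amb A f) f) := by
  rw [IsScalarTower.algebraMap_apply A (A ⧸ kerGood A f) (Amb A f)]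
  exact IsLocalization.Away.algebraMap_isUnit _

theorem cond_smallPts (hc : DepthCond A f) {ω : Dual.D A} (hω : Dual.IsDualizing A ω) :
    LC15.DualFaltings.Cond (A ⧸ kerGood A f) (smallPts A f) (PrimeSpectrum.zeroLocus ({f} : Set A)) 1 := by
  intro p q hp hq hpq
  have hfp : f ∉ p.asIdeal := fun h => hp (Set.singleton_subset_iff.mpr h)
  have hlt : p.asIdeal < q.asIdeal := lt_of_le_of_ne hpq fun e => hfp (e.symm ▸ hq.1)
  have h1 := LC17.one_le_htq hlt
  by_cases hass : p.asIdeal ∈ associatedPrimes A (A ⧸ kerGood A f)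
  · obtain ⟨-, h4⟩ := dim_of_mem_assoc_quot hc hass
    by_contra hle
    have hh : LC17.htq p.asIdeal q.asIdeal ≤ 1 := le_trans le_add_self (not_lt.mp hle)
    have hcov : p ⋖ q := ⟨hlt, fun r hr1 hr2 => hr2.ne (PrimeSpectrum.ext
      (LC17.adj_of_htq p.asIdeal q.asIdeal hh r.asIdeal r.2 hr1 hr2.le))⟩
    rw [(CAlg4.CatDimFun.dimFun_of_catenary (Germ.isCatenary_of_dualizing hω) p q hlt).2 hcov] at h4
    obtain ⟨d, hd⟩ := exists_dim_nat q.asIdeal
    have h5 := hq.2
    rw [hd] at h4 h5
    have : 4 ≤ d + 1 := by exact_mod_cast h4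
    have : d ≤ 1 := by exact_mod_cast h5
    omega
  · have h0 := (ZClos93.LocDepth.one_le_depth_iff p.asIdeal (Localization.AtPrime p.asIdeal)
      (LocalizedModule.mkLinearMap p.asIdeal.primeCompl (A ⧸ kerGood A f))).mpr hass
    exact lt_of_lt_of_le (show (1 : ℕ∞) < 1 + 1 by decide) (add_le_add h0 h1)

theorem exists_sat_bound (hc : DepthCond A f) {ω : Dual.D A} (hω : Dual.IsDualizing A ω) :
    ∃ k : ℕ, ∀ x ∈ sat A f, ∃ a : A, algebraMap A (Amb A f) a = f ^ k • x := by
  classical
  obtain ⟨J, hJ⟩ := LC15.DualFaltings.exists_uniform_annihilator hω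
    (T := smallPts A f) (T' := PrimeSpectrum.zeroLocus ({f} : Set A))
    (PrimeSpectrum.isClosed_zeroLocus _).stableUnderSpecialization (cond_smallPts hc hω)
  obtain ⟨k, hk⟩ : f ∈ (LC15.HT.idl J).radical := by
    rw [← PrimeSpectrum.vanishingIdeal_zeroLocus_eq_radical, PrimeSpectrum.mem_vanishingIdeal]
    exact fun r hr => LC15.HT.zeroLocus_idl J hr (Set.mem_singleton f)
  refine ⟨k, fun x hx => ?_⟩
  obtain ⟨I, hI, hxI⟩ := hx
  let Q := A ⧸ kerGood A f
  obtain ⟨⟨a, ⟨_, n, rfl⟩⟩, hn⟩ :=
    IsLocalization.surj (Submonoid.powers (algebraMap A Q f)) x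
  have hn' : f ^ n • x = algebraMap Q (Amb A f) a := by
    rw [← hn, Algebra.smul_def, map_pow, IsScalarTower.algebraMap_apply A Q (Amb A f), mul_comm, map_pow]
  let μ : Q →ₗ[A] Q := f ^ n • LinearMap.id
  have hreg : IsSMulRegular Q f := isSMulRegular_quot (A := A) (f := f)
  have hμ : Function.Injective μ := fun u v e => hreg.pow n e
  let N := Q ⧸ LinearMap.range μ
  let c : N := Submodule.Quotient.mk a
  let φ : (A ⧸ I ^ 1) →ₗ[A] N := Submodule.liftQ _ (LinearMap.toSpanSingleton A N c) fun s hs => by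
    rw [pow_one] at hs
    obtain ⟨b, hb⟩ := hxI s hs
    rw [LinearMap.mem_ker, LinearMap.toSpanSingleton_apply, ← Submodule.Quotient.mk_smul,
      Submodule.Quotient.mk_eq_zero]
    refine ⟨algebraMap A Q b, injective_amb ?_⟩
    show algebraMap Q (Amb A f) (f ^ n • algebraMap A Q b) = algebraMap Q (Amb A f) (s • a)
    rw [Algebra.smul_def, map_mul, ← IsScalarTower.algebraMap_apply, ← IsScalarTower.algebraMap_apply,
      hb, ← Algebra.smul_def, smul_comm, hn', Algebra.smul_def, Algebra.smul_def, map_mul,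
      ← IsScalarTower.algebraMap_apply]
  let y : LocCoh.H I 0 N := LC15.toH I 0 N 1 (Abelian.Ext.mk₀ (ModuleCat.ofHom φ))
  have hy : LC15.h0 I N y = c := by
    rw [LC15.h0_toH]
    exact (Submodule.liftQ_apply _ _ _).trans (one_smul A c)
  have hex : Function.Exact μ (LinearMap.range μ).mkQ := LinearMap.exact_map_mkQ_range μ
  have hsu : Function.Surjective (LinearMap.range μ).mkQ := Submodule.mkQ_surjective _
  have h1 : LC15.Hδ I 0 hμ hex hsu (f ^ k • y) = 0 := by
    rw [map_smul]
    exact hJ (LC15.HT.mkI I hI) 1 le_rfl (f ^ k) hk _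
  obtain ⟨z, hz⟩ := (LC15.H_exact₃ I 0 hμ hex hsu _).1 h1
  have hz0 : LC15.h0 I Q z = 0 := by
    obtain ⟨m, hm⟩ := (LC15.range_h0 I Q).le (LinearMap.mem_range_self (LC15.h0 I Q) z)
    have hfI : f ∈ I.radical := by
      rw [← PrimeSpectrum.vanishingIdeal_zeroLocus_eq_radical, PrimeSpectrum.mem_vanishingIdeal]
      exact fun r hr => (hI hr).1
    obtain ⟨e, he⟩ := hfI
    exact (hreg.pow (e * m)).right_eq_zero_of_smul
      (hm _ (by rw [pow_mul]; exact Ideal.pow_mem_pow he m))
  have h2 : f ^ k • c = 0 := by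
    rw [← hy, ← map_smul, ← hz, LC15.h0_Hmap, hz0, map_zero]
  rw [← Submodule.Quotient.mk_smul, Submodule.Quotient.mk_eq_zero] at h2
  obtain ⟨b, hb⟩ := h2
  obtain ⟨b, rfl⟩ := Ideal.Quotient.mk_surjective b
  refine ⟨b, ((isUnit_amb (A := A) (f := f)).pow n).mul_left_cancel ?_⟩
  have hb' := congrArg (algebraMap Q (Amb A f)) hb
  rw [show μ (Ideal.Quotient.mk _ b) = f ^ n • (algebraMap A Q b) from rfl, Algebra.smul_def,
    Algebra.smul_def (f ^ k) a, map_mul, map_mul, ← IsScalarTower.algebraMap_apply,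
    ← IsScalarTower.algebraMap_apply, ← IsScalarTower.algebraMap_apply, ← hn', map_pow] at hb'
  rw [hb', Algebra.smul_def, Algebra.smul_def, map_pow, map_pow]
  ring

theorem smul_sat_eq {x y : sat A f} (s : A) (h : (x : Amb A f) = s • (y : Amb A f)) : x = s • y :=
  Subtype.ext h

/-- The modification exists. -/
theorem exists_modification (hc : DepthCond A f) {ω : Dual.D A} (hω : Dual.IsDualizing A ω) :
    ∃ (B : Type u) (_ : CommRing B) (_ : Algebra A B), IsModification A f B := by
  classical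
  obtain ⟨k, hk⟩ := exists_sat_bound hc hω
  obtain ⟨e, he⟩ := exists_ker_kill (A := A) (f := f)
  refine ⟨sat A f, inferInstance, inferInstance, ?_, ?_, ⟨e, fun x hx => ?_⟩, ⟨k, fun b => ?_⟩, ?_⟩
  · let L : sat A f →ₗ[A] Amb A f := f ^ k • (sat A f).val.toLinearMap
    have hL : ∀ b, L b ∈ LinearMap.range (Algebra.linearMap A (Amb A f)) := fun b => hk b.1 b.2
    refine Module.Finite.of_injective (L.codRestrict _ hL) fun b b' h => Subtype.ext ?_
    have h' : f ^ k • (b : Amb A f) = f ^ k • (b' : Amb A f) := congrArg Subtype.val h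
    rw [Algebra.smul_def, Algebra.smul_def, map_pow] at h'
    exact ((isUnit_amb (A := A) (f := f)).pow k).mul_left_cancel h'
  · intro b b' h
    have h' : f • (b : Amb A f) = f • (b' : Amb A f) := congrArg Subtype.val h
    rw [Algebra.smul_def, Algebra.smul_def] at h'
    exact Subtype.ext ((isUnit_amb (A := A) (f := f)).mul_left_cancel h')
  · exact he x (algebraMap_amb_eq_zero (congrArg Subtype.val hx))
  · obtain ⟨a, ha⟩ := hk b.1 b.2
    exact ⟨a, Subtype.ext ha⟩
  · intro q hq hfq hdim y hy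
    obtain ⟨T, hT⟩ := (IsNoetherian.noetherian q : Submodule.FG q)
    choose w hw using fun s : T => hy s.1 (hT.le (Submodule.subset_span s.2))
    choose I hI hwI using fun s : T => (w s).2
    let v : Amb A f := (isUnit_amb (A := A) (f := f)).unit⁻¹.1 * (y : Amb A f)
    have hfv : f • v = (y : Amb A f) := by
      rw [Algebra.smul_def, ← mul_assoc, IsUnit.mul_val_inv, one_mul]
    have hv : v ∈ sat A f := by
      refine ⟨(∏ s : T, I s) * q, ?_, fun s hs => ?_⟩
      · rw [PrimeSpectrum.zeroLocus_mul]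
        refine Set.union_subset (fun r hr => ?_) fun r hr => ⟨hr hfq, (dim_anti A hr).trans hdim⟩
        rw [PrimeSpectrum.mem_zeroLocus, SetLike.coe_subset_coe, r.2.prod_le] at hr
        obtain ⟨i, -, hi⟩ := hr
        exact hI i hi
      · induction hs using Submodule.mul_induction_on' with
        | mem_mul_mem a ha b hb =>
          have hb' : b ∈ Submodule.span A (T : Set A) := hT.ge hb
          clear hb
          induction hb' using Submodule.span_induction with
          | mem b hb =>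
            obtain ⟨a', ea⟩ := hwI ⟨b, hb⟩ a ((Ideal.prod_le_inf.trans (Finset.inf_le (Finset.mem_univ _))) ha)
            refine ⟨a', ea.trans ?_⟩
            rw [mul_smul]
            congr 1
            have e2 : b • (y : Amb A f) = f • (w ⟨b, hb⟩ : Amb A f) := congrArg Subtype.val (hw ⟨b, hb⟩)
            rw [← hfv, smul_comm b f v, Algebra.smul_def f, Algebra.smul_def f] at e2
            exact ((isUnit_amb (A := A) (f := f)).mul_left_cancel e2).symm
          | zero => exact ⟨0, by simp⟩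
          | add b c _ _ hb hc =>
            obtain ⟨b', eb⟩ := hb
            obtain ⟨c', ec⟩ := hc
            exact ⟨b' + c', by rw [map_add, eb, ec, mul_add, add_smul]⟩
          | smul c b _ hb =>
            obtain ⟨b', eb⟩ := hb
            exact ⟨c * b', by rw [map_mul, eb, ← Algebra.smul_def, smul_smul, smul_eq_mul, mul_left_comm]⟩
        | add a _ b _ ha hb =>
          obtain ⟨a', ea⟩ := ha
          obtain ⟨b', eb⟩ := hb
          exact ⟨a' + b', by rw [map_add, ea, eb, add_smul]⟩
    exact ⟨⟨v, hv⟩, Subtype.ext hfv.symm⟩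

end Construction

end Groth.Agent.Pure83.ModB
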