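import Groth.Agent.Pure83.GlueRing
import Groth.Agent.Pure83.Algebraise
import Groth.Agent.Pure83.ModB
import Groth.Agent.LC15.LocFree
import Groth.Agent.FormalLC27.Kill

/-!
# The tower of a cover of the punctured hypersurface over a modification of the base
-/

universe u

open CategoryTheory AlgebraicGeometry TopologicalSpace Opposite TensorProduct

attribute [local instance] HasDerivedCategory.standard

namespace Groth.Agent.Pure83.BaseTower

open GlueRing

set_option linter.unusedSectionVars false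

variable {A : Type u} [CommRing A] [IsLocalRing A] [IsNoetherianRing A] {f : A}
  [hR : ∀ n, IsLocalRing (Rn f n)] (Y0 : FEt.Cat (Un f 0)) {r : ℕ} (g : Fin r → A)
  (B : Type u) [CommRing B] [Algebra A B]

/-- The sections over the basic opens, before gluing. -/
abbrev Sn (n : ℕ) : Type u := B ⊗[A] Mn Y0 n

/-- The sections of the pulled back cover. -/
abbrev Gn (n : ℕ) : Type u := glueSub g (Sn Y0 B n)

/-- The transition maps. -/
noncomputable def pG (n : ℕ) : Gn Y0 g B (n + 1) →ₐ[A] Gn Y0 g B n :=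
  glueMap g (Algebra.TensorProduct.map (AlgHom.id A B) (pn Y0 n))

/-- The thickenings of the hypersurface in the modification. -/
abbrev Bn (f : A) (n : ℕ) : Type u := B ⧸ Ideal.span {algebraMap A B f ^ (n + 1)}

theorem pow_smul_mn (n : ℕ) (x : Mn Y0 n) : f ^ (n + 1) • x = 0 := by
  rw [smul_mn, Ideal.Quotient.eq_zero_iff_mem.mpr (Jn_eq f n ▸ Ideal.mem_span_singleton_self _)]
  exact zero_smul _ x

theorem pow_smul_sn (n : ℕ) (x : Sn Y0 B n) : f ^ (n + 1) • x = 0 := by
  induction x using TensorProduct.induction_on with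
  | zero => rw [smul_zero]
  | tmul b m => rw [← TensorProduct.tmul_smul, pow_smul_mn, TensorProduct.tmul_zero]
  | add x y hx hy => rw [smul_add, hx, hy, add_zero]

theorem pow_smul_piece (n : ℕ) (i : Fin r) (z : Piece g (Sn Y0 B n) i) : f ^ (n + 1) • z = 0 := by
  obtain ⟨k, s, hs⟩ := exists_num g (Sn Y0 B n) i z
  refine smul_cancel g (Sn Y0 B n) i k ?_
  rw [smul_comm, ← hs, ← IsScalarTower.coe_toAlgHom' A (Sn Y0 B n) (Piece g (Sn Y0 B n) i), ← map_smul,
    pow_smul_sn, map_zero, smul_zero]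

theorem exists_pow_of_component {S : Type u} [CommRing S] [Algebra A S] (x : glueSub g S) (i : Fin r)
    (h : (x : ∀ i, Piece g S i) i = 0) : ∃ k : ℕ, g i ^ k • x = 0 := by
  obtain ⟨k, s, hs⟩ := exists_toGlue g S x i
  have h0 : algebraMap S (Piece g S i) s = 0 := by
    rw [← toGlue_apply g S s i, hs]
    show g i ^ k • (x : ∀ i, Piece g S i) i = 0
    rw [h, smul_zero]
  obtain ⟨l, hl⟩ := exists_pow_of_eq_zero g S i h0
  exact ⟨l + k, by rw [pow_add, mul_smul, ← hs, ← map_smul, hl, map_zero]⟩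

theorem exists_eq_of_component {S : Type u} [CommRing S] [Algebra A S] (x y : glueSub g S) (i : Fin r)
    (h : (x : ∀ i, Piece g S i) i = (y : ∀ i, Piece g S i) i) : ∃ k : ℕ, g i ^ k • x = g i ^ k • y := by
  obtain ⟨k, hk⟩ := exists_pow_of_component g (x - y) i (sub_eq_zero.mpr h)
  exact ⟨k, sub_eq_zero.mp (by rw [← smul_sub]; exact hk)⟩

theorem lsurj (hg : Ideal.span (Set.range g) = IsLocalRing.maximalIdeal A) (n : ℕ) (x : Gn Y0 g B n)
    (i : Fin r) : ∃ (k : ℕ) (y : Gn Y0 g B (n + 1)), pG Y0 g B n y = g i ^ k • x := by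
  let φ := Algebra.TensorProduct.map (AlgHom.id A B) (pn Y0 n)
  have hmem : Ideal.Quotient.mk (Jn f (n + 1)) (g i) ∈ IsLocalRing.maximalIdeal (Rn f (n + 1)) :=
    (span_image (f := f) hg (n + 1)).le
      (Ideal.subset_span (Set.mem_range_self (f := fun i => Ideal.Quotient.mk (Jn f (n + 1)) (g i)) i))
  have key : ∀ s : Sn Y0 B n, ∃ (l : ℕ) (t : Sn Y0 B (n + 1)), φ t = g i ^ l • s := by
    intro s
    induction s using TensorProduct.induction_on with
    | zero => exact ⟨0, 0, by simp⟩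
    | tmul b m =>
      obtain ⟨k, y, hy⟩ := (isReduction_coverMap Y0 n).loc_surjective _ hmem m
      refine ⟨k, b ⊗ₜ y, ?_⟩
      rw [Algebra.TensorProduct.map_tmul, AlgHom.id_apply, pn_apply, hy, ← TensorProduct.tmul_smul,
        Algebra.smul_def (g i ^ k) m, map_pow]
      rfl
    | add a b ha hb =>
      obtain ⟨l, t, ht⟩ := ha
      obtain ⟨l', t', ht'⟩ := hb
      refine ⟨l + l', g i ^ l' • t + g i ^ l • t', ?_⟩
      rw [map_add, map_smul, map_smul, ht, ht', smul_add, pow_add, mul_smul, mul_smul,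
        smul_comm (g i ^ l') (g i ^ l) a]
  obtain ⟨k, s, hs⟩ := exists_toGlue g (Sn Y0 B n) x i
  obtain ⟨l, t, ht⟩ := key s
  refine ⟨l + k, toGlue g _ t, (glueMap_toGlue g φ t).trans ?_⟩
  rw [ht, map_smul, hs, smul_smul, ← pow_add]

theorem lker (hg : Ideal.span (Set.range g) = IsLocalRing.maximalIdeal A) (n : ℕ)
    (y : Gn Y0 g B (n + 1)) (hy : pG Y0 g B n y = 0) (i : Fin r) :
    ∃ (k : ℕ) (z : Gn Y0 g B (n + 1)), g i ^ k • y = f ^ (n + 1) • z := by
  classical
  let φ := Algebra.TensorProduct.map (AlgHom.id A B) (pn Y0 n)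
  have hmem : Ideal.Quotient.mk (Jn f (n + 1)) (g i) ∈ IsLocalRing.maximalIdeal (Rn f (n + 1)) :=
    (span_image (f := f) hg (n + 1)).le
      (Ideal.subset_span (Set.mem_range_self (f := fun i => Ideal.Quotient.mk (Jn f (n + 1)) (g i)) i))
  let L' := Piece g (Sn Y0 B (n + 1)) i
  let Q := L' ⧸ Ideal.span {algebraMap A L' (f ^ (n + 1))}
  let T' := Piece g (Mn Y0 (n + 1)) i
  let T := Piece g (Mn Y0 n) i
  let πT : T' →ₐ[A] T := pieceMap g (pn Y0 n) i
  have hπsurj : Function.Surjective πT := fun t => by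
    obtain ⟨k, m, hm⟩ := exists_num g (Mn Y0 n) i t
    obtain ⟨k', y', hy'⟩ := (isReduction_coverMap Y0 n).loc_surjective _ hmem m
    have hu : IsUnit (algebraMap A T' (g i ^ (k' + k))) := by
      rw [map_pow]; exact (isUnit_piece g _ i).pow _
    refine ⟨hu.unit⁻¹.1 * algebraMap _ T' y', smul_cancel g _ i (k' + k) ?_⟩
    rw [← map_smul, Algebra.smul_def (g i ^ (k' + k)) (hu.unit⁻¹.1 * _), ← mul_assoc, IsUnit.mul_val_inv,
      one_mul, pieceMap_algebraMap, pn_apply, hy', pow_add, mul_smul, ← hm,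
      ← IsScalarTower.coe_toAlgHom' A (Mn Y0 n) T, ← map_smul, Algebra.smul_def, map_pow (algebraMap A _)]
    rfl
  let θ : T' →ₐ[A] L' := pieceMap g Algebra.TensorProduct.includeRight i
  let mkQ : L' →ₐ[A] Q := Ideal.Quotient.mkₐ A _
  have hker : RingHom.ker πT.toRingHom ≤ RingHom.ker (mkQ.comp θ).toRingHom := fun t ht => by
    obtain ⟨k, m, hm⟩ := exists_num g (Mn Y0 (n + 1)) i t
    have h0 : algebraMap (Mn Y0 n) T (pn Y0 n m) = 0 := by
      rw [← pieceMap_algebraMap g (pn Y0 n) i m, hm, map_smul]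
      exact (congrArg (g i ^ k • ·) (RingHom.mem_ker.mp ht)).trans (smul_zero _)
    obtain ⟨l, hl⟩ := exists_pow_of_eq_zero g (Mn Y0 n) i h0
    rw [← map_smul] at hl
    obtain ⟨k', hk'⟩ := (isReduction_coverMap Y0 n).loc_kernel _ hmem _ hl
    rw [Ideal.Quotient.factor_ker, Jn_eq f n, Ideal.map_span, Set.image_singleton, Ideal.map_span,
      Set.image_singleton, Ideal.mem_span_singleton'] at hk'
    obtain ⟨z, hz⟩ := hk'
    refine RingHom.mem_ker.mpr (Ideal.Quotient.eq_zero_iff_mem.mpr ?_)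
    have hu : IsUnit (algebraMap A L' (g i ^ (k' + (l + k)))) := by
      rw [map_pow]; exact (isUnit_piece g _ i).pow _
    refine (Ideal.unit_mul_mem_iff_mem _ hu).mp ?_
    rw [← Algebra.smul_def]
    show g i ^ (k' + (l + k)) • θ t ∈ _
    have e : g i ^ k' • (g i ^ l • m) = f ^ (n + 1) • z := by
      rw [Algebra.smul_def, Algebra.smul_def (f ^ (n + 1)) z, map_pow]
      exact hz.symm.trans (mul_comm _ _)
    rw [← map_smul θ, pow_add (g i), pow_add (g i), mul_smul, mul_smul, ← hm,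
      ← IsScalarTower.coe_toAlgHom' A (Mn Y0 (n + 1)) T', ← map_smul, ← map_smul, e, map_smul, map_smul,
      Algebra.smul_def]
    exact Ideal.mul_mem_right _ _ (Ideal.mem_span_singleton_self _)
  let lT : T →+* Q := RingHom.liftOfSurjective πT.toRingHom hπsurj ⟨(mkQ.comp θ).toRingHom, hker⟩
  have hlT : ∀ t, lT (πT t) = mkQ (θ t) := fun t => RingHom.liftOfRightInverse_comp_apply _ _ _ ⟨_, hker⟩ t
  let lTa : T →ₐ[A] Q := { lT with
    commutes' := fun a => by
      show lT (algebraMap A T a) = algebraMap A Q a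
      rw [← πT.commutes a, hlT, AlgHom.commutes, AlgHom.commutes] }
  let ψ0 : Sn Y0 B n →ₐ[A] Q := Algebra.TensorProduct.lift
    (mkQ.comp ((IsScalarTower.toAlgHom A (Sn Y0 B (n + 1)) L').comp Algebra.TensorProduct.includeLeft))
    (lTa.comp (IsScalarTower.toAlgHom A (Mn Y0 n) T)) fun _ _ => Commute.all _ _
  let ψ : Piece g (Sn Y0 B n) i →ₐ[A] Q :=
    IsLocalization.liftAlgHom (M := Submonoid.powers (algebraMap A (Sn Y0 B n) (g i))) (f := ψ0)
      fun ⟨_, k, e⟩ => by
        subst e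
        refine (congrArg IsUnit (map_pow ψ0 (algebraMap A (Sn Y0 B n) (g i)) k)).mpr (IsUnit.pow k ?_)
        exact (congrArg IsUnit (ψ0.commutes (g i))).mpr ((isUnit_piece g _ i).map mkQ)
  have hψ : ψ.comp (pieceMap g φ i) = mkQ := by
    refine IsLocalization.algHom_ext (Submonoid.powers (algebraMap A (Sn Y0 B (n + 1)) (g i))) ?_
    refine Algebra.TensorProduct.ext (AlgHom.ext fun b => ?_) (AlgHom.ext fun m => ?_)
    · show ψ (pieceMap g φ i (algebraMap _ L' (b ⊗ₜ[A] (1 : Mn Y0 (n + 1))))) = _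
      rw [pieceMap_algebraMap, Algebra.TensorProduct.map_tmul, map_one, AlgHom.id_apply]
      refine (IsLocalization.lift_eq _ _).trans ?_
      show ψ0 (b ⊗ₜ[A] (1 : Mn Y0 n)) = _
      rw [Algebra.TensorProduct.lift_tmul, map_one, mul_one]
      rfl
    · show ψ (pieceMap g φ i (algebraMap _ L' ((1 : B) ⊗ₜ[A] m))) = _
      rw [pieceMap_algebraMap, Algebra.TensorProduct.map_tmul, map_one]
      refine (IsLocalization.lift_eq _ _).trans ?_
      show ψ0 ((1 : B) ⊗ₜ[A] pn Y0 n m) = mkQ (algebraMap _ L' ((1 : B) ⊗ₜ[A] m))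
      rw [Algebra.TensorProduct.lift_tmul, map_one, one_mul]
      show lT (algebraMap (Mn Y0 n) T (pn Y0 n m)) = _
      rw [← pieceMap_algebraMap g (pn Y0 n) i m]
      refine (hlT _).trans (congrArg mkQ ?_)
      exact pieceMap_algebraMap g _ i m
  have h0 : mkQ ((y : ∀ i, Piece g (Sn Y0 B (n + 1)) i) i) = 0 := by
    rw [← hψ, AlgHom.comp_apply]
    exact (congrArg (fun z : Gn Y0 g B n => ψ ((z : ∀ i, Piece g (Sn Y0 B n) i) i)) hy).trans (map_zero ψ)
  obtain ⟨w, hw⟩ := Ideal.mem_span_singleton'.mp (Ideal.Quotient.eq_zero_iff_mem.mp h0)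
  obtain ⟨k, s, hs⟩ := exists_num g (Sn Y0 B (n + 1)) i w
  obtain ⟨l, hl⟩ := exists_eq_of_component g (g i ^ k • y) (f ^ (n + 1) • toGlue g _ s) i (by
    show g i ^ k • (y : ∀ i, Piece g (Sn Y0 B (n + 1)) i) i = f ^ (n + 1) • algebraMap _ L' s
    rw [hs, ← hw, smul_comm (f ^ (n + 1)), Algebra.smul_def (f ^ (n + 1)) w, mul_comm])
  exact ⟨l + k, g i ^ l • toGlue g _ s, by rw [pow_add, mul_smul, hl, smul_comm]⟩

theorem coord (hg : Ideal.span (Set.range g) = IsLocalRing.maximalIdeal A) (n : ℕ) (i : Fin r) :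
    ∃ (d : ℕ) (E : Fin d → Piece g (Sn Y0 B n) i)
      (γ : Piece g (Sn Y0 B n) i →ₗ[A] (Fin d → Piece g (Bn B f n) i))
      (φ : Bn B f n →ₐ[A] Sn Y0 B n),
      ∀ z, ∑ j, pieceMap g φ i (γ z j) * E j = z := by
  classical
  let L := Piece g (Sn Y0 B n) i
  let R := Rn f n
  let M := Mn Y0 n
  let c : R := Ideal.Quotient.mk _ (g i)
  have hc : c ∈ IsLocalRing.maximalIdeal R :=
    (span_image (f := f) hg n).le
      (Ideal.subset_span (Set.mem_range_self (f := fun i => Ideal.Quotient.mk (Jn f n) (g i)) i))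
  have hsec := isSectionRing_mn Y0 hg n
  let Rc := Localization.Away c
  let Tc := Localization.Away (algebraMap R M c)
  let _ := (awayStr R M c).toAlgebra
  have : Module.Flat Rc Tc := hsec.flat c hc
  have : Module.Finite Rc Tc :=
    RingHom.finite_algebraMap.mp (show (awayStr R M c).Finite from hsec.finite c hc)
  have : Module.FinitePresentation Rc Tc := Module.finitePresentation_of_finite Rc Tc
  have : Module.Projective Rc Tc := Module.Flat.projective_of_finitePresentation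
  obtain ⟨d, p, s, -, -, hps⟩ := Module.Finite.exists_comp_eq_id_of_projective Rc Tc
  let φ : Bn B f n →ₐ[A] Sn Y0 B n := Ideal.Quotient.liftₐ _ Algebra.TensorProduct.includeLeft fun b hb => by
    obtain ⟨b', rfl⟩ := Ideal.mem_span_singleton'.mp hb
    rw [map_mul, ← map_pow, AlgHom.commutes, mul_comm, ← Algebra.smul_def, pow_smul_sn]
  let PB := Piece g (Bn B f n) i
  let τ : R →+* PB := Ideal.Quotient.lift (Jn f n) (algebraMap A PB) fun a ha => by
    rw [Jn_eq, Ideal.mem_span_singleton'] at ha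
    obtain ⟨a', rfl⟩ := ha
    have h0 : algebraMap A (Bn B f n) (f ^ (n + 1)) = 0 := by
      rw [IsScalarTower.algebraMap_apply A B (Bn B f n), map_pow]
      exact Ideal.Quotient.eq_zero_iff_mem.mpr (Ideal.mem_span_singleton_self _)
    rw [map_mul, IsScalarTower.algebraMap_apply A (Bn B f n) PB (f ^ (n + 1)), h0, map_zero, mul_zero]
  let σ0 : Rc →+* PB := IsLocalization.Away.lift c (g := τ) (isUnit_piece g _ i)
  let incR : M →+* L := (algebraMap (Sn Y0 B n) L).comp
    (Algebra.TensorProduct.includeRight : M →ₐ[A] Sn Y0 B n).toRingHom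
  have hincR : ∀ a : A, incR (algebraMap A M a) = algebraMap A L a := fun a => by
    show algebraMap (Sn Y0 B n) L (Algebra.TensorProduct.includeRight (algebraMap A M a)) = _
    rw [AlgHom.commutes, ← IsScalarTower.algebraMap_apply]
  let θ : Tc →+* L := IsLocalization.Away.lift (algebraMap R M c) (g := incR) (by
    show IsUnit (incR (algebraMap A M (g i)))
    rw [hincR]; exact isUnit_piece g _ i)
  have hθ : ∀ m, θ (algebraMap M Tc m) = incR m := fun m => IsLocalization.Away.lift_eq _ _ m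
  have hcomp : ∀ a : Rc, θ (algebraMap Rc Tc a) = pieceMap g φ i (σ0 a) := by
    refine RingHom.congr_fun (f := θ.comp (algebraMap Rc Tc)) (g := (pieceMap g φ i).toRingHom.comp σ0) ?_
    refine IsLocalization.ringHom_ext (Submonoid.powers c) (Ideal.Quotient.ringHom_ext (RingHom.ext fun a => ?_))
    show θ (awayStr R M c (algebraMap R Rc (Ideal.Quotient.mk _ a))) =
      pieceMap g φ i (σ0 (algebraMap R Rc (Ideal.Quotient.mk _ a)))
    rw [show awayStr R M c (algebraMap R Rc (Ideal.Quotient.mk _ a)) = algebraMap M Tc (algebraMap A M a) from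
      IsLocalization.map_eq _ _, hθ, hincR, IsLocalization.Away.lift_eq]
    exact ((pieceMap g φ i).commutes a).symm
  have hlin : ∀ (a : A) (m : M), s (algebraMap M Tc (a • m)) =
      algebraMap R Rc (Ideal.Quotient.mk _ a) • s (algebraMap M Tc m) := fun a m => by
    rw [← map_smul s, Algebra.smul_def a m, map_mul, Algebra.smul_def (algebraMap R Rc _)]
    congr 2
    exact ((IsLocalization.map_eq (Q := Tc) (S := Rc) (M := Submonoid.powers c) _ _) :
      awayStr R M c (algebraMap R Rc (Ideal.Quotient.mk _ a)) = _).symm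
  have hσ0 : ∀ a : A, σ0 (algebraMap R Rc (Ideal.Quotient.mk _ a)) = algebraMap A PB a := fun a =>
    IsLocalization.Away.lift_eq _ _ _
  let β : B →ₗ[A] M →ₗ[A] (Fin d → PB) := LinearMap.mk₂ A
    (fun b m j => algebraMap (Bn B f n) PB (Ideal.Quotient.mk _ b) * σ0 (s (algebraMap M Tc m) j))
    (fun b b' m => funext fun j => by simp [add_mul])
    (fun a b m => funext fun j => by
      rw [Pi.smul_apply, ← smul_mul_assoc]
      congr 1
      rw [← IsScalarTower.coe_toAlgHom' A (Bn B f n) PB, ← map_smul, ← Ideal.Quotient.mkₐ_eq_mk A,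
        ← map_smul])
    (fun b m m' => funext fun j => by simp [mul_add])
    (fun a b m => funext fun j => by
      show algebraMap (Bn B f n) PB _ * σ0 (s (algebraMap M Tc (a • m)) j) = a • (_ * _)
      rw [hlin, Pi.smul_apply, smul_eq_mul, map_mul, hσ0, Algebra.smul_def, mul_left_comm])
  have hu : ∀ x : Submonoid.powers (g i), IsUnit (algebraMap A (Module.End A (Fin d → PB)) x) := by
    rintro ⟨_, k, rfl⟩
    refine (Module.End.isUnit_iff _).mpr ⟨fun v w h => funext fun j => smul_cancel g _ i k (congrFun h j),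
      fun v => ⟨fun j => ((isUnit_piece g (Bn B f n) i).pow k).unit⁻¹.1 * v j, funext fun j => ?_⟩⟩
    show g i ^ k • (_ * v j) = v j
    rw [Algebra.smul_def, map_pow, ← mul_assoc, IsUnit.mul_val_inv, one_mul]
  let ι : Sn Y0 B n →ₗ[A] L := (IsScalarTower.toAlgHom A (Sn Y0 B n) L).toLinearMap
  have hι : IsLocalizedModule (Submonoid.powers (g i)) ι := isLocalizedModule_away (M := Sn Y0 B n) (g i)
  let γ : L →ₗ[A] (Fin d → PB) := IsLocalizedModule.lift (Submonoid.powers (g i)) ι (TensorProduct.lift β) hu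
  let E : Fin d → L := fun j => θ (p (Pi.single j 1))
  refine ⟨d, E, γ, φ, fun z => ?_⟩
  let Sig : L →ₗ[A] L :=
    ∑ j, (LinearMap.mulRight A (E j)) ∘ₗ (pieceMap g φ i).toLinearMap ∘ₗ LinearMap.proj j ∘ₗ γ
  suffices Sig = LinearMap.id by
    have h := LinearMap.congr_fun this z
    rw [LinearMap.sum_apply] at h
    exact h
  refine IsLocalizedModule.ext (Submonoid.powers (g i)) ι (IsLocalizedModule.map_units ι)
    (TensorProduct.ext' fun b m => ?_)
  show Sig (ι (b ⊗ₜ m)) = ι (b ⊗ₜ m)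
  have hγ : γ (ι (b ⊗ₜ m)) = β b m :=
    (IsLocalizedModule.lift_apply (Submonoid.powers (g i)) ι _ hu _).trans (TensorProduct.lift.tmul b m)
  simp only [Sig, LinearMap.sum_apply, LinearMap.comp_apply, LinearMap.proj_apply, AlgHom.toLinearMap_apply,
    LinearMap.mulRight_apply, hγ]
  have hm : algebraMap M Tc m = ∑ j, s (algebraMap M Tc m) j • p (Pi.single j 1) := by
    conv_lhs => rw [show algebraMap M Tc m = p (s (algebraMap M Tc m)) from
      (LinearMap.congr_fun hps _).symm, pi_eq_sum_univ' (s (algebraMap M Tc m)), map_sum]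
    exact Finset.sum_congr rfl fun j _ => map_smul p _ _
  have hb : ι (b ⊗ₜ m) = algebraMap (Sn Y0 B n) L (b ⊗ₜ[A] (1 : M)) * θ (algebraMap M Tc m) := by
    rw [hθ]
    show algebraMap (Sn Y0 B n) L (b ⊗ₜ[A] m) = _ * algebraMap (Sn Y0 B n) L ((1 : B) ⊗ₜ[A] m)
    rw [← map_mul, Algebra.TensorProduct.tmul_mul_tmul, mul_one, one_mul]
  rw [hb, hm, map_sum, Finset.mul_sum]
  refine Finset.sum_congr rfl fun j _ => ?_
  show pieceMap g φ i (algebraMap (Bn B f n) PB (Ideal.Quotient.mk _ b) * σ0 _) * E j = _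
  rw [map_mul, ← hcomp, Algebra.smul_def, map_mul, pieceMap_algebraMap, mul_assoc]
  rfl

theorem lflat (hB : IsSMulRegular B f) (hg : Ideal.span (Set.range g) = IsLocalRing.maximalIdeal A) (n : ℕ)
    (y : Gn Y0 g B (n + 1)) (hy : f • y = 0) (i : Fin r) :
    ∃ (k : ℕ) (z : Gn Y0 g B (n + 1)), g i ^ k • y = f ^ (n + 1) • z := by
  classical
  obtain ⟨d, E, γ, φ, hγ⟩ := coord Y0 g B hg (n + 1) i
  let L := Piece g (Sn Y0 B (n + 1)) i
  let z : L := (y : ∀ i, Piece g (Sn Y0 B (n + 1)) i) i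
  have hz : f • z = 0 := congrArg (fun x : Gn Y0 g B (n + 1) => (x : ∀ i, Piece g (Sn Y0 B (n + 1)) i) i) hy
  have hw : ∀ w : Piece g (Bn B f (n + 1)) i, f • w = 0 → ∃ v, w = f ^ (n + 1) • v := by
    intro w hw
    obtain ⟨k, c, hc⟩ := exists_num g (Bn B f (n + 1)) i w
    have h0 : algebraMap (Bn B f (n + 1)) (Piece g (Bn B f (n + 1)) i) (f • c) = 0 := by
      rw [← IsScalarTower.coe_toAlgHom' A (Bn B f (n + 1)) (Piece g (Bn B f (n + 1)) i), map_smul,
        IsScalarTower.coe_toAlgHom', hc, smul_comm, hw, smul_zero]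
    obtain ⟨l, hl⟩ := exists_pow_of_eq_zero g _ i h0
    obtain ⟨b, rfl⟩ := Ideal.Quotient.mk_surjective c
    rw [← Ideal.Quotient.mkₐ_eq_mk A, ← map_smul, ← map_smul, Ideal.Quotient.mkₐ_eq_mk,
      Ideal.Quotient.eq_zero_iff_mem, Ideal.mem_span_singleton'] at hl
    obtain ⟨b', hb'⟩ := hl
    have hb : g i ^ l • b = f ^ (n + 1) • b' := hB (by
      show f • g i ^ l • b = f • f ^ (n + 1) • b'
      rw [smul_comm, ← hb', smul_smul, ← pow_succ', Algebra.smul_def, map_pow, mul_comm])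
    have hu : IsUnit (algebraMap A (Piece g (Bn B f (n + 1)) i) (g i ^ (l + k))) := by
      rw [map_pow]; exact (isUnit_piece g _ i).pow _
    refine ⟨hu.unit⁻¹.1 * algebraMap (Bn B f (n + 1)) _ (Ideal.Quotient.mk _ b'), smul_cancel g _ i (l + k) ?_⟩
    rw [smul_comm _ (f ^ (n + 1)), Algebra.smul_def (g i ^ (l + k)) (hu.unit⁻¹.1 * _), ← mul_assoc,
      IsUnit.mul_val_inv, one_mul, pow_add (g i), mul_smul, ← hc]
    let ι' : B →ₗ[A] Piece g (Bn B f (n + 1)) i :=
      ((IsScalarTower.toAlgHom A (Bn B f (n + 1)) _).comp (Ideal.Quotient.mkₐ A _)).toLinearMap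
    exact (map_smul ι' _ _).symm.trans ((congrArg ι' hb).trans (map_smul ι' _ _))
  choose v hv using fun j => hw (γ z j) (by
    show (f • γ z) j = 0
    rw [← map_smul, hz, map_zero]; rfl)
  let z' : L := ∑ j, pieceMap g φ i (v j) * E j
  have hzz : z = f ^ (n + 1) • z' := by
    conv_lhs => rw [← hγ z]
    rw [Finset.smul_sum]
    exact Finset.sum_congr rfl fun j _ => by rw [hv, map_smul, smul_mul_assoc]
  obtain ⟨k, s, hs⟩ := exists_num g (Sn Y0 B (n + 1)) i z'
  obtain ⟨l, hl⟩ := exists_eq_of_component g (g i ^ k • y) (f ^ (n + 1) • toGlue g _ s) i (by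
    show g i ^ k • z = f ^ (n + 1) • algebraMap _ L s
    rw [hs, hzz, smul_comm])
  exact ⟨l + k, g i ^ l • toGlue g _ s, by rw [pow_add, mul_smul, hl, smul_comm]⟩

theorem tower (hB : IsSMulRegular B f) (hg : Ideal.span (Set.range g) = IsLocalRing.maximalIdeal A) :
    Tower g f (Gn Y0 g B) fun n => (pG Y0 g B n).toLinearMap :=
  ⟨fun n => sepMod g _, fun n => glueMod g _,
    fun n x => Subtype.ext (funext fun i => pow_smul_piece Y0 g B n i _),
    lsurj Y0 g B hg, lker Y0 g B hg, lflat Y0 g B hB hg⟩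

end Groth.Agent.Pure83.BaseTower
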