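import Groth.Agent.Pure83.Nbhd
import Groth.Agent.S0249
import Groth.Agent.FEt83.FlatPurity

/-!
# Flat quasi-finite algebras unramified in codimension one
-/

universe u

open TensorProduct

namespace Groth.Agent.Pure83

/-- A finite flat algebra over a local ring of positive dimension which is unramified over the primes
of height one is unramified over the closed point. -/
theorem not_mem_support_of_flat_codim_one {R C : Type u} [CommRing R] [CommRing C] [Algebra R C]
    [IsNoetherianRing R] [Module.Finite R C] [Module.Flat R C] (P : Ideal R) [P.IsPrime]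
    (hP : 1 ≤ P.height)
    (h : ∀ (p : Ideal R) (_ : p.IsPrime), p ≤ P → p.height = 1 →
      Algebra.Etale p.ResidueField (p.Fiber C)) :
    Algebra.Etale (Localization.AtPrime P) (Localization.AtPrime P ⊗[R] C) := by
  classical
  let L := Localization.AtPrime P
  let D := L ⊗[R] C
  have : Module.Free L D := Module.free_of_flat_of_isLocalRing
  let b := Module.Free.chooseBasis L D
  rw [Unr55.etale_iff_bijective_traceForm, Unr55.bijective_traceForm_iff_isUnit_det b]
  by_contra hd
  obtain ⟨p', hp', hdp, hh⟩ := S0249.result L
    ((IsLocalization.AtPrime.ringKrullDim_eq_height P L).ge.trans' (WithBot.coe_le_coe.mpr hP)) _ hd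
  have := hp'
  let p := p'.comap (algebraMap R L)
  have hle : p ≤ P := by
    intro a ha
    by_contra haP
    exact hp'.ne_top
      (Ideal.eq_top_of_isUnit_mem _ ha (IsLocalization.map_units L (⟨a, haP⟩ : P.primeCompl)))
  have hph : p.height = 1 := by
    rw [← hh]
    exact IsLocalization.height_under P.primeCompl p'
  have := h p inferInstance hle hph
  have : Algebra.Etale p'.ResidueField (p'.ResidueField ⊗[R] C) :=
    FEt83.etale_baseChange_of_fiber p p'.ResidueField (by
      rw [IsScalarTower.algebraMap_eq R L p'.ResidueField, ← RingHom.comap_ker,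
        Ideal.ker_algebraMap_residueField])
  have : Algebra.Etale p'.ResidueField (p'.Fiber D) := Algebra.Etale.of_equiv
    (Algebra.TensorProduct.cancelBaseChange R L p'.ResidueField p'.ResidueField C).symm
  have hb := (Unr55.bijective_traceForm_iff_etale_field p'.ResidueField (p'.Fiber D)).mpr this
  rw [Unr55.bijective_traceForm_iff_isUnit_det (b.baseChange p'.ResidueField),
    Unr55.traceMatrix_baseChange, ← RingHom.mapMatrix_apply, ← RingHom.map_det] at hb
  exact hb.ne_zero (Ideal.algebraMap_residueField_eq_zero.mpr hdp)

/-- If the localization of a finite algebra at a prime is unramified, so is every prime above it. -/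
theorem isUnramifiedAt_of_etale_localization {R C : Type u} [CommRing R] [CommRing C] [Algebra R C]
    [Module.Finite R C] (P : Ideal R) [P.IsPrime]
    [Algebra.Etale (Localization.AtPrime P) (Localization.AtPrime P ⊗[R] C)]
    (Q : Ideal C) [Q.IsPrime] (hQ : Q.comap (algebraMap R C) = P) :
    Algebra.IsUnramifiedAt R Q := by
  have : Module.Finite R Ω[C⁄R] := .trans C _
  show (⟨Q, ‹_›⟩ : PrimeSpectrum C) ∈ Algebra.unramifiedLocus R C
  rw [Algebra.unramifiedLocus_eq_compl_support]
  intro hQ'
  have hP : (⟨P, ‹_›⟩ : PrimeSpectrum R) ∈ Module.support R Ω[C⁄R] :=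
    (mem_support_base_iff (C := C) _ _).mpr ⟨⟨Q, ‹_›⟩, hQ, hQ'⟩
  rw [Module.mem_support_iff_nontrivial_residueField_tensorProduct] at hP
  let L := Localization.AtPrime P
  let := Algebra.TensorProduct.rightAlgebra (R := R) (A := L) (B := C)
  have : Subsingleton (L ⊗[R] Ω[C⁄R]) :=
    (KaehlerDifferential.tensorKaehlerEquivBase R L C (L ⊗[R] C)).subsingleton
  exact not_subsingleton _ ((TensorProduct.AlgebraTensorModule.cancelBaseChange R L L
    P.ResidueField Ω[C⁄R]).symm.subsingleton (α := P.ResidueField ⊗[R] Ω[C⁄R]))

/-- A flat algebra of finite type over a noetherian ring is étale at a quasi-finite prime of positive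
height if it is unramified at all its generizations of height one. -/
theorem isUnramifiedAt_of_flat_codim_one {A B : Type u} [CommRing A] [CommRing B] [Algebra A B]
    [IsNoetherianRing A] [Algebra.FiniteType A B] [Module.Flat A B] (q : Ideal B) [q.IsPrime]
    [Algebra.QuasiFiniteAt A q] (hq : 1 ≤ q.height)
    (h : ∀ (q' : Ideal B) (_ : q'.IsPrime), q' ≤ q → q'.height = 1 → Algebra.IsUnramifiedAt A q') :
    Algebra.IsUnramifiedAt A q := by
  obtain ⟨R, C, _, _, _, _, _, _, _, _, hR, hC, hfin, hflat, P, _, Q, _, hPp, hQP, hQq, huniq⟩ :=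
    exists_finite_nbhd (A := A) q
  have := hflat ‹_›
  have : IsNoetherianRing R := Algebra.FiniteType.isNoetherianRing A R
  have : IsNoetherianRing B := Algebra.FiniteType.isNoetherianRing A B
  have : IsNoetherianRing C := IsNoetherianRing.of_finite R C
  have : Algebra.IsIntegral R C := Algebra.IsIntegral.of_finite R C
  have hPQ : 1 ≤ P.height := by
    rw [← hQP, ← height_comap_of_flat_quasiFinite, height_comap_of_flat_quasiFinite (B := B), hQq]
    exact hq
  have := not_mem_support_of_flat_codim_one (C := C) P hPQ fun p _ hpP hp1 =>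
    etale_fiber_of_unramified p fun Q' _ hQ' => by
      obtain ⟨Q'', hQ''le, hQ''p, hQ''⟩ := Ideal.exists_ideal_over_prime_of_isIntegral P Q'
        (by rw [hQ']; exact hpP)
      have hle : Q' ≤ Q := huniq Q'' hQ''p hQ'' ▸ hQ''le
      have hu := h (Q'.comap (algebraMap B C)) inferInstance (hQq ▸ Ideal.comap_mono hle) (by
        rw [← height_comap_of_flat_quasiFinite, height_comap_of_flat_quasiFinite (B := R), hQ', hp1])
      have : Algebra.IsUnramifiedAt A Q' := isUnramifiedAt_of_etale_over Q' hu
      exact Algebra.IsUnramifiedAt.of_restrictScalars A Q'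
  have hRQ := isUnramifiedAt_of_etale_localization P Q hQP
  have : Q.LiesOver P := ⟨hQP.symm⟩
  have : Algebra.IsUnramifiedAt A P := inferInstance
  have hAQ : Algebra.IsUnramifiedAt A Q := Algebra.IsUnramifiedAt.comp P Q
  subst hQq
  exact isUnramifiedAt_comap_of_etale Q hAQ

end Groth.Agent.Pure83
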