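import Groth.Agent.Pure83.BranchRegular
import Groth.Agent.S9246

/-!
# Purity of the branch locus at a quasi-finite point of an algebra
-/

universe u

open TensorProduct

namespace Groth.Agent.Pure83

/-- Localizations of étale algebras at primes over a normal domain local ring are normal domains. -/
theorem normal_localization_of_etale {B C : Type u} [CommRing B] [CommRing C] [Algebra B C]
    [Algebra.Etale B C] (q : Ideal B) [q.IsPrime] (Q : Ideal C) [Q.IsPrime]
    (hQ : Q.comap (algebraMap B C) = q) [IsDomain (Localization.AtPrime q)]
    [IsIntegrallyClosed (Localization.AtPrime q)] :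
    IsDomain (Localization.AtPrime Q) ∧ IsIntegrallyClosed (Localization.AtPrime Q) := by
  let L := Localization.AtPrime q
  let M := Algebra.algebraMapSubmonoid C q.primeCompl
  let T := Localization M
  have : Algebra.IsPushout B L C T :=
    .symm <| Algebra.isPushout_of_isLocalization q.primeCompl _ _ _
  have : Algebra.Etale L T := Algebra.Etale.of_equiv (Algebra.IsPushout.equiv B L C T)
  have hdisj : Disjoint (M : Set C) (Q : Set C) := by
    rw [Set.disjoint_left]
    rintro _ ⟨r, hr, rfl⟩ hrq
    exact hr (hQ.le hrq)
  have : (Q.map (algebraMap C T)).IsPrime :=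
    IsLocalization.isPrime_of_isPrime_disjoint M T Q ‹_› hdisj
  let Q' := Q.map (algebraMap C T)
  obtain ⟨h1, h2⟩ := Unr55.isNormalDomain_localization_of_etale (A := L) Q'
  have : IsLocalization.AtPrime (Localization.AtPrime Q') Q := by
    have hloc := IsLocalization.isLocalization_isLocalization_atPrime_isLocalization M
      (Localization.AtPrime Q') Q'
    have hqc := IsLocalization.under_map_of_isPrime_disjoint M T ‹Q.IsPrime› hdisj
    have hpc : (Q'.comap (algebraMap C T)).primeCompl = Q.primeCompl :=
      Submonoid.ext fun x => not_congr (SetLike.ext_iff.mp hqc x)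
    show IsLocalization Q.primeCompl _
    rw [← hpc]
    exact hloc
  let e := (IsLocalization.algEquiv Q.primeCompl (Localization.AtPrime Q') (Localization.AtPrime Q))
  exact ⟨e.symm.injective.isDomain, IsIntegrallyClosed.of_equiv e.toRingEquiv⟩

/-- An algebra of finite type is étale at a quasi-finite normal point over a regular point of the same
positive dimension if it is unramified in codimension one. -/
theorem etale_data_of_regular_codim_one {A B : Type u} [CommRing A] [CommRing B] [Algebra A B]
    [IsNoetherianRing A] [Algebra.FiniteType A B] (q : Ideal B) [q.IsPrime]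
    [Algebra.QuasiFiniteAt A q] [IsDomain (Localization.AtPrime q)]
    [IsIntegrallyClosed (Localization.AtPrime q)]
    [IsRegularLocalRing (Localization.AtPrime (q.comap (algebraMap A B)))]
    (hdim : q.height = (q.comap (algebraMap A B)).height) (hq : 1 ≤ q.height)
    (h : ∀ (q' : Ideal B) (_ : q'.IsPrime), q' ≤ q → q'.height = 1 → Algebra.IsUnramifiedAt A q') :
    Algebra.IsUnramifiedAt A q ∧ Module.Flat A (Localization.AtPrime q) := by
  obtain ⟨R, C, _, _, _, _, _, _, _, _, hR, hC, hfin, -, P, _, Q, _, hPp, hQP, hQq, huniq⟩ :=
    exists_finite_nbhd (A := A) q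
  have : IsNoetherianRing R := Algebra.FiniteType.isNoetherianRing A R
  have : IsNoetherianRing B := Algebra.FiniteType.isNoetherianRing A B
  have : IsNoetherianRing C := IsNoetherianRing.of_finite R C
  have : Algebra.IsIntegral R C := Algebra.IsIntegral.of_finite R C
  let L := Localization.AtPrime P
  have : IsRegularLocalRing L := by
    refine (S9246.result A R P).mp ?_
    have e : Localization.AtPrime (q.comap (algebraMap A B)) ≃ₐ[A]
        Localization.AtPrime (P.comap (algebraMap A R)) := by
      have : IsLocalization.AtPrime (Localization.AtPrime (q.comap (algebraMap A B)))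
          (P.comap (algebraMap A R)) := by
        show IsLocalization (P.comap (algebraMap A R)).primeCompl _
        rw [show (P.comap (algebraMap A R)).primeCompl = (q.comap (algebraMap A B)).primeCompl from
          Submonoid.ext fun x => not_congr (SetLike.ext_iff.mp hPp x)]
        infer_instance
      exact IsLocalization.algEquiv (P.comap (algebraMap A R)).primeCompl _ _
    exact IsRegularLocalRing.of_ringEquiv e.toRingEquiv
  let M := Algebra.algebraMapSubmonoid C P.primeCompl
  let D := Localization M
  have : Module.Finite L D := Module.Finite.of_isLocalizedModule P.primeCompl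
    (IsScalarTower.toAlgHom R C D).toLinearMap
  have hMQ : M ≤ Q.primeCompl := by
    rintro _ ⟨r, hr, rfl⟩ hrQ
    exact hr (hQP.le hrQ)
  -- every element outside `Q` becomes invertible
  have hunit : ∀ r ∈ Q.primeCompl, IsUnit (algebraMap C D r) := by
    intro r hr
    by_contra hu
    obtain ⟨N, hN, hrN⟩ := exists_max_ideal_of_mem_nonunits hu
    have hNc := IsLocalization.isPrime_iff_isPrime_disjoint M D N |>.mp hN.isPrime
    have := hNc.1
    have hle : (N.comap (algebraMap C D)).comap (algebraMap R C) ≤ P := fun a ha => by
      by_contra haP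
      exact Set.disjoint_left.mp hNc.2 ⟨a, haP, rfl⟩ ha
    obtain ⟨Q'', hle', hQ''p, hQ''⟩ := Ideal.exists_ideal_over_prime_of_isIntegral P
      (N.comap (algebraMap C D)) hle
    exact hr (huniq Q'' hQ''p hQ'' ▸ hle' hrN)
  have : IsLocalization.AtPrime D Q := IsLocalization.of_le (M := M) Q.primeCompl hMQ hunit
  have hnorm : IsDomain (Localization.AtPrime Q) ∧ IsIntegrallyClosed (Localization.AtPrime Q) :=
    normal_localization_of_etale q Q hQq
  have := hnorm.1
  have := hnorm.2
  let eD := IsLocalization.algEquiv Q.primeCompl D (Localization.AtPrime Q)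
  have : IsDomain D := eD.injective.isDomain
  have : IsIntegrallyClosed D := IsIntegrallyClosed.of_equiv eD.symm.toRingEquiv
  have : IsLocalRing D := IsLocalization.AtPrime.isLocalRing D Q
  have : IsNoetherianRing D := IsLocalization.isNoetherianRing M D inferInstance
  have : Algebra.QuasiFinite B C := inferInstance
  have hQh : Q.height = P.height := by
    rw [height_comap_of_flat_quasiFinite (B := B) Q, hQq, hdim, ← hPp,
      ← height_comap_of_flat_quasiFinite P]
  have := CAlg1.isDomain_regular L
  have hinj : Function.Injective (algebraMap L D) := by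
    rw [RingHom.injective_iff_ker_eq_bot]
    by_contra hker
    let I := RingHom.ker (algebraMap L D)
    obtain ⟨r, hrI, hr0⟩ := Submodule.exists_mem_ne_zero_of_ne_bot hker
    let _ : Algebra (L ⧸ I) D := (Ideal.Quotient.lift I (algebraMap L D) fun a ha => ha).toAlgebra
    have : IsScalarTower L (L ⧸ I) D := ⟨fun a b c => by
      obtain ⟨b, rfl⟩ := Ideal.Quotient.mk_surjective b
      show algebraMap L D (a * b) * c = a • (algebraMap L D b * c)
      rw [map_mul, Algebra.smul_def, mul_assoc]⟩
    have : Module.Finite (L ⧸ I) D := Module.Finite.of_restrictScalars_finite L _ _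
    have : Nontrivial (L ⧸ I) := (Ideal.Quotient.lift I (algebraMap L D) fun a ha => ha).domain_nontrivial
    have h1 := height_le_comap_of_quasiFinite (B := L ⧸ I) (IsLocalRing.maximalIdeal D)
    have h2 : ringKrullDim D ≤ ringKrullDim (L ⧸ I) := by
      rw [← IsLocalRing.maximalIdeal_height_eq_ringKrullDim]
      exact (WithBot.coe_le_coe.mpr h1).trans Ideal.height_le_ringKrullDim_of_isPrime
    have h3 : ringKrullDim (L ⧸ I) + 1 ≤ ringKrullDim L :=
      ringKrullDim_succ_le_of_surjective (Ideal.Quotient.mk I) Ideal.Quotient.mk_surjective
        (mem_nonZeroDivisors_of_ne_zero hr0) (Ideal.Quotient.eq_zero_iff_mem.mpr hrI)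
    rw [IsLocalization.AtPrime.ringKrullDim_eq_height Q D, hQh,
      ← IsLocalization.AtPrime.ringKrullDim_eq_height P L] at h2
    have h4 := h3.trans h2
    have : IsLocalRing (L ⧸ I) := .of_surjective' _ Ideal.Quotient.mk_surjective
    have : FiniteRingKrullDim (L ⧸ I) := inferInstance
    obtain ⟨m, hm⟩ : ∃ m : ℕ, ringKrullDim (L ⧸ I) = m :=
      ⟨_, (Order.krullDim_eq_length_of_finiteDimensionalOrder (α := PrimeSpectrum (L ⧸ I)))⟩
    rw [hm] at h4
    exact absurd (WithBot.coe_le_coe.mp h4 : ((m : ℕ∞) + 1 ≤ m)) (by norm_cast; omega)
  have hD : Algebra.Etale L D := etale_of_regular_codim_one (by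
      rw [IsLocalization.AtPrime.ringKrullDim_eq_height P L]
      exact WithBot.coe_le_coe.mpr (hQh ▸ by
        rw [height_comap_of_flat_quasiFinite (B := B) Q, hQq]; exact hq)) hinj
    fun N hN hN1 => by
      let N' := N.comap (algebraMap C D)
      have hN'h : N'.height = 1 := by rw [← hN1]; exact IsLocalization.height_under M N
      have hle : N' ≤ Q := fun x hx => by
        by_contra hxQ
        exact hN.ne_top (Ideal.eq_top_of_isUnit_mem _ hx (hunit x hxQ))
      have hu := h (N'.comap (algebraMap B C)) inferInstance (hQq ▸ Ideal.comap_mono hle) (by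
        rw [← height_comap_of_flat_quasiFinite, hN'h])
      have : Algebra.IsUnramifiedAt A N' := isUnramifiedAt_of_etale_over N' hu
      have : IsLocalization.AtPrime (Localization.AtPrime N) N' :=
        IsLocalization.isLocalization_isLocalization_atPrime_isLocalization M _ N
      have : Algebra.FormallyUnramified R (Localization.AtPrime N') :=
        Algebra.IsUnramifiedAt.of_restrictScalars A N'
      have : Algebra.FormallyUnramified R (Localization.AtPrime N) :=
        Algebra.FormallyUnramified.of_equiv ((IsLocalization.algEquiv N'.primeCompl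
          (Localization.AtPrime N') (Localization.AtPrime N)).restrictScalars R)
      exact Algebra.FormallyUnramified.of_restrictScalars R L _
  -- descend
  have : Algebra.FormallyEtale R L := .of_isLocalization P.primeCompl
  have : Algebra.FormallyEtale A L := .comp A R L
  have : IsScalarTower A R D := .of_algebraMap_eq fun a => by
    rw [IsScalarTower.algebraMap_apply A C D, IsScalarTower.algebraMap_apply A R C,
      ← IsScalarTower.algebraMap_apply R C D]
  have : IsScalarTower A L D := .of_algebraMap_eq fun a => by
    rw [IsScalarTower.algebraMap_apply A R D, IsScalarTower.algebraMap_apply R L D,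
      ← IsScalarTower.algebraMap_apply A R L]
  have : Algebra.FormallyEtale A D := .comp A L D
  have hAQ : Algebra.IsUnramifiedAt A Q :=
    Algebra.FormallyUnramified.of_equiv (eD.restrictScalars A)
  have : Module.Flat A R := Algebra.Smooth.flat_of_isNoetherianRing A R
  have : Module.Flat R L := IsLocalization.flat L P.primeCompl
  have : Module.Flat A L := Module.Flat.trans A R L
  have : Module.Flat L D := inferInstance
  have : Module.Flat A D := Module.Flat.trans A L D
  have : Module.Flat A (Localization.AtPrime Q) :=
    Module.Flat.of_linearEquiv (eD.restrictScalars A).symm.toLinearEquiv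
  subst hQq
  refine ⟨isUnramifiedAt_comap_of_etale Q hAQ, ?_⟩
  let _ := Localization.AtPrime.algebraOfLiesOver (Q.comap (algebraMap B C)) Q
  have : Module.Flat B C := Algebra.Smooth.flat B C
  have : Module.Flat (Localization.AtPrime (Q.comap (algebraMap B C))) (Localization.AtPrime Q) := by
    rw [Module.flat_iff_of_isLocalization (Localization.AtPrime (Q.comap (algebraMap B C)))
      (Q.comap (algebraMap B C)).primeCompl]
    have : Module.Flat C (Localization.AtPrime Q) := IsLocalization.flat _ Q.primeCompl
    exact Module.Flat.trans B C _
  have : Module.FaithfullyFlat (Localization.AtPrime (Q.comap (algebraMap B C)))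
      (Localization.AtPrime Q) := Module.FaithfullyFlat.of_flat_of_isLocalHom
  exact S1996.flat_of_flat_of_faithfullyFlat A (Localization.AtPrime (Q.comap (algebraMap B C)))
    (Localization.AtPrime Q)

end Groth.Agent.Pure83
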