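import Groth.Agent.Pure83.BranchFlat
import Groth.Agent.Pure83.BranchPoint
import Groth.Agent.Unr55.StalkCrit
import Groth.Agent.Hens22.EtaleNearPoint
import Mathlib.AlgebraicGeometry.Morphisms.QuasiFinite
import Mathlib.AlgebraicGeometry.Noetherian

/-!
# Purity of the branch locus for schemes
-/

universe u

open CategoryTheory Limits AlgebraicGeometry TopologicalSpace

namespace Groth.Agent.Pure83

variable {X Y : Scheme.{u}}

set_option backward.isDefEq.respectTransparency.types false in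
/-- An affine chart around a point, with the point given by a prime. -/
theorem exists_chart_prime (f : X ⟶ Y) (x : X) :
    ∃ (V : Y.Opens) (_ : IsAffineOpen V) (U : X.Opens) (hU : IsAffineOpen U) (_ : U ≤ f ⁻¹ᵁ V)
      (hx : x ∈ U), hU.fromSpec (hU.primeIdealOf ⟨x, hx⟩) = x := by
  obtain ⟨_, ⟨V, hV, rfl⟩, hxV, -⟩ := Y.isBasis_affineOpens.exists_subset_of_mem_open
    (Set.mem_univ (f x)) isOpen_univ
  obtain ⟨_, ⟨U, hU, rfl⟩, hxU, hUV : U ≤ f ⁻¹ᵁ V⟩ :=
    X.isBasis_affineOpens.exists_subset_of_mem_open hxV (f ⁻¹ᵁ V).2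
  exact ⟨V, hV, U, hU, hUV, hxU, IsAffineOpen.fromSpec_primeIdealOf hU ⟨x, hxU⟩⟩

set_option backward.isDefEq.respectTransparency.types false in
/-- The stalk at a point of an affine open is the localization at its prime. -/
theorem nonempty_stalk_equiv {U : X.Opens} (hU : IsAffineOpen U) (q : PrimeSpectrum Γ(X, U)) :
    Nonempty (X.presheaf.stalk (hU.fromSpec q) ≃+* Localization.AtPrime q.asIdeal) := by
  have hm : hU.fromSpec q ∈ U := by
    have : hU.fromSpec q ∈ Set.range hU.fromSpec := ⟨q, rfl⟩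
    rwa [hU.range_fromSpec] at this
  let _ := X.presheaf.algebra_section_stalk (⟨hU.fromSpec q, hm⟩ : U)
  have : IsLocalization.AtPrime (X.presheaf.stalk (hU.fromSpec q)) q.asIdeal :=
    hU.isLocalization_stalk' q hm
  exact ⟨(IsLocalization.algEquiv q.asIdeal.primeCompl (X.presheaf.stalk (hU.fromSpec q))
    (Localization.AtPrime q.asIdeal)).toRingEquiv⟩

theorem ringKrullDim_stalk_fromSpec {U : X.Opens} (hU : IsAffineOpen U) (q : PrimeSpectrum Γ(X, U)) :
    ringKrullDim (X.presheaf.stalk (hU.fromSpec q)) = q.asIdeal.height := by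
  obtain ⟨e⟩ := nonempty_stalk_equiv hU q
  rw [ringKrullDim_eq_of_ringEquiv e, IsLocalization.AtPrime.ringKrullDim_eq_height q.asIdeal]

set_option backward.isDefEq.respectTransparency.types false in
theorem fromSpec_primeIdealOf_map (f : X ⟶ Y) {V : Y.Opens} (hV : IsAffineOpen V) {U : X.Opens}
    (hU : IsAffineOpen U) (e : U ≤ f ⁻¹ᵁ V) (q : PrimeSpectrum Γ(X, U)) :
    hV.fromSpec (⟨q.asIdeal.comap (f.appLE V U e).hom, inferInstance⟩ : PrimeSpectrum Γ(Y, V)) =
      f (hU.fromSpec q) := by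
  have h := congr($(hV.SpecMap_appLE_fromSpec f hU e).base q)
  exact h

set_option backward.isDefEq.respectTransparency.types false in
/-- The flat case. -/
theorem exists_etale_of_flat_codim_one (f : X ⟶ Y) [LocallyOfFiniteType f] [Flat f]
    [IsLocallyNoetherian Y] (x : X) (hq : f.QuasiFiniteAt x)
    (hdim1 : (1 : WithBot ℕ∞) ≤ ringKrullDim (X.presheaf.stalk x))
    (hunr : ∀ x' : X, x' ⤳ x → ringKrullDim (X.presheaf.stalk x') = 1 →
      (f.stalkMap x').hom.FormallyUnramified) :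
    ∃ U : X.Opens, x ∈ U ∧ Etale (U.ι ≫ f) := by
  refine Hens22.exists_etale_of_stalkMap f x ?_ (Flat.stalkMap f x)
  obtain ⟨V, hV, U, hU, e, hx, hxq⟩ := exists_chart_prime f x
  have hqf := hq.quasiFiniteAt hU hV e hx
  algebraize [(f.appLE V U e).hom]
  have : IsNoetherianRing Γ(Y, V) := IsLocallyNoetherian.component_noetherian ⟨V, hV⟩
  have hft : (f.appLE V U e).hom.FiniteType := f.finiteType_appLE hV hU e
  have : Algebra.FiniteType Γ(Y, V) Γ(X, U) := RingHom.finiteType_algebraMap.mp hft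
  have hfl : (f.appLE V U e).hom.Flat := f.flat_appLE hV hU e
  have : Module.Flat Γ(Y, V) Γ(X, U) := RingHom.flat_algebraMap_iff.mp hfl
  let q := hU.primeIdealOf ⟨x, hx⟩
  have : Algebra.QuasiFiniteAt Γ(Y, V) q.asIdeal := hqf
  rw [← hxq] at hdim1 hunr ⊢
  rw [Unr55.formallyUnramified_stalkMap_iff_chart f hV hU e q]
  rw [ringKrullDim_stalk_fromSpec hU q] at hdim1
  refine isUnramifiedAt_of_flat_codim_one q.asIdeal (WithBot.coe_le_coe.mp hdim1)
    fun q' hq' hle h1 => ?_
  refine (Unr55.formallyUnramified_stalkMap_iff_chart f hV hU e ⟨q', hq'⟩).mp (hunr _ ?_ ?_)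
  · exact ((PrimeSpectrum.le_iff_specializes ⟨q', hq'⟩ q).mp hle).map hU.fromSpec.continuous
  · rw [ringKrullDim_stalk_fromSpec hU, h1]
    rfl

set_option backward.isDefEq.respectTransparency.types false in
/-- The normal over regular case. -/
theorem exists_etale_of_regular_codim_one (f : X ⟶ Y) [LocallyOfFiniteType f]
    [IsLocallyNoetherian Y] (x : X)
    (hx : IsDomain (X.presheaf.stalk x) ∧ IsIntegrallyClosed (X.presheaf.stalk x))
    (hy : IsRegularLocalRing (Y.presheaf.stalk (f x))) (hq : f.QuasiFiniteAt x)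
    (hdim : ringKrullDim (X.presheaf.stalk x) = ringKrullDim (Y.presheaf.stalk (f x)))
    (hdim1 : (1 : WithBot ℕ∞) ≤ ringKrullDim (X.presheaf.stalk x))
    (hunr : ∀ x' : X, x' ⤳ x → ringKrullDim (X.presheaf.stalk x') = 1 →
      (f.stalkMap x').hom.FormallyUnramified) :
    ∃ U : X.Opens, x ∈ U ∧ Etale (U.ι ≫ f) := by
  obtain ⟨V, hV, U, hU, e, hxU, hxq⟩ := exists_chart_prime f x
  have hqf := hq.quasiFiniteAt hU hV e hxU
  algebraize [(f.appLE V U e).hom]
  have : IsNoetherianRing Γ(Y, V) := IsLocallyNoetherian.component_noetherian ⟨V, hV⟩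
  have hft : (f.appLE V U e).hom.FiniteType := f.finiteType_appLE hV hU e
  have : Algebra.FiniteType Γ(Y, V) Γ(X, U) := RingHom.finiteType_algebraMap.mp hft
  let q := hU.primeIdealOf ⟨x, hxU⟩
  have : Algebra.QuasiFiniteAt Γ(Y, V) q.asIdeal := hqf
  rw [← hxq] at hx hy hdim hdim1 hunr ⊢
  let p : PrimeSpectrum Γ(Y, V) := ⟨q.asIdeal.comap (f.appLE V U e).hom, inferInstance⟩
  rw [← fromSpec_primeIdealOf_map f hV hU e q] at hy hdim
  obtain ⟨eX⟩ := nonempty_stalk_equiv hU q
  obtain ⟨eY⟩ := nonempty_stalk_equiv hV p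
  have := hx.1
  have := hx.2
  have : IsDomain (Localization.AtPrime q.asIdeal) := eX.symm.injective.isDomain
  have : IsIntegrallyClosed (Localization.AtPrime q.asIdeal) := IsIntegrallyClosed.of_equiv eX
  have : IsRegularLocalRing (Localization.AtPrime (q.asIdeal.comap (algebraMap Γ(Y, V) Γ(X, U)))) :=
    IsRegularLocalRing.of_ringEquiv eY
  rw [ringKrullDim_stalk_fromSpec hU, ringKrullDim_stalk_fromSpec hV] at hdim
  rw [ringKrullDim_stalk_fromSpec hU] at hdim1
  obtain ⟨hu, hfl⟩ := etale_data_of_regular_codim_one (A := Γ(Y, V)) q.asIdeal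
    (WithBot.coe_injective hdim) (WithBot.coe_le_coe.mp hdim1) fun q' hq' hle h1 => by
      refine (Unr55.formallyUnramified_stalkMap_iff_chart f hV hU e ⟨q', hq'⟩).mp (hunr _ ?_ ?_)
      · exact ((PrimeSpectrum.le_iff_specializes ⟨q', hq'⟩ q).mp hle).map hU.fromSpec.continuous
      · rw [ringKrullDim_stalk_fromSpec hU, h1]
        rfl
  exact Hens22.exists_etale_of_stalkMap f (hU.fromSpec q)
    ((Unr55.formallyUnramified_stalkMap_iff_chart f hV hU e q).mpr hu)
    ((Unr55.flat_stalkMap_iff_chart f hV hU e q).mpr hfl)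

end Groth.Agent.Pure83
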