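import Groth.Agent.Pure83.Cech
import Mathlib.RingTheory.Smooth.Basic
import Mathlib.RingTheory.Unramified.Basic
import Mathlib.RingTheory.Etale.Basic
import Mathlib.RingTheory.Ideal.Quotient.Nilpotent

/-!
# Lifting compatible sections modulo `f` to global sections
-/

universe u v w

namespace Groth.Agent.Pure83

variable {A : Type u} [CommRing A] {R : Type v} [CommRing R] [Algebra A R]

/-- A factorization of `e` through a module with trivial Čech `H¹` transfers it. -/
theorem h1Prop_of_factor {ι : Type w} (g : ι → A) {R' : Type v} [AddCommGroup R'] [Module A R']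
    (N' : Submodule A R') (N : Submodule A R) {κ : Type*}
    (h1 : H1Prop N' g (1 : A)) (Φ : R →ₗ[A] (κ → R')) (Ψ : (κ → R') →ₗ[A] R) (e : A)
    (hΦ : ∀ z ∈ N, ∀ k, Φ z k ∈ N') (hΨ : ∀ v : κ → R', (∀ k, v k ∈ N') → Ψ v ∈ N)
    (he : ∀ z, Ψ (Φ z) = e • z) [Finite κ] : H1Prop N g e := by
  intro a ha
  have hc : ∀ k, ∃ c, ∀ i, InLoc N' (g i) (Φ (a i) k - c) := by
    intro k
    obtain ⟨c, hc⟩ := h1 (fun i => Φ (a i) k) (fun i j => by
      obtain ⟨m, hm⟩ := ha i j
      refine ⟨m, ?_⟩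
      have := hΦ _ hm k
      simpa [map_smul, map_sub] using this)
    exact ⟨c, fun i => by simpa using hc i⟩
  choose c hc using hc
  refine ⟨Ψ c, fun i => ?_⟩
  choose m hm using fun k => hc k i
  obtain ⟨m₀, hm₀⟩ := Finite.exists_le m
  refine ⟨m₀, ?_⟩
  have := hΨ (fun k => g i ^ m₀ • (Φ (a i) k - c k)) fun k => InLoc.mono_exp (hm k) (hm₀ k)
  rw [show (fun k => g i ^ m₀ • (Φ (a i) k - c k)) = g i ^ m₀ • (Φ (a i) - c) from rfl,
    map_smul, map_sub, he] at this
  exact this

/-- The localization of a subalgebra at an element, inside the ambient ring. -/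
def locSub (S : Subalgebra A R) (c : A) : Subalgebra A R where
  carrier := {z | InLoc (Subalgebra.toSubmodule S) c z}
  mul_mem' := by
    rintro z w ⟨k, hk⟩ ⟨l, hl⟩
    refine ⟨k + l, ?_⟩
    rw [pow_add, ← smul_mul_smul_comm]
    exact S.mul_mem hk hl
  add_mem' h h' := InLoc.add h h'
  algebraMap_mem' r := InLoc.of_mem (S.algebraMap_mem r)

theorem mem_locSub {S : Subalgebra A R} {c : A} {z : R} :
    z ∈ locSub S c ↔ InLoc (Subalgebra.toSubmodule S) c z := Iff.rfl

theorem locSub_le_mul (S : Subalgebra A R) (c d : A) : locSub S c ≤ locSub S (c * d) :=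
  fun _ h => InLoc.mul d h

theorem locSub_le_mul' (S : Subalgebra A R) (c d : A) : locSub S d ≤ locSub S (c * d) :=
  fun _ h => InLoc.mul_left c h

variable (S : Subalgebra A R) (f : A)

/-- The ideal generated by `f ^ k`. -/
def locIdeal (k : ℕ) (T : Subalgebra A R) : Ideal T := Ideal.span {algebraMap A T (f ^ k)}

/-- Functions modulo `f ^ k`. -/
abbrev LocQuot (k : ℕ) (T : Subalgebra A R) : Type v := T ⧸ locIdeal f k T

/-- Restriction modulo `f ^ k`. -/
def locQuotMap (k : ℕ) {T T' : Subalgebra A R} (h : T ≤ T') : LocQuot f k T →ₐ[A] LocQuot f k T' :=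
  Ideal.Quotient.liftₐ _ ((Ideal.Quotient.mkₐ A (locIdeal f k T')).comp (Subalgebra.inclusion h))
    (fun a ha => by
      obtain ⟨b, rfl⟩ := Ideal.mem_span_singleton'.mp ha
      refine Ideal.Quotient.eq_zero_iff_mem.mpr (Ideal.mem_span_singleton'.mpr
        ⟨Subalgebra.inclusion h b, ?_⟩)
      exact Subtype.ext rfl)

@[simp] theorem locQuotMap_mk (k : ℕ) {T T' : Subalgebra A R} (h : T ≤ T') (z : T) :
    locQuotMap f k h (Ideal.Quotient.mk _ z) = Ideal.Quotient.mk _ (Subalgebra.inclusion h z) := rfl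

theorem locIdeal_le {k l : ℕ} (h : l ≤ k) (T : Subalgebra A R) :
    locIdeal f k T ≤ locIdeal f l T :=
  Ideal.span_singleton_le_span_singleton.mpr (map_dvd _ (pow_dvd_pow f h))

/-- Reduction modulo a smaller power. -/
def locRed {k l : ℕ} (h : l ≤ k) (T : Subalgebra A R) : LocQuot f k T →ₐ[A] LocQuot f l T :=
  Ideal.Quotient.factorₐ A (locIdeal_le f h T)

theorem locRed_surjective {k l : ℕ} (h : l ≤ k) (T : Subalgebra A R) :
    Function.Surjective (locRed f h T) := Ideal.Quotient.factor_surjective (locIdeal_le f h T)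

theorem isNilpotent_ker_locRed {k : ℕ} (h : 1 ≤ k) (T : Subalgebra A R) :
    IsNilpotent (RingHom.ker (locRed f h T : LocQuot f k T →+* LocQuot f 1 T)) := by
  refine ⟨k, le_bot_iff.mp ?_⟩
  have : RingHom.ker (locRed f h T : LocQuot f k T →+* LocQuot f 1 T) ≤
      (locIdeal f 1 T).map (Ideal.Quotient.mk (locIdeal f k T)) := by
    intro x hx
    obtain ⟨z, rfl⟩ := Ideal.Quotient.mk_surjective x
    exact Ideal.mem_map_of_mem _ (Ideal.Quotient.eq_zero_iff_mem.mp hx)
  refine (Ideal.pow_right_mono this k).trans ?_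
  rw [← Ideal.map_pow, Ideal.map_le_iff_le_comap]
  intro x hx
  simp only [locIdeal, pow_one, Ideal.span_singleton_pow, ← map_pow] at hx
  exact Ideal.mem_comap.mpr (Submodule.mem_bot _ |>.mpr (Ideal.Quotient.eq_zero_iff_mem.mpr hx))

theorem locRed_comp_map {k l : ℕ} (h : l ≤ k) {T T' : Subalgebra A R} (h' : T ≤ T') :
    (locRed f h T').comp (locQuotMap f k h') = (locQuotMap f l h').comp (locRed f h T) :=
  AlgHom.ext fun x => by obtain ⟨z, rfl⟩ := Ideal.Quotient.mk_surjective x; rfl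

variable {S f}

section Abstract

variable (J : Ideal A) {C : Type*} [CommRing C] [Algebra A C] [Algebra (A ⧸ J) C]
  [IsScalarTower A (A ⧸ J) C] [Algebra.FormallyEtale (A ⧸ J) C]
  {P Q : Type*} [CommRing P] [CommRing Q] [Algebra A P] [Algebra A Q]

/-- Lifts along nilpotent thickenings killed by `J` exist. -/
theorem exists_lift_of_formallyEtale (hP : ∀ r ∈ J, algebraMap A P r = 0) (π : P →ₐ[A] Q)
    (hπ : Function.Surjective π) (hk : IsNilpotent (RingHom.ker (π : P →+* Q))) (φ : C →ₐ[A] Q) :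
    ∃ ψ : C →ₐ[A] P, π.comp ψ = φ := by
  have hQ : ∀ r ∈ J, algebraMap A Q r = 0 := fun r hr => by rw [← π.commutes, hP r hr, map_zero]
  let _ : Algebra (A ⧸ J) P := (Ideal.Quotient.lift J (algebraMap A P) hP).toAlgebra
  let _ : Algebra (A ⧸ J) Q := (Ideal.Quotient.lift J (algebraMap A Q) hQ).toAlgebra
  have : IsScalarTower A (A ⧸ J) P := IsScalarTower.of_algebraMap_eq fun _ => rfl
  have : IsScalarTower A (A ⧸ J) Q := IsScalarTower.of_algebraMap_eq fun _ => rfl
  have hs : Function.Surjective (algebraMap A (A ⧸ J)) := Ideal.Quotient.mk_surjective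
  refine ⟨(Algebra.FormallySmooth.liftOfSurjective (φ.extendScalarsOfSurjective hs)
    (π.extendScalarsOfSurjective hs) hπ hk).restrictScalars A, AlgHom.ext fun x => ?_⟩
  exact Algebra.FormallySmooth.liftOfSurjective_apply (φ.extendScalarsOfSurjective hs)
    (π.extendScalarsOfSurjective hs) hπ hk x

/-- Lifts along nilpotent thickenings killed by `J` are unique. -/
theorem lift_unique_of_formallyEtale (hP : ∀ r ∈ J, algebraMap A P r = 0) (π : P →ₐ[A] Q)
    (hk : IsNilpotent (RingHom.ker (π : P →+* Q))) (ψ₁ ψ₂ : C →ₐ[A] P)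
    (h : π.comp ψ₁ = π.comp ψ₂) : ψ₁ = ψ₂ := by
  have hQ : ∀ r ∈ J, algebraMap A Q r = 0 := fun r hr => by rw [← π.commutes, hP r hr, map_zero]
  let _ : Algebra (A ⧸ J) P := (Ideal.Quotient.lift J (algebraMap A P) hP).toAlgebra
  let _ : Algebra (A ⧸ J) Q := (Ideal.Quotient.lift J (algebraMap A Q) hQ).toAlgebra
  have : IsScalarTower A (A ⧸ J) P := IsScalarTower.of_algebraMap_eq fun _ => rfl
  have : IsScalarTower A (A ⧸ J) Q := IsScalarTower.of_algebraMap_eq fun _ => rfl
  have hs : Function.Surjective (algebraMap A (A ⧸ J)) := Ideal.Quotient.mk_surjective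
  have := Algebra.FormallyUnramified.lift_unique' (π.extendScalarsOfSurjective hs) hk
    (ψ₁.extendScalarsOfSurjective hs) (ψ₂.extendScalarsOfSurjective hs)
    (AlgHom.ext fun x => AlgHom.congr_fun h x)
  exact AlgHom.ext fun x => AlgHom.congr_fun this x

end Abstract

/-- The main lifting lemma: a compatible family modulo `f` coming from an algebra formally étale
modulo a high power of `f` comes from a global section. -/
theorem exists_global_lift {ι : Type w} [Nonempty ι] (g : ι → A) (n : ℕ)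
    (hf : IsSMulRegular R f) (h0 : H0Prop (Subalgebra.toSubmodule S) g)
    (h1 : H1Prop (Subalgebra.toSubmodule S) g (f ^ n))
    (C : Type*) [CommRing C] [Algebra A C] [Algebra (A ⧸ Ideal.span {f ^ (n + 1)}) C]
    [IsScalarTower A (A ⧸ Ideal.span {f ^ (n + 1)}) C]
    [Algebra.FormallyEtale (A ⧸ Ideal.span {f ^ (n + 1)}) C]
    (res : ∀ i, C →ₐ[A] LocQuot f 1 (locSub S (g i)))
    (hres : ∀ i j, (locQuotMap f 1 (locSub_le_mul S (g i) (g j))).comp (res i) =
      (locQuotMap f 1 (locSub_le_mul' S (g i) (g j))).comp (res j)) (b : C) :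
    ∃ σ : S, ∀ i, Ideal.Quotient.mk _ (⟨σ, InLoc.of_mem σ.2⟩ : locSub S (g i)) = res i b := by
  have hz : ∀ (T : Subalgebra A R) (r : A), r ∈ Ideal.span {f ^ (n + 1)} →
      algebraMap A (LocQuot f (n + 1) T) r = 0 := by
    intro T r hr
    obtain ⟨a, rfl⟩ := Ideal.mem_span_singleton'.mp hr
    exact Ideal.Quotient.eq_zero_iff_mem.mpr (Ideal.mem_span_singleton'.mpr
      ⟨algebraMap A T a, (map_mul _ _ _).symm⟩)
  have h1n : 1 ≤ n + 1 := Nat.le_add_left 1 n
  choose lam hlam using fun i => exists_lift_of_formallyEtale (C := C) _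
    (hz (locSub S (g i))) (locRed f h1n _) (locRed_surjective f h1n _)
    (isNilpotent_ker_locRed f h1n _) (res i)
  have hcomp : ∀ i j,
      (locQuotMap f (n + 1) (locSub_le_mul S (g i) (g j))).comp (lam i) =
      (locQuotMap f (n + 1) (locSub_le_mul' S (g i) (g j))).comp (lam j) := by
    intro i j
    refine lift_unique_of_formallyEtale (C := C) _ (hz (locSub S (g i * g j))) (locRed f h1n _)
      (isNilpotent_ker_locRed f h1n _) _ _ ?_
    rw [← AlgHom.comp_assoc, ← AlgHom.comp_assoc, locRed_comp_map, locRed_comp_map,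
      AlgHom.comp_assoc, AlgHom.comp_assoc, hlam, hlam, hres]
  choose s hs' using fun i => Ideal.Quotient.mk_surjective (lam i b)
  have hdiff : ∀ i j, ∃ e : locSub S (g i * g j), (s i : R) - s j = f ^ (n + 1) • (e : R) := by
    intro i j
    have h := AlgHom.congr_fun (hcomp i j) b
    simp only [AlgHom.comp_apply, ← hs', locQuotMap_mk] at h
    obtain ⟨e, he⟩ := Ideal.mem_span_singleton'.mp (Ideal.Quotient.eq.mp h)
    refine ⟨e, ?_⟩
    rw [Algebra.smul_def, mul_comm]
    exact (congrArg Subtype.val he).symm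
  choose e he using hdiff
  obtain ⟨i0⟩ := ‹Nonempty ι›
  have hreg : IsSMulRegular R (f ^ (n + 1)) := hf.pow _
  obtain ⟨c, hc⟩ := h1 (fun i => (e i i0 : R)) (fun i j => by
    have : f ^ (n + 1) • ((e i i0 : R) - e j i0) = f ^ (n + 1) • (e i j : R) := by
      rw [smul_sub, ← he, ← he, ← he]; ring
    exact hreg this ▸ (e i j).2)
  have hσ : ∀ i, InLoc (Subalgebra.toSubmodule S) (g i) ((s i0 : R) + f • c) := by
    intro i
    have : (s i0 : R) + f • c = s i - f • (f ^ n • (e i i0 : R) - c) := by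
      rw [smul_sub, smul_smul, ← pow_succ', ← he]; ring
    rw [this]
    exact (s i).2.sub ((hc i).smul f)
  refine ⟨⟨(s i0 : R) + f • c, h0 _ hσ⟩, fun i => ?_⟩
  rw [← AlgHom.congr_fun (hlam i) b]
  rw [AlgHom.comp_apply, ← hs']
  refine Ideal.Quotient.eq.mpr (Ideal.mem_span_singleton'.mpr
    ⟨⟨c - f ^ n • (e i i0 : R), mem_locSub.mpr ((hc i).neg |> fun h => by simpa using h)⟩, Subtype.ext ?_⟩)
  show (c - f ^ n • (e i i0 : R)) * algebraMap A R (f ^ 1) = (s i0 : R) + f • c - s i
  have h2 := he i i0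
  rw [Algebra.smul_def, map_pow] at h2
  rw [Algebra.smul_def, Algebra.smul_def, map_pow, map_pow, pow_one]
  linear_combination h2

end Groth.Agent.Pure83
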