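import Groth.Agent.Pure83.FormalClopen

/-!
# Sections of a cover of a punctured spectrum and of its reduction
-/

universe u

open CategoryTheory Limits AlgebraicGeometry TopologicalSpace Opposite

namespace Groth.Agent.Pure83

variable {R R' : Type u} [CommRing R] [IsLocalRing R] [IsNoetherianRing R]
  [CommRing R'] [IsLocalRing R'] [IsNoetherianRing R']

/-- A cartesian morphism of covers of punctured spectra over a surjection of rings. -/
structure IsReduction (π : R →+* R') (u' : (FEt.puncturedSpec R' : Scheme.{u}) ⟶ FEt.puncturedSpec R)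
    {Y : FEt.Cat (FEt.puncturedSpec R : Scheme.{u})} {Y' : FEt.Cat (FEt.puncturedSpec R' : Scheme.{u})}
    (φ : Y'.left ⟶ Y.left) : Prop where
  surj : Function.Surjective π
  base : u' ≫ (FEt.puncturedSpec R).ι = (FEt.puncturedSpec R').ι ≫ Spec.map (CommRingCat.ofHom π)
  cart : IsPullback φ Y'.hom Y.hom u'
  closed : IsClosedImmersion φ

namespace IsReduction

variable {π : R →+* R'} {u' : (FEt.puncturedSpec R' : Scheme.{u}) ⟶ FEt.puncturedSpec R}
  {Y : FEt.Cat (FEt.puncturedSpec R : Scheme.{u})} {Y' : FEt.Cat (FEt.puncturedSpec R' : Scheme.{u})}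
  {φ : Y'.left ⟶ Y.left} (h : IsReduction π u' φ)

include h

set_option backward.isDefEq.respectTransparency.types false in
omit [IsNoetherianRing R] [IsNoetherianRing R'] in
theorem map_algebraMap (r : R) :
    φ.appTop (algebraMap R Γ(Y.left, ⊤) r) = algebraMap R' Γ(Y'.left, ⊤) (π r) := by
  have hsq : φ ≫ strHom Y = strHom Y' ≫ Spec.map (CommRingCat.ofHom π) := by
    show φ ≫ Y.hom ≫ (FEt.puncturedSpec R).ι = (Y'.hom ≫ (FEt.puncturedSpec R').ι) ≫ _
    rw [Category.assoc, ← h.base]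
    exact (Category.assoc _ _ _).symm.trans ((congrArg (· ≫ _) h.cart.w).trans (Category.assoc _ _ _))
  show (((Scheme.ΓSpecIso (CommRingCat.of R)).inv ≫ (strHom Y).appTop) ≫ φ.appTop) r =
    ((Scheme.ΓSpecIso (CommRingCat.of R')).inv ≫ (strHom Y').appTop) (π r)
  rw [Category.assoc, ← Scheme.Hom.comp_appTop, hsq, Scheme.Hom.comp_appTop, ← Category.assoc,
    ← Scheme.ΓSpecIso_inv_naturality]
  rfl

omit [IsNoetherianRing R'] in
set_option backward.isDefEq.respectTransparency.types false in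
theorem loc_surjective [IsNoetherianRing R'] (c : R) (hc : c ∈ IsLocalRing.maximalIdeal R)
    (x : Γ(Y'.left, ⊤)) :
    ∃ (k : ℕ) (y : Γ(Y.left, ⊤)), φ.appTop y = algebraMap R' Γ(Y'.left, ⊤) (π c) ^ k * x := by
  have := h.closed
  have := compactSpace_left Y
  have := isQuasiAffine_left Y
  have := compactSpace_left Y'
  have := isQuasiAffine_left Y'
  let C := algebraMap R Γ(Y.left, ⊤) c
  let C' := algebraMap R' Γ(Y'.left, ⊤) (π c)
  let W := Y.left.basicOpen C
  have hW : IsAffineOpen W := (congrArg IsAffineOpen (preimage_basicOpen Y c)).mp (isAffineOpen_basicOpen Y hc)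
  have hpre : φ ⁻¹ᵁ W = Y'.left.basicOpen C' := by
    rw [Scheme.preimage_basicOpen_top]
    exact congrArg Y'.left.basicOpen (h.map_algebraMap c)
  obtain ⟨w, hw⟩ := φ.app_surjective W hW (Y'.left.presheaf.map (homOfLE (le_top : φ ⁻¹ᵁ W ≤ ⊤)).op x)
  have hlocW : IsLocalization.Away C Γ(Y.left, W) :=
    isLocalization_basicOpen_of_qcqs isCompact_univ isQuasiSeparated_univ _
  obtain ⟨⟨y, _, k, rfl⟩, hy⟩ := IsLocalization.surj (Submonoid.powers C) w
  have hlocW' : IsLocalization.Away C' Γ(Y'.left, Y'.left.basicOpen C') :=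
    isLocalization_basicOpen_of_qcqs isCompact_univ isQuasiSeparated_univ _
  let res' := Y'.left.presheaf.map (homOfLE (le_top : φ ⁻¹ᵁ W ≤ ⊤)).op
  have hnat : ∀ z : Γ(Y.left, ⊤), φ.app W (Y.left.presheaf.map (homOfLE (le_top : W ≤ ⊤)).op z) =
      res' (φ.appTop z) := fun z => congr($(φ.naturality (homOfLE (le_top : W ≤ ⊤)).op) z)
  have h1 : res' (φ.appTop y) = res' (C' ^ k * x) := by
    rw [← hnat, map_mul, map_pow]
    refine Eq.trans ?_ (congrArg (fun z => res' C' ^ k * z) hw)
    refine (congrArg (φ.app W) hy.symm).trans ?_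
    rw [map_mul, mul_comm]
    congr 1
    rw [map_pow]
    show φ.app W (Y.left.presheaf.map _ C ^ k) = _
    rw [map_pow, hnat]
    exact congrArg (fun z => res' z ^ k) (h.map_algebraMap c)
  have h2 := congrArg (Y'.left.presheaf.map (eqToHom hpre.symm).op) h1
  change (Y'.left.presheaf.map _ ≫ Y'.left.presheaf.map _) _ =
    (Y'.left.presheaf.map _ ≫ Y'.left.presheaf.map _) _ at h2
  rw [← Functor.map_comp] at h2
  obtain ⟨⟨_, l, rfl⟩, hl⟩ := (IsLocalization.eq_iff_exists (Submonoid.powers C')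
    Γ(Y'.left, Y'.left.basicOpen C')).mp h2
  refine ⟨l + k, C ^ l * y, ?_⟩
  rw [map_mul, map_pow, h.map_algebraMap]
  exact hl.trans (by rw [pow_add, mul_assoc])

set_option maxHeartbeats 1000000 in
set_option backward.isDefEq.respectTransparency.types false in
theorem loc_kernel (c : R) (hc : c ∈ IsLocalRing.maximalIdeal R) (y : Γ(Y.left, ⊤))
    (hy : φ.appTop y = 0) :
    ∃ k : ℕ, algebraMap R Γ(Y.left, ⊤) c ^ k * y ∈
      (RingHom.ker π).map (algebraMap R Γ(Y.left, ⊤)) := by
  have := compactSpace_left Y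
  have := isQuasiAffine_left Y
  let T := Γ(Y.left, ⊤)
  let C := algebraMap R T c
  let W := Y.left.basicOpen C
  have hW : IsAffineOpen W := (congrArg IsAffineOpen (preimage_basicOpen Y c)).mp (isAffineOpen_basicOpen Y hc)
  have hlocW : IsLocalization.Away C Γ(Y.left, W) :=
    isLocalization_basicOpen_of_qcqs isCompact_univ isQuasiSeparated_univ _
  let res : T →+* Γ(Y.left, W) := (Y.left.presheaf.map (homOfLE (le_top : W ≤ ⊤)).op).hom
  let K : Ideal T := (RingHom.ker π).map (algebraMap R T)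
  let Q := Γ(Y.left, W) ⧸ K.map res
  let q : Γ(Y.left, W) →+* Q := Ideal.Quotient.mk _
  let s : Spec (CommRingCat.of Q) ⟶ Y.left := Spec.map (CommRingCat.ofHom q) ≫ hW.fromSpec
  have hev : ∀ z : T, evTo s z = q (res z) := fun z => by
    rw [show s = Spec.map (CommRingCat.ofHom q) ≫ hW.fromSpec from rfl, evTo_map]
    refine congrArg q ?_
    show (Scheme.ΓSpecIso (CommRingCat.of Γ(Y.left, W))).hom (hW.fromSpec.app ⊤ z) = res z
    rw [IsAffineOpen.fromSpec_app_of_le _ _ le_top]
    show (_ ≫ (Scheme.ΓSpecIso _).hom) z = _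
    simp
    rfl
  have hsT : s ≫ strHom Y = Spec.map (CommRingCat.ofHom ((q.comp res).comp (algebraMap R T))) := by
    refine ext_of_isAffine ?_
    ext r
    refine ((Scheme.ΓSpecIso (CommRingCat.of Q)).commRingCatIsoToRingEquiv.injective ?_)
    obtain ⟨r, rfl⟩ : ∃ a, (Scheme.ΓSpecIso (CommRingCat.of R)).inv a = r :=
      ⟨(Scheme.ΓSpecIso (CommRingCat.of R)).hom r,
        congr($((Scheme.ΓSpecIso (CommRingCat.of R)).hom_inv_id) r)⟩
    refine (hev (algebraMap R T r)).trans ?_
    have := congr($(Scheme.ΓSpecIso_inv_naturality (CommRingCat.ofHom ((q.comp res).comp (algebraMap R T)))) r)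
    refine Eq.trans ?_ (congrArg (Scheme.ΓSpecIso (CommRingCat.of Q)).hom this)
    exact (congr($((Scheme.ΓSpecIso (CommRingCat.of Q)).inv_hom_id) ((q.comp res).comp (algebraMap R T) r))).symm
  have hI : ∀ r ∈ RingHom.ker π, ((q.comp res).comp (algebraMap R T)) r = 0 := fun r hr =>
    Ideal.Quotient.eq_zero_iff_mem.mpr (Ideal.mem_map_of_mem _ (Ideal.mem_map_of_mem _ hr))
  let π' : R' →+* Q := RingHom.liftOfSurjective π h.surj ⟨_, hI⟩
  have hπ' : π'.comp π = (q.comp res).comp (algebraMap R T) := RingHom.liftOfRightInverse_comp π _ _ _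
  let sR : Spec (CommRingCat.of Q) ⟶ Spec (CommRingCat.of R') := Spec.map (CommRingCat.ofHom π')
  have hsR : sR ≫ Spec.map (CommRingCat.ofHom π) = s ≫ strHom Y := by
    rw [hsT]
    refine (Spec.map_comp _ _).symm.trans (congrArg Spec.map ?_)
    exact CommRingCat.hom_ext hπ'
  have hcu : IsUnit (π' (π c)) := by
    rw [← RingHom.comp_apply, hπ']
    exact (RingedSpace.isUnit_res_basicOpen _ C).map q
  have hrg : Set.range sR ⊆ Set.range (FEt.puncturedSpec R').ι := by
    rintro _ ⟨p, rfl⟩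
    rw [Scheme.Opens.range_ι]
    refine (mem_puncturedSpec_iff _).mpr fun e => ?_
    have hm : π c ∈ IsLocalRing.maximalIdeal R' :=
      (IsLocalRing.eq_maximalIdeal (Ideal.comap_isMaximal_of_surjective π h.surj
        (K := IsLocalRing.maximalIdeal R'))).ge hc
    exact (p : PrimeSpectrum Q).isPrime.ne_top (Ideal.eq_top_of_isUnit_mem _
      (show π' (π c) ∈ (p : PrimeSpectrum Q).asIdeal from e.ge hm) hcu)
  let lU := IsOpenImmersion.lift (FEt.puncturedSpec R').ι sR hrg
  have hlU : lU ≫ (FEt.puncturedSpec R').ι = sR := IsOpenImmersion.lift_fac _ _ _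
  have hw : s ≫ Y.hom = lU ≫ u' := by
    refine (cancel_mono (FEt.puncturedSpec R).ι).mp ?_
    refine (Category.assoc _ _ _).trans (Eq.trans ?_ (Category.assoc _ _ _).symm)
    rw [h.base, reassoc_of% hlU, hsR]
  let l := h.cart.lift s lU hw
  have hl : l ≫ φ = s := h.cart.lift_fst _ _ _
  have h0 : res y ∈ K.map res := by
    refine Ideal.Quotient.eq_zero_iff_mem.mp ?_
    rw [← show evTo s y = q (res y) from hev y, ← hl]
    show (Scheme.ΓSpecIso _).hom ((φ.appTop ≫ l.appTop) y) = 0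
    rw [ConcreteCategory.comp_apply, hy, map_zero, map_zero]
  let _ : Algebra T Γ(Y.left, W) := res.toAlgebra
  obtain ⟨⟨⟨b, hb⟩, _, l', rfl⟩, hbl⟩ :=
    (IsLocalization.mem_map_algebraMap_iff (Submonoid.powers C) Γ(Y.left, W)).mp
      (show res y ∈ K.map (algebraMap T Γ(Y.left, W)) from h0)
  obtain ⟨⟨_, l₂, rfl⟩, hl₂⟩ := (IsLocalization.eq_iff_exists (Submonoid.powers C) Γ(Y.left, W)).mp
    (show algebraMap T Γ(Y.left, W) (y * C ^ l') = algebraMap T Γ(Y.left, W) b by
      rw [map_mul]; exact hbl)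
  refine ⟨l₂ + l', ?_⟩
  rw [pow_add, mul_assoc, mul_comm (C ^ l') y]
  exact hl₂ ▸ Ideal.mul_mem_left _ _ hb

end IsReduction

end Groth.Agent.Pure83
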