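import Groth.Agent.Pure83.TorsionTower

/-!
# Algebraisation of a formal vector bundle: the limit is finite
-/

universe u

open LocCoh

namespace Groth.Agent.Pure83

variable {A : Type u} [CommRing A] {ι : Type} {g : ι → A} {f : A}
  {M : ℕ → Type u} [∀ n, AddCommGroup (M n)] [∀ n, Module A (M n)]
  {p : ∀ n, M (n + 1) →ₗ[A] M n}

/-- Compatible sequences. -/
def limSub (p : ∀ n, M (n + 1) →ₗ[A] M n) : Submodule A (∀ n, M n) where
  carrier := {s | ∀ n, p n (s (n + 1)) = s n}
  add_mem' hs ht n := by simp [hs n, ht n]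
  zero_mem' n := by simp
  smul_mem' c s hs n := by simp [hs n]

theorem mem_limSub {s : ∀ n, M n} : s ∈ limSub p ↔ ∀ n, p n (s (n + 1)) = s n := Iff.rfl

namespace Tower

variable (h : Tower g f M p) [Finite ι]
include h

/-- The obstruction module is Noetherian. -/
theorem isNoetherian_quot [IsNoetherianRing A]
    (h2 : Module.Finite A (LocCoh.H (Ideal.span (Set.range g)) 2 (M 0))) :
    IsNoetherian A (h.Colim ⧸ LinearMap.range (f • (LinearMap.id : h.Colim →ₗ[A] h.Colim))) := by
  classical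
  let I := Ideal.span (Set.range g)
  let F : h.Colim →ₗ[A] h.Colim := f • LinearMap.id
  let P := LinearMap.range F
  let eP : h.Colim →ₗ[A] P := F.rangeRestrict
  have hz : ∀ z : h.Colim, ∃ n, ∀ a ∈ I ^ n, a • z ∈ P := by
    intro z
    obtain ⟨m, -, x, rfl⟩ := h.exists_incl z 0
    choose k y hy using h.lsurj m x
    obtain ⟨K, hK⟩ := Finite.exists_le k
    have hJ : Ideal.span (Set.range fun i => g i ^ K) ≤
        P.comap (LinearMap.toSpanSingleton A h.Colim (h.incl m x)) := by
      rw [Ideal.span_le]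
      rintro _ ⟨i, rfl⟩
      refine ⟨g i ^ (K - k i) • h.incl (m + 1) (y i), ?_⟩
      show f • (g i ^ (K - k i) • h.incl (m + 1) (y i)) = g i ^ K • h.incl m x
      rw [smul_comm, h.smul_incl, hy, map_smul, smul_smul, ← pow_add, Nat.sub_add_cancel (hK i)]
    obtain ⟨N, hN⟩ := Ideal.exists_pow_le_of_le_radical_of_fg (span_pow_le_radical g K)
      (IsNoetherian.noetherian _)
    exact ⟨N, fun a ha => hJ (hN ha)⟩
  have hker : LinearMap.ker P.subtype ≤ DRing.torsionSub I P := by
    rw [Submodule.ker_subtype]; exact bot_le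
  have hcoker : IsPowerTorsion I (h.Colim ⧸ LinearMap.range P.subtype) := by
    intro z
    obtain ⟨z, rfl⟩ := Submodule.Quotient.mk_surjective _ z
    obtain ⟨n, hn⟩ := hz z
    refine ⟨n, fun a ha => ?_⟩
    rw [← Submodule.Quotient.mk_smul, Submodule.Quotient.mk_eq_zero, Submodule.range_subtype]
    exact hn a ha
  obtain ⟨Φ, hΦ, -⟩ := LC16.DT.existsUnique_factor P.subtype hker hcoker LinearMap.id
  have hΦ' : ∀ w : P, Φ w = toDT I P w := fun w => LinearMap.congr_fun hΦ w
  have hsepP : SepMod g P := fun w hw => Subtype.ext (h.sep_colim _ fun i => by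
    obtain ⟨k, hk⟩ := hw i
    exact ⟨k, congrArg Subtype.val hk⟩)
  have hΦinj : Function.Injective Φ := (injective_iff_map_eq_zero Φ).mpr fun z hz0 => by
    obtain ⟨n, hn⟩ := hz z
    refine h.sep_colim z fun i => ⟨n, ?_⟩
    have hm : g i ^ n ∈ I ^ n := Ideal.pow_mem_pow (Ideal.subset_span (Set.mem_range_self i)) n
    have h1 : toDT I P ⟨g i ^ n • z, hn _ hm⟩ = 0 := by
      rw [← hΦ' ⟨_, hn _ hm⟩]
      show Φ (g i ^ n • z) = 0
      rw [map_smul, hz0, smul_zero]
    exact congrArg Subtype.val (hsepP.toDT_injective (h1.trans (map_zero _).symm))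
  let ψ : h.Colim ⧸ P →ₗ[A] DT I P ⧸ LinearMap.range (toDT I P) :=
    Submodule.mapQ P _ Φ fun z hzP => ⟨⟨z, hzP⟩, (hΦ' ⟨z, hzP⟩).symm⟩
  have hψ : Function.Injective ψ := (injective_iff_map_eq_zero ψ).mpr fun c hc => by
    obtain ⟨z, rfl⟩ := Submodule.Quotient.mk_surjective _ c
    obtain ⟨w, hw⟩ := (Submodule.Quotient.mk_eq_zero _).mp hc
    rw [← hΦ' w] at hw
    rw [Submodule.Quotient.mk_eq_zero, ← hΦinj hw]
    exact w.2
  obtain ⟨e⟩ := LC16.DT.exists_coker_equiv_H1 (R := A) (I := I) (M := P)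
  have hinj0 : Function.Injective (h.incl 0) := h.incl_injective 0
  have hex : Function.Exact (h.incl 0) eP := fun z => by
    constructor
    · intro hz0
      refine h.exists_incl_eq 0 z ?_
      rw [zero_add, pow_one]
      exact congrArg Subtype.val hz0
    · rintro ⟨x, rfl⟩
      refine Subtype.ext ?_
      show f • h.incl 0 x = 0
      rw [← map_smul, show f • x = 0 by simpa using h.kill 0 x, map_zero]
  have hs : Function.Surjective eP := F.surjective_rangeRestrict
  have hδ : Function.Injective (LC15.Hδ I 1 hinj0 hex hs) :=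
    (injective_iff_map_eq_zero _).mpr fun y hy => by
      obtain ⟨z, rfl⟩ := (LC15.H_exact₃ I 1 hinj0 hex hs y).1 hy
      have := h.glue_colim.subsingleton_H1
      rw [Subsingleton.elim z 0, map_zero]
  exact isNoetherian_of_injective ((LC15.Hδ I 1 hinj0 hex hs) ∘ₗ e.toLinearMap ∘ₗ ψ)
    (hδ.comp (e.injective.comp hψ))

/-- Divisibility stabilises. -/
theorem exists_stable [IsNoetherianRing A]
    (h2 : Module.Finite A (LocCoh.H (Ideal.span (Set.range g)) 2 (M 0))) :
    ∃ n0 : ℕ, ∀ y : h.Colim, ∃ y' : h.Colim, f ^ (n0 + 1) • y = f ^ (n0 + 2) • y' := by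
  have := h.isNoetherian_quot h2
  let q := (LinearMap.range (f • (LinearMap.id : h.Colim →ₗ[A] h.Colim))).mkQ
  obtain ⟨n0, hn0⟩ := monotone_stabilizes_iff_noetherian.mpr this
    ⟨fun n => LinearMap.range (q ∘ₗ h.incl n), monotone_nat_of_le_succ fun n => by
      rintro _ ⟨x, rfl⟩
      exact ⟨h.muc n.le_succ x, congrArg q (h.incl_muc n.le_succ x)⟩⟩
  refine ⟨n0, fun y => ?_⟩
  obtain ⟨m, hm, x, rfl⟩ := h.exists_incl y n0
  have hx : q (h.incl m x) ∈ LinearMap.range (q ∘ₗ h.incl n0) := (hn0 m hm).ge ⟨x, rfl⟩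
  obtain ⟨z, hz⟩ := hx
  obtain ⟨y', hy'⟩ := (Submodule.Quotient.eq _).mp (show q (h.incl m x) = q (h.incl n0 z) from hz.symm)
  refine ⟨y', ?_⟩
  have : f • y' = h.incl m x - h.incl n0 z := hy'
  rw [pow_succ f (n0 + 1), mul_smul, this, smul_sub, ← map_smul (h.incl n0), h.kill, map_zero, sub_zero]

/-- Enough divisible elements lift to the limit. -/
theorem loc_surj [IsNoetherianRing A]
    (h2 : Module.Finite A (LocCoh.H (Ideal.span (Set.range g)) 2 (M 0))) (x : M 0) (i : ι) :
    ∃ k : ℕ, ∃ s ∈ limSub p, s 0 = g i ^ k • x := by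
  obtain ⟨n0, hn0⟩ := h.exists_stable h2
  have hdvd : ∀ j, ∃ (k : ℕ) (y : M j), g i ^ k • h.incl 0 x = f ^ j • h.incl j y := by
    intro j
    induction j with
    | zero => exact ⟨0, x, by simp⟩
    | succ j ih =>
      obtain ⟨k, y, hy⟩ := ih
      obtain ⟨k', y', hy'⟩ := h.lsurj j y i
      refine ⟨k' + k, y', ?_⟩
      rw [pow_add, mul_smul, hy, pow_succ, mul_smul, h.smul_incl, hy', map_smul, smul_comm]
  obtain ⟨k, y, hy⟩ := hdvd (n0 + 1)
  choose nxt hnxt using hn0
  let ys : ℕ → h.Colim := fun j => Nat.rec (h.incl (n0 + 1) y) (fun _ z => nxt z) j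
  let w : ℕ → h.Colim := fun j => f ^ (n0 + 1) • ys j
  have hw : ∀ j, f • w (j + 1) = w j := fun j => by
    show f • (f ^ (n0 + 1) • nxt (ys j)) = f ^ (n0 + 1) • ys j
    rw [smul_smul, ← pow_succ', hnxt]
  have hkill : ∀ j, f ^ (j + 1) • w j = 0 := by
    intro j
    induction j with
    | zero =>
      show f ^ (0 + 1) • (f ^ (n0 + 1) • h.incl (n0 + 1) y) = 0
      rw [← hy, smul_comm, ← map_smul (h.incl 0), h.kill, map_zero, smul_zero]
    | succ j ih => rw [pow_succ, mul_smul, hw, ih]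
  choose s hs using fun j => h.exists_incl_eq j (w j) (hkill j)
  refine ⟨k, s, fun j => h.incl_injective j ?_, h.incl_injective 0 ?_⟩
  · rw [← h.smul_incl, hs, hs, hw]
  · rw [hs, map_smul, hy]
    rfl

omit [Finite ι] in
theorem smul_proj_zero (s : limSub p) : f • (s : ∀ n, M n) 0 = 0 := by
  simpa using h.kill 0 ((s : ∀ n, M n) 0)

/-- The kernel of the first projection. -/
theorem exists_eq_smul (s : limSub p) (hs : (s : ∀ n, M n) 0 = 0) : ∃ t : limSub p, s = f • t := by
  have hk : ∀ n, f ^ (n + 1) • h.incl (n + 1) ((s : ∀ n, M n) (n + 1)) = 0 := fun n => by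
    induction n with
    | zero => rw [zero_add, pow_one, h.smul_incl, s.2 0, hs, map_zero]
    | succ n ih => rw [pow_succ, mul_smul, h.smul_incl, s.2, ih]
  have hk' : ∀ n, ∃ x, h.mu n x = (s : ∀ n, M n) (n + 1) := fun n =>
    h.exists_mu_eq _ (h.incl_injective (n + 1) (by rw [map_smul, hk, map_zero]))
  choose t ht using hk'
  refine ⟨⟨t, fun n => h.mu_injective n ?_⟩, Subtype.ext (funext fun n => ?_)⟩
  · rw [h.mu_p, ht, ← h.p_mu, ht, s.2]
  · show (s : ∀ n, M n) n = f • t n
    rw [← h.p_mu, ht, s.2]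

theorem smul_injective : Function.Injective fun s : limSub p => f • s := by
  intro s s' e
  refine Subtype.ext (funext fun n => h.mu_injective n ?_)
  have : f • (s : ∀ n, M n) (n + 1) = f • (s' : ∀ n, M n) (n + 1) :=
    congrFun (congrArg Subtype.val e) (n + 1)
  rw [← s.2 n, ← s'.2 n, h.mu_p, h.mu_p, this]

theorem finite_limSub [IsNoetherianRing A] [IsPrecomplete (Ideal.span {f}) A] [Module.Finite A (M 0)] :
    Module.Finite A (limSub p) := by
  classical
  let π : limSub p →ₗ[A] M 0 := LinearMap.proj 0 ∘ₗ (limSub p).subtype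
  obtain ⟨T, hT⟩ := IsNoetherian.noetherian (LinearMap.range π)
  have hmem : ∀ x : T, ∃ s, π s = x.1 := fun x => hT.le (Submodule.subset_span x.2)
  choose S hS using hmem
  have hdec : ∀ s : limSub p, ∃ (c : T → A) (t : limSub p), s = ∑ x : T, c x • S x + f • t := by
    intro s
    have hs : π s ∈ Submodule.span A (Set.range fun x : T => (x : M 0)) := by
      rw [Subtype.range_coe_subtype]
      exact hT.ge ⟨s, rfl⟩
    obtain ⟨c, hc⟩ := Submodule.mem_span_range_iff_exists_fun A |>.mp hs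
    obtain ⟨t, ht⟩ := h.exists_eq_smul (s - ∑ x : T, c x • S x) (by
      show π (s - ∑ x : T, c x • S x) = 0
      simp only [map_sub, map_sum, map_smul, hS, hc, sub_self])
    exact ⟨c, t, by rw [← ht, add_sub_cancel]⟩
  choose c nx hcn using hdec
  refine ⟨⟨Finset.univ.image S, eq_top_iff.mpr fun s _ => ?_⟩⟩
  let t : ℕ → limSub p := fun j => Nat.rec s (fun _ z => nx z) j
  let a : T → ℕ → A := fun x j => ∑ l ∈ Finset.range j, f ^ l * c (t l) x
  have key : ∀ j, s = ∑ x : T, a x j • S x + f ^ j • t j := by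
    intro j
    induction j with
    | zero => simp [a, t]
    | succ j ih =>
      conv_lhs => rw [ih, hcn (t j)]
      simp only [a, Finset.sum_range_succ, add_smul, Finset.sum_add_distrib, smul_add,
        Finset.smul_sum, smul_smul, ← pow_succ, add_assoc]
      rfl
  have hL : ∀ x : T, ∃ L : A, ∀ j, a x j ≡ L [SMOD (Ideal.span {f} ^ j • ⊤ : Submodule A A)] := by
    intro x
    refine IsPrecomplete.prec ‹_› fun {m n} hmn => ?_
    rw [SModEq.sub_mem, Ideal.span_singleton_pow, smul_eq_mul, Ideal.mul_top,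
      Ideal.mem_span_singleton]
    refine dvd_sub_comm.mp ?_
    simp only [a, ← Finset.sum_range_add_sum_Ico _ hmn, add_sub_cancel_left]
    exact Finset.dvd_sum fun l hl => (pow_dvd_pow f (Finset.mem_Ico.mp hl).1).trans (dvd_mul_right _ _)
  choose L hL using hL
  have hfin : s = ∑ x : T, L x • S x := by
    refine Subtype.ext (funext fun n => ?_)
    have hd : ∀ x : T, ∃ b, a x (n + 1) - L x = f ^ (n + 1) * b := fun x => by
      have h1 := hL x (n + 1)
      rw [SModEq.sub_mem, Ideal.span_singleton_pow, smul_eq_mul, Ideal.mul_top,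
        Ideal.mem_span_singleton] at h1
      exact h1
    choose b hb using hd
    have e : s = ∑ x : T, L x • S x + f ^ (n + 1) • (∑ x : T, b x • S x + t (n + 1)) := by
      rw [key (n + 1), smul_add, Finset.smul_sum, ← add_assoc, ← Finset.sum_add_distrib]
      simp only [smul_smul, ← add_smul, ← hb, add_sub_cancel]
    conv_lhs => rw [e]
    show (_ : ∀ n, M n) n + f ^ (n + 1) • (_ : ∀ n, M n) n = _
    rw [h.kill, add_zero]
  rw [hfin]
  exact Submodule.sum_mem _ fun x _ => Submodule.smul_mem _ _ (Submodule.subset_span (by simp))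

end Tower

end Groth.Agent.Pure83
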