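import Groth.Agent.Pure83.CoverReduce
import Groth.Agent.Pure83.TowerLimit
import Groth.Agent.FEt83.UHEquiv

/-!
# The tower of lifts of a cover of the punctured spectrum of a hypersurface
-/

universe u

open CategoryTheory Limits AlgebraicGeometry TopologicalSpace Opposite

namespace Groth.Agent.Pure83

theorem exists_eq_smul_of_flat {R M : Type u} [CommRing R] [AddCommGroup M] [Module R M] [Module.Flat R M]
    {f e : R} (hfe : ∀ a : R, f * a = 0 → ∃ b, a = e * b) {m : M} (hm : f • m = 0) :
    ∃ m', m = e • m' := by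
  obtain ⟨κ, a, y, hy, ha⟩ := Module.Flat.isTrivialRelation_of_sum_smul_eq_zero
    (f := fun _ : Fin 1 => f) (x := fun _ => m) (by simpa using hm)
  have ha' : ∀ j, ∃ b, a 0 j = e * b := fun j => hfe _ (by simpa using ha j)
  choose b hb using ha'
  refine ⟨∑ j, b j • y j, ?_⟩
  rw [Finset.smul_sum]
  simpa [hb, mul_smul] using hy 0

set_option linter.unusedSectionVars false

variable {A : Type u} [CommRing A] [IsLocalRing A] [IsNoetherianRing A]

/-- The ideals of the thickenings of `V(f)`; `Jn f 0` is `(f)` on the nose. -/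
def Jn (f : A) : ℕ → Ideal A
  | 0 => Ideal.span {f}
  | n + 1 => Ideal.span {f ^ (n + 2)}

theorem Jn_eq (f : A) (n : ℕ) : Jn f n = Ideal.span {f ^ (n + 1)} := by
  cases n with
  | zero => show Ideal.span {f} = _; rw [zero_add, pow_one]
  | succ n => rfl

theorem Jn_succ_le (f : A) (n : ℕ) : Jn f (n + 1) ≤ Jn f n := by
  rw [Jn_eq, Jn_eq, Ideal.span_singleton_le_span_singleton]
  exact pow_dvd_pow f (Nat.le_succ _)

/-- The rings of the thickenings. -/
abbrev Rn (f : A) (n : ℕ) : Type u := A ⧸ Jn f n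

/-- Restriction between thickenings. -/
noncomputable abbrev rnMap (f : A) (n : ℕ) : Rn f (n + 1) →+* Rn f n :=
  Ideal.Quotient.factor (Jn_succ_le f n)

variable {f : A}

theorem isLocalRing_rn (hf : f ∈ IsLocalRing.maximalIdeal A) (n : ℕ) : IsLocalRing (Rn f n) := by
  have : Nontrivial (Rn f n) := Ideal.Quotient.nontrivial_iff.mpr
    (ne_top_of_le_ne_top (IsLocalRing.maximalIdeal.isMaximal A).ne_top
      (by rw [Jn_eq, Ideal.span_singleton_le_iff_mem]; exact Ideal.pow_mem_of_mem _ hf _ n.succ_pos))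
  exact IsLocalRing.of_surjective' (Ideal.Quotient.mk _) Ideal.Quotient.mk_surjective

theorem maximalIdeal_rn [∀ n, IsLocalRing (Rn f n)] (n : ℕ) :
    (IsLocalRing.maximalIdeal A).map (Ideal.Quotient.mk (Jn f n)) = IsLocalRing.maximalIdeal (Rn f n) ∧
      (IsLocalRing.maximalIdeal (Rn f n)).comap (Ideal.Quotient.mk _) = IsLocalRing.maximalIdeal A := by
  have h := IsLocalRing.eq_maximalIdeal (Ideal.comap_isMaximal_of_surjective
    (Ideal.Quotient.mk (Jn f n)) Ideal.Quotient.mk_surjective (K := IsLocalRing.maximalIdeal (Rn f n)))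
  exact ⟨(congrArg (Ideal.map _) h.symm).trans
    (Ideal.map_comap_of_surjective _ Ideal.Quotient.mk_surjective _), h⟩

variable [hR : ∀ n, IsLocalRing (Rn f n)]

/-- The punctured thickenings. -/
noncomputable abbrev Un (f : A) [∀ n, IsLocalRing (Rn f n)] (n : ℕ) : Scheme.{u} :=
  (FEt.puncturedSpec (Rn f n) : Scheme.{u})

theorem preimage_punctured (n : ℕ) (q : Spec (CommRingCat.of (Rn f n))) :
    Spec.map (CommRingCat.ofHom (rnMap f n)) q ∈ FEt.puncturedSpec (Rn f (n + 1)) ↔
      q ∈ FEt.puncturedSpec (Rn f n) := by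
  have hs := Ideal.Quotient.factor_surjective (Jn_succ_le f n)
  have hm := IsLocalRing.eq_maximalIdeal (Ideal.comap_isMaximal_of_surjective (rnMap f n) hs
    (K := IsLocalRing.maximalIdeal (Rn f n)))
  refine Iff.trans (mem_puncturedSpec_iff _) (Iff.trans ?_ (mem_puncturedSpec_iff _).symm)
  exact not_congr ⟨fun e => Ideal.comap_injective_of_surjective _ hs (e.trans hm.symm),
    fun e => (congrArg (Ideal.comap (rnMap f n)) e).trans hm⟩

/-- The transition maps of the punctured thickenings. -/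
noncomputable def tn (f : A) [∀ n, IsLocalRing (Rn f n)] (n : ℕ) : Un f n ⟶ Un f (n + 1) :=
  IsOpenImmersion.lift (FEt.puncturedSpec (Rn f (n + 1))).ι
    ((FEt.puncturedSpec (Rn f n)).ι ≫ Spec.map (CommRingCat.ofHom (rnMap f n))) (by
    rintro _ ⟨q, rfl⟩
    rw [Scheme.Opens.range_ι]
    exact (preimage_punctured n _).mpr q.2)

theorem tn_ι (n : ℕ) : tn f n ≫ (FEt.puncturedSpec (Rn f (n + 1))).ι =
    (FEt.puncturedSpec (Rn f n)).ι ≫ Spec.map (CommRingCat.ofHom (rnMap f n)) :=
  IsOpenImmersion.lift_fac _ _ _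

theorem isPullback_tn (n : ℕ) : IsPullback (FEt.puncturedSpec (Rn f n)).ι (tn f n)
    (Spec.map (CommRingCat.ofHom (rnMap f n))) (FEt.puncturedSpec (Rn f (n + 1))).ι := by
  refine IsOpenImmersion.isPullback (tn f n) (FEt.puncturedSpec (Rn f n)).ι
    (FEt.puncturedSpec (Rn f (n + 1))).ι (Spec.map (CommRingCat.ofHom (rnMap f n))) (tn_ι n).symm ?_ |>.flip
  rw [Scheme.Opens.opensRange_ι, Scheme.Opens.opensRange_ι]
  exact TopologicalSpace.Opens.ext (Set.ext fun q => preimage_punctured n q)

theorem isClosedImmersion_tn (n : ℕ) : IsClosedImmersion (tn f n) :=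
  MorphismProperty.of_isPullback (P := @IsClosedImmersion) (isPullback_tn n)
    (IsClosedImmersion.spec_of_surjective _ (Ideal.Quotient.factor_surjective (Jn_succ_le f n)))

theorem surjective_tn (n : ℕ) : Surjective (tn f n) := by
  refine ⟨fun q => ?_⟩
  have hs := Ideal.Quotient.factor_surjective (Jn_succ_le f n)
  let p : PrimeSpectrum (Rn f (n + 1)) := (FEt.puncturedSpec (Rn f (n + 1))).ι q
  have hker : RingHom.ker (rnMap f n) ≤ p.asIdeal := by
    rw [Ideal.Quotient.factor_ker, Jn_eq f n, Ideal.map_span, Set.image_singleton,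
      Ideal.span_singleton_le_iff_mem, map_pow]
    refine Ideal.pow_mem_of_mem _ (p.isPrime.mem_of_pow_mem (n + 2) ?_) _ n.succ_pos
    rw [← map_pow, Ideal.Quotient.eq_zero_iff_mem.mpr
      (show f ^ (n + 2) ∈ Jn f (n + 1) from Ideal.mem_span_singleton_self (f ^ (n + 2)))]
    exact zero_mem _
  have hp : p.asIdeal ∈ Set.univ := trivial
  let r : Spec (CommRingCat.of (Rn f n)) :=
    (⟨p.asIdeal.map (rnMap f n), Ideal.map_isPrime_of_surjective hs hker⟩ : PrimeSpectrum (Rn f n))
  have hr : Spec.map (CommRingCat.ofHom (rnMap f n)) r = p := by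
    refine PrimeSpectrum.ext ?_
    show (p.asIdeal.map (rnMap f n)).comap (rnMap f n) = p.asIdeal
    rw [Ideal.comap_map_of_surjective _ hs, ← RingHom.ker_eq_comap_bot, sup_eq_left]
    exact hker
  obtain ⟨z, -, hz⟩ := Scheme.Pullback.exists_preimage_pullback
    (f := Spec.map (CommRingCat.ofHom (rnMap f n))) (g := (FEt.puncturedSpec (Rn f (n + 1))).ι) r q hr
  refine ⟨(isPullback_tn n).isoPullback.inv z, ?_⟩
  rw [← Scheme.Hom.comp_apply, (isPullback_tn n).isoPullback_inv_snd, hz]

theorem exists_step (n : ℕ) (Y : FEt.Cat (Un f n)) :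
    ∃ Y' : FEt.Cat (Un f (n + 1)), Nonempty ((FEt.restrict (tn f n)).obj Y' ≅ Y) := by
  have := isClosedImmersion_tn (f := f) n
  have := surjective_tn (f := f) n
  have : IsIntegralHom (tn f n) := inferInstance
  have : UniversallyInjective (tn f n) := inferInstance
  exact (FEt83.essSurj_restrict (tn f n)).mem_essImage Y

variable (Y0 : FEt.Cat (Un f 0))

/-- The lifts of a cover to the thickenings. -/
noncomputable def coverSeq : ∀ n, FEt.Cat (Un f n)
  | 0 => Y0
  | n + 1 => (exists_step n (coverSeq n)).choose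

/-- The transition morphisms of the lifts. -/
noncomputable def coverMap (n : ℕ) : (coverSeq Y0 n).left ⟶ (coverSeq Y0 (n + 1)).left :=
  (exists_step n (coverSeq Y0 n)).choose_spec.some.inv.left ≫
    pullback.fst (coverSeq Y0 (n + 1)).hom (tn f n)

set_option backward.isDefEq.respectTransparency.types false in
theorem isReduction_coverMap (n : ℕ) : IsReduction (rnMap f n) (tn f n) (coverMap Y0 n) := by
  let e : (FEt.restrict (tn f n)).obj (coverSeq Y0 (n + 1)) ≅ coverSeq Y0 n :=
    (exists_step n (coverSeq Y0 n)).choose_spec.some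
  have hw : e.inv.left ≫ pullback.snd (coverSeq Y0 (n + 1)).hom (tn f n) = (coverSeq Y0 n).hom :=
    MorphismProperty.Over.w e.inv
  have hiso : IsIso e.inv.left := by
    refine ⟨⟨e.hom.left, ?_, ?_⟩⟩
    · exact congrArg (fun k => k.left) e.inv_hom_id
    · exact congrArg (fun k => k.left) e.hom_inv_id
  have hcart : IsPullback (coverMap Y0 n) (coverSeq Y0 n).hom (coverSeq Y0 (n + 1)).hom (tn f n) :=
    IsPullback.of_iso (IsPullback.of_hasPullback (coverSeq Y0 (n + 1)).hom (tn f n))
      (asIso e.inv.left).symm (Iso.refl _) (Iso.refl _) (Iso.refl _)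
      (IsIso.inv_hom_id_assoc e.inv.left _).symm (hw ▸ (IsIso.inv_hom_id_assoc e.inv.left _).symm) (by simp) (by simp)
  exact ⟨Ideal.Quotient.factor_surjective _, tn_ι n, hcart,
    MorphismProperty.of_isPullback (P := @IsClosedImmersion) hcart.flip (isClosedImmersion_tn n)⟩

/-- The sections on the thickenings. -/
noncomputable abbrev Mn (n : ℕ) : Type u := Γ((coverSeq Y0 n).left, ⊤)

noncomputable instance algMn (n : ℕ) : Algebra A (Mn Y0 n) :=
  ((algebraMap (Rn f n) (Mn Y0 n)).comp (Ideal.Quotient.mk (Jn f n))).toAlgebra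

theorem smul_mn (n : ℕ) (a : A) (x : Mn Y0 n) : a • x = Ideal.Quotient.mk (Jn f n) a • x := rfl

set_option backward.isDefEq.respectTransparency.types false in
/-- The transition algebra maps. -/
noncomputable def pn (n : ℕ) : Mn Y0 (n + 1) →ₐ[A] Mn Y0 n :=
  { (coverMap Y0 n).appTop.hom with
    commutes' := fun a => by
      show (coverMap Y0 n).appTop (algebraMap (Rn f (n + 1)) (Mn Y0 (n + 1)) (Ideal.Quotient.mk _ a)) = _
      rw [(isReduction_coverMap Y0 n).map_algebraMap]
      rfl }

theorem pn_apply (n : ℕ) (y : Mn Y0 (n + 1)) : pn Y0 n y = (coverMap Y0 n).appTop y := rfl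

variable {r : ℕ} {g : Fin r → A}

theorem span_image (hg : Ideal.span (Set.range g) = IsLocalRing.maximalIdeal A) (n : ℕ) :
    Ideal.span (Set.range fun i => Ideal.Quotient.mk (Jn f n) (g i)) = IsLocalRing.maximalIdeal (Rn f n) := by
  rw [← (maximalIdeal_rn n).1, ← hg, Ideal.map_span, ← Set.range_comp]
  rfl

theorem isSectionRing_mn (hg : Ideal.span (Set.range g) = IsLocalRing.maximalIdeal A) (n : ℕ) :
    IsSectionRing (Rn f n) (Mn Y0 n) fun i => Ideal.Quotient.mk (Jn f n) (g i) :=
  isSectionRing (coverSeq Y0 n) _ (coversPunctured_of_span _ (span_image hg n))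

set_option maxHeartbeats 1000000 in
/-- The sections form a tower. -/
theorem tower_mn (hfz : f ∈ nonZeroDivisors A)
    (hg : Ideal.span (Set.range g) = IsLocalRing.maximalIdeal A) :
    Tower g f (Mn Y0) fun n => (pn Y0 n).toLinearMap := by
  have hmem : ∀ (n : ℕ) (i : Fin r), Ideal.Quotient.mk (Jn f n) (g i) ∈ IsLocalRing.maximalIdeal (Rn f n) :=
    fun n i => (span_image (f := f) hg n).le (Ideal.subset_span (Set.mem_range_self (f := fun i => Ideal.Quotient.mk (Jn f n) (g i)) i))
  refine ⟨fun n m hm => (isSectionRing_mn Y0 hg n).sep m fun i => ?_, fun n k a ha => ?_,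
    fun n x => ?_, fun n x i => ?_, fun n y hy i => ?_, fun n y hy i => ?_⟩
  · obtain ⟨k, hk⟩ := hm i
    exact ⟨k, by rw [← map_pow]; exact hk⟩
  · obtain ⟨m, hm⟩ := (isSectionRing_mn Y0 hg n).glue k a fun i j => by
      rw [← map_pow, ← map_pow]; exact ha i j
    exact ⟨m, fun i => by rw [smul_mn, map_pow]; exact hm i⟩
  · rw [smul_mn, Ideal.Quotient.eq_zero_iff_mem.mpr (Jn_eq f n ▸ Ideal.mem_span_singleton_self _),
      zero_smul]
  · obtain ⟨k, y, hy⟩ := (isReduction_coverMap Y0 n).loc_surjective _ (hmem (n + 1) i) x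
    refine ⟨k, y, ?_⟩
    show pn Y0 n y = _
    rw [pn_apply, hy, Algebra.smul_def, map_pow]
    rfl
  · obtain ⟨k, hk⟩ := (isReduction_coverMap Y0 n).loc_kernel _ (hmem (n + 1) i) y hy
    refine ⟨k, ?_⟩
    rw [Ideal.Quotient.factor_ker, Jn_eq f n, Ideal.map_span, Set.image_singleton, Ideal.map_span,
      Set.image_singleton, Ideal.mem_span_singleton'] at hk
    obtain ⟨z, hz⟩ := hk
    refine ⟨z, ?_⟩
    rw [Algebra.smul_def, Algebra.smul_def, map_pow]
    exact hz.symm.trans (mul_comm _ _)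
  · let R := Rn f (n + 1)
    let c : R := Ideal.Quotient.mk _ (g i)
    let T := Mn Y0 (n + 1)
    let Rc := Localization.Away c
    let Tc := Localization.Away (algebraMap R T c)
    let _ := (awayStr R T c).toAlgebra
    have : Module.Flat Rc Tc := (isSectionRing_mn Y0 hg (n + 1)).flat c (hmem (n + 1) i)
    have : IsScalarTower R Rc Tc := IsScalarTower.of_algebraMap_eq fun a => by
      rw [IsScalarTower.algebraMap_apply R T Tc]
      exact ((IsLocalization.map_eq (Q := Tc) (S := Rc) (M := Submonoid.powers c) _ a) :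
        (awayStr R T c) (algebraMap R Rc a) = _).symm
    have : Module.Flat R Tc := Module.Flat.trans R Rc Tc
    have hann : ∀ a : R, Ideal.Quotient.mk _ f * a = 0 →
        ∃ b, a = Ideal.Quotient.mk _ (f ^ (n + 1)) * b := fun a ha => by
      obtain ⟨a, rfl⟩ := Ideal.Quotient.mk_surjective a
      rw [← map_mul, Ideal.Quotient.eq_zero_iff_mem, Jn_eq, Ideal.mem_span_singleton'] at ha
      obtain ⟨b, hb⟩ := ha
      refine ⟨Ideal.Quotient.mk _ b, ?_⟩
      rw [← map_mul]
      refine congrArg _ (sub_eq_zero.mp (mem_nonZeroDivisors_iff_left.mp hfz (a - f ^ (n + 1) * b) ?_))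
      rw [mul_sub, ← hb]; ring
    obtain ⟨z, hz⟩ := exists_eq_smul_of_flat (R := R) (M := Tc) hann
      (m := algebraMap T Tc y) (by
        rw [Algebra.smul_def, IsScalarTower.algebraMap_apply R T Tc, ← map_mul, ← Algebra.smul_def]
        show algebraMap T Tc (f • y) = 0
        rw [hy, map_zero])
    obtain ⟨⟨z', _, l, rfl⟩, hl⟩ := IsLocalization.surj (Submonoid.powers (algebraMap R T c)) z
    obtain ⟨⟨_, l', rfl⟩, hl'⟩ := (IsLocalization.eq_iff_exists (Submonoid.powers (algebraMap R T c)) Tc).mp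
      (show algebraMap T Tc (algebraMap R T c ^ l * y) =
        algebraMap T Tc (algebraMap R T (Ideal.Quotient.mk _ (f ^ (n + 1))) * z') by
        rw [map_mul, hz, map_mul, Algebra.smul_def, ← hl, IsScalarTower.algebraMap_apply R T Tc]
        ring)
    refine ⟨l' + l, algebraMap R T c ^ l' * z', ?_⟩
    rw [smul_mn, smul_mn, Algebra.smul_def, Algebra.smul_def, map_pow, map_pow, pow_add, mul_assoc]
    exact hl'.trans (mul_left_comm _ _ _)

end Groth.Agent.Pure83
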