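import Groth.Agent.Pure83.PowerSeriesPurity
import Groth.Agent.Hens22.CompletionUnrAdic
import Groth.Agent.Cohen12.FiniteLift
import Groth.Agent.EGA4Alg4.FlatReg

/-!
# Purity at rational points of relative curves over bases of depth two
-/

universe u

open CategoryTheory Limits AlgebraicGeometry IsLocalRing
open scoped Pointwise

set_option autoImplicit false
set_option linter.unusedSectionVars false

namespace Groth.Agent.Pure83

/-- Depth two passes to the completion. -/
theorem two_le_depth_completion (A : Type u) [CommRing A] [IsNoetherianRing A] [IsLocalRing A]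
    (hA : (2 : ℕ∞) ≤ LocCoh.depth A A) :
    (2 : ℕ∞) ≤ LocCoh.depth (AdicCompletion (maximalIdeal A) A) (AdicCompletion (maximalIdeal A) A) := by
  let Ah := AdicCompletion (maximalIdeal A) A
  have : IsNoetherianRing Ah := Cohen12.isNoetherianRing_completion A
  have : Module.FaithfullyFlat A Ah := faithfullyFlat_completion
  have hmh : (maximalIdeal A).map (algebraMap A Ah) = maximalIdeal Ah :=
    AdicCompletion.maximalIdeal_eq_map.symm
  obtain ⟨x, hxm, y, hym, hx, hy⟩ := exists_pair_of_depth_two hA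
  have hmem : ∀ {a : A}, a ∈ maximalIdeal A → algebraMap A Ah a ∈ maximalIdeal Ah :=
    fun ha => hmh ▸ Ideal.mem_map_of_mem _ ha
  refine two_le_depth_of_pair (hmem hxm) (hmem hym)
    (isSMulRegular_iff_right_eq_zero_of_smul.mpr fun c hc => ?_) (by
      have := hy.map_flat (C := Ah)
      rwa [Ideal.map_span, Set.image_singleton] at this)
  have := RegMod.map_flat (C := Ah) (I := ⊥) (x := x) (fun a ha => (Submodule.mem_bot A).mpr
    (isSMulRegular_iff_right_eq_zero_of_smul.mp hx a ((Submodule.mem_bot A).mp ha))) c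
    (by rw [Ideal.map_bot, Submodule.mem_bot]; exact hc)
  rwa [Ideal.map_bot, Submodule.mem_bot] at this

set_option backward.isDefEq.respectTransparency.types false in
/-- A complete relative curve over a complete base of depth two is pure at a rational point. -/
theorem purityHolds_of_curve_point_complete {A B : Type u} [CommRing A] [IsNoetherianRing A] [IsLocalRing A]
    [IsAdicComplete (maximalIdeal A) A] [CommRing B] [IsNoetherianRing B] [IsLocalRing B]
    [IsAdicComplete (maximalIdeal B) B] [Algebra A B] [IsLocalHom (algebraMap A B)] [Module.Flat A B]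
    (hA : (2 : ℕ∞) ≤ LocCoh.depth A A) (hres : ∀ b : B, ∃ a : A, b - algebraMap A B a ∈ maximalIdeal B)
    (t : B) (htm : t ∈ maximalIdeal B)
    (hmax : maximalIdeal B ≤ (maximalIdeal A).map (algebraMap A B) ⊔ Ideal.span {t})
    (ht : RegMod ((maximalIdeal A).map (algebraMap A B)) t) : FEt.PurityHolds B := by
  let J : Ideal B := Ideal.span {t}
  have hJm : J ≤ maximalIdeal B := (Ideal.span_singleton_le_iff_mem _).mpr htm
  have hle : (maximalIdeal A).map (algebraMap A B) ≤ maximalIdeal B :=
    ((local_hom_TFAE (algebraMap A B)).out 0 2).mp ‹_›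
  obtain ⟨h1, h2⟩ := EGA4Alg4.FlatReg13.regular_and_flat_of_fibre (A := A) (B := B) (M := B) t (by
    refine isSMulRegular_iff_right_eq_zero_of_smul.mpr fun y hy => ?_
    obtain ⟨b, rfl⟩ := Submodule.Quotient.mk_surjective _ y
    rw [← Submodule.Quotient.mk_smul, Submodule.Quotient.mk_eq_zero, smul_eq_mul, smul_eq_mul, Ideal.mul_top] at hy
    rw [Submodule.Quotient.mk_eq_zero, smul_eq_mul, Ideal.mul_top]
    exact ht b hy)
  have hJ : t • (⊤ : Submodule B B) = (J : Submodule B B) := by
    refine Submodule.ext fun b => ?_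
    rw [Submodule.mem_smul_pointwise_iff_exists, Ideal.mem_span_singleton']
    exact ⟨fun ⟨y, _, hy⟩ => ⟨y, by rw [← hy, smul_eq_mul, mul_comm]⟩,
      fun ⟨y, hy⟩ => ⟨y, trivial, by rw [← hy, smul_eq_mul, mul_comm]⟩⟩
  have : Module.Flat A (B ⧸ J) :=
    Module.Flat.of_linearEquiv ((Submodule.quotEquivOfEq _ _ hJ).restrictScalars A).symm
  have : Nontrivial (B ⧸ J) :=
    Ideal.Quotient.nontrivial_iff.mpr (ne_top_of_le_ne_top (maximalIdeal.isMaximal B).ne_top hJm)
  have : IsLocalRing (B ⧸ J) := .of_surjective' _ Ideal.Quotient.mk_surjective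
  have : IsLocalHom (algebraMap A (B ⧸ J)) := ⟨fun a ha => by
    by_contra hu
    obtain ⟨c, hc⟩ := Ideal.Quotient.mk_surjective (↑ha.unit⁻¹ : B ⧸ J)
    have h : algebraMap A B a * c - 1 ∈ J := by
      rw [← Ideal.Quotient.eq, map_mul, map_one, hc]
      exact ha.mul_val_inv
    have hm := (maximalIdeal B).sub_mem ((maximalIdeal B).mul_mem_right c
      (hle (Ideal.mem_map_of_mem _ ((mem_maximalIdeal a).mpr hu)))) (hJm h)
    rw [sub_sub_cancel] at hm
    exact (maximalIdeal.isMaximal B).ne_top ((Ideal.eq_top_iff_one _).mpr hm)⟩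
  have : Module.FaithfullyFlat A (B ⧸ J) := Module.FaithfullyFlat.of_flat_of_isLocalHom
  have hsurj : Function.Surjective (algebraMap A (B ⧸ J)) := by
    have hI : (maximalIdeal A).map (algebraMap A (B ⧸ J)) = maximalIdeal (B ⧸ J) := by
      refine le_antisymm (((local_hom_TFAE (algebraMap A (B ⧸ J))).out 0 2).mp ‹_›) ?_
      rw [← IsLocalRing.map_maximalIdeal_of_surjective _ (Ideal.Quotient.mk_surjective (I := J)),
        Ideal.map_le_iff_le_comap]
      intro b hb
      obtain ⟨c, hc, d, hd, rfl⟩ := Submodule.mem_sup.mp (hmax hb)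
      show Ideal.Quotient.mk J (c + d) ∈ (maximalIdeal A).map (algebraMap A (B ⧸ J))
      rw [map_add, (Ideal.Quotient.eq_zero_iff_mem.mpr hd), add_zero, IsScalarTower.algebraMap_eq A B (B ⧸ J),
        ← Ideal.map_map]
      exact Ideal.mem_map_of_mem _ hc
    have : IsHausdorff (maximalIdeal (B ⧸ J)) (B ⧸ J) := inferInstance
    have : IsHausdorff ((maximalIdeal A).map (algebraMap A (B ⧸ J))) (B ⧸ J) := by rw [hI]; infer_instance
    refine surjective_of_mk_map_comp_surjective (I := maximalIdeal A) (algebraMap A (B ⧸ J)) fun z => ?_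
    obtain ⟨w, rfl⟩ := Ideal.Quotient.mk_surjective z
    obtain ⟨b, rfl⟩ := Ideal.Quotient.mk_surjective w
    obtain ⟨a, ha⟩ := hres b
    refine ⟨a, Ideal.Quotient.eq.mpr ?_⟩
    rw [hI, IsScalarTower.algebraMap_apply A B (B ⧸ J), Ideal.Quotient.algebraMap_eq, ← map_sub,
      ← IsLocalRing.map_maximalIdeal_of_surjective _ (Ideal.Quotient.mk_surjective (I := J))]
    exact Ideal.mem_map_of_mem _ ((Ideal.neg_mem_iff _).mp (by rwa [neg_sub]))
  let e : A ≃+* B ⧸ J := RingEquiv.ofBijective (algebraMap A (B ⧸ J))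
    ⟨FaithfulSMul.algebraMap_injective A (B ⧸ J), hsurj⟩
  have htnil : ∀ n : ℕ, t ^ n ∉ (maximalIdeal A).map (algebraMap A B) := by
    intro n
    induction n with
    | zero => exact fun h => (maximalIdeal.isMaximal B).ne_top ((Ideal.eq_top_iff_one _).mpr (hle (by simpa using h)))
    | succ n ih => exact fun h => ih (ht _ (by rwa [pow_succ'] at h))
  refine purityHolds_of_section hA t htm h1 (e.symm.toRingHom.comp (Ideal.Quotient.mk J)) (fun a => ?_) ?_ htnil
  · exact e.symm_apply_apply a
  · ext b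
    rw [RingHom.mem_ker]
    show e.symm (Ideal.Quotient.mk J b) = 0 ↔ b ∈ Ideal.span {t}
    rw [map_eq_zero_iff _ e.symm.injective, Ideal.Quotient.eq_zero_iff_mem]

end Groth.Agent.Pure83
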