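import Mathlib.RingTheory.Flat.FaithfullyFlat.Algebra
import Mathlib.RingTheory.Etale.Descent
import Mathlib.RingTheory.Finiteness.Descent
import Mathlib.RingTheory.TensorProduct.Maps

/-!
# Descent of algebras given away from the closed point
-/

universe u

open TensorProduct

namespace Groth.Agent.Pure83

variable {A C : Type u} [CommRing A] [CommRing C] [Algebra A C] [Module.FaithfullyFlat A C]
  (I : Ideal A)

/-- An algebra over a faithfully flat extension which is a torsion modification of a base change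
descends. -/
theorem exists_descended_algebra
    (hsub : ∀ (k : ℕ) (c : C), ∃ a : A, c - algebraMap A C a ∈ (I ^ k).map (algebraMap A C))
    {B' M : Type u} [CommRing B'] [Algebra A B'] [Algebra C B'] [IsScalarTower A C B']
    [CommRing M] [Algebra A M] (φ : B' →ₐ[C] C ⊗[A] M)
    (hT : ∀ x : C ⊗[A] M, ∃ k : ℕ, ∀ a ∈ I ^ k, ∃ e, φ e = algebraMap A C a • x)
    (hK : ∀ b : B', φ b = 0 → ∃ k : ℕ, ∀ a ∈ I ^ k, algebraMap A B' a * b = 0)
    [Module.Finite C B'] [Algebra.Etale C B'] :
    ∃ (B : Type u) (_ : CommRing B) (_ : Algebra A B) (ι : B →ₐ[A] B') (ψ : B →ₐ[A] M),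
      Module.Finite A B ∧ Algebra.Etale A B ∧
      Function.Bijective (Algebra.TensorProduct.lift (Algebra.ofId C B') ι fun _ _ => .all _ _) ∧
      ∀ b, φ (ι b) = 1 ⊗ₜ ψ b := by
  let r : M →ₐ[A] C ⊗[A] M := Algebra.TensorProduct.includeRight
  have hr : Function.Injective r := Module.FaithfullyFlat.tensorProduct_mk_injective (A := A) (B := C) M
  let B : Subalgebra A B' := r.range.comap (φ.restrictScalars A)
  choose ψ₀ hψ₀ using fun b : B => (show ∃ m, r m = φ (b : B') from b.2)
  let ψ : B →ₐ[A] M :=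
    { toFun := ψ₀
      map_one' := hr (by rw [hψ₀, map_one r]; exact map_one φ)
      map_mul' := fun x y => hr (by rw [map_mul r, hψ₀, hψ₀, hψ₀]; exact map_mul φ _ _)
      map_zero' := hr (by rw [hψ₀, map_zero r]; exact map_zero φ)
      map_add' := fun x y => hr (by rw [map_add r, hψ₀, hψ₀, hψ₀]; exact map_add φ _ _)
      commutes' := fun a => hr (by
        rw [hψ₀, r.commutes]; exact (φ.restrictScalars A).commutes a) }
  have hψ : ∀ b : B, φ (b : B') = 1 ⊗ₜ ψ b := fun b => (hψ₀ b).symm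
  let μ : C ⊗[A] B →ₐ[C] B' :=
    Algebra.TensorProduct.lift (Algebra.ofId C B') B.val fun _ _ => .all _ _
  have hμ : ∀ (c : C) (b : B), μ (c ⊗ₜ b) = algebraMap C B' c * b := fun c b =>
    Algebra.TensorProduct.lift_tmul _ _ _ _ _
  have hψμ : ∀ z, φ (μ z) = LinearMap.lTensor C ψ.toLinearMap z := by
    intro z
    induction z using TensorProduct.induction_on with
    | zero => simp
    | tmul c b =>
      rw [hμ, map_mul, φ.commutes, hψ, LinearMap.lTensor_tmul,
        Algebra.TensorProduct.algebraMap_apply, Algebra.TensorProduct.tmul_mul_tmul, mul_one,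
        one_mul]
      rfl
    | add x y hx hy => simp only [map_add, hx, hy]
  -- elements supported at the closed point come from the base
  have hkey : ∀ (x : M) (k : ℕ), (∀ a ∈ I ^ k, ∃ e, φ e = algebraMap A C a • (1 : C) ⊗ₜ[A] x) →
      ∀ c, c ∈ (I ^ k).map (algebraMap A C) → ∃ z, φ (μ z) = c ⊗ₜ x := by
    intro x k hx c hc
    induction hc using Submodule.span_induction with
    | mem _ hy =>
      obtain ⟨a, ha, rfl⟩ := hy
      obtain ⟨e, he⟩ := hx a ha
      rw [TensorProduct.smul_tmul', smul_eq_mul, mul_one] at he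
      have heB : e ∈ B := ⟨a • x, by
        show (1 : C) ⊗ₜ[A] (a • x) = φ e
        rw [he, ← smul_tmul, Algebra.smul_def, mul_one]⟩
      refine ⟨1 ⊗ₜ ⟨e, heB⟩, ?_⟩
      rw [hμ, map_one, one_mul, he]
    | zero => exact ⟨0, by simp⟩
    | add y y' _ _ hy hy' =>
      obtain ⟨z, hz⟩ := hy
      obtain ⟨z', hz'⟩ := hy'
      exact ⟨z + z', by rw [map_add, map_add, hz, hz', add_tmul]⟩
    | smul c' y _ hy =>
      obtain ⟨z, hz⟩ := hy
      exact ⟨c' • z, by rw [map_smul, map_smul, hz, smul_tmul']⟩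
  have hdec : ∀ x : C ⊗[A] M, ∃ (z : C ⊗[A] B) (m : M), x = φ (μ z) + 1 ⊗ₜ m := by
    intro x
    induction x using TensorProduct.induction_on with
    | zero => exact ⟨0, 0, by simp⟩
    | tmul c m =>
      obtain ⟨k, hk⟩ := hT ((1 : C) ⊗ₜ m)
      obtain ⟨a, ha⟩ := hsub k c
      obtain ⟨z, hz⟩ := hkey m k hk _ ha
      refine ⟨z, a • m, ?_⟩
      rw [hz, ← smul_tmul, ← add_tmul, Algebra.smul_def, mul_one, sub_add_cancel]
    | add x y hx hy =>
      obtain ⟨z, m, hz⟩ := hx
      obtain ⟨z', m', hz'⟩ := hy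
      exact ⟨z + z', m + m', by rw [map_add, map_add, tmul_add, hz, hz']; abel⟩
  have hsurj : Function.Surjective μ := by
    intro b
    obtain ⟨z, m, hzm⟩ := hdec (φ b)
    have hb : b - μ z ∈ B := ⟨m, by
      show (1 : C) ⊗ₜ[A] m = φ (b - μ z)
      rw [map_sub, hzm]; abel⟩
    exact ⟨z + 1 ⊗ₜ ⟨_, hb⟩, by rw [map_add, hμ, map_one, one_mul]; simp⟩
  -- injectivity
  let K : Submodule A B := LinearMap.ker ψ.toLinearMap
  have hker : ∀ y : C ⊗[A] K, ∃ k₀ : K, LinearMap.lTensor C K.subtype y = 1 ⊗ₜ (k₀ : B) := by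
    intro y
    induction y using TensorProduct.induction_on with
    | zero => exact ⟨0, by simp⟩
    | tmul c k₀ =>
      obtain ⟨n, hn⟩ := hK (k₀ : B) (by
        rw [hψ, show ψ (k₀ : B) = 0 from k₀.2, tmul_zero])
      obtain ⟨a, ha⟩ := hsub n c
      refine ⟨a • k₀, ?_⟩
      have hzero : ∀ d, d ∈ (I ^ n).map (algebraMap A C) → d ⊗ₜ[A] (k₀ : B) = 0 := by
        intro d hd
        induction hd using Submodule.span_induction with
        | mem _ hy =>
          obtain ⟨a, ha, rfl⟩ := hy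
          have : a • (k₀ : B) = 0 := Subtype.ext ((Algebra.smul_def a ((k₀ : B) : B')).trans (hn a ha))
          rw [Algebra.algebraMap_eq_smul_one, smul_tmul, this, tmul_zero]
        | zero => rw [zero_tmul]
        | add y y' _ _ hy hy' => rw [add_tmul, hy, hy', add_zero]
        | smul c' y _ hy => rw [← smul_tmul', hy, smul_zero]
      rw [LinearMap.lTensor_tmul, Submodule.coe_smul, ← smul_tmul, Algebra.smul_def, mul_one]
      have := hzero _ ha
      rw [sub_tmul, sub_eq_zero] at this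
      exact this
    | add x y hx hy =>
      obtain ⟨k, hk⟩ := hx
      obtain ⟨k', hk'⟩ := hy
      exact ⟨k + k', by rw [map_add, hk, hk', Submodule.coe_add, tmul_add]⟩
  have hinj : Function.Injective μ := by
    rw [injective_iff_map_eq_zero]
    intro z hz
    have h1 : z ∈ Set.range (LinearMap.lTensor C K.subtype) :=
      (Module.Flat.lTensor_exact C (LinearMap.exact_subtype_ker_map ψ.toLinearMap) z).mp
        (by rw [← hψμ, hz, map_zero])
    obtain ⟨y, rfl⟩ := h1
    obtain ⟨k₀, hk₀⟩ := hker y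
    rw [hk₀, hμ, map_one, one_mul] at hz
    rw [hk₀, show (k₀ : B) = 0 from Subtype.ext hz, tmul_zero]
  let e : C ⊗[A] B ≃ₐ[C] B' := AlgEquiv.ofBijective μ ⟨hinj, hsurj⟩
  have : Module.Finite C (C ⊗[A] B) := Module.Finite.equiv e.symm.toLinearEquiv
  have : Algebra.Etale C (C ⊗[A] B) := Algebra.Etale.of_equiv e.symm
  exact ⟨B, inferInstance, inferInstance, B.val, ψ,
    Module.Finite.of_finite_tensorProduct_of_faithfullyFlat C,
    Algebra.Etale.of_etale_tensorProduct_of_faithfullyFlat (T := C), ⟨hinj, hsurj⟩, hψ⟩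

end Groth.Agent.Pure83
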