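import Groth.Agent.Pure83.Elem
import Groth.Prelude.Def_CAlg
import Mathlib.RingTheory.Ideal.AssociatedPrime.Basic
import Mathlib.RingTheory.Ideal.AssociatedPrime.Finiteness
import Mathlib.RingTheory.Regular.RegularSequence

/-!
# Regular generators of the maximal ideal
-/

universe u

namespace Groth.Agent.Pure83

variable {A : Type u} [CommRing A]

/-- Length two weakly regular sequences from depth. -/
theorem exists_pair_of_depth_two [IsLocalRing A] (h : (2 : ℕ∞) ≤ LocCoh.depth A A) :
    ∃ y ∈ IsLocalRing.maximalIdeal A, ∃ z ∈ IsLocalRing.maximalIdeal A,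
      IsSMulRegular A y ∧ RegMod (Ideal.span {y}) z := by
  rw [LocCoh.depth, LocCoh.idealDepth, if_neg (fun e => (IsLocalRing.maximalIdeal.isMaximal A).ne_top
    (by simpa using e))] at h
  have h1 : ∃ rs : List A, (RingTheory.Sequence.IsWeaklyRegular A rs ∧
      ∀ r ∈ rs, r ∈ IsLocalRing.maximalIdeal A) ∧ 2 ≤ rs.length := by
    by_contra hne
    push Not at hne
    have : (2 : ℕ∞) ≤ 1 := h.trans (iSup₂_le fun rs hrs => by
      exact_mod_cast Nat.le_of_lt_succ (hne rs hrs))
    exact absurd this (by decide)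
  obtain ⟨rs, ⟨hrs, hmem⟩, hlen⟩ := h1
  match rs, hlen with
  | y :: z :: rest, _ =>
    obtain ⟨hy, h2⟩ := (RingTheory.Sequence.isWeaklyRegular_cons_iff A y _).mp hrs
    obtain ⟨hz, -⟩ := (RingTheory.Sequence.isWeaklyRegular_cons_iff _ z _).mp h2
    refine ⟨y, hmem y (by simp), z, hmem z (by simp), hy, fun a ha => ?_⟩
    obtain ⟨c, hc⟩ := Ideal.mem_span_singleton.mp ha
    have : z • (Submodule.Quotient.mk a : QuotSMulTop y A) = z • 0 := by
      rw [smul_zero, ← Submodule.Quotient.mk_smul, Submodule.Quotient.mk_eq_zero]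
      rw [Submodule.mem_smul_pointwise_iff_exists]
      exact ⟨c, trivial, by simpa [mul_comm] using hc.symm⟩
    obtain ⟨d, -, hd⟩ := (Submodule.mem_smul_pointwise_iff_exists _ _ _).mp
      ((Submodule.Quotient.mk_eq_zero _).mp (hz this))
    exact Ideal.mem_span_singleton.mpr ⟨d, by simpa using hd.symm⟩

/-- Every element of the maximal ideal is a combination of regular elements of it. -/
theorem mem_span_regular [IsNoetherianRing A] [IsLocalRing A] {x : A}
    (hx : IsSMulRegular A x) (hxm : x ∈ IsLocalRing.maximalIdeal A) {a : A}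
    (ha : a ∈ IsLocalRing.maximalIdeal A) :
    a ∈ Ideal.span {b | b ∈ IsLocalRing.maximalIdeal A ∧ IsSMulRegular A b} := by
  classical
  have hfin := associatedPrimes.finite A A
  have := hfin.to_subtype
  have key : ∃ k : ℕ, IsSMulRegular A (a + x ^ (k + 1)) := by
    by_contra hne
    push Not at hne
    have h1 : ∀ k, ∃ p : associatedPrimes A A, a + x ^ (k + 1) ∈ p.1 := fun k => by
      have : a + x ^ (k + 1) ∈ ({r | IsSMulRegular A r} : Set A)ᶜ := hne k
      rw [← biUnion_associatedPrimes_eq_compl_regular] at this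
      obtain ⟨p, hp, hap⟩ := Set.mem_iUnion₂.mp this
      exact ⟨⟨p, hp⟩, hap⟩
    choose p hp using h1
    obtain ⟨i, j, hij, hne'⟩ : ∃ i j, p i = p j ∧ i < j := by
      obtain ⟨i, j, hne', hij⟩ := Finite.exists_ne_map_eq_of_infinite p
      rcases lt_or_gt_of_ne hne' with h | h
      · exact ⟨i, j, hij, h⟩
      · exact ⟨j, i, hij.symm, h⟩
    obtain ⟨d, rfl⟩ := Nat.exists_eq_add_of_lt hne'
    have hd : x ^ (i + 1) * (x ^ (d + 1) - 1) ∈ (p i).1 := by
      have := (p i).1.sub_mem (hij ▸ hp (i + d + 1)) (hp i)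
      rwa [add_sub_add_left_eq_sub, show x ^ (i + d + 1 + 1) - x ^ (i + 1) =
        x ^ (i + 1) * (x ^ (d + 1) - 1) by ring] at this
    have hprime : (p i).1.IsPrime := (p i).2.isPrime
    rcases hprime.mem_or_mem hd with h | h
    · have hxp : x ∈ ({r | IsSMulRegular A r} : Set A)ᶜ := by
        rw [← biUnion_associatedPrimes_eq_compl_regular]
        exact Set.mem_iUnion₂.mpr ⟨(p i).1, (p i).2, hprime.mem_of_pow_mem _ h⟩
      exact hxp hx
    · refine hprime.ne_top (Ideal.eq_top_of_isUnit_mem _ h ?_)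
      refine IsLocalRing.notMem_maximalIdeal.mp fun hm => ?_
      refine (IsLocalRing.maximalIdeal.isMaximal A).ne_top ((Ideal.eq_top_iff_one _).mpr ?_)
      have := Ideal.sub_mem _ (Ideal.pow_mem_of_mem _ hxm (d + 1) d.succ_pos) hm
      rwa [sub_sub_cancel] at this
  obtain ⟨k, hk⟩ := key
  have hxk := Ideal.pow_mem_of_mem _ hxm (k + 1) k.succ_pos
  have h2 := Ideal.sub_mem _
    (Ideal.subset_span (α := A) (s := {b | b ∈ IsLocalRing.maximalIdeal A ∧ IsSMulRegular A b})
      (show a + x ^ (k + 1) ∈ _ from ⟨Ideal.add_mem _ ha hxk, hk⟩))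
    (Ideal.subset_span (α := A) (s := {b | b ∈ IsLocalRing.maximalIdeal A ∧ IsSMulRegular A b})
      (show x ^ (k + 1) ∈ _ from ⟨hxk, hx.pow _⟩))
  rwa [add_sub_cancel_right] at h2

/-- A finite family of regular elements containing given ones and generating the maximal ideal. -/
theorem exists_regular_generators [IsNoetherianRing A] [IsLocalRing A] {x y : A}
    (hxm : x ∈ IsLocalRing.maximalIdeal A) (hx : IsSMulRegular A x)
    (hym : y ∈ IsLocalRing.maximalIdeal A) (hy : IsSMulRegular A y) :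
    ∃ (n : ℕ) (g : Fin (n + 2) → A), g 0 = x ∧ g 1 = y ∧
      (∀ i, g i ∈ IsLocalRing.maximalIdeal A) ∧ (∀ i, IsSMulRegular A (g i)) ∧
      Ideal.span (Set.range g) = IsLocalRing.maximalIdeal A := by
  classical
  have hfg : (Ideal.span {b : A | b ∈ IsLocalRing.maximalIdeal A ∧ IsSMulRegular A b}).FG :=
    IsNoetherian.noetherian _
  obtain ⟨T, hT, hspan⟩ := Submodule.fg_span_iff_fg_span_finset_subset _ |>.mp hfg
  let w : Fin T.card → A := fun i => ((T.equivFin).symm i).1
  refine ⟨T.card, Fin.cons x (Fin.cons y w), rfl, rfl, ?_, ?_, le_antisymm ?_ ?_⟩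
  · exact Fin.cases hxm (Fin.cases hym fun i => (hT ((T.equivFin).symm i).2).1)
  · exact Fin.cases hx (Fin.cases hy fun i => (hT ((T.equivFin).symm i).2).2)
  · rw [Ideal.span_le]
    rintro _ ⟨i, rfl⟩
    exact Fin.cases (motive := fun i => (Fin.cons x (Fin.cons y w) : Fin (T.card + 2) → A) i ∈ IsLocalRing.maximalIdeal A)
      hxm (Fin.cases hym fun i => (hT ((T.equivFin).symm i).2).1) i
  · intro a ha
    have h1 := mem_span_regular hx hxm ha
    change a ∈ Submodule.span A _ at h1
    rw [hspan] at h1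
    refine Submodule.span_mono ?_ h1
    intro b hb
    exact ⟨(T.equivFin ⟨b, hb⟩).succ.succ, by simp [w]⟩

end Groth.Agent.Pure83
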