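import Groth.Agent.Pure83.Scheme
import Groth.Agent.Pure83.Gen

/-!
# Extension criteria for covers of a punctured spectrum
-/

universe u

open CategoryTheory Limits AlgebraicGeometry TopologicalSpace Opposite

namespace Groth.Agent.Pure83

variable {A : Type u} [CommRing A] [IsLocalRing A] [IsNoetherianRing A]
  (V : FEt.Cat (FEt.puncturedSpec A : Scheme.{u}))

/-- The family covers the punctured spectrum. -/
def CoversPunctured {ι : Type} (g : ι → A) : Prop :=
  ∀ p : PrimeSpectrum A, p.asIdeal ≠ IsLocalRing.maximalIdeal A → ∃ i, g i ∉ p.asIdeal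

omit [IsNoetherianRing A] in
theorem coversPunctured_of_span {ι : Type} (g : ι → A)
    (h : Ideal.span (Set.range g) = IsLocalRing.maximalIdeal A) : CoversPunctured g := by
  intro p hp
  by_contra hc
  push Not at hc
  exact hp (((IsLocalRing.maximalIdeal.isMaximal A).eq_of_le p.isPrime.ne_top
    (h ▸ Ideal.span_le.mpr (by rintro _ ⟨i, rfl⟩; exact hc i))).symm)

set_option backward.isDefEq.respectTransparency.types false in
omit [IsNoetherianRing A] in
theorem iSup_basicOpen_eq_top {ι : Type} (g : ι → A) (hcov : CoversPunctured g) :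
    (⊤ : V.left.Opens) ≤ ⨆ i, V.left.basicOpen (algebraMap A Γ(V.left, ⊤) (g i)) := by
  intro v _
  obtain ⟨i, hi⟩ := hcov ((strHom V) v) ((mem_puncturedSpec_iff _).mp (V.hom v).2)
  refine Opens.mem_iSup.mpr ⟨i, ?_⟩
  rw [← preimage_basicOpen]
  exact hi

set_option backward.isDefEq.respectTransparency.types false in
/-- The sections of a cover of the punctured spectrum form a section ring. -/
theorem isSectionRing {ι : Type} (g : ι → A) (hcov : CoversPunctured g) :
    IsSectionRing A Γ(V.left, ⊤) g := by
  let M := Γ(V.left, ⊤)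
  let W := fun i => V.left.basicOpen (algebraMap A M (g i))
  let res := fun i => V.left.presheaf.map (homOfLE (le_top : W i ≤ ⊤)).op
  have hu : ∀ i, IsUnit (res i (algebraMap A M (g i))) := fun i =>
    RingedSpace.isUnit_res_basicOpen _ _
  have hres : ∀ i (a : A) (m : M), res i (a • m) = res i (algebraMap A M a) * res i m := fun i a m => by
    rw [Algebra.smul_def, map_mul]
  refine ⟨fun c hc => (finite_etale_awayStr V hc).1, fun c hc => (finite_etale_awayStr V hc).2,
    fun m hm => ?_, fun k a ha => ?_⟩
  · refine V.left.sheaf.eq_of_locally_eq' W ⊤ (fun i => homOfLE le_top)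
      (iSup_basicOpen_eq_top V g hcov) m 0 fun i => ?_
    obtain ⟨n, hn⟩ := hm i
    have := congrArg (res i) hn
    rw [hres, map_pow, map_pow, map_zero] at this
    exact (((hu i).pow n).mul_right_eq_zero.mp this).trans (map_zero _).symm
  · choose u hu' using fun i => ((hu i).pow k).exists_left_inv
    let s : ∀ i, Γ(V.left, W i) := fun i => u i * res i (a i)
    have key : ∀ i j (Z : V.left.Opens) (hi : Z ≤ W i) (hj : Z ≤ W j),
        V.left.presheaf.map (homOfLE hi).op (s i) = V.left.presheaf.map (homOfLE hj).op (s j) := by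
      intro i j Z hi hj
      let r := V.left.presheaf.map (homOfLE (le_top : Z ≤ ⊤)).op
      have hri : ∀ m : M, V.left.presheaf.map (homOfLE hi).op (res i m) = r m := fun m => by
        rw [← ConcreteCategory.comp_apply, ← Functor.map_comp]; rfl
      have hrj : ∀ m : M, V.left.presheaf.map (homOfLE hj).op (res j m) = r m := fun m => by
        rw [← ConcreteCategory.comp_apply, ← Functor.map_comp]; rfl
      have ui := congrArg (V.left.presheaf.map (homOfLE hi).op) (hu' i)
      have uj := congrArg (V.left.presheaf.map (homOfLE hj).op) (hu' j)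
      have e := congrArg r (ha i j)
      rw [Algebra.smul_def, Algebra.smul_def, map_mul, map_mul, map_pow, map_pow, map_pow, map_pow] at e
      simp only [map_mul, map_pow, map_one, hri, hrj] at ui uj
      simp only [s, map_mul, hri, hrj]
      linear_combination (V.left.presheaf.map (homOfLE hi).op (u i) *
          V.left.presheaf.map (homOfLE hj).op (u j)) * e
        - (V.left.presheaf.map (homOfLE hi).op (u i) * r (a i)) * uj
        + (V.left.presheaf.map (homOfLE hj).op (u j) * r (a j)) * ui
    obtain ⟨m, hm, -⟩ := V.left.sheaf.existsUnique_gluing' W ⊤ (fun i => homOfLE le_top)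
      (iSup_basicOpen_eq_top V g hcov) s (fun i j => key i j _ inf_le_left inf_le_right)
    refine ⟨m, fun i => V.left.sheaf.eq_of_locally_eq' W ⊤ (fun j => homOfLE le_top)
      (iSup_basicOpen_eq_top V g hcov) _ _ fun j => ?_⟩
    show res j ((g i ^ k • (show M from m) : M)) = res j (a i)
    rw [hres, map_pow, map_pow, show res j m = s j from hm j]
    have e := congrArg (res j) (ha i j)
    rw [hres, hres, map_pow, map_pow, map_pow, map_pow] at e
    have uj := hu' j
    simp only [s]
    linear_combination -(u j) * e + res j (a i) * uj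

set_option backward.isDefEq.respectTransparency.types false in
/-- The cover is the preimage of the punctured spectrum in the spectrum of its sections. -/
theorem isPullback_sec (hdepth : (2 : ℕ∞) ≤ LocCoh.depth A A) :
    IsPullback V.left.toSpecΓ V.hom (Spec.map (CommRingCat.ofHom (secStr V)))
      (FEt.puncturedSpec A).ι := by
  have := isQuasiAffine_punctured (A := A)
  have : IsFinite V.hom := V.prop.1
  let q : Spec Γ(V.left, ⊤) ⟶ Spec (CommRingCat.of A) := Spec.map (CommRingCat.ofHom (secStr V))
  let U : Scheme.{u} := (FEt.puncturedSpec A : Scheme.{u})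
  have h1 : IsPullback V.left.toSpecΓ V.hom (Spec.map V.hom.appTop) U.toSpecΓ :=
    (@Scheme.isPullback_toSpecΓ_toSpecΓ V.left U V.hom inferInstance ‹_›).flip
  have hbij : Function.Bijective (FEt.puncturedSpec A).ι.appTop := by
    refine FEt83.appTop_bijective_of_depth _ fun x hx => ?_
    rw [Scheme.Opens.range_ι] at hx
    obtain rfl : x = IsLocalRing.closedPoint A := by_contra fun h => hx h
    rwa [FEt83.depth_stalk_closedPoint]
  have : IsIso (FEt.puncturedSpec A).ι.appTop := ConcreteCategory.isIso_iff_bijective _ |>.mpr hbij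
  let e : Spec Γ(U, ⊤) ⟶ Spec (CommRingCat.of A) :=
    Spec.map ((Scheme.ΓSpecIso (CommRingCat.of A)).inv ≫ (FEt.puncturedSpec A).ι.appTop)
  have he : U.toSpecΓ ≫ e = (FEt.puncturedSpec A).ι := by
    show U.toSpecΓ ≫ Spec.map (_ ≫ (FEt.puncturedSpec A).ι.appTop) = _
    rw [Spec.map_comp, ← Category.assoc, ← Scheme.toSpecΓ_naturality, Category.assoc]
    have := (IsIso.inv_eq_of_inv_hom_id (SpecMap_ΓSpecIso_inv_toSpecΓ (CommRingCat.of A)))
    rw [← this, IsIso.hom_inv_id, Category.comp_id]
  have hq' : Spec.map V.hom.appTop ≫ e = q := by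
    show Spec.map _ ≫ Spec.map _ = _
    rw [← Spec.map_comp, Category.assoc, ← Scheme.Hom.comp_appTop]
    rfl
  have h2 : IsPullback (𝟙 _) (Spec.map V.hom.appTop) q e := by
    refine IsPullback.of_horiz_isIso ⟨?_⟩
    rw [Category.id_comp, hq']
  have h3 : IsPullback V.left.toSpecΓ V.hom q (FEt.puncturedSpec A).ι := by
    have := h1.paste_horiz h2
    exact (congrArg (fun r => IsPullback V.left.toSpecΓ V.hom q r) he).mp
      ((congrArg (fun r => IsPullback r V.hom q (U.toSpecΓ ≫ e)) (Category.comp_id _)).mp this)
  exact h3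

set_option backward.isDefEq.respectTransparency.types false in
/-- If the sections form a finite étale algebra, the cover extends. -/
theorem exists_extension (hdepth : (2 : ℕ∞) ≤ LocCoh.depth A A) [Module.Finite A Γ(V.left, ⊤)]
    [Algebra.Etale A Γ(V.left, ⊤)] :
    ∃ Y : FEt.Cat (Spec (CommRingCat.of A)),
      Nonempty ((FEt.restrict (FEt.puncturedSpec A).ι).obj Y ≅ V) := by
  let q : Spec Γ(V.left, ⊤) ⟶ Spec (CommRingCat.of A) := Spec.map (CommRingCat.ofHom (secStr V))
  have hq : FEt.prop q :=
    ⟨(IsFinite.SpecMap_iff _).mpr (RingHom.finite_algebraMap.mpr ‹_›),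
      (HasRingHomProperty.Spec_iff (P := @Etale)).mpr (RingHom.etale_algebraMap.mpr ‹_›)⟩
  exact ⟨MorphismProperty.Over.mk ⊤ q hq,
    ⟨MorphismProperty.Over.isoMk (isPullback_sec V hdepth).isoPullback.symm (isPullback_sec V hdepth).isoPullback_inv_snd⟩⟩

end Groth.Agent.Pure83
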