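import Groth.Agent.Pure83.DescAlg
import Groth.Agent.Pure83.Extend
import Groth.Agent.FEt83.PurityExtend
import Mathlib.AlgebraicGeometry.Morphisms.Flat
import Mathlib.AlgebraicGeometry.Morphisms.FlatDescent

/-!
# Extension of covers of a punctured spectrum is insensitive to completion
-/

universe u

open CategoryTheory Limits AlgebraicGeometry TopologicalSpace Opposite TensorProduct

namespace Groth.Agent.Pure83

/-- A morphism to an affine scheme is given by its map on global sections. -/
theorem eq_toSpecΓ_comp {X : Scheme.{u}} {R : CommRingCat.{u}} (T : X ⟶ Spec R) :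
    T = X.toSpecΓ ≫ Spec.map ((Scheme.ΓSpecIso R).inv ≫ T.appTop) := by
  rw [Spec.map_comp, ← Category.assoc, ← Scheme.toSpecΓ_naturality, Category.assoc,
    ← IsIso.inv_eq_of_inv_hom_id (SpecMap_ΓSpecIso_inv_toSpecΓ R), IsIso.hom_inv_id,
    Category.comp_id]

variable {A C : Type u} [CommRing A] [IsLocalRing A] [IsNoetherianRing A] [CommRing C] [Algebra A C]
  [Module.FaithfullyFlat A C]

/-- The base change map. -/
noncomputable abbrev descMap (A C : Type u) [CommRing A] [CommRing C] [Algebra A C] :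
    Spec (CommRingCat.of C) ⟶ Spec (CommRingCat.of A) :=
  Spec.map (CommRingCat.ofHom (algebraMap A C))

set_option backward.isDefEq.respectTransparency.types false in
/-- The sections of the base change of a cover are the base change of the sections. -/
theorem exists_tensor_equiv (V : FEt.Cat (FEt.puncturedSpec A : Scheme.{u})) :
    ∃ θ : C ⊗[A] Γ(V.left, ⊤) ≃+*
        Γ(pullback V.hom (pullback.fst (FEt.puncturedSpec A).ι (descMap A C)), ⊤),
      (∀ c : C, θ (c ⊗ₜ 1) = (pullback.snd V.hom (pullback.fst (FEt.puncturedSpec A).ι (descMap A C)) ≫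
          pullback.snd (FEt.puncturedSpec A).ι (descMap A C)).appTop
            ((Scheme.ΓSpecIso (CommRingCat.of C)).inv c)) ∧
      (∀ m, θ (1 ⊗ₜ m) =
        (pullback.fst V.hom (pullback.fst (FEt.puncturedSpec A).ι (descMap A C))).appTop m) := by
  let π := pullback.fst (FEt.puncturedSpec A).ι (descMap A C)
  let σ := pullback.snd (FEt.puncturedSpec A).ι (descMap A C)
  let f' := pullback.fst V.hom π
  let s' := pullback.snd V.hom π ≫ σ
  have H : IsPullback f' s' (strHom V) (descMap A C) :=
    (IsPullback.of_hasPullback V.hom π).paste_vert (IsPullback.of_hasPullback _ _)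
  have hc : CompactSpace V.left := compactSpace_left V
  have hqa := isQuasiAffine_left V
  have : CompactSpace ((𝟭 Scheme).obj V.left) := hc
  have : QuasiSeparatedSpace ((𝟭 Scheme).obj V.left) := (inferInstance : QuasiSeparatedSpace V.left)
  have : Flat (descMap A C) := (HasRingHomProperty.Spec_iff (P := @Flat)).mpr
    (RingHom.flat_algebraMap_iff.mpr inferInstance)
  have hi := isIso_pushoutSection_of_isQuasiSeparated_of_flat_right H (US := ⊤) (UT := ⊤) (UX := ⊤)
    (UY := ⊤) le_rfl le_rfl (by simp) (isAffineOpen_top _) (isAffineOpen_top _) isCompact_univ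
    isQuasiSeparated_univ
  have hp := (isIso_pushoutSection_iff H (US := ⊤) (UT := ⊤) (UX := ⊤) (UY := ⊤) le_rfl le_rfl
    (by simp)).mp hi
  simp only [Scheme.Hom.appLE, Scheme.Hom.preimage_top] at hp
  have hp' : IsPushout (CommRingCat.ofHom (secStr V)) (CommRingCat.ofHom (algebraMap A C))
      f'.appTop ((Scheme.ΓSpecIso (CommRingCat.of C)).inv ≫ s'.appTop) := by
    refine hp.of_iso (Scheme.ΓSpecIso (CommRingCat.of A)) (Iso.refl _)
      (Scheme.ΓSpecIso (CommRingCat.of C)) (Iso.refl _) ?_ ?_ ?_ ?_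
    · simp only [Iso.refl_hom, Category.comp_id]
      show _ = _ ≫ CommRingCat.ofHom (secStr V)
      rw [show CommRingCat.ofHom (secStr V) = (Scheme.ΓSpecIso (CommRingCat.of A)).inv ≫
        (strHom V).appTop from rfl, Iso.hom_inv_id_assoc]
      simp
    · show _ = _ ≫ CommRingCat.ofHom (algebraMap A C)
      rw [← Scheme.ΓSpecIso_naturality]
      simp
    · simp only [Iso.refl_hom, Category.comp_id, Category.id_comp]
      simp
    · simp only [Iso.refl_hom, Category.comp_id]
      rw [Iso.hom_inv_id_assoc]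
      simp
  have hq : IsPushout (CommRingCat.ofHom (secStr V)) (CommRingCat.ofHom (algebraMap A C))
      (CommRingCat.ofHom (Algebra.TensorProduct.includeRight (R := A) (A := C) (B := Γ(V.left, ⊤))).toRingHom)
      (CommRingCat.ofHom (Algebra.TensorProduct.includeLeftRingHom (R := A) (A := C) (B := Γ(V.left, ⊤)))) :=
    (CommRingCat.isPushout_tensorProduct A C Γ(V.left, ⊤)).flip
  let e := hq.isoIsPushout _ _ hp'
  refine ⟨e.commRingCatIsoToRingEquiv, fun c => ?_, fun m => ?_⟩
  · have h := hq.inr_isoIsPushout_hom _ _ hp'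
    exact congr($h c)
  · have h := hq.inl_isoIsPushout_hom _ _ hp'
    exact congr($h m)

set_option backward.isDefEq.respectTransparency.types false in
/-- The torsion statements. -/
theorem exists_pow_smul {V' : Scheme.{u}} [CompactSpace V'] {B' : Type u} [CommRing B']
    (h : V' ⟶ Spec (CommRingCat.of B')) [IsOpenImmersion h] (b : B')
    (hb : PrimeSpectrum.basicOpen b ≤ h.opensRange)
    (hp : h ⁻¹ᵁ PrimeSpectrum.basicOpen b = V'.basicOpen (h.appTop ((Scheme.ΓSpecIso (CommRingCat.of B')).inv b))) :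
    (∀ x : Γ(V', ⊤), ∃ (n : ℕ) (e : B'), h.appTop ((Scheme.ΓSpecIso (CommRingCat.of B')).inv e) =
      h.appTop ((Scheme.ΓSpecIso (CommRingCat.of B')).inv b) ^ n * x) ∧
    (∀ e : B', h.appTop ((Scheme.ΓSpecIso (CommRingCat.of B')).inv e) = 0 → ∃ n : ℕ, b ^ n * e = 0) := by
  let D : (Spec (CommRingCat.of B')).Opens := PrimeSpectrum.basicOpen b
  let β : B' →+* Γ(V', ⊤) := h.appTop.hom.comp (Scheme.ΓSpecIso (CommRingCat.of B')).inv.hom
  let _ : Algebra B' Γ(Spec (CommRingCat.of B'), D) :=
    StructureSheaf.openAlgebra B' (op (PrimeSpectrum.basicOpen b))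
  have hDl : IsLocalization.Away b Γ(Spec (CommRingCat.of B'), D) :=
    (inferInstance : IsLocalization.Away b
      ((Spec.structureSheaf B').presheaf.obj (op (PrimeSpectrum.basicOpen b))))
  let T : Γ(Spec (CommRingCat.of B'), D) ⟶ Γ(V', V'.basicOpen (β b)) := h.appLE D _ hp.ge
  have hiso : IsIso (h.app D) := Scheme.Hom.isIso_app h D hb
  have hT : Function.Bijective T := by
    have : IsIso T := by
      show IsIso (h.app D ≫ V'.presheaf.map (homOfLE hp.ge).op)
      have : IsIso (homOfLE hp.ge) := ⟨homOfLE hp.le, rfl, rfl⟩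
      infer_instance
    exact ConcreteCategory.bijective_of_isIso T
  have hTa : ∀ e : B', T (algebraMap B' _ e) =
      V'.presheaf.map (homOfLE (le_top : V'.basicOpen (β b) ≤ ⊤)).op (β e) := by
    intro e
    have he : algebraMap B' Γ(Spec (CommRingCat.of B'), D) e =
        (Spec (CommRingCat.of B')).presheaf.map (homOfLE (le_top : D ≤ ⊤)).op
          ((Scheme.ΓSpecIso (CommRingCat.of B')).inv e) := rfl
    rw [he]
    show ((Spec (CommRingCat.of B')).presheaf.map (homOfLE (le_top : D ≤ ⊤)).op ≫
      h.appLE D (V'.basicOpen (β b)) hp.ge) _ = _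
    rw [Scheme.Hom.map_appLE]
    rw [← h.appLE_map (U := ⊤) (V := ⊤) le_rfl (homOfLE (le_top : V'.basicOpen (β b) ≤ ⊤)).op]
    simp [Scheme.Hom.appLE, β]
  refine ⟨fun x => ?_, fun e he => ?_⟩
  · obtain ⟨y, hy⟩ := hT.2 (V'.presheaf.map (homOfLE (le_top : V'.basicOpen (β b) ≤ ⊤)).op x)
    obtain ⟨⟨e, ⟨_, n, rfl⟩⟩, hey⟩ := IsLocalization.surj (Submonoid.powers b) y
    have h1 : V'.presheaf.map (homOfLE (le_top : V'.basicOpen (β b) ≤ ⊤)).op (β b ^ n * x - β e) = 0 := by
      rw [map_sub, ← hTa e, sub_eq_zero, map_mul, ← hy, ← map_pow β, ← hTa, ← map_mul, ← hey,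
        mul_comm]
    obtain ⟨k, hk⟩ := exists_pow_mul_eq_zero_of_res_basicOpen_eq_zero_of_isCompact V' isCompact_univ _ _ h1
    refine ⟨k + n, b ^ k * e, ?_⟩
    show β (b ^ k * e) = β b ^ (k + n) * x
    rw [mul_sub, sub_eq_zero, ← mul_assoc, ← pow_add] at hk
    rw [hk, map_mul, map_pow]
  · have h1 : T (algebraMap B' _ e) = 0 := by rw [hTa, show β e = 0 from he, map_zero]
    obtain ⟨⟨_, n, rfl⟩, hn⟩ :=
      (IsLocalization.map_eq_zero_iff (Submonoid.powers b) _ e).mp (hT.1 (h1.trans (map_zero T.hom).symm))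
    exact ⟨n, hn⟩

set_option backward.isDefEq.respectTransparency.types false in
set_option maxHeartbeats 1000000 in
/-- A cover of the punctured spectrum extends if it extends after a faithfully flat base change
which is trivial modulo all powers of the maximal ideal. -/
theorem exists_of_baseChange
    (hsub : ∀ (k : ℕ) (c : C), ∃ a : A,
      c - algebraMap A C a ∈ (IsLocalRing.maximalIdeal A ^ k).map (algebraMap A C))
    (V : FEt.Cat (FEt.puncturedSpec A : Scheme.{u})) (B' : Type u) [CommRing B'] [Algebra C B']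
    [Module.Finite C B'] [Algebra.Etale C B']
    (h : pullback V.hom (pullback.fst (FEt.puncturedSpec A).ι (descMap A C)) ⟶ Spec (CommRingCat.of B'))
    (hh : IsPullback h (pullback.snd V.hom (pullback.fst (FEt.puncturedSpec A).ι (descMap A C)))
      (Spec.map (CommRingCat.ofHom (algebraMap C B')))
      (pullback.snd (FEt.puncturedSpec A).ι (descMap A C))) :
    ∃ Y : FEt.Cat (Spec (CommRingCat.of A)),
      Nonempty ((FEt.restrict (FEt.puncturedSpec A).ι).obj Y ≅ V) := by
  let π := pullback.fst (FEt.puncturedSpec A).ι (descMap A C)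
  let σ := pullback.snd (FEt.puncturedSpec A).ι (descMap A C)
  let f' := pullback.fst V.hom π
  let s' := pullback.snd V.hom π ≫ σ
  let y' : Spec (CommRingCat.of B') ⟶ Spec (CommRingCat.of C) :=
    Spec.map (CommRingCat.ofHom (algebraMap C B'))
  let _ : Algebra A B' := ((algebraMap C B').comp (algebraMap A C)).toAlgebra
  have : IsScalarTower A C B' := .of_algebraMap_eq fun _ => rfl
  have hσ : IsOpenImmersion σ := MorphismProperty.pullback_snd (P := @IsOpenImmersion) _ _ inferInstance
  have hopen : IsOpenImmersion h := MorphismProperty.of_isPullback (P := @IsOpenImmersion) hh.flip hσ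
  obtain ⟨θ, hθc, hθm⟩ := exists_tensor_equiv (C := C) V
  let β : B' →+* Γ(pullback V.hom π, ⊤) :=
    h.appTop.hom.comp (Scheme.ΓSpecIso (CommRingCat.of B')).inv.hom
  have hβ : ∀ c, β (algebraMap C B' c) = θ (c ⊗ₜ 1) := fun c => by
    rw [hθc]
    have e := congr((Scheme.Hom.appTop $(hh.w)) ((Scheme.ΓSpecIso (CommRingCat.of C)).inv c))
    rw [Scheme.Hom.comp_appTop, Scheme.Hom.comp_appTop, CommRingCat.comp_apply,
      CommRingCat.comp_apply] at e
    refine Eq.trans ?_ e
    exact congrArg h.appTop congr($(Scheme.ΓSpecIso_inv_naturality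
      (CommRingCat.ofHom (algebraMap C B'))) c)
  let φ : B' →ₐ[C] C ⊗[A] Γ(V.left, ⊤) :=
    { θ.symm.toRingHom.comp β with
      commutes' := fun c => by
        show θ.symm (β (algebraMap C B' c)) = c ⊗ₜ 1
        rw [hβ, RingEquiv.symm_apply_apply] }
  have hφ : ∀ b, θ (φ b) = β b := fun b => θ.apply_symm_apply _
  have hcV : CompactSpace V.left := compactSpace_left V
  have hfst : QuasiCompact f' := by
    have : IsAffineHom (descMap A C) := isAffineHom_of_isAffine _
    have hπ : QuasiCompact π := MorphismProperty.pullback_fst (P := @QuasiCompact) _ _ inferInstance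
    exact MorphismProperty.pullback_fst (P := @QuasiCompact) _ _ hπ
  have : CompactSpace (pullback V.hom π : Scheme.{u}) :=
    @QuasiCompact.compactSpace_of_compactSpace _ V.left f' hfst hcV
  -- the inclusion hits the basic opens of the maximal ideal
  have hbas : ∀ g ∈ IsLocalRing.maximalIdeal A,
      (PrimeSpectrum.basicOpen (algebraMap A B' g) : (Spec (CommRingCat.of B')).Opens) ≤ h.opensRange ∧
      h ⁻¹ᵁ PrimeSpectrum.basicOpen (algebraMap A B' g) =
        (pullback V.hom π : Scheme.{u}).basicOpen (β (algebraMap A B' g)) := by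
    intro g hg
    refine ⟨fun p hp => ?_, ?_⟩
    · have hp1 : (y' ≫ descMap A C) p ∈ Set.range (FEt.puncturedSpec A).ι := by
        rw [Scheme.Opens.range_ι]
        exact basicOpen_le_punctured hg (show g ∉ ((y' ≫ descMap A C) p).asIdeal from hp)
      obtain ⟨u, hu⟩ := hp1
      obtain ⟨z, -, hz⟩ := Scheme.Pullback.exists_preimage_pullback u (y' p)
        (show (FEt.puncturedSpec A).ι u = descMap A C (y' p) from hu)
      obtain ⟨w, hw, -⟩ := Scheme.exists_preimage_of_isPullback hh p z hz.symm
      exact ⟨w, hw⟩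
    · rw [← basicOpen_eq_of_affine (R := CommRingCat.of B'), Scheme.preimage_basicOpen_top]
      rfl
  have hrad : ∀ (S : Ideal A), (∀ g ∈ IsLocalRing.maximalIdeal A, g ∈ S.radical) →
      ∃ k : ℕ, IsLocalRing.maximalIdeal A ^ k ≤ S := fun S hS =>
    Ideal.exists_pow_le_of_le_radical_of_fg hS (IsNoetherian.noetherian _)
  have hT : ∀ x : C ⊗[A] Γ(V.left, ⊤), ∃ k : ℕ, ∀ a ∈ IsLocalRing.maximalIdeal A ^ k,
      ∃ e, φ e = algebraMap A C a • x := by
    intro x
    let S : Ideal A :=
      { carrier := {a | ∃ e, φ e = algebraMap A C a • x}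
        add_mem' := fun {a b} ⟨e, he⟩ ⟨e', he'⟩ => ⟨e + e', by rw [map_add, map_add, add_smul, he, he']⟩
        zero_mem' := ⟨0, by rw [map_zero, map_zero, zero_smul]⟩
        smul_mem' := fun r a ⟨e, he⟩ => ⟨algebraMap C B' (algebraMap A C r) * e, by
          rw [smul_eq_mul, map_mul, map_mul, φ.commutes, mul_smul, he, ← Algebra.smul_def]⟩ }
    obtain ⟨k, hk⟩ := hrad S fun g hg => by
      obtain ⟨hb, hp⟩ := hbas g hg
      obtain ⟨n, e, he⟩ := (exists_pow_smul h (algebraMap A B' g) hb hp).1 (θ x)
      refine ⟨n, e, θ.injective ?_⟩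
      rw [hφ, show β e = β (algebraMap A B' g) ^ n * θ x from he, ← hφ, ← map_pow θ, ← map_mul]
      congr 1
      rw [Algebra.smul_def, IsScalarTower.algebraMap_apply A C B', φ.commutes, ← map_pow, ← map_pow]
    exact ⟨k, hk⟩
  have hK : ∀ b : B', φ b = 0 → ∃ k : ℕ, ∀ a ∈ IsLocalRing.maximalIdeal A ^ k,
      algebraMap A B' a * b = 0 := by
    intro b hb0
    let S : Ideal A :=
      { carrier := {a | algebraMap A B' a * b = 0}
        add_mem' := fun {a c} h₁ h₂ => by
          show algebraMap A B' (a + c) * b = 0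
          rw [map_add, add_mul, h₁, h₂, add_zero]
        zero_mem' := by show algebraMap A B' 0 * b = 0; rw [map_zero, zero_mul]
        smul_mem' := fun r a h₁ => by
          show algebraMap A B' (r * a) * b = 0
          rw [map_mul, mul_assoc, h₁, mul_zero] }
    obtain ⟨k, hk⟩ := hrad S fun g hg => by
      obtain ⟨hbo, hp⟩ := hbas g hg
      obtain ⟨n, hn⟩ := (exists_pow_smul h (algebraMap A B' g) hbo hp).2 b (by
        show β b = 0
        rw [← hφ, hb0, map_zero])
      exact ⟨n, show algebraMap A B' (g ^ n) * b = 0 by rw [map_pow]; exact hn⟩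
    exact ⟨k, fun a ha => hk ha⟩
  obtain ⟨B, _, _, ι, ψ, _, _, hμ, hcompat⟩ :=
    exists_descended_algebra (IsLocalRing.maximalIdeal A) hsub φ hT hK
  let y : Spec (CommRingCat.of B) ⟶ Spec (CommRingCat.of A) :=
    Spec.map (CommRingCat.ofHom (algebraMap A B))
  have hy : FEt.prop y :=
    ⟨(IsFinite.SpecMap_iff _).mpr (RingHom.finite_algebraMap.mpr ‹_›),
      (HasRingHomProperty.Spec_iff (P := @Etale)).mpr (RingHom.etale_algebraMap.mpr ‹_›)⟩
  let Y : FEt.Cat (Spec (CommRingCat.of A)) := MorphismProperty.Over.mk ⊤ y hy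
  let a : V.left ⟶ Spec (CommRingCat.of B) := V.left.toSpecΓ ≫ Spec.map (CommRingCat.ofHom ψ.toRingHom)
  let b' : Spec (CommRingCat.of B') ⟶ Spec (CommRingCat.of B) := Spec.map (CommRingCat.ofHom ι.toRingHom)
  have ha : a ≫ y = strHom V := by
    refine Eq.trans ?_ (eq_toSpecΓ_comp (strHom V)).symm
    rw [Category.assoc, ← Spec.map_comp]
    congr 2
    ext r
    exact ψ.commutes r
  have hab : f' ≫ a = h ≫ b' := by
    conv_rhs => rw [eq_toSpecΓ_comp h, Category.assoc, ← Spec.map_comp]
    show f' ≫ V.left.toSpecΓ ≫ _ = _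
    refine (Category.assoc _ _ _).symm.trans ((congrArg (· ≫ _) (Scheme.toSpecΓ_naturality f')).trans ?_)
    refine (Category.assoc _ _ _).trans ((congrArg (Scheme.toSpecΓ _ ≫ ·) (Spec.map_comp _ _).symm).trans ?_)
    congr 2
    ext r
    show f'.appTop (ψ r) = β (ι r)
    rw [← hθm, ← hφ, hcompat]
  -- the base change square of the descended algebra
  let _ : Algebra B B' := ι.toRingHom.toAlgebra
  have : IsScalarTower A B B' := .of_algebraMap_eq fun r => (ι.commutes r).symm
  have hB : IsPullback b' y' y (descMap A C) := by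
    have hpo : Algebra.IsPushout A C B B' := ⟨by
      have : IsScalarTower A C B' := inferInstance
      show IsBaseChange C (IsScalarTower.toAlgHom A B B').toLinearMap
      refine IsBaseChange.of_equiv (AlgEquiv.ofBijective _ hμ).toLinearEquiv fun x => ?_
      show Algebra.TensorProduct.lift (Algebra.ofId C B') ι (fun _ _ => .all _ _) ((1 : C) ⊗ₜ x) = algebraMap B B' x
      rw [Algebra.TensorProduct.lift_tmul, map_one, one_mul]
      rfl⟩
    exact isPullback_SpecMap_of_isPushout _ _ _ _ ((CommRingCat.isPushout_iff_isPushout.mpr hpo).flip)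
  let p : pullback y' σ ⟶ pullback y (FEt.puncturedSpec A).ι :=
    pullback.lift (pullback.fst y' σ ≫ b') (pullback.snd y' σ ≫ π) (by
      rw [Category.assoc, hB.w, pullback.condition_assoc, Category.assoc]
      exact congrArg (pullback.snd y' σ ≫ ·) pullback.condition.symm)
  have hbot : IsPullback p (pullback.snd y' σ) (pullback.snd y (FEt.puncturedSpec A).ι) π := by
    refine IsPullback.of_right (h₁₂ := pullback.fst y (FEt.puncturedSpec A).ι)
      (v₁₃ := y) (h₂₂ := (FEt.puncturedSpec A).ι) ?_ (pullback.lift_snd _ _ _)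
      (IsPullback.of_hasPullback _ _)
    rw [pullback.lift_fst, show π ≫ (FEt.puncturedSpec A).ι = σ ≫ descMap A C from pullback.condition]
    exact (IsPullback.of_hasPullback y' σ).paste_horiz hB
  let c : V.left ⟶ pullback y (FEt.puncturedSpec A).ι := pullback.lift a V.hom ha
  have hc : c ≫ pullback.snd y (FEt.puncturedSpec A).ι = V.hom := pullback.lift_snd _ _ _
  have htop : IsPullback f' hh.isoPullback.hom c p := by
    refine IsPullback.of_bot ?_ ?_ hbot
    · rw [hh.isoPullback_hom_snd, hc]
      exact IsPullback.of_hasPullback V.hom π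
    · apply pullback.hom_ext
      · rw [Category.assoc, pullback.lift_fst, Category.assoc, pullback.lift_fst,
          hh.isoPullback_hom_fst_assoc, hab]
      · rw [Category.assoc, pullback.lift_snd, Category.assoc, pullback.lift_snd,
          hh.isoPullback_hom_snd_assoc]
        exact pullback.condition
  have : Flat (descMap A C) := (HasRingHomProperty.Spec_iff (P := @Flat)).mpr
    (RingHom.flat_algebraMap_iff.mpr inferInstance)
  have : Surjective (descMap A C) := ⟨PrimeSpectrum.comap_surjective_of_faithfullyFlat (A := A) (B := C)⟩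
  have : IsAffineHom (descMap A C) := isAffineHom_of_isAffine _
  have hπ : (@Surjective ⊓ @Flat ⊓ @QuasiCompact : MorphismProperty Scheme.{u}) π :=
    ⟨⟨MorphismProperty.pullback_fst (P := @Surjective) _ _ ‹_›,
      MorphismProperty.pullback_fst (P := @Flat) _ _ ‹_›⟩,
      MorphismProperty.pullback_fst (P := @QuasiCompact) _ _ inferInstance⟩
  have hp : (@Surjective ⊓ @Flat ⊓ @QuasiCompact : MorphismProperty Scheme.{u}) p :=
    MorphismProperty.of_isPullback hbot.flip hπ
  have hcI : IsIso c := MorphismProperty.of_isPullback_of_descendsAlong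
    (P := MorphismProperty.isomorphisms Scheme.{u})
    (Q := @Surjective ⊓ @Flat ⊓ @QuasiCompact) htop.flip hp (inferInstanceAs (IsIso _))
  exact ⟨Y, ⟨(MorphismProperty.Over.isoMk (@asIso _ _ _ _ c hcI) hc :
    V ≅ (FEt.restrict (FEt.puncturedSpec A).ι).obj Y).symm⟩⟩

end Groth.Agent.Pure83
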