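import Groth.Agent.Pure83.FormalScheme
import Groth.Agent.Pure83.Compl
import Groth.Agent.EtAlg23.HenselBasic
import Groth.Agent.S0239
import Mathlib.RingTheory.AdicCompletion.Basic
import Mathlib.LinearAlgebra.TensorProduct.Quotient
import Mathlib.RingTheory.Henselian

/-!
# Extension of covers from a closed subscheme by formal functions
-/

universe u

open CategoryTheory Limits AlgebraicGeometry TopologicalSpace Opposite TensorProduct

namespace Groth.Agent.Pure83

variable {A : Type u} [CommRing A] [IsLocalRing A] [IsNoetherianRing A]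

set_option backward.isDefEq.respectTransparency.types false in
/-- Complete case. -/
theorem extends_of_trace_complete [IsAdicComplete (IsLocalRing.maximalIdeal A) A]
    (hdepth : (2 : ℕ∞) ≤ LocCoh.depth A A) {J : Ideal A} (hJ : J ≤ IsLocalRing.maximalIdeal A)
    {ι : Type} [Finite ι] {g : ι → A} (hg : ∀ i, g i ∈ IsLocalRing.maximalIdeal A)
    (hcov : CoversPunctured g) (F : FormalSys g J) (V : FEt.Cat (FEt.puncturedSpec A : Scheme.{u}))
    (Y₀ : FEt.Cat (Spec (CommRingCat.of (A ⧸ J))))
    (e : (FEt.restrict (pullback.snd (FEt.puncturedSpec A).ι (qMap J))).obj Y₀ ≅ trCover J V) :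
    ∃ Y : FEt.Cat (Spec (CommRingCat.of A)),
      Nonempty ((FEt.restrict (FEt.puncturedSpec A).ι).obj Y ≅ V) := by
  have : HenselianRing A (IsLocalRing.maximalIdeal A) := inferInstance
  have : HenselianRing A J := EtAlg23.henselianRing_of_le this hJ
  obtain ⟨Y, ⟨eY⟩⟩ := (S0239.result A J).essSurj.mem_essImage Y₀
  let W := (FEt.restrict (FEt.puncturedSpec A).ι).obj Y
  have eW : trCover J W ≅ trCover J V :=
    FEt83.restrictSqIso _ _ _ _ pullback.condition Y ≪≫ (FEt.restrict _).mapIso eY ≪≫ e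
  obtain ⟨E⟩ := nonempty_sections_equiv hdepth hg hcov F eW
  have := etale_sections_of_extends hdepth W Y (Iso.refl _)
  exact (extends_iff_etale_sections hdepth V).mpr (Algebra.Etale.of_equiv E.symm)

omit [IsLocalRing A] [IsNoetherianRing A] in
/-- Regularity modulo an ideal passes to flat algebras. -/
theorem RegMod.map_flat {C : Type u} [CommRing C] [Algebra A C] [Module.Flat A C] {I : Ideal A} {x : A}
    (h : RegMod I x) : RegMod (I.map (algebraMap A C)) (algebraMap A C x) := by
  let φ : (A ⧸ I) →ₗ[A] A ⧸ I := x • LinearMap.id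
  have hφ : Function.Injective φ := (injective_iff_map_eq_zero φ).mpr fun q hq => by
    obtain ⟨a, rfl⟩ := Ideal.Quotient.mk_surjective q
    refine Ideal.Quotient.eq_zero_iff_mem.mpr (h a (Ideal.Quotient.eq_zero_iff_mem.mp ?_))
    rw [← hq]; rfl
  have hinj := Module.Flat.rTensor_preserves_injective_linearMap (M := C) φ hφ
  intro c hc
  let E := TensorProduct.quotTensorEquivQuotSMul C I
  have h0 : φ.rTensor C (E.symm (Submodule.Quotient.mk c)) = 0 := by
    rw [LinearMap.rTensor_smul, LinearMap.rTensor_id, LinearMap.smul_apply, LinearMap.id_apply,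
      ← map_smul, ← Submodule.Quotient.mk_smul]
    refine (congrArg E.symm ((Submodule.Quotient.mk_eq_zero _).mpr ?_)).trans (map_zero _)
    rw [Ideal.smul_top_eq_map, Submodule.restrictScalars_mem, Algebra.smul_def]
    exact hc
  have h1 := (injective_iff_map_eq_zero _).mp hinj _ h0
  rw [LinearEquiv.map_eq_zero_iff, Submodule.Quotient.mk_eq_zero, Ideal.smul_top_eq_map,
    Submodule.restrictScalars_mem] at h1
  exact h1

section Completion

variable {C : Type u} [CommRing C] [Algebra A C] [IsLocalRing C] [IsNoetherianRing C]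

omit [IsNoetherianRing A] [IsNoetherianRing C] in
/-- The map of punctured spectra. -/
theorem exists_puncturedMap (hm : (IsLocalRing.maximalIdeal A).map (algebraMap A C) =
      IsLocalRing.maximalIdeal C) :
    ∃ a : (FEt.puncturedSpec C : Scheme.{u}) ⟶ (FEt.puncturedSpec A : Scheme.{u}),
      a ≫ (FEt.puncturedSpec A).ι = (FEt.puncturedSpec C).ι ≫ descMap A C := by
  refine ⟨IsOpenImmersion.lift (FEt.puncturedSpec A).ι ((FEt.puncturedSpec C).ι ≫ descMap A C) ?_,
    IsOpenImmersion.lift_fac _ _ _⟩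
  rintro _ ⟨q, rfl⟩
  rw [Scheme.Opens.range_ι]
  refine (mem_puncturedSpec_iff _).mpr fun e => (mem_puncturedSpec_iff _).mp q.2 ?_
  refine ((IsLocalRing.maximalIdeal.isMaximal C).eq_of_le (q.1 : PrimeSpectrum C).isPrime.ne_top ?_).symm
  rw [← hm]
  exact Ideal.map_le_iff_le_comap.mpr e.ge

omit [IsNoetherianRing C] in
set_option backward.isDefEq.respectTransparency.types false in
/-- Reduction to a faithfully flat extension like the completion. -/
theorem extends_of_extends_puncturedMap [Module.FaithfullyFlat A C]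
    (hm : (IsLocalRing.maximalIdeal A).map (algebraMap A C) = IsLocalRing.maximalIdeal C)
    (hsub : ∀ (k : ℕ) (c : C), ∃ a : A,
      c - algebraMap A C a ∈ (IsLocalRing.maximalIdeal A ^ k).map (algebraMap A C))
    (V : FEt.Cat (FEt.puncturedSpec A : Scheme.{u}))
    (a : (FEt.puncturedSpec C : Scheme.{u}) ⟶ (FEt.puncturedSpec A : Scheme.{u}))
    (ha : a ≫ (FEt.puncturedSpec A).ι = (FEt.puncturedSpec C).ι ≫ descMap A C)
    (Y' : FEt.Cat (Spec (CommRingCat.of C)))
    (e : (FEt.restrict (FEt.puncturedSpec C).ι).obj Y' ≅ (FEt.restrict a).obj V) :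
    ∃ Y : FEt.Cat (Spec (CommRingCat.of A)),
      Nonempty ((FEt.restrict (FEt.puncturedSpec A).ι).obj Y ≅ V) := by
  let snd := pullback.snd (FEt.puncturedSpec A).ι (descMap A C)
  have hr : Set.range snd = Set.range (FEt.puncturedSpec C).ι := by
    rw [IsOpenImmersion.range_pullbackSnd, Scheme.Opens.opensRange_ι, Scheme.Opens.range_ι]
    ext q
    show descMap A C q ∈ FEt.puncturedSpec A ↔ q ∈ FEt.puncturedSpec C
    refine Iff.trans (mem_puncturedSpec_iff _) (Iff.trans (not_congr ?_) (mem_puncturedSpec_iff _).symm)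
    refine ⟨fun e => ((IsLocalRing.maximalIdeal.isMaximal C).eq_of_le
      (q : PrimeSpectrum C).isPrime.ne_top (hm ▸ Ideal.map_le_iff_le_comap.mpr e.ge)).symm, fun e => ?_⟩
    refine ((IsLocalRing.maximalIdeal.isMaximal A).eq_of_le (descMap A C q : PrimeSpectrum A).isPrime.ne_top ?_).symm
    show _ ≤ Ideal.comap (algebraMap A C) (q : PrimeSpectrum C).asIdeal
    rw [e, ← hm]
    exact Ideal.le_comap_map
  let j := IsOpenImmersion.isoOfRangeEq snd (FEt.puncturedSpec C).ι hr
  have hj : j.hom ≫ (FEt.puncturedSpec C).ι = snd := IsOpenImmersion.isoOfRangeEq_hom_fac _ _ _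
  have hfst : j.hom ≫ a = pullback.fst (FEt.puncturedSpec A).ι (descMap A C) := by
    refine (cancel_mono (FEt.puncturedSpec A).ι).mp ?_
    rw [Category.assoc, ha, ← Category.assoc, hj]
    exact pullback.condition.symm
  exact exists_of_extends_baseChange hsub V Y'
    (FEt83.restrictEqIso hj.symm Y' ≪≫ (FEt83.restrictCompIso j.hom (FEt.puncturedSpec C).ι).app Y' ≪≫
      (FEt.restrict j.hom).mapIso e ≪≫ ((FEt83.restrictCompIso j.hom a).app V).symm ≪≫
      FEt83.restrictEqIso hfst V)

omit [IsNoetherianRing A] [IsNoetherianRing C] in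
set_option backward.isDefEq.respectTransparency.types false in
/-- The trace of the pulled back cover. -/
theorem nonempty_trace_pullback {J : Ideal A}
    (a : (FEt.puncturedSpec C : Scheme.{u}) ⟶ (FEt.puncturedSpec A : Scheme.{u}))
    (ha : a ≫ (FEt.puncturedSpec A).ι = (FEt.puncturedSpec C).ι ≫ descMap A C)
    (V : FEt.Cat (FEt.puncturedSpec A : Scheme.{u})) (Y₀ : FEt.Cat (Spec (CommRingCat.of (A ⧸ J))))
    (e : (FEt.restrict (pullback.snd (FEt.puncturedSpec A).ι (qMap J))).obj Y₀ ≅ trCover J V) :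
    ∃ Y₁ : FEt.Cat (Spec (CommRingCat.of (C ⧸ J.map (algebraMap A C)))),
      Nonempty ((FEt.restrict (pullback.snd (FEt.puncturedSpec C).ι (qMap (J.map (algebraMap A C))))).obj Y₁ ≅
        trCover (J.map (algebraMap A C)) ((FEt.restrict a).obj V)) := by
  let c : Spec (CommRingCat.of (C ⧸ J.map (algebraMap A C))) ⟶ Spec (CommRingCat.of (A ⧸ J)) :=
    Spec.map (CommRingCat.ofHom (Ideal.quotientMap _ (algebraMap A C) Ideal.le_comap_map))
  have hc : c ≫ qMap J = qMap (J.map (algebraMap A C)) ≫ descMap A C := by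
    refine (Spec.map_comp _ _).symm.trans (Eq.trans ?_ (Spec.map_comp _ _))
    exact congrArg Spec.map (by ext x; rfl)
  let b : pullback (FEt.puncturedSpec C).ι (qMap (J.map (algebraMap A C))) ⟶
      pullback (FEt.puncturedSpec A).ι (qMap J) :=
    pullback.map _ _ _ _ a c (descMap A C) ha.symm hc.symm
  refine ⟨(FEt.restrict c).obj Y₀, ⟨?_⟩⟩
  exact FEt83.restrictSqIso _ _ b _ (pullback.lift_snd _ _ _).symm Y₀ ≪≫ (FEt.restrict b).mapIso e ≪≫
    FEt83.restrictSqIso _ _ _ _ (pullback.lift_fst _ _ _) V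

end Completion

set_option backward.isDefEq.respectTransparency.types false in
/-- The general case, by completion. -/
theorem extends_of_trace {J : Ideal A} (V : FEt.Cat (FEt.puncturedSpec A : Scheme.{u}))
    (Y₀ : FEt.Cat (Spec (CommRingCat.of (A ⧸ J))))
    (e : (FEt.restrict (pullback.snd (FEt.puncturedSpec A).ι (qMap J))).obj Y₀ ≅ trCover J V)
    (hyp : ∀ (C : Type u) [CommRing C] [IsLocalRing C] [IsNoetherianRing C] [Algebra A C]
      [Module.Flat A C], (IsLocalRing.maximalIdeal A).map (algebraMap A C) = IsLocalRing.maximalIdeal C →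
      IsAdicComplete (IsLocalRing.maximalIdeal C) C →
      (2 : ℕ∞) ≤ LocCoh.depth C C ∧ J.map (algebraMap A C) ≤ IsLocalRing.maximalIdeal C ∧
        ∃ (n : ℕ) (g : Fin n → C), (∀ i, g i ∈ IsLocalRing.maximalIdeal C) ∧ CoversPunctured g ∧
          FormalSys g (J.map (algebraMap A C))) :
    ∃ Y : FEt.Cat (Spec (CommRingCat.of A)),
      Nonempty ((FEt.restrict (FEt.puncturedSpec A).ι).obj Y ≅ V) := by
  let C := AdicCompletion (IsLocalRing.maximalIdeal A) A
  have := faithfullyFlat_completion (A := A)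
  have hm : (IsLocalRing.maximalIdeal A).map (algebraMap A C) = IsLocalRing.maximalIdeal C :=
    AdicCompletion.maximalIdeal_eq_map.symm
  have hc := Cohen12.isAdicComplete_completion A
  have : IsNoetherianRing C := Cohen12.isNoetherianRing_completion A
  obtain ⟨h2, hJ, n, g, hg, hcov, F⟩ := hyp C hm hc
  obtain ⟨a, ha⟩ := exists_puncturedMap (A := A) hm
  obtain ⟨Y₁, ⟨e₁⟩⟩ := nonempty_trace_pullback a ha V Y₀ e
  obtain ⟨Y', ⟨e'⟩⟩ := extends_of_trace_complete (A := C) h2 hJ hg hcov F ((FEt.restrict a).obj V) Y₁ e₁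
  exact extends_of_extends_puncturedMap hm completion_hsub V a ha Y' e'

end Groth.Agent.Pure83
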