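import Groth.Agent.SchBasics.RegExt
import Groth.Agent.FEt83.ClopenSections
import Groth.Agent.Pure83.Elem

/-!
# Full faithfulness across closed subsets carrying regular pairs, without noetherian hypotheses
-/

universe u

open CategoryTheory Limits AlgebraicGeometry TopologicalSpace Opposite
open Groth.Agent.SchBasics (HasReg HasRegTwo)

set_option autoImplicit false

namespace Groth.Agent.Pure83

/-- Near every point, outside a quasi-compact open contained in `U` the local rings contain regular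
pairs. -/
def GoodPair (X : Scheme.{u}) (U : X.Opens) : Prop :=
  ∀ (x : X) (N : X.Opens), x ∈ N → ∃ V : X.Opens, V ≤ N ∧ x ∈ V ∧ IsAffineOpen V ∧
    ∃ D : X.Opens, D ≤ U ⊓ V ∧ IsCompact (D : Set X) ∧
      ∀ z : X, z ∈ V → z ∉ D → HasRegTwo (X.presheaf.stalk z)

theorem hasRegTwo_of_flat {R S : Type u} [CommRing R] [CommRing S] [Algebra R S] [Module.Flat R S]
    [IsLocalHom (algebraMap R S)] (h : HasRegTwo R) : HasRegTwo S := by
  obtain ⟨a, b, ha, hb, h1, h2⟩ := h
  refine ⟨algebraMap R S a, algebraMap R S b, fun h => ha (h.of_map _ _), fun h => hb (h.of_map _ _),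
    fun y hy => ?_, fun x y hxy => ?_⟩
  · have := IsSMulRegular.of_flat (S := S) (x := a)
      (isLeftRegular_iff.mp (isLeftRegular_iff_right_eq_zero_of_mul.mpr h1))
    exact this (show algebraMap R S a • y = algebraMap R S a • 0 by rw [smul_zero]; exact hy)
  · let φ : (R ⧸ Ideal.span {a}) →ₗ[R] R ⧸ Ideal.span {a} := b • LinearMap.id
    have hφ : Function.Injective φ := (injective_iff_map_eq_zero φ).mpr fun q hq => by
      obtain ⟨c, rfl⟩ := Ideal.Quotient.mk_surjective q
      have h3 : Ideal.Quotient.mk (Ideal.span {a}) (b * c) = 0 := hq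
      rw [Ideal.Quotient.eq_zero_iff_mem, Ideal.mem_span_singleton'] at h3
      obtain ⟨d, hd⟩ := h3
      obtain ⟨w, hw⟩ := h2 c d (by rw [mul_comm a, hd])
      exact Ideal.Quotient.eq_zero_iff_mem.mpr (Ideal.mem_span_singleton.mpr ⟨w, hw⟩)
    have hinj := Module.Flat.lTensor_preserves_injective_linearMap (M := S) φ hφ
    let e := TensorProduct.tensorQuotEquivQuotSMul S (Ideal.span {a})
    have key : ∀ s : S, φ.lTensor S (s ⊗ₜ[R] (Ideal.Quotient.mk (Ideal.span {a}) 1)) =
        (algebraMap R S b * s) ⊗ₜ[R] (Ideal.Quotient.mk (Ideal.span {a}) 1) := fun s => by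
      rw [LinearMap.lTensor_tmul, ← Algebra.smul_def]
      exact (TensorProduct.smul_tmul (R' := R) b s (Ideal.Quotient.mk (Ideal.span {a}) (1 : R))).symm
    have hmem : ∀ s : S, s ⊗ₜ[R] (Ideal.Quotient.mk (Ideal.span {a}) 1) = 0 ↔
        ∃ w, s = algebraMap R S a * w := by
      intro s
      rw [← e.map_eq_zero_iff, TensorProduct.tensorQuotEquivQuotSMul_tmul_mk, one_smul,
        Submodule.Quotient.mk_eq_zero, Submodule.ideal_span_singleton_smul,
        Submodule.mem_smul_pointwise_iff_exists]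
      exact ⟨fun ⟨w, _, hw⟩ => ⟨w, by rw [← Algebra.smul_def]; exact hw.symm⟩,
        fun ⟨w, hw⟩ => ⟨w, trivial, by rw [Algebra.smul_def]; exact hw.symm⟩⟩
    exact (hmem x).mp (hinj (((key x).trans ((hmem _).mpr ⟨y, hxy⟩)).trans (map_zero _).symm))

variable {X : Scheme.{u}} {U : X.Opens}

theorem GoodPair.hasReg (hU : GoodPair X U) (z : X) (hz : z ∉ U) : HasReg (X.presheaf.stalk z) := by
  obtain ⟨V, -, hzV, -, D, hD, -, h⟩ := hU z ⊤ trivial
  exact (h z hzV fun hzD => hz (hD hzD).1).hasReg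

theorem res_res_apply {A B C : X.Opens} (h₁ : A ≤ B) (h₂ : B ≤ C) (s : Γ(X, C)) :
    X.presheaf.map (homOfLE h₁).op (X.presheaf.map (homOfLE h₂).op s) =
      X.presheaf.map (homOfLE (h₁.trans h₂)).op s := by
  rw [← CommRingCat.comp_apply, ← X.presheaf.map_comp]
  rfl

/-- Sections vanishing on `U` vanish. -/
theorem eq_zero_of_germ (H : ∀ z, z ∉ U → HasReg (X.presheaf.stalk z)) (W : X.Opens) (s : Γ(X, W))
    (hs : ∀ y (hy : y ∈ W), y ∈ U → X.presheaf.germ W y hy s = 0) : s = 0 := by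
  refine TopCat.Presheaf.section_ext X.sheaf W _ _ fun y hy => ?_
  change X.presheaf.germ W y hy s = X.presheaf.germ W y hy 0
  obtain ⟨V, hV, hyV, hVW⟩ := exists_isAffineOpen_mem_and_subset (X := X) (x := y) (U := W) hy
  have h0 : X.presheaf.map (homOfLE (show V ≤ W from hVW)).op s = 0 :=
    SchBasics.eq_zero_of_germ_eq_zero H hV _ fun z hz hzU => by
      rw [TopCat.Presheaf.germ_res_apply]
      exact hs z (hVW hz) hzU
  rw [map_zero, ← TopCat.Presheaf.germ_res_apply X.presheaf (homOfLE (show V ≤ W from hVW)) y hyV s,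
    h0, map_zero]

theorem eq_of_res (H : ∀ z, z ∉ U → HasReg (X.presheaf.stalk z)) {W O : X.Opens} (hO : O ≤ W)
    (hWU : W ⊓ U ≤ O) (s t : Γ(X, W))
    (h : X.presheaf.map (homOfLE hO).op s = X.presheaf.map (homOfLE hO).op t) : s = t := by
  refine sub_eq_zero.mp (eq_zero_of_germ H W _ fun y hy hyU => ?_)
  have hyO : y ∈ O := hWU ⟨hy, hyU⟩
  rw [← TopCat.Presheaf.germ_res_apply X.presheaf (homOfLE hO) y hyO, map_sub, h, sub_self, map_zero]

/-- Sections over a quasi-compact open of an affine open extend uniquely over regular pairs. -/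
theorem res_surjective_affine {V D : X.Opens} (hV : IsAffineOpen V) (hDV : D ≤ V)
    (hD : IsCompact (D : Set X)) (h : ∀ z : X, z ∈ V → z ∉ D → HasRegTwo (X.presheaf.stalk z)) :
    Function.Surjective (X.presheaf.map (homOfLE hDV).op) := by
  have : IsAffine (V : Scheme.{u}) := hV
  let D' : (V : Scheme.{u}).Opens := V.ι ⁻¹ᵁ D
  have : QuasiCompact D'.ι := by
    have hc : IsCompact (D' : Set (V : Scheme.{u})) := by
      refine (Topology.IsInducing.subtypeVal.isCompact_iff).mpr ?_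
      show IsCompact (Subtype.val '' (Subtype.val ⁻¹' (D : Set X)))
      rw [Set.image_preimage_eq_range_inter, Subtype.range_coe,
        Set.inter_eq_right.mpr (show (D : Set X) ⊆ (V : Set X) from hDV)]
      exact hD
    have : CompactSpace (D' : Scheme.{u}) := isCompact_iff_compactSpace.mp hc
    exact quasiCompact_of_compactSpace D'.ι
  have H : ∀ z : (V : Scheme.{u}), z ∉ D' → HasRegTwo ((V : Scheme.{u}).presheaf.stalk z) :=
    fun z hz => (h (V.ι z) z.2 hz).of_ringEquiv (asIso (V.ι.stalkMap z)).commRingCatIsoToRingEquiv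
  have h1 := SchBasics.res_surjective (X := (V : Scheme.{u})) (U := D') H (V := ⊤) (isAffineOpen_top _)
  have key : ∀ (A B : X.Opens) (hBA : B ≤ A), A = V → B = D →
      Function.Surjective (X.presheaf.map (homOfLE hBA).op) →
      Function.Surjective (X.presheaf.map (homOfLE hDV).op) := by
    rintro A B hBA rfl rfl hs
    exact hs
  refine key (V.ι ''ᵁ ⊤) (V.ι ''ᵁ (D' ⊓ ⊤)) (V.ι.image_mono inf_le_right) ?_ ?_ h1
  · exact V.ι_image_top
  · rw [inf_top_eq, V.ι.image_preimage_eq_opensRange_inf, V.opensRange_ι, inf_eq_right]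
    exact hDV

/-- Functions extend uniquely across closed subsets carrying regular pairs. -/
theorem GoodPair.res_bijective (hU : GoodPair X U) :
    Function.Bijective (X.presheaf.map (homOfLE (le_top : U ≤ ⊤)).op) := by
  have H := hU.hasReg
  refine ⟨fun s t h => eq_of_res H le_top inf_le_right s t h, fun σ => ?_⟩
  choose V hVN hxV hV D hD hDc hD2 using fun x : X => hU x ⊤ trivial
  have hc : ∀ x : X, ∃ c : Γ(X, V x), X.presheaf.map (homOfLE (inf_le_right : U ⊓ V x ≤ V x)).op c =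
      X.presheaf.map (homOfLE (inf_le_left : U ⊓ V x ≤ U)).op σ := by
    intro x
    obtain ⟨c, hc⟩ := res_surjective_affine (hV x) ((hD x).trans inf_le_right) (hDc x) (hD2 x)
      (X.presheaf.map (homOfLE ((hD x).trans inf_le_left)).op σ)
    refine ⟨c, sub_eq_zero.mp ?_⟩
    refine eq_zero_of_germ_in (V x) (D x) (fun z hz hzD => (hD2 x z hz hzD).hasReg) (U ⊓ V x) inf_le_right
      _ fun y hy hyD => ?_
    rw [← TopCat.Presheaf.germ_res_apply X.presheaf (homOfLE (hD x)) y hyD, map_sub, res_res_apply,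
      res_res_apply, hc, sub_self, map_zero]
  choose c hc using hc
  have hcov : (⊤ : X.Opens) ≤ iSup V := fun x _ => Opens.mem_iSup.mpr ⟨x, hxV x⟩
  have hcompat : TopCat.Presheaf.IsCompatible X.sheaf.obj V c := by
    intro i j
    refine eq_of_res H (inf_le_left : (V i ⊓ V j) ⊓ U ≤ V i ⊓ V j) le_rfl _ _ ?_
    show X.presheaf.map _ (X.presheaf.map _ (c i)) = X.presheaf.map _ (X.presheaf.map _ (c j))
    rw [← CommRingCat.comp_apply, ← CommRingCat.comp_apply, ← X.presheaf.map_comp, ← X.presheaf.map_comp]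
    have hi : (V i ⊓ V j) ⊓ U ≤ U ⊓ V i := le_inf inf_le_right (inf_le_left.trans inf_le_left)
    have hj : (V i ⊓ V j) ⊓ U ≤ U ⊓ V j := le_inf inf_le_right (inf_le_left.trans inf_le_right)
    have ei := congrArg (X.presheaf.map (homOfLE hi).op) (hc i)
    have ej := congrArg (X.presheaf.map (homOfLE hj).op) (hc j)
    rw [res_res_apply, res_res_apply] at ei ej
    exact ei.trans ej.symm
  obtain ⟨(s : Γ(X, ⊤)), hs, -⟩ := TopCat.Sheaf.existsUnique_gluing' X.sheaf V ⊤ (fun x => homOfLE le_top) hcov c hcompat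
  refine ⟨s, TopCat.Presheaf.section_ext X.sheaf U _ _ fun y hy => ?_⟩
  change X.presheaf.germ U y hy (X.presheaf.map (homOfLE (le_top : U ≤ ⊤)).op s) = X.presheaf.germ U y hy σ
  have hs' : X.presheaf.map (homOfLE (le_top : V y ≤ ⊤)).op s = c y := hs y
  have e := hc y
  rw [← hs'] at e
  have e := (res_res_apply (inf_le_right : U ⊓ V y ≤ V y) le_top s).symm.trans e
  have hy' : y ∈ U ⊓ V y := ⟨hy, hxV y⟩
  rw [← TopCat.Presheaf.germ_res_apply X.presheaf (homOfLE (inf_le_left : U ⊓ V y ≤ U)) y hy' σ, ← e,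
    TopCat.Presheaf.germ_res_apply, TopCat.Presheaf.germ_res_apply]
where
  eq_zero_of_germ_in (V D : X.Opens) (H : ∀ z, z ∈ V → z ∉ D → HasReg (X.presheaf.stalk z))
      (W : X.Opens) (hW : W ≤ V) (s : Γ(X, W))
      (hs : ∀ y (hy : y ∈ W), y ∈ D → X.presheaf.germ W y hy s = 0) : s = 0 := by
    let W' : (W : Scheme.{u}).Opens := W.ι ⁻¹ᵁ D
    have H' : ∀ z : (W : Scheme.{u}), z ∉ W' → HasReg ((W : Scheme.{u}).presheaf.stalk z) :=
      fun z hz => (H (W.ι z) (hW z.2) hz).of_ringEquiv (asIso (W.ι.stalkMap z)).commRingCatIsoToRingEquiv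
    have h0 : W.ι.app W s = 0 := by
      refine eq_zero_of_germ H' _ _ fun z hz hzD => ?_
      have h1 := congr($(W.ι.germ_stalkMap W z hz) s)
      simp only [CommRingCat.comp_apply] at h1
      rw [← h1, hs (W.ι z) hz hzD, map_zero]
    refine TopCat.Presheaf.section_ext X.sheaf W _ _ fun y hy => ?_
    change X.presheaf.germ W y hy s = X.presheaf.germ W y hy 0
    have h1 := congr($(W.ι.germ_stalkMap W ⟨y, hy⟩ hy) s)
    simp only [CommRingCat.comp_apply] at h1
    have hiso : IsIso (W.ι.stalkMap ⟨y, hy⟩) := (IsOpenImmersion.iff_isIso_stalkMap.mp inferInstance).2 _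
    rw [map_zero]
    refine (ConcreteCategory.bijective_of_isIso (W.ι.stalkMap (⟨y, hy⟩ : W))).injective ?_
    refine h1.trans ?_
    rw [h0]
    exact (map_zero _).trans (RingHom.map_zero _).symm

theorem GoodPair.comap_open (hU : GoodPair X U) (W : X.Opens) :
    GoodPair (W : Scheme.{u}) (W.ι ⁻¹ᵁ U) := by
  intro x N hx
  obtain ⟨V, hVN, hxV, hV, D, hD, hDc, h⟩ := hU (W.ι x) (W.ι ''ᵁ N) ⟨x, hx, rfl⟩
  have hVW : V ≤ W := hVN.trans (W.ι_image_le N)
  refine ⟨W.ι ⁻¹ᵁ V, fun z hz => ?_, hxV, ?_, W.ι ⁻¹ᵁ D, W.ι.preimage_mono hD, ?_, fun z hzV hzD => ?_⟩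
  · obtain ⟨z', hz', e⟩ := hVN hz
    exact W.ι.isOpenEmbedding.injective e ▸ hz'
  · exact hV.preimage_of_isOpenImmersion W.ι (by rwa [W.opensRange_ι])
  · refine (Topology.IsInducing.subtypeVal.isCompact_iff).mpr ?_
    show IsCompact (Subtype.val '' (Subtype.val ⁻¹' (D : Set X)))
    rw [Set.image_preimage_eq_range_inter, Subtype.range_coe,
      Set.inter_eq_right.mpr (show (D : Set X) ⊆ (W : Set X) from (hD.trans inf_le_right).trans hVW)]
    exact hDc
  · exact (h (W.ι z) hzV hzD).of_ringEquiv (asIso (W.ι.stalkMap z)).commRingCatIsoToRingEquiv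

theorem GoodPair.preimage (hU : GoodPair X U) {T : Scheme.{u}} (p : T ⟶ X) [IsFinite p] [Flat p] :
    ∀ t : T, ∃ V : T.Opens, t ∈ V ∧ IsAffineOpen V ∧ ∃ D : T.Opens, D ≤ (p ⁻¹ᵁ U) ⊓ V ∧
      IsCompact (D : Set T) ∧ ∀ z : T, z ∈ V → z ∉ D → HasRegTwo (T.presheaf.stalk z) := by
  intro t
  obtain ⟨V, -, htV, hV, D, hD, hDc, h⟩ := hU (p t) ⊤ trivial
  refine ⟨p ⁻¹ᵁ V, htV, hV.preimage p, p ⁻¹ᵁ D, fun z hz => hD hz, ?_, fun z hzV hzD => ?_⟩
  · exact p.isCompact_preimage hDc
  · let := (p.stalkMap z).hom.toAlgebra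
    have : IsLocalHom (algebraMap (X.presheaf.stalk (p z)) (T.presheaf.stalk z)) :=
      inferInstanceAs (IsLocalHom (p.stalkMap z).hom)
    have : Module.Flat (X.presheaf.stalk (p z)) (T.presheaf.stalk z) := Flat.stalkMap p z
    exact hasRegTwo_of_flat (h (p z) hzV hzD)

/-- It suffices to have good neighbourhoods, not arbitrarily small ones. -/
theorem goodPair_of_nhds (h : ∀ x : X, ∃ V : X.Opens, x ∈ V ∧ IsAffineOpen V ∧ ∃ D : X.Opens,
      D ≤ U ⊓ V ∧ IsCompact (D : Set X) ∧ ∀ z : X, z ∈ V → z ∉ D → HasRegTwo (X.presheaf.stalk z)) :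
    GoodPair X U := by
  intro x N hxN
  obtain ⟨V, hxV, hV, D, hD, hDc, h2⟩ := h x
  obtain ⟨r, hr, hxr⟩ := hV.exists_basicOpen_le (V := N) ⟨x, hxN⟩ hxV
  refine ⟨X.basicOpen r, hr, hxr, hV.basicOpen r, D ⊓ X.basicOpen r, ?_, ?_, fun z hz hzD => ?_⟩
  · exact le_inf (inf_le_left.trans (hD.trans inf_le_left)) inf_le_right
  · exact hV.isQuasiSeparated (D : Set X) (X.basicOpen r : Set X) (fun z hz => (hD hz).2) D.2 hDc
      (X.basicOpen_le r) (X.basicOpen r).2 (hV.basicOpen r).isCompact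
  · exact h2 z (X.basicOpen_le r hz) fun hzD' => hzD ⟨hzD', hz⟩

set_option backward.isDefEq.respectTransparency.types false in
/-- Restriction of covers across closed subsets carrying regular pairs is fully faithful. -/
theorem GoodPair.fullyFaithful (hU : GoodPair X U) :
    (FEt.restrict U.ι).Full ∧ (FEt.restrict U.ι).Faithful := by
  refine FEt83.fullyFaithful_of_appTop_bijective U.ι fun T => ?_
  have : IsFinite T.hom := T.prop.1
  have : Etale T.hom := T.prop.2
  have hT : GoodPair T.left (T.hom ⁻¹ᵁ U) := goodPair_of_nhds (hU.preimage T.hom)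
  let j := pullback.fst T.hom U.ι
  have hr : j.opensRange = T.hom ⁻¹ᵁ U := by
    ext1
    show Set.range j = T.hom ⁻¹' (U : Set X)
    rw [Scheme.Pullback.range_fst, Scheme.Opens.range_ι]
  have h2 : Function.Bijective j.opensRange.ι.appTop := by
    rw [hr, Scheme.Opens.ι_appTop]
    have key : ∀ V : T.left.Opens, T.hom ⁻¹ᵁ U = V →
        Function.Bijective (T.left.presheaf.map (homOfLE (le_top : V ≤ ⊤)).op) := by
      rintro _ rfl; exact hT.res_bijective
    exact key _ (T.hom ⁻¹ᵁ U).ι_image_top.symm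
  show Function.Bijective j.appTop
  rw [show j.appTop = (j.isoOpensRange.hom ≫ j.opensRange.ι).appTop from by rw [j.isoOpensRange_hom_ι],
    Scheme.Hom.comp_appTop]
  have : IsIso j.isoOpensRange.hom.appTop := inferInstanceAs (IsIso (j.isoOpensRange.hom.app ⊤))
  exact (ConcreteCategory.bijective_of_isIso j.isoOpensRange.hom.appTop).comp h2

end Groth.Agent.Pure83
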