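import Groth.Agent.Pure83.FlatFibre
import Groth.Agent.Pure83.FormalExtend
import Groth.Agent.Pure83.RegPairFF
import Groth.Agent.CAlg9.CIT.RegFibre
import Groth.Agent.CAlg9.CIT.FibreStalks
import Groth.Agent.CAlg9.CIT.Regular

/-!
# Pairs cutting out subsets of codimension two in all fibres
-/

universe u

open CategoryTheory Limits AlgebraicGeometry TopologicalSpace IsLocalRing TensorProduct

set_option autoImplicit false

namespace Groth.Agent.Pure83

/-- A pair which is regular with flat quotients over the base. -/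
structure FibRegPair (R : Type u) [CommRing R] {B : Type u} [CommRing B] [Algebra R B] (g h : B) : Prop where
  reg₁ : RegMod (⊥ : Ideal B) g
  reg₂ : RegMod (Ideal.span {g}) h
  flat₁ : Module.Flat R (B ⧸ Ideal.span {g})
  flat₂ : Module.Flat R (B ⧸ Ideal.span {g, h})

section BaseChange

variable {R : Type u} [CommRing R] {B : Type u} [CommRing B] [Algebra R B] {g h : B}
  (R' : Type u) [CommRing R'] [Algebra R R']

theorem lTensor_mulLeft (b : B) (z : R' ⊗[R] B) :
    (LinearMap.mulLeft R b).lTensor R' z = ((1 : R') ⊗ₜ[R] b) * z := by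
  induction z using TensorProduct.induction_on with
  | zero => simp
  | tmul r c => simp
  | add x y hx hy => rw [map_add, hx, hy, mul_add]

theorem flat_quotient_baseChange (I : Ideal B) [Module.Flat R (B ⧸ I)] :
    Module.Flat R' ((R' ⊗[R] B) ⧸ I.map (Algebra.TensorProduct.includeRight : B →ₐ[R] R' ⊗[R] B)) := by
  let π := Algebra.TensorProduct.map (AlgHom.id R' R') (Ideal.Quotient.mkₐ R I)
  have hs : Function.Surjective π := by
    intro z
    induction z using TensorProduct.induction_on with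
    | zero => exact ⟨0, map_zero _⟩
    | tmul r c =>
      obtain ⟨c, rfl⟩ := Ideal.Quotient.mk_surjective c
      exact ⟨r ⊗ₜ c, by simp [π]⟩
    | add x y hx hy =>
      obtain ⟨a, rfl⟩ := hx
      obtain ⟨b, rfl⟩ := hy
      exact ⟨a + b, map_add _ _ _⟩
  have hk : RingHom.ker π = I.map (Algebra.TensorProduct.includeRight : B →ₐ[R] R' ⊗[R] B) := by
    have := Algebra.TensorProduct.lTensor_ker (A := R') (Ideal.Quotient.mkₐ R I) Ideal.Quotient.mk_surjective
    rw [show (RingHom.ker (Ideal.Quotient.mkₐ R I)) = I from Ideal.mk_ker] at this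
    exact this
  rw [← hk]
  exact Module.Flat.of_linearEquiv (Ideal.quotientKerAlgEquivOfSurjective hs).toLinearEquiv

theorem FibRegPair.baseChange (P : FibRegPair R g h) :
    FibRegPair R' ((1 : R') ⊗ₜ[R] g) ((1 : R') ⊗ₜ[R] h) := by
  let I := Ideal.span {g}
  let K := Ideal.span {g, h}
  have := P.flat₁
  have := P.flat₂
  let μ : B →ₗ[R] B := LinearMap.mulLeft R g
  let q : B →ₗ[R] B ⧸ I := (Ideal.Quotient.mkₐ R I).toLinearMap
  have hqs : Function.Surjective q := Ideal.Quotient.mk_surjective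
  have hμ : Function.Injective μ := (injective_iff_map_eq_zero μ).mpr fun a ha => by
    simpa using P.reg₁ a (Ideal.mem_bot.mpr ha)
  have hex : Function.Exact μ q := fun y => by
    show Ideal.Quotient.mk I y = 0 ↔ _
    rw [Ideal.Quotient.eq_zero_iff_mem, Ideal.mem_span_singleton']
    exact ⟨fun ⟨a, ha⟩ => ⟨a, by show g * a = y; rw [mul_comm, ha]⟩, fun ⟨a, ha⟩ => ⟨a, by rw [mul_comm]; exact ha⟩⟩
  let ν : (B ⧸ I) →ₗ[R] B ⧸ I := LinearMap.mulLeft R (Ideal.Quotient.mk I h)
  have hIK : I ≤ K := Ideal.span_mono (s := {g}) (t := {g, h}) (fun x hx => Or.inl hx)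
  let q₂ : (B ⧸ I) →ₗ[R] B ⧸ K := (Ideal.Quotient.factorₐ R hIK).toLinearMap
  have hq₂s : Function.Surjective q₂ := Ideal.Quotient.factor_surjective hIK
  have hν : Function.Injective ν := (injective_iff_map_eq_zero ν).mpr fun a ha => by
    obtain ⟨a, rfl⟩ := Ideal.Quotient.mk_surjective a
    rw [Ideal.Quotient.eq_zero_iff_mem]
    refine P.reg₂ a (Ideal.Quotient.eq_zero_iff_mem.mp ?_)
    rw [map_mul]
    exact ha
  have hex₂ : Function.Exact ν q₂ := fun y => by
    obtain ⟨y, rfl⟩ := Ideal.Quotient.mk_surjective y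
    show Ideal.Quotient.mk K y = 0 ↔ _
    rw [Ideal.Quotient.eq_zero_iff_mem]
    constructor
    · intro hy
      obtain ⟨p, r, hpr⟩ := Ideal.mem_span_pair.mp hy
      refine ⟨Ideal.Quotient.mk I r, ?_⟩
      show Ideal.Quotient.mk I h * Ideal.Quotient.mk I r = _
      rw [← map_mul]
      exact Ideal.Quotient.eq.mpr (Ideal.mem_span_singleton'.mpr ⟨-p, by rw [← hpr]; ring⟩)
    · rintro ⟨r, hr⟩
      obtain ⟨r, rfl⟩ := Ideal.Quotient.mk_surjective r
      have hr' : Ideal.Quotient.mk I (h * r) = Ideal.Quotient.mk I y := by rw [map_mul]; exact hr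
      obtain ⟨d, hd⟩ := Ideal.mem_span_singleton'.mp (Ideal.Quotient.eq.mp hr')
      exact Ideal.mem_span_pair.mpr ⟨-d, r, by linear_combination -hd⟩
  have h1 : Function.Injective (μ.lTensor R') :=
    LinearMap.lTensor_injective_of_exact_of_flat q hqs μ hμ hex R'
  have h2 : Function.Injective (ν.lTensor R') :=
    LinearMap.lTensor_injective_of_exact_of_flat q₂ hq₂s ν hν hex₂ R'
  have hker := lTensor_exact R' hex hqs
  have hmem : ∀ z : R' ⊗[R] B, q.lTensor R' z = 0 ↔ z ∈ Ideal.span {(1 : R') ⊗ₜ[R] g} := fun z => by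
    refine Iff.trans (hker z) ?_
    rw [Ideal.mem_span_singleton']
    exact ⟨fun ⟨a, ha⟩ => ⟨a, by rw [mul_comm, ← lTensor_mulLeft]; exact ha⟩,
      fun ⟨a, ha⟩ => ⟨a, by rw [lTensor_mulLeft, mul_comm]; exact ha⟩⟩
  refine ⟨fun z hz => ?_, fun z hz => ?_, ?_, ?_⟩
  · rw [Ideal.mem_bot] at hz ⊢
    refine h1 ?_
    rw [map_zero]
    exact (lTensor_mulLeft R' g z).trans hz
  · refine (hmem z).mp (h2 ?_)
    rw [map_zero]
    have hc : ν ∘ₗ q = q ∘ₗ LinearMap.mulLeft R h := LinearMap.ext fun a => (map_mul (Ideal.Quotient.mk I) h a).symm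
    rw [← LinearMap.comp_apply, ← LinearMap.lTensor_comp, hc, LinearMap.lTensor_comp,
      LinearMap.comp_apply, lTensor_mulLeft]
    exact (hmem _).mpr hz
  · have e : I.map (Algebra.TensorProduct.includeRight : B →ₐ[R] R' ⊗[R] B) =
        Ideal.span {(1 : R') ⊗ₜ[R] g} := by
      rw [Ideal.map_span, Set.image_singleton]; rfl
    rw [← e]
    exact flat_quotient_baseChange R' I
  · have e : K.map (Algebra.TensorProduct.includeRight : B →ₐ[R] R' ⊗[R] B) =
        Ideal.span {(1 : R') ⊗ₜ[R] g, (1 : R') ⊗ₜ[R] h} := by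
      rw [Ideal.map_span, Set.image_insert_eq, Set.image_singleton]; rfl
    rw [← e]
    exact flat_quotient_baseChange R' K

end BaseChange

theorem RegMod.of_equiv {A C : Type u} [CommRing A] [CommRing C] (e : A ≃+* C) {I : Ideal A} {x : A}
    (h : RegMod I x) : RegMod (I.map e.toRingHom) (e x) := by
  intro c hc
  obtain ⟨a, rfl⟩ := e.surjective c
  obtain ⟨b, hb, hbe⟩ := (Ideal.mem_map_iff_of_surjective e.toRingHom e.surjective).mp hc
  refine Ideal.mem_map_of_mem e.toRingHom (h a ?_)
  have : e b = e (x * a) := hbe.trans (map_mul e x a).symm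
  exact e.injective this ▸ hb

/-- On each fibre the pair is regular. -/
theorem FibRegPair.fibre {R B : Type u} [CommRing R] [CommRing B] [Algebra R B] {g h : B}
    (P : FibRegPair R g h) (p : Ideal R) :
    RegMod (⊥ : Ideal (B ⧸ p.map (algebraMap R B))) (Ideal.Quotient.mk _ g) ∧
      RegMod (Ideal.span {Ideal.Quotient.mk (p.map (algebraMap R B)) g}) (Ideal.Quotient.mk _ h) := by
  let J := p.map (algebraMap R B)
  let e : ((R ⧸ p) ⊗[R] B) ≃+* B ⧸ J := (Algebra.TensorProduct.quotIdealMapEquivQuotTensor B p).symm.toRingEquiv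
  have he : ∀ b : B, e ((1 : R ⧸ p) ⊗ₜ[R] b) = Ideal.Quotient.mk J b := fun b => by
    show (Algebra.TensorProduct.quotIdealMapEquivQuotTensor B p).symm _ = _
    rw [AlgEquiv.symm_apply_eq]
    simp [J]
  have hP := P.baseChange (R ⧸ p)
  have h1 := hP.reg₁.of_equiv e
  have h2 := hP.reg₂.of_equiv e
  rw [Ideal.map_bot, he] at h1
  rw [Ideal.map_span, Set.image_singleton, RingEquiv.toRingHom_eq_coe, RingHom.coe_coe, he, he] at h2
  exact ⟨h1, h2⟩

theorem hasRegTwo_of_regMod {C : Type u} [CommRing C] {a b : C} (ha : ¬ IsUnit a) (hb : ¬ IsUnit b)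
    (h1 : RegMod (⊥ : Ideal C) a) (h2 : RegMod (Ideal.span {a}) b) : SchBasics.HasRegTwo C := by
  refine ⟨a, b, ha, hb, fun y hy => Ideal.mem_bot.mp (h1 y (Ideal.mem_bot.mpr hy)), fun x y hxy => ?_⟩
  obtain ⟨w, hw⟩ := Ideal.mem_span_singleton'.mp (h2 x (Ideal.mem_span_singleton'.mpr ⟨y, by rw [hxy, mul_comm]⟩))
  exact ⟨w, by rw [← hw, mul_comm]⟩

/-- A local ring with a regular pair in the maximal ideal has depth, hence dimension, at least two. -/
theorem two_le_dim_of_regMod {C : Type u} [CommRing C] [IsLocalRing C] [IsNoetherianRing C] {a b : C}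
    (ha : a ∈ maximalIdeal C) (hb : b ∈ maximalIdeal C)
    (h1 : RegMod (⊥ : Ideal C) a) (h2 : RegMod (Ideal.span {a}) b) : (2 : WithBot ℕ∞) ≤ ringKrullDim C := by
  have hreg : RingTheory.Sequence.IsWeaklyRegular C [a, b] := by
    refine (RingTheory.Sequence.isWeaklyRegular_cons_iff C a [b]).mpr ⟨?_, ?_⟩
    · exact isSMulRegular_iff_right_eq_zero_of_smul.mpr fun y hy => Ideal.mem_bot.mp (h1 y (Ideal.mem_bot.mpr hy))
    · rw [RingTheory.Sequence.isWeaklyRegular_singleton_iff]
      refine isSMulRegular_iff_right_eq_zero_of_smul.mpr fun q hq => ?_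
      obtain ⟨x, rfl⟩ := Submodule.Quotient.mk_surjective _ q
      rw [← Submodule.Quotient.mk_smul, Submodule.Quotient.mk_eq_zero,
        Submodule.mem_smul_pointwise_iff_exists] at hq
      obtain ⟨y, -, hy⟩ := hq
      rw [Submodule.Quotient.mk_eq_zero, Submodule.mem_smul_pointwise_iff_exists]
      obtain ⟨w, hw⟩ := Ideal.mem_span_singleton'.mp
        (h2 x (Ideal.mem_span_singleton'.mpr ⟨y, by rw [mul_comm]; exact hy⟩))
      exact ⟨w, trivial, by rw [smul_eq_mul, mul_comm]; exact hw⟩
  have hmem : ∀ r ∈ [a, b], r ∈ maximalIdeal C := by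
    intro r hr
    simp only [List.mem_cons, List.not_mem_nil, or_false] at hr
    rcases hr with rfl | rfl <;> assumption
  have h3 := ringKrullDim_add_length_eq_ringKrullDim_of_isRegular [a, b]
    ((IsLocalRing.isRegular_iff_isWeaklyRegular_of_subset_maximalIdeal hmem).mpr hreg)
  have : Nontrivial (C ⧸ Ideal.ofList [a, b]) := Ideal.Quotient.nontrivial_iff.mpr
    (ne_top_of_le_ne_top (maximalIdeal.isMaximal C).ne_top (Ideal.span_le.mpr hmem))
  have := IsLocalRing.of_surjective' (Ideal.Quotient.mk (Ideal.ofList [a, b])) Ideal.Quotient.mk_surjective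
  obtain ⟨n, hn⟩ := CAlg9.CIT.exists_dim_eq (C ⧸ Ideal.ofList [a, b])
  rw [← h3, hn]
  norm_cast
  simp

section Point

variable {S B : Type u} [CommRing S] [CommRing B] [Algebra S B] {g h : B}

set_option backward.isDefEq.respectTransparency.types false in
/-- At common zeros of the pair there is a regular pair. -/
theorem FibRegPair.hasRegTwo_stalk (P : FibRegPair S g h) (z : Spec (CommRingCat.of B))
    (hg : g ∈ (z : PrimeSpectrum B).asIdeal) (hh : h ∈ (z : PrimeSpectrum B).asIdeal) :
    SchBasics.HasRegTwo ((Spec (CommRingCat.of B)).presheaf.stalk z) := by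
  let q := (z : PrimeSpectrum B).asIdeal
  let Bq := Localization.AtPrime q
  refine SchBasics.HasRegTwo.of_ringEquiv (Spec.stalkIso (CommRingCat.of B) z).commRingCatIsoToRingEquiv.symm ?_
  have h1 : RegMod ((⊥ : Ideal B).map (algebraMap B Bq)) (algebraMap B Bq g) := P.reg₁.map_flat
  have h2 : RegMod ((Ideal.span {g}).map (algebraMap B Bq)) (algebraMap B Bq h) := P.reg₂.map_flat
  rw [Ideal.map_bot] at h1
  rw [Ideal.map_span, Set.image_singleton] at h2
  exact hasRegTwo_of_regMod (fun hu => (IsLocalization.AtPrime.isUnit_to_map_iff Bq q g).mp hu hg)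
    (fun hu => (IsLocalization.AtPrime.isUnit_to_map_iff Bq q h).mp hu hh) h1 h2

set_option backward.isDefEq.respectTransparency.types false in
/-- At common zeros of the pair over a Noetherian base the local ring is pure. -/
theorem FibRegPair.purityHolds_stalk [IsNoetherianRing S] [IsNoetherianRing B] (P : FibRegPair S g h)
    [Smooth (Spec.map (CommRingCat.ofHom (algebraMap S B)))] (z : Spec (CommRingCat.of B))
    (hg : g ∈ (z : PrimeSpectrum B).asIdeal) (hh : h ∈ (z : PrimeSpectrum B).asIdeal) :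
    FEt.PurityHolds ((Spec (CommRingCat.of B)).presheaf.stalk z) := by
  let f := Spec.map (CommRingCat.ofHom (algebraMap S B))
  let q := (z : PrimeSpectrum B).asIdeal
  let p := q.comap (algebraMap S B)
  let A := Localization.AtPrime p
  let C := Localization.AtPrime q
  let φ : A →+* C := Localization.localRingHom p q (algebraMap S B) rfl
  have : IsLocalHom φ := Localization.isLocalHom_localRingHom _ _ _ _
  let As := (Spec (CommRingCat.of S)).presheaf.stalk (f z)
  let Cs := (Spec (CommRingCat.of B)).presheaf.stalk z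
  let eA : A ≃+* As :=
    (Spec.stalkIso (CommRingCat.of S) ((z : PrimeSpectrum B).comap (algebraMap S B))).commRingCatIsoToRingEquiv.symm
  let eC : C ≃+* Cs := (Spec.stalkIso (CommRingCat.of B) z).commRingCatIsoToRingEquiv.symm
  have hsq : (f.stalkMap z).hom.comp eA.toRingHom = eC.toRingHom.comp φ := by
    refine RingHom.ext fun a => ?_
    have h := congr($(Scheme.localRingHom_comp_stalkIso (CommRingCat.ofHom (algebraMap S B)) z) (eA a))
    refine h.symm.trans ?_
    show eC (φ (eA.symm (eA a))) = eC (φ a)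
    rw [eA.symm_apply_apply]
  let : Algebra A C := φ.toAlgebra
  have : IsLocalHom (algebraMap A C) := ‹IsLocalHom φ›
  have : Module.Flat A C := by
    have h1 : ((f.stalkMap z).hom.comp eA.toRingHom).Flat :=
      (RingHom.Flat.of_bijective eA.bijective).comp (Flat.stalkMap f z)
    rw [hsq] at h1
    have h2 : (eC.symm.toRingHom.comp (eC.toRingHom.comp φ)).Flat :=
      h1.comp (RingHom.Flat.of_bijective eC.symm.bijective)
    rw [← RingHom.comp_assoc, RingEquiv.symm_toRingHom_comp_toRingHom, RingHom.id_comp] at h2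
    exact h2
  refine purityHolds_congr eC.symm ?_
  let F := C ⧸ (maximalIdeal A).map (algebraMap A C)
  have hmap : (maximalIdeal As).map (f.stalkMap z).hom =
      ((maximalIdeal A).map (algebraMap A C)).map eC.toRingHom := by
    rw [Ideal.map_map, show eC.toRingHom.comp (algebraMap A C) = (f.stalkMap z).hom.comp eA.toRingHom from hsq.symm,
      ← Ideal.map_map]
    congr 1
    exact (IsLocalRing.map_maximalIdeal_of_surjective eA.toRingHom eA.surjective).symm
  let eF : F ≃+* CInt.fiberStalk f z :=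
    (Ideal.quotientEquiv _ _ eC hmap).trans (CAlg9.CIT.fiberStalkEquiv f z)
  have hregF : IsRegularLocalRing F :=
    have := CAlg9.CIT.isRegularLocalRing_fiberStalk f z
    IsRegularLocalRing.of_ringEquiv eF.symm
  let J := p.map (algebraMap S B)
  have hJC : J.map (algebraMap B C) = (maximalIdeal A).map (algebraMap A C) := by
    rw [← Localization.AtPrime.map_eq_maximalIdeal (I := p), Ideal.map_map, Ideal.map_map]
    congr 1
    exact RingHom.ext fun s => (Localization.localRingHom_to_map p q (algebraMap S B) rfl s).symm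
  have : Module.Flat (B ⧸ J) (C ⧸ J.map (algebraMap B C)) := flat_quotient_map J
  obtain ⟨h1, h2⟩ := P.fibre p
  have h1' := h1.map_flat (C := C ⧸ J.map (algebraMap B C))
  have h2' := h2.map_flat (C := C ⧸ J.map (algebraMap B C))
  rw [Ideal.map_bot] at h1'
  rw [Ideal.map_span, Set.image_singleton] at h2'
  let e : (C ⧸ J.map (algebraMap B C)) ≃+* F := Ideal.quotEquivOfEq hJC
  have h1'' := h1'.of_equiv e
  have h2'' := h2'.of_equiv e
  rw [Ideal.map_bot] at h1''
  rw [Ideal.map_span, Set.image_singleton] at h2''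
  have hnu : ∀ b : B, b ∈ q → (algebraMap B C b : C) ∈ maximalIdeal C := fun b hb =>
    (IsLocalization.AtPrime.to_map_mem_maximal_iff C q b).mpr hb
  have hle : (maximalIdeal A).map (algebraMap A C) ≤ maximalIdeal C :=
    ((IsLocalRing.local_hom_TFAE (algebraMap A C)).out 0 2).mp ‹_›
  have hd : (2 : WithBot ℕ∞) ≤ ringKrullDim F := by
    have hmem : ∀ b : B, b ∈ q → Ideal.Quotient.mk ((maximalIdeal A).map (algebraMap A C)) (algebraMap B C b) ∈
        maximalIdeal F := fun b hb => by
      rw [← IsLocalRing.map_maximalIdeal_of_surjective _ Ideal.Quotient.mk_surjective]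
      exact Ideal.mem_map_of_mem _ (hnu b hb)
    exact two_le_dim_of_regMod (hmem g hg) (hmem h hh) h1'' h2''
  obtain ⟨n, hn⟩ := CAlg9.CIT.exists_dim_eq A
  exact purityHolds_of_flat_fibre (n + 1) A C (by rw [hn]; exact_mod_cast Nat.lt_succ_self n) hregF hd

end Point

end Groth.Agent.Pure83
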