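import Groth.Agent.Pure83.RelPurityLocal
import Mathlib.RingTheory.Polynomial.UniqueFactorization
import Mathlib.Algebra.MvPolynomial.NoZeroDivisors

/-!
# Coordinates transversal to a prime of fibrewise height one
-/

universe u

open IsLocalRing MvPolynomial

set_option autoImplicit false
set_option linter.unusedSectionVars false

namespace Groth.Agent.Pure83

variable {R : Type u} [CommRing R]

/-- In a fibre of dimension one there is no prime strictly between the fibre ideal and the point. -/
theorem eq_or_eq_of_fibre_dim_one {σ : Type} [Finite σ] (P : Ideal (MvPolynomial σ R)) [P.IsPrime]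
    (hd : ringKrullDim (Localization.AtPrime P ⧸ fibreIdeal (R := R) P) = 1) (Q : Ideal (MvPolynomial σ R))
    [Q.IsPrime] (h1 : (P.comap (algebraMap R _)).map (algebraMap R (MvPolynomial σ R)) ≤ Q) (h2 : Q ≤ P) :
    Q = (P.comap (algebraMap R _)).map (algebraMap R (MvPolynomial σ R)) ∨ Q = P := by
  let S := MvPolynomial σ R
  let I := (P.comap (algebraMap R S)).map (algebraMap R S)
  have hI : I.IsPrime := by
    show (Ideal.map (algebraMap R S) _).IsPrime
    rw [← Ideal.mk_ker (I := P.comap (algebraMap R S))]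
    show (Ideal.map (MvPolynomial.C) (RingHom.ker (Ideal.Quotient.mk _))).IsPrime
    rw [← MvPolynomial.ker_map]
    exact RingHom.ker_isPrime _
  let C := Localization.AtPrime P
  let G := C ⧸ fibreIdeal (R := R) P
  have hdj : ∀ {J : Ideal S}, J ≤ P → Disjoint (P.primeCompl : Set S) J := fun {J} hJ =>
    Set.disjoint_left.mpr fun x hx hxJ => hx (hJ hxJ)
  have hQC : (Q.map (algebraMap S C)).IsPrime :=
    IsLocalization.isPrime_of_isPrime_disjoint P.primeCompl C Q ‹_› (hdj h2)
  have hle : fibreIdeal (R := R) P ≤ Q.map (algebraMap S C) := Ideal.map_mono h1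
  let QG := (Q.map (algebraMap S C)).map (Ideal.Quotient.mk (fibreIdeal (R := R) P))
  have hQG : QG.IsPrime := Ideal.map_isPrime_of_surjective Ideal.Quotient.mk_surjective (by rwa [Ideal.mk_ker])
  have : Algebra.Smooth R (MvPolynomial σ R) := ⟨inferInstance, inferInstance⟩
  have hG : IsRegularLocalRing G := isRegularLocalRing_fibreQuot (R := R) P
  have hdom : IsDomain G := CAlg1.isDomain_regular G
  have : Ring.KrullDimLE 1 G := Ring.krullDimLE_iff.mpr hd.le
  have hcomap : ∀ {J : Ideal S}, J.IsPrime → J ≤ P → (J.map (algebraMap S C)).comap (algebraMap S C) = J :=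
    fun {J} hJ h => IsLocalization.under_map_of_isPrime_disjoint P.primeCompl C hJ (hdj h)
  have hmk : (Q.map (algebraMap S C)) = QG.comap (Ideal.Quotient.mk _) := by
    rw [Ideal.comap_map_of_surjective' _ Ideal.Quotient.mk_surjective, Ideal.mk_ker]
    exact (sup_eq_left.mpr hle).symm
  by_cases h0 : QG = ⊥
  · left
    rw [h0, ← RingHom.ker_eq_comap_bot, Ideal.mk_ker] at hmk
    rw [← hcomap ‹Q.IsPrime› h2, hmk]
    exact hcomap hI Ideal.map_comap_le
  · right
    have := hQG.isMaximal_of_ne_bot h0
    have hm : Q.map (algebraMap S C) = maximalIdeal C := by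
      rw [hmk]
      exact IsLocalRing.eq_maximalIdeal (Ideal.comap_isMaximal_of_surjective _ Ideal.Quotient.mk_surjective)
    rw [← hcomap ‹Q.IsPrime› h2, hm]
    exact IsLocalization.AtPrime.under_maximalIdeal C P

/-- Every polynomial over the residue field is a constant multiple of one over the ring. -/
theorem exists_map_eq_C_mul {σ : Type} (p : Ideal R) [p.IsPrime] (π : MvPolynomial σ p.ResidueField) :
    ∃ (c : p.ResidueField) (z : MvPolynomial σ R), c ≠ 0 ∧
      MvPolynomial.map (algebraMap R p.ResidueField) z = MvPolynomial.C c * π := by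
  induction π using MvPolynomial.induction_on' with
  | monomial d a =>
    obtain ⟨x, y, hy, rfl⟩ := IsFractionRing.div_surjective (A := R ⧸ p) a
    obtain ⟨x, rfl⟩ := Ideal.Quotient.mk_surjective x
    have hy0 : algebraMap (R ⧸ p) p.ResidueField y ≠ 0 :=
      fun h => nonZeroDivisors.ne_zero hy (p.injective_algebraMap_quotient_residueField (h.trans (map_zero _).symm))
    refine ⟨algebraMap (R ⧸ p) p.ResidueField y, monomial d x, hy0, ?_⟩
    rw [map_monomial, C_mul_monomial, mul_div_cancel₀ _ hy0]
    rfl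
  | add a b ha hb =>
    obtain ⟨c, z, hc, hz⟩ := ha
    obtain ⟨e, w, he, hw⟩ := hb
    obtain ⟨ce, hce⟩ : ∃ u v : R, c * algebraMap R p.ResidueField v = algebraMap R p.ResidueField u ∧ algebraMap R p.ResidueField v ≠ 0 := by
      obtain ⟨x, y, hy, rfl⟩ := IsFractionRing.div_surjective (A := R ⧸ p) c
      obtain ⟨x, rfl⟩ := Ideal.Quotient.mk_surjective x
      obtain ⟨y, rfl⟩ := Ideal.Quotient.mk_surjective y
      have hy0 : algebraMap R p.ResidueField y ≠ 0 := fun h => nonZeroDivisors.ne_zero hy
        (Ideal.Quotient.eq_zero_iff_mem.mpr (Ideal.algebraMap_residueField_eq_zero.mp h))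
      exact ⟨x, y, div_mul_cancel₀ _ hy0, hy0⟩
    obtain ⟨cv, hcu, hcv⟩ := hce
    obtain ⟨eu, ev, heu, hev⟩ : ∃ u v : R, e * algebraMap R p.ResidueField v = algebraMap R p.ResidueField u ∧ algebraMap R p.ResidueField v ≠ 0 := by
      obtain ⟨x, y, hy, rfl⟩ := IsFractionRing.div_surjective (A := R ⧸ p) e
      obtain ⟨x, rfl⟩ := Ideal.Quotient.mk_surjective x
      obtain ⟨y, rfl⟩ := Ideal.Quotient.mk_surjective y
      have hy0 : algebraMap R p.ResidueField y ≠ 0 := fun h => nonZeroDivisors.ne_zero hy
        (Ideal.Quotient.eq_zero_iff_mem.mpr (Ideal.algebraMap_residueField_eq_zero.mp h))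
      exact ⟨x, y, div_mul_cancel₀ _ hy0, hy0⟩
    refine ⟨c * e * (algebraMap R p.ResidueField cv * algebraMap R p.ResidueField ev),
      C (eu * cv) * z + C (ce * ev) * w, mul_ne_zero (mul_ne_zero hc he) (mul_ne_zero hcv hev), ?_⟩
    simp only [map_add, map_mul, map_C, hz, hw]
    rw [show (C (algebraMap R p.ResidueField eu) : MvPolynomial σ p.ResidueField) =
        C e * C (algebraMap R p.ResidueField ev) by rw [← map_mul, heu],
      show (C (algebraMap R p.ResidueField ce) : MvPolynomial σ p.ResidueField) =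
        C c * C (algebraMap R p.ResidueField cv) by rw [← map_mul, hcu]]
    ring

/-- Some coordinate is algebraic over the remaining ones, which stay independent modulo the base prime. -/
theorem exists_variable {m : ℕ} (P : Ideal (MvPolynomial (Fin (m + 1)) R)) [P.IsPrime]
    (hd : ringKrullDim (Localization.AtPrime P ⧸ fibreIdeal (R := R) P) = 1) :
    ∃ j : Fin (m + 1), ∀ y : MvPolynomial (Fin m) R, rename j.succAbove y ∈ P →
      y ∈ (P.comap (algebraMap R _)).map (algebraMap R (MvPolynomial (Fin m) R)) := by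
  classical
  let S := MvPolynomial (Fin (m + 1)) R
  let p := P.comap (algebraMap R S)
  let k := p.ResidueField
  let L := P.ResidueField
  let ι : k →+* L := Ideal.ResidueField.map p P (algebraMap R S) rfl
  let θ : S →+* MvPolynomial (Fin (m + 1)) k := MvPolynomial.map (algebraMap R k)
  let ψ : MvPolynomial (Fin (m + 1)) k →+* L := eval₂Hom ι fun i => algebraMap S L (X i)
  have hψθ : ψ.comp θ = algebraMap S L := by
    refine MvPolynomial.ringHom_ext (fun r => ?_) fun i => ?_
    · show ψ (θ (C r)) = _
      rw [map_C, eval₂Hom_C, Ideal.ResidueField.map_algebraMap]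
      rfl
    · show ψ (θ (X i)) = _
      rw [map_X, eval₂Hom_X']
  let Pb := RingHom.ker ψ
  have hPb : Pb.IsPrime := RingHom.ker_isPrime ψ
  have hPθ : ∀ s, θ s ∈ Pb ↔ s ∈ P := fun s => by
    rw [RingHom.mem_ker, ← RingHom.comp_apply, hψθ, Ideal.algebraMap_residueField_eq_zero]
  have hker : ∀ s, θ s = 0 ↔ s ∈ p.map (algebraMap R S) := fun s => by
    rw [← RingHom.mem_ker, MvPolynomial.ker_map, Ideal.ker_algebraMap_residueField]
    rfl
  -- `P` is not the fibre ideal
  have hne : p.map (algebraMap R S) ≠ P := by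
    intro he
    have hfib : fibreIdeal (R := R) P = maximalIdeal (Localization.AtPrime P) := by
      show (p.map (algebraMap R S)).map _ = _
      rw [he, Localization.AtPrime.map_eq_maximalIdeal]
    rw [ringKrullDim_eq_zero_of_isField ((Ideal.Quotient.maximal_ideal_iff_isField_quotient _).mp
      (hfib ▸ maximalIdeal.isMaximal _))] at hd
    exact zero_ne_one hd
  obtain ⟨s, hsP, hs⟩ : ∃ s ∈ P, s ∉ p.map (algebraMap R S) := by
    by_contra hc
    push Not at hc
    exact hne (le_antisymm Ideal.map_comap_le hc)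
  obtain ⟨π, hπ, hπP⟩ : ∃ π, Irreducible π ∧ π ∈ Pb := by
    have key : ∀ a : MvPolynomial (Fin (m + 1)) k, a ≠ 0 → a ∈ Pb → ∃ π, Irreducible π ∧ π ∈ Pb := by
      intro a
      induction a using WfDvdMonoid.induction_on_irreducible with
      | zero => exact fun h => absurd rfl h
      | unit a ha => exact fun _ h => absurd (Pb.eq_top_of_isUnit_mem h ha) hPb.ne_top
      | mul a i ha0 hi ih =>
        intro _ h
        rcases hPb.mem_or_mem h with h' | h'
        · exact ⟨i, hi, h'⟩
        · exact ih ha0 h'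
    exact key (θ s) (fun h => hs ((hker s).mp h)) ((hPθ s).mpr hsP)
  have hπp : Prime π := hπ.prime
  have hspan : (Ideal.span {π}).IsPrime := (Ideal.span_singleton_prime hπp.ne_zero).mpr hπp
  let Q := (Ideal.span {π}).comap θ
  have hQP : Q ≤ P := fun z hz => (hPθ z).mp ((Ideal.span_singleton_le_iff_mem _).mpr hπP hz)
  have hpQ : p.map (algebraMap R S) ≤ Q := fun z hz => by
    show θ z ∈ Ideal.span {π}
    rw [(hker z).mpr hz]
    exact zero_mem _
  have hQ : Q = P := (eq_or_eq_of_fibre_dim_one P hd Q hpQ hQP).resolve_left fun he => by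
    obtain ⟨c, z, hc, hz⟩ := exists_map_eq_C_mul p π
    have hzQ : z ∈ Q := by
      show θ z ∈ Ideal.span {π}
      rw [show θ z = _ from hz]
      exact Ideal.mul_mem_left _ _ (Ideal.subset_span rfl)
    have := (hker z).mpr (he ▸ hzQ)
    rw [show θ z = _ from hz] at this
    exact hπp.ne_zero ((mul_eq_zero.mp this).resolve_left (by simpa using hc))
  obtain ⟨j, hj⟩ : ∃ j, π.degreeOf j ≠ 0 := by
    by_contra hc
    push Not at hc
    have h0 : π.totalDegree = 0 := by
      rw [MvPolynomial.totalDegree_eq_zero_iff]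
      intro d hd i
      by_contra hdi
      have := (MvPolynomial.degreeOf_le_iff).mp (hc i).le d hd
      omega
    obtain ⟨a, ha⟩ : ∃ a, π = C a := ⟨_, (MvPolynomial.totalDegree_eq_zero_iff_eq_C).mp h0⟩
    exact hπp.not_isUnit (ha ▸ (isUnit_iff_ne_zero.mpr fun h => hπp.ne_zero (by rw [ha, h, map_zero])).map C)
  refine ⟨j, fun y hy => ?_⟩
  have hyQ : θ (rename j.succAbove y) ∈ Ideal.span {π} := (hQ.ge hy :)
  have hcomm : θ (rename j.succAbove y) = rename j.succAbove (MvPolynomial.map (algebraMap R k) y) :=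
    MvPolynomial.map_rename _ _ _
  have hzero : MvPolynomial.map (algebraMap R k) y = 0 := by
    by_contra h
    obtain ⟨w, hw⟩ := Ideal.mem_span_singleton'.mp hyQ
    rw [hcomm] at hw
    have hnz : rename j.succAbove (MvPolynomial.map (algebraMap R k) y) ≠ 0 :=
      fun h0 => h (rename_injective _ Fin.succAbove_right_injective (h0.trans (map_zero _).symm))
    have hw0 : w ≠ 0 := fun h0 => hnz (by rw [← hw, h0, zero_mul])
    have hdeg : (rename j.succAbove (MvPolynomial.map (algebraMap R k) y)).degreeOf j = 0 := by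
      by_contra hne0
      have := MvPolynomial.mem_vars_iff_degreeOf_ne_zero.mpr hne0
      obtain ⟨i, -, hi⟩ := Finset.mem_image.mp (MvPolynomial.vars_rename _ _ this)
      exact Fin.succAbove_ne j i hi
    rw [← hw, MvPolynomial.degreeOf_mul_eq hw0 hπp.ne_zero] at hdeg
    omega
  have := RingHom.mem_ker.mpr hzero
  rwa [MvPolynomial.ker_map, Ideal.ker_algebraMap_residueField] at this

end Groth.Agent.Pure83
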