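import Groth.Agent.Pure83.FibreCoord

/-!
# Residue fields of points algebraic over the remaining coordinates
-/

universe u

open IsLocalRing

set_option autoImplicit false
set_option linter.unusedSectionVars false

namespace Groth.Agent.Pure83

set_option backward.isDefEq.respectTransparency.types false in
/-- A prime of a polynomial ring in one variable, not generated by the prime below, has finite residue
extension. -/
theorem finite_residue_of_ne {R' S : Type u} [CommRing R'] [CommRing S] [Algebra R' S]
    (e : Polynomial R' ≃ₐ[R'] S) (P : Ideal S) [P.IsPrime] (p' : Ideal R') [p'.IsPrime] [P.LiesOver p']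
    [Algebra (Localization.AtPrime p') (Localization.AtPrime P)] [Localization.AtPrime.IsLiesOverAlgebra p' P]
    (s : S) (hs : s ∈ P) (hne : s ∉ p'.map (algebraMap R' S)) :
    Module.Finite p'.ResidueField P.ResidueField := by
  let K := p'.ResidueField
  let L := P.ResidueField
  let x : L := algebraMap S L (e Polynomial.X)
  have hev : ∀ f : Polynomial R', algebraMap S L (e f) = Polynomial.aeval x (f.map (algebraMap R' K)) := by
    intro f
    rw [Polynomial.aeval_map_algebraMap]
    induction f using Polynomial.induction_on' with
    | add a b ha hb => rw [map_add, map_add, map_add, ha, hb]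
    | monomial n a =>
      rw [← Polynomial.C_mul_X_pow_eq_monomial, map_mul, map_pow, map_mul, map_pow,
        ← Polynomial.algebraMap_eq, AlgEquiv.commutes, map_mul, map_pow, Polynomial.aeval_X, AlgHom.commutes,
        IsScalarTower.algebraMap_apply R' S L]
  obtain ⟨f, rfl⟩ := e.surjective s
  have hf : f.map (algebraMap R' K) ≠ 0 := by
    intro h
    refine hne ?_
    have hmem : f ∈ p'.map Polynomial.C := by
      rw [Ideal.mem_map_C_iff]
      intro n
      refine Ideal.algebraMap_residueField_eq_zero.mp ?_
      rw [← Polynomial.coeff_map, h, Polynomial.coeff_zero]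
    have h2 := Ideal.mem_map_of_mem e.toRingEquiv.toRingHom hmem
    rw [Ideal.map_map] at h2
    rwa [show e.toRingEquiv.toRingHom.comp Polynomial.C = algebraMap R' S from RingHom.ext fun a => e.commutes a] at h2
  have hx : IsIntegral K x := IsAlgebraic.isIntegral ⟨_, hf, by
    rw [← hev]
    exact Ideal.algebraMap_residueField_eq_zero.mpr hs⟩
  have : FiniteDimensional K (IntermediateField.adjoin K {x}) := IntermediateField.adjoin.finiteDimensional hx
  have htop : IntermediateField.adjoin K {x} = ⊤ := by
    refine top_le_iff.mp fun y _ => ?_
    obtain ⟨a, b, -, rfl⟩ := IsFractionRing.div_surjective (A := S ⧸ P) y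
    obtain ⟨a, rfl⟩ := Ideal.Quotient.mk_surjective a
    obtain ⟨b, rfl⟩ := Ideal.Quotient.mk_surjective b
    have key : ∀ c : S, algebraMap S L c ∈ IntermediateField.adjoin K {x} := fun c => by
      obtain ⟨g, rfl⟩ := e.surjective c
      rw [hev]
      exact IntermediateField.algebra_adjoin_le_adjoin K {x} (Polynomial.aeval_mem_adjoin_singleton K x)
    exact div_mem (key a) (key b)
  exact Module.Finite.of_surjective (IntermediateField.adjoin K {x}).val.toLinearMap
    fun y => ⟨⟨y, htop ▸ trivial⟩, rfl⟩

end Groth.Agent.Pure83
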