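import Groth.Agent.Pure83.PowerSeriesPurity
import Mathlib.RingTheory.AdjoinRoot
import Mathlib.FieldTheory.Minpoly.Field

/-!
# Finite gonflements and descent along extensions with primary extended maximal ideal
-/

universe u

open CategoryTheory Limits AlgebraicGeometry IsLocalRing

set_option autoImplicit false
set_option linter.unusedSectionVars false

namespace Groth.Agent.Pure83

/-- A finite residue extension lifts to a finite flat local algebra. -/
theorem exists_finite_gonflement (A : Type u) [CommRing A] [IsNoetherianRing A] [IsLocalRing A]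
    (K : Type u) [Field K] [Algebra A K] [IsLocalHom (algebraMap A K)] [Module.Finite A K] :
    ∃ (A' : Type u) (_ : CommRing A') (_ : IsLocalRing A') (_ : Algebra A A') (ψ : A' →ₐ[A] K),
      Module.Finite A A' ∧ Module.Flat A A' ∧ Function.Surjective ψ ∧
      RingHom.ker ψ = maximalIdeal A' ∧ (maximalIdeal A).map (algebraMap A A') = maximalIdeal A' := by
  classical
  let P : Submodule A K → Prop := fun N => ∃ (A' : Type u) (_ : CommRing A') (_ : IsLocalRing A')
    (_ : Algebra A A') (ψ : A' →ₐ[A] K), Module.Finite A A' ∧ Module.Flat A A' ∧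
      RingHom.ker ψ = maximalIdeal A' ∧ (maximalIdeal A).map (algebraMap A A') = maximalIdeal A' ∧
      LinearMap.range ψ.toLinearMap = N
  have hne : {N | P N}.Nonempty := by
    refine ⟨_, A, inferInstance, inferInstance, inferInstance, Algebra.ofId A K, inferInstance, inferInstance,
      ?_, by rw [Algebra.algebraMap_self, Ideal.map_id], rfl⟩
    ext a
    show algebraMap A K a = 0 ↔ a ∈ maximalIdeal A
    rw [mem_maximalIdeal, mem_nonunits_iff, ← isUnit_map_iff (algebraMap A K), isUnit_iff_ne_zero, not_not]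
  obtain ⟨N, ⟨A', _, _, _, ψ, hfin, hflat, hker, hm, hN⟩, hmax⟩ := set_has_maximal_iff_noetherian.mpr
    (inferInstance : IsNoetherian A K) {N | P N} hne
  refine ⟨A', inferInstance, inferInstance, inferInstance, ψ, hfin, hflat, fun x => ?_, hker, hm⟩
  by_contra hx
  push Not at hx
  let : Algebra A' K := ψ.toRingHom.toAlgebra
  have : IsScalarTower A A' K := IsScalarTower.of_algebraMap_eq fun a => (ψ.commutes a).symm
  let k := ResidueField A'
  let ι : k →+* K := Ideal.Quotient.lift (maximalIdeal A') ψ.toRingHom fun a ha => hker.ge ha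
  let : Algebra k K := ι.toAlgebra
  have : IsScalarTower A' k K := IsScalarTower.of_algebraMap_eq fun _ => rfl
  have : Module.Finite A' K := Module.Finite.of_restrictScalars_finite A A' K
  have : Module.Finite k K := Module.Finite.of_restrictScalars_finite A' k K
  have hint : IsIntegral k x := Algebra.IsIntegral.isIntegral x
  obtain ⟨p, hp, -, hpm⟩ := Polynomial.lifts_and_degree_eq_and_monic
    (f := residue A') (p := minpoly k x) (Polynomial.map_surjective _ residue_surjective (minpoly k x) |>
      fun ⟨q, hq⟩ => (Polynomial.mem_lifts _).mpr ⟨q, hq⟩) (minpoly.monic hint)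
  let A'' := AdjoinRoot p
  let f : A'' →ₐ[A] K := AdjoinRoot.liftAlgHom p ψ x (by
    show p.eval₂ ψ.toRingHom x = 0
    rw [show ψ.toRingHom = ι.comp (residue A') from RingHom.ext fun _ => rfl, ← Polynomial.eval₂_map, hp]
    exact minpoly.aeval k x)
  have : Module.Free A' A'' := hpm.free_adjoinRoot
  have : Module.Finite A' A'' := hpm.finite_adjoinRoot
  have : Module.Finite A A'' := Module.Finite.trans A' A''
  have : Module.Flat A A'' := Module.Flat.trans A A' A''
  let M : Ideal A'' := (maximalIdeal A').map (algebraMap A' A'')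
  have hfmap : ∀ a : A', f (AdjoinRoot.of p a) = ψ a := fun a => AdjoinRoot.liftAlgHom_of p ψ x _ a
  have hMk : M ≤ RingHom.ker f := Ideal.map_le_iff_le_comap.mpr fun a ha => by
    show f (AdjoinRoot.of p a) = 0
    rw [hfmap]
    exact hker.ge ha
  have hMm : M.IsMaximal := by
    have : Fact (Irreducible ((p.map (residue A')))) := ⟨hp ▸ minpoly.irreducible hint⟩
    let e := (AdjoinRoot.quotEquivQuotMap p (maximalIdeal A'))
    have hF : IsField (A'' ⧸ M) := by
      refine MulEquiv.isField ?_ e.toMulEquiv
      exact (AdjoinRoot.span_maximal_of_irreducible (f := p.map (residue A')) |> fun h =>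
        (Ideal.Quotient.maximal_ideal_iff_isField_quotient _).mp h)
    exact (Ideal.Quotient.maximal_ideal_iff_isField_quotient _).mpr hF
  have hloc : ∀ Q : Ideal A'', Q.IsMaximal → Q = M := fun Q hQ => by
    have h1 : (Q.comap (algebraMap A' A'')).IsMaximal := Ideal.isMaximal_comap_of_isIntegral_of_isMaximal Q
    exact (hMm.eq_of_le hQ.ne_top (Ideal.map_le_iff_le_comap.mpr (eq_maximalIdeal h1).ge)).symm
  have : IsLocalRing A'' := IsLocalRing.of_unique_max_ideal ⟨M, hMm, hloc⟩
  have hMmax : M = maximalIdeal A'' := eq_maximalIdeal hMm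
  have hker' : RingHom.ker f = maximalIdeal A'' :=
    (hMm.eq_of_le (RingHom.ker_ne_top f) hMk).symm.trans hMmax
  have hlt : N < LinearMap.range f.toLinearMap := by
    refine lt_of_le_of_ne ?_ fun h => ?_
    · rintro _ hy
      obtain ⟨a, rfl⟩ := hN.ge hy
      exact ⟨AdjoinRoot.of p a, hfmap a⟩
    · have : x ∈ N := h ▸ ⟨AdjoinRoot.root p, show f (AdjoinRoot.root p) = x from AdjoinRoot.liftAlgHom_root p ψ x _⟩
      obtain ⟨a, ha⟩ := hN.ge this
      exact hx a ha
  exact hmax _ ⟨A'', inferInstance, inferInstance, inferInstance, f, inferInstance, inferInstance, hker',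
    by rw [IsScalarTower.algebraMap_eq A A' A'', ← Ideal.map_map, hm]; exact hMmax, rfl⟩ hlt

/-- Purity descends along flat local maps for which the extended maximal ideal is primary. -/
theorem purityHolds_of_faithfullyFlat_primary {B C : Type u} [CommRing B] [IsLocalRing B] [IsNoetherianRing B]
    [CommRing C] [IsLocalRing C] [Algebra B C] [Module.Flat B C] [IsLocalHom (algebraMap B C)]
    (h2 : (2 : ℕ∞) ≤ LocCoh.depth B B)
    (hrad : ∀ Q : Ideal C, Q.IsPrime → (maximalIdeal B).map (algebraMap B C) ≤ Q → Q = maximalIdeal C)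
    (hC : FEt.PurityHolds C) : FEt.PurityHolds B := by
  have : Module.FaithfullyFlat B C := Module.FaithfullyFlat.of_flat_of_isLocalHom
  have hiff : ∀ q : Spec (CommRingCat.of C), descMap B C q ∈ FEt.puncturedSpec B ↔ q ∈ FEt.puncturedSpec C := by
    intro q
    refine Iff.trans (mem_puncturedSpec_iff _) (Iff.trans (not_congr ?_) (mem_puncturedSpec_iff _).symm)
    refine ⟨fun e => hrad _ (q : PrimeSpectrum C).isPrime (Ideal.map_le_iff_le_comap.mpr e.ge), fun e => ?_⟩
    show Ideal.comap (algebraMap B C) (q : PrimeSpectrum C).asIdeal = maximalIdeal B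
    rw [e]
    exact ((local_hom_TFAE (algebraMap B C)).out 0 4).mp ‹_›
  refine ⟨fun V => ?_⟩
  let snd := pullback.snd (FEt.puncturedSpec B).ι (descMap B C)
  have hr : Set.range snd = Set.range (FEt.puncturedSpec C).ι := by
    rw [IsOpenImmersion.range_pullbackSnd, Scheme.Opens.opensRange_ι, Scheme.Opens.range_ι]
    ext q
    exact hiff q
  let j := IsOpenImmersion.isoOfRangeEq snd (FEt.puncturedSpec C).ι hr
  have hj : j.hom ≫ (FEt.puncturedSpec C).ι = snd := IsOpenImmersion.isoOfRangeEq_hom_fac _ _ _
  let a := j.inv ≫ pullback.fst (FEt.puncturedSpec B).ι (descMap B C)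
  obtain ⟨Y', ⟨e⟩⟩ := hC.mem_essImage ((FEt.restrict a).obj V)
  exact extends_of_faithfullyFlat h2 V Y'
    (FEt83.restrictEqIso hj.symm Y' ≪≫ (FEt83.restrictCompIso j.hom (FEt.puncturedSpec C).ι).app Y' ≪≫
      (FEt.restrict j.hom).mapIso e ≪≫ ((FEt83.restrictCompIso j.hom a).app V).symm ≪≫
      FEt83.restrictEqIso (j.hom_inv_id_assoc _) V)

end Groth.Agent.Pure83
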