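import Groth.Agent.Pure83.FibRegPair
import Groth.Agent.FEt83.LimFET
import Groth.Agent.LimTop61.BaseChange
import Groth.Agent.Stage62.SubringSpec

/-!
# Relative purity along models of finite type over the integers
-/

universe u

open CategoryTheory Limits AlgebraicGeometry TopologicalSpace TensorProduct Opposite

set_option autoImplicit false

namespace Groth.Agent.Pure83

section Model

variable {D₀ : Type u} [CommRing D₀] {B₂ : Type u} [CommRing B₂] [Algebra D₀ B₂] (g h : B₂)
  (S : Type u) [CommRing S] [Algebra D₀ S]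

/-- The open where one of the pair is invertible. -/
noncomputable def pairOpen : (Spec (CommRingCat.of B₂)).Opens :=
  PrimeSpectrum.basicOpen g ⊔ PrimeSpectrum.basicOpen h

/-- The base change of the model. -/
noncomputable def modelPr : Spec (CommRingCat.of (S ⊗[D₀] B₂)) ⟶ Spec (CommRingCat.of B₂) :=
  Spec.map (CommRingCat.ofHom (Algebra.TensorProduct.includeRight : B₂ →ₐ[D₀] S ⊗[D₀] B₂).toRingHom)

/-- The base change of the open. -/
noncomputable def modelOpen : (Spec (CommRingCat.of (S ⊗[D₀] B₂))).Opens :=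
  modelPr (D₀ := D₀) S ⁻¹ᵁ pairOpen g h

theorem isPullback_model :
    IsPullback (modelPr (D₀ := D₀) (B₂ := B₂) S)
      (Spec.map (CommRingCat.ofHom (algebraMap S (S ⊗[D₀] B₂))))
      (Spec.map (CommRingCat.ofHom (algebraMap D₀ B₂))) (Spec.map (CommRingCat.ofHom (algebraMap D₀ S))) :=
  (isPullback_SpecMap_of_isPushout _ _ _ _ (CommRingCat.isPushout_tensorProduct D₀ S B₂)).flip

variable {g h}

theorem mem_of_notMem_modelOpen (z : Spec (CommRingCat.of (S ⊗[D₀] B₂)))
    (hz : z ∉ modelOpen (D₀ := D₀) g h S) :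
    ((1 : S) ⊗ₜ[D₀] g) ∈ (z : PrimeSpectrum (S ⊗[D₀] B₂)).asIdeal ∧
      ((1 : S) ⊗ₜ[D₀] h) ∈ (z : PrimeSpectrum (S ⊗[D₀] B₂)).asIdeal :=
  ⟨by_contra fun hg => hz (Or.inl hg), by_contra fun hh => hz (Or.inr hh)⟩

theorem isCompact_modelOpen : IsCompact (modelOpen (D₀ := D₀) g h S : Set (Spec (CommRingCat.of (S ⊗[D₀] B₂)))) :=
  (modelPr (D₀ := D₀) S).isCompact_preimage
    ((PrimeSpectrum.isCompact_basicOpen g).union (PrimeSpectrum.isCompact_basicOpen h))

set_option backward.isDefEq.respectTransparency.types false in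
theorem goodPair_model (P : FibRegPair D₀ g h) :
    GoodPair (Spec (CommRingCat.of (S ⊗[D₀] B₂))) (modelOpen (D₀ := D₀) g h S) := by
  refine goodPair_of_nhds fun x => ⟨⊤, trivial, isAffineOpen_top _, _, le_inf le_rfl le_top,
    isCompact_modelOpen S, fun z _ hz => ?_⟩
  obtain ⟨h1, h2⟩ := mem_of_notMem_modelOpen S z hz
  exact (P.baseChange S).hasRegTwo_stalk z h1 h2

set_option backward.isDefEq.respectTransparency.types false in
theorem essSurj_model_noetherian [IsNoetherianRing S] [Algebra.Smooth D₀ B₂] (P : FibRegPair D₀ g h) :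
    (FEt.restrict (modelOpen (D₀ := D₀) g h S).ι).EssSurj := by
  have : Algebra.FinitePresentation S (S ⊗[D₀] B₂) := Algebra.Smooth.finitePresentation
  have : IsNoetherianRing (S ⊗[D₀] B₂) := Algebra.FiniteType.isNoetherianRing S _
  have : IsNoetherianRing (CommRingCat.of (S ⊗[D₀] B₂)) := ‹IsNoetherianRing (S ⊗[D₀] B₂)›
  have : Smooth (Spec.map (CommRingCat.ofHom (algebraMap S (S ⊗[D₀] B₂)))) :=
    (HasRingHomProperty.Spec_iff (P := @Smooth)).mpr (RingHom.smooth_algebraMap.mpr inferInstance)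
  refine FEt83.essSurj_of_purityHolds _ fun z hz => ?_
  obtain ⟨h1, h2⟩ := mem_of_notMem_modelOpen S z hz
  exact (P.baseChange S).purityHolds_stalk z h1 h2

end Model

section Limit

variable {R : Type u} [CommRing R] (D : Subalgebra ℤ R) {B₂ : Type u} [CommRing B₂] [Algebra D B₂]
  [Algebra.Smooth D B₂] {g h : B₂}

set_option backward.isDefEq.respectTransparency.types false in
set_option maxHeartbeats 1000000 in
/-- Covers extend over fibrewise codimension two, for arbitrary base rings. -/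
theorem essSurj_model (hD : D.FG) (P : FibRegPair D g h) :
    (FEt.restrict (modelOpen (D₀ := D) g h R).ι).EssSurj := by
  refine ⟨fun E => ?_⟩
  let i0 : (Stage62.FgSubring R)ᵒᵖ := op ⟨D, hD⟩
  let U1 := pairOpen g h
  let a : Spec (CommRingCat.of B₂) ⟶ Spec (CommRingCat.of D) := Spec.map (CommRingCat.ofHom (algebraMap D B₂))
  let aT : (U1 : Scheme.{u}) ⟶ (Stage62.subringSpec R).obj i0 := U1.ι ≫ a
  let UR := modelOpen (D₀ := D) g h R
  let pR : Spec (CommRingCat.of (R ⊗[D] B₂)) ⟶ Spec (CommRingCat.of R) :=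
    Spec.map (CommRingCat.ofHom (algebraMap R (R ⊗[D] B₂)))
  let q : (UR : Scheme.{u}) ⟶ U1 := modelPr (D₀ := D) R ∣_ U1
  have hpb : IsPullback q (UR.ι ≫ pR) aT ((Stage62.subringCone R).π.app i0) :=
    (isPullback_morphismRestrict (modelPr (D₀ := D) R) U1).paste_vert (isPullback_model R)
  let c' := LimTop61.bcCone (Stage62.subringSpec R) (Stage62.subringCone R) aT q (UR.ι ≫ pR) hpb.w
  let hc' : IsLimit c' :=
    LimTop61.isLimitBcCone (Stage62.subringSpec R) (Stage62.subringCone R) (Stage62.isLimitSubringCone R)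
      aT q (UR.ι ≫ pR) hpb
  have : CompactSpace ↥(U1 : Scheme.{u}) := isCompact_iff_compactSpace.mp
    ((PrimeSpectrum.isCompact_basicOpen g).union (PrimeSpectrum.isCompact_basicOpen h))
  have : ∀ (i j : Over i0) (f : i ⟶ j), IsAffineHom ((LimTop61.bcDiagram (Stage62.subringSpec R) aT).map f) :=
    fun i j f => LimTop61.bcDiagram_isAffineHom _ aT f
  have : QuasiSeparatedSpace ↥(U1 : Scheme.{u}) :=
    quasiSeparatedSpace_of_quasiSeparated U1.ι
  have : ∀ i : Over i0, QuasiSeparatedSpace ↥((LimTop61.bcDiagram (Stage62.subringSpec R) aT).obj i) :=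
    fun i => LimTop61.bcDiagram_quasiSeparatedSpace _ aT i
  have : ∀ i : Over i0, CompactSpace ↥((LimTop61.bcDiagram (Stage62.subringSpec R) aT).obj i) :=
    fun i => LimTop61.bcDiagram_compactSpace _ aT i
  obtain ⟨j, Ej, ⟨ej⟩⟩ := FEt83.exists_stage_iso (LimTop61.bcDiagram (Stage62.subringSpec R) aT) c' hc' E
  -- the stage
  let S := j.left.unop.1
  have hDS : D ≤ S := leOfHom j.hom.unop
  let : Algebra D S := (Subalgebra.inclusion hDS).toRingHom.toAlgebra
  have : IsScalarTower D S R := IsScalarTower.of_algebraMap_eq fun _ => rfl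
  have : Algebra.FiniteType ℤ S := (Subalgebra.fg_iff_finiteType S).mp j.left.unop.2
  have : IsNoetherianRing S := Algebra.FiniteType.isNoetherianRing ℤ S
  let US := modelOpen (D₀ := D) g h S
  let pS : Spec (CommRingCat.of (S ⊗[D] B₂)) ⟶ Spec (CommRingCat.of S) :=
    Spec.map (CommRingCat.ofHom (algebraMap S (S ⊗[D] B₂)))
  have hS : IsPullback (modelPr (D₀ := D) S ∣_ U1) (US.ι ≫ pS) aT ((Stage62.subringSpec R).map j.hom) :=
    (isPullback_morphismRestrict (modelPr (D₀ := D) S) U1).paste_vert (isPullback_model S)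
  let k : (US : Scheme.{u}) ≅ pullback aT ((Stage62.subringSpec R).map j.hom) := hS.isoPullback
  let trA : S ⊗[D] B₂ →ₐ[D] R ⊗[D] B₂ :=
    Algebra.TensorProduct.map (IsScalarTower.toAlgHom D S R) (AlgHom.id D B₂)
  let tr : Spec (CommRingCat.of (R ⊗[D] B₂)) ⟶ Spec (CommRingCat.of (S ⊗[D] B₂)) :=
    Spec.map (CommRingCat.ofHom trA.toRingHom)
  have htr : tr ≫ modelPr (D₀ := D) S = modelPr (D₀ := D) R := by
    show Spec.map _ ≫ Spec.map _ = Spec.map _
    rw [← Spec.map_comp, ← CommRingCat.ofHom_comp]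
    congr 2
  have htrp : tr ≫ pS = pR ≫ (Stage62.subringCone R).π.app j.left := by
    show Spec.map _ ≫ Spec.map _ = Spec.map _ ≫ Spec.map _
    rw [← Spec.map_comp, ← Spec.map_comp]
    congr 1
  have hw : Set.range (UR.ι ≫ tr) ⊆ Set.range US.ι := by
    rintro _ ⟨z, rfl⟩
    rw [Scheme.Opens.range_ι]
    show modelPr (D₀ := D) S ((UR.ι ≫ tr) z) ∈ U1
    rw [← Scheme.Hom.comp_apply, Category.assoc, htr]
    exact z.2
  let w := IsOpenImmersion.lift US.ι (UR.ι ≫ tr) hw
  have hwι : w ≫ US.ι = UR.ι ≫ tr := IsOpenImmersion.lift_fac _ _ _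
  have hwk : w ≫ k.hom = c'.π.app j := by
    refine pullback.hom_ext ?_ ?_
    · rw [Category.assoc]
      refine (congrArg (w ≫ ·) hS.isoPullback_hom_fst).trans ?_
      apply (cancel_mono U1.ι).mp
      refine ((Category.assoc _ _ _).trans ((congrArg (w ≫ ·) (morphismRestrict_ι _ _)).trans
        ((Category.assoc _ _ _).symm.trans ((congrArg (· ≫ modelPr (D₀ := D) S) hwι).trans
        ((Category.assoc _ _ _).trans (congrArg (UR.ι ≫ ·) htr)))))).trans ?_
      refine Eq.trans ?_ (congrArg (· ≫ U1.ι) (pullback.lift_fst _ _ _).symm)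
      exact (morphismRestrict_ι _ _).symm
    · rw [Category.assoc]
      refine (congrArg (w ≫ ·) hS.isoPullback_hom_snd).trans ?_
      refine ((Category.assoc _ _ _).symm.trans ((congrArg (· ≫ pS) hwι).trans
        ((Category.assoc _ _ _).trans (congrArg (UR.ι ≫ ·) htrp)))).trans ?_
      refine Eq.trans ?_ (pullback.lift_snd _ _ _).symm
      exact (Category.assoc _ _ _).symm
  obtain ⟨Y, ⟨eY⟩⟩ := (essSurj_model_noetherian S P).mem_essImage ((FEt.restrict k.hom).obj Ej)
  refine ⟨(FEt.restrict tr).obj Y, ⟨?_⟩⟩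
  exact FEt83.restrictSqIso UR.ι tr w US.ι hwι.symm Y ≪≫ (FEt.restrict w).mapIso eY ≪≫
    ((FEt83.restrictCompIso w k.hom).app Ej).symm ≪≫ FEt83.restrictEqIso hwk Ej ≪≫ ej

end Limit

end Groth.Agent.Pure83
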