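import Groth.Agent.Pure83.RelPurityModel
import Groth.Agent.Pure83.RelPurityLimit
import Groth.Agent.SpPts86.SliceRing

/-!
# Local models for relative purity
-/

universe u

open CategoryTheory Limits AlgebraicGeometry TopologicalSpace TensorProduct IsLocalRing RingTheory.Sequence
open scoped Pointwise

set_option autoImplicit false
set_option linter.unusedSectionVars false

namespace Groth.Agent.Pure83

section Fibre

variable {R : Type u} [CommRing R] {B : Type u} [CommRing B] [Algebra R B]

/-- The ideal of the fibre through `P` in the local ring at `P`. -/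
noncomputable abbrev fibreIdeal (P : Ideal B) [P.IsPrime] : Ideal (Localization.AtPrime P) :=
  ((P.comap (algebraMap R B)).map (algebraMap R B)).map (algebraMap B (Localization.AtPrime P))

theorem fibreIdeal_le (P : Ideal B) [P.IsPrime] :
    fibreIdeal (R := R) P ≤ maximalIdeal (Localization.AtPrime P) :=
  (Ideal.map_mono Ideal.map_comap_le).trans (Localization.AtPrime.map_eq_maximalIdeal).le

set_option backward.isDefEq.respectTransparency.types false in
/-- The local ring of the fibre of a morphism of affine schemes. -/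
theorem nonempty_fibreQuotEquiv (z : Spec (CommRingCat.of B)) :
    Nonempty ((Localization.AtPrime (z : PrimeSpectrum B).asIdeal ⧸ fibreIdeal (R := R) (z : PrimeSpectrum B).asIdeal) ≃+*
      CInt.fiberStalk (Spec.map (CommRingCat.ofHom (algebraMap R B))) z) := by
  let f := Spec.map (CommRingCat.ofHom (algebraMap R B))
  let q := (z : PrimeSpectrum B).asIdeal
  let p := q.comap (algebraMap R B)
  let A := Localization.AtPrime p
  let C := Localization.AtPrime q
  let φ : A →+* C := Localization.localRingHom p q (algebraMap R B) rfl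
  let As := (Spec (CommRingCat.of R)).presheaf.stalk (f z)
  let Cs := (Spec (CommRingCat.of B)).presheaf.stalk z
  let eA : A ≃+* As :=
    (Spec.stalkIso (CommRingCat.of R) ((z : PrimeSpectrum B).comap (algebraMap R B))).commRingCatIsoToRingEquiv.symm
  let eC : C ≃+* Cs := (Spec.stalkIso (CommRingCat.of B) z).commRingCatIsoToRingEquiv.symm
  have hsq : (f.stalkMap z).hom.comp eA.toRingHom = eC.toRingHom.comp φ := by
    refine RingHom.ext fun a => ?_
    have h := congr($(Scheme.localRingHom_comp_stalkIso (CommRingCat.ofHom (algebraMap R B)) z) (eA a))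
    refine h.symm.trans ?_
    show eC (φ (eA.symm (eA a))) = eC (φ a)
    rw [eA.symm_apply_apply]
  have hmap : (maximalIdeal As).map (f.stalkMap z).hom = ((maximalIdeal A).map φ).map eC.toRingHom := by
    rw [Ideal.map_map, ← hsq, ← Ideal.map_map]
    congr 1
    exact (IsLocalRing.map_maximalIdeal_of_surjective eA.toRingHom eA.surjective).symm
  have hJC : fibreIdeal (R := R) q = (maximalIdeal A).map φ := by
    rw [← Localization.AtPrime.map_eq_maximalIdeal (I := p), fibreIdeal, Ideal.map_map, Ideal.map_map]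
    congr 1
    exact RingHom.ext fun s => (Localization.localRingHom_to_map p q (algebraMap R B) rfl s).symm
  exact ⟨(Ideal.quotEquivOfEq hJC).trans
    ((Ideal.quotientEquiv _ _ eC hmap).trans (CAlg9.CIT.fiberStalkEquiv f z))⟩

set_option backward.isDefEq.respectTransparency.types false in
/-- Local rings of fibres of smooth algebras are regular. -/
theorem isRegularLocalRing_fibreQuot [Algebra.Smooth R B] (q : Ideal B) [hq : q.IsPrime] :
    IsRegularLocalRing (Localization.AtPrime q ⧸ fibreIdeal (R := R) q) := by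
  obtain ⟨e⟩ := nonempty_fibreQuotEquiv (R := R) (⟨q, hq⟩ : PrimeSpectrum B)
  have : Smooth (Spec.map (CommRingCat.ofHom (algebraMap R B))) :=
    (HasRingHomProperty.Spec_iff (P := @Smooth)).mpr (RingHom.smooth_algebraMap.mpr inferInstance)
  have := CAlg9.CIT.isRegularLocalRing_fiberStalk (Spec.map (CommRingCat.ofHom (algebraMap R B))) (⟨q, hq⟩ : PrimeSpectrum B)
  exact IsRegularLocalRing.of_ringEquiv e.symm

/-- Primes of a fibre local ring have at least the height of their own fibre local ring. -/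
theorem two_le_height_fibreQuot (I : Ideal B)
    (hI : ∀ (P : Ideal B) [P.IsPrime], I ≤ P →
      (2 : WithBot ℕ∞) ≤ ringKrullDim (Localization.AtPrime P ⧸ fibreIdeal (R := R) P))
    (q : Ideal B) [q.IsPrime] (P' : Ideal (Localization.AtPrime q ⧸ fibreIdeal (R := R) q)) (hP' : P'.IsPrime)
    (hIP : I.map (algebraMap B (Localization.AtPrime q ⧸ fibreIdeal (R := R) q)) ≤ P') : (2 : ℕ∞) ≤ P'.height := by
  let C := Localization.AtPrime q
  let F := C ⧸ fibreIdeal (R := R) q
  let ρ : B →+* F := (Ideal.Quotient.mk _).comp (algebraMap B C)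
  let P := P'.comap ρ
  have hρ : ρ = algebraMap B F := rfl
  have hPq : P ≤ q := fun b hb => by
    by_contra hbq
    exact hP'.ne_top (P'.eq_top_of_isUnit_mem hb
      ((IsLocalization.map_units C (⟨b, hbq⟩ : q.primeCompl)).map (Ideal.Quotient.mk _)))
  have hpP : P.comap (algebraMap R B) = q.comap (algebraMap R B) := by
    refine le_antisymm (Ideal.comap_mono hPq) fun a ha => ?_
    show ρ (algebraMap R B a) ∈ P'
    have : ρ (algebraMap R B a) = 0 :=
      Ideal.Quotient.eq_zero_iff_mem.mpr (Ideal.mem_map_of_mem _ (Ideal.mem_map_of_mem _ ha))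
    rw [this]
    exact zero_mem _
  let G := Localization.AtPrime P ⧸ fibreIdeal (R := R) P
  let σ : B →+* G := (Ideal.Quotient.mk _).comp (algebraMap B (Localization.AtPrime P))
  let θC : C →+* G := IsLocalization.lift (M := q.primeCompl) (g := σ) fun y =>
    ((IsLocalization.map_units (Localization.AtPrime P) (⟨y.1, fun h => y.2 (hPq h)⟩ : P.primeCompl)).map
      (Ideal.Quotient.mk _))
  have hθC : θC.comp (algebraMap B C) = σ := IsLocalization.lift_comp _
  let θ : F →+* G := Ideal.Quotient.lift _ θC fun x hx => by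
    have : fibreIdeal (R := R) q ≤ RingHom.ker θC := by
      refine Ideal.map_le_iff_le_comap.mpr ?_
      intro b hb
      show θC (algebraMap B C b) = 0
      rw [show θC (algebraMap B C b) = σ b from congr($hθC b)]
      refine Ideal.Quotient.eq_zero_iff_mem.mpr ?_
      show algebraMap B _ b ∈ ((P.comap (algebraMap R B)).map (algebraMap R B)).map _
      rw [hpP]
      exact Ideal.mem_map_of_mem _ hb
    exact this hx
  have hθ : θ.comp ρ = σ := RingHom.ext fun b => congr($hθC b)
  have : Nontrivial G := Ideal.Quotient.nontrivial_iff.mpr fun h =>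
    (maximalIdeal.isMaximal (Localization.AtPrime P)).ne_top (top_le_iff.mp (h ▸ fibreIdeal_le P))
  have : IsLocalRing G := IsLocalRing.of_surjective' _ Ideal.Quotient.mk_surjective
  have hσ : Function.Injective (PrimeSpectrum.comap σ) := by
    intro a b h
    refine PrimeSpectrum.comap_injective_of_surjective _ Ideal.Quotient.mk_surjective
      (PrimeSpectrum.localization_comap_injective (Localization.AtPrime P) P.primeCompl ?_)
    exact h
  have hinj : Function.Injective (PrimeSpectrum.comap θ) := fun a b h => by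
    refine hσ ?_
    rw [← hθ]
    exact congrArg (PrimeSpectrum.comap ρ) h
  have hmono : StrictMono (PrimeSpectrum.comap θ) :=
    Monotone.strictMono_of_injective (fun a b h => fun x hx => h hx) hinj
  have hρinj : Function.Injective (PrimeSpectrum.comap ρ) := by
    intro a b h
    refine PrimeSpectrum.comap_injective_of_surjective _ Ideal.Quotient.mk_surjective
      (PrimeSpectrum.localization_comap_injective C q.primeCompl ?_)
    exact h
  have htop : PrimeSpectrum.comap θ (closedPoint G) = ⟨P', hP'⟩ := by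
    refine hρinj (PrimeSpectrum.ext ?_)
    show ((maximalIdeal G).comap θ).comap ρ = P
    rw [Ideal.comap_comap, hθ, ← Ideal.comap_comap]
    rw [show (maximalIdeal G).comap (Ideal.Quotient.mk (fibreIdeal (R := R) P)) = maximalIdeal (Localization.AtPrime P) from
      IsLocalRing.eq_maximalIdeal (Ideal.comap_isMaximal_of_surjective _ Ideal.Quotient.mk_surjective)]
    exact IsLocalization.AtPrime.under_maximalIdeal (Localization.AtPrime P) P
  have h1 := hI P (fun b hb => hIP (Ideal.mem_map_of_mem _ hb))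
  have h2 := Order.height_le_height_apply_of_strictMono _ hmono (closedPoint G)
  rw [htop] at h2
  rw [← IsLocalRing.maximalIdeal_height_eq_ringKrullDim] at h1
  refine (show (2 : ℕ∞) ≤ (maximalIdeal G).height from WithBot.coe_le_coe.mp h1).trans ?_
  exact (PrimeSpectrum.height_eq_orderHeight (closedPoint G)).le.trans
    (h2.trans (PrimeSpectrum.height_eq_orderHeight (⟨P', hP'⟩ : PrimeSpectrum F)).ge)

set_option backward.isDefEq.respectTransparency.types false in
/-- A regular pair on a fibre local ring gives a regular pair at a point of the fibre algebra. -/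
theorem exists_point_fibre (q : Ideal B) [q.IsPrime] (g h : B)
    (h1 : RegMod (⊥ : Ideal (Localization.AtPrime q ⧸ fibreIdeal (R := R) q))
      (Ideal.Quotient.mk (fibreIdeal (R := R) q) (algebraMap B (Localization.AtPrime q) g)))
    (h2 : RegMod (Ideal.span {Ideal.Quotient.mk (fibreIdeal (R := R) q) (algebraMap B (Localization.AtPrime q) g)})
      (Ideal.Quotient.mk (fibreIdeal (R := R) q) (algebraMap B (Localization.AtPrime q) h))) :
    ∃ (Q : Ideal ((q.comap (algebraMap R B)).ResidueField ⊗[R] B)) (_ : Q.IsPrime),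
      (∀ b : B, ((1 : (q.comap (algebraMap R B)).ResidueField) ⊗ₜ[R] b) ∈ Q ↔ b ∈ q) ∧
      IsWeaklyRegular (Localization.AtPrime Q) ([g, h].map fun b =>
        algebraMap ((q.comap (algebraMap R B)).ResidueField ⊗[R] B) (Localization.AtPrime Q)
          ((1 : (q.comap (algebraMap R B)).ResidueField) ⊗ₜ[R] b)) := by
  let p := q.comap (algebraMap R B)
  let K := p.ResidueField
  let L := q.ResidueField
  let kmap : K →ₐ[R] L :=
    { Ideal.ResidueField.map p q (algebraMap R B) rfl with
      commutes' := fun a => (Ideal.ResidueField.map_algebraMap p q (algebraMap R B) rfl a).trans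
        (IsScalarTower.algebraMap_apply R B L a).symm }
  let ψ : K ⊗[R] B →ₐ[R] L :=
    Algebra.TensorProduct.lift kmap (IsScalarTower.toAlgHom R B L) fun _ _ => Commute.all _ _
  let Q : Ideal (K ⊗[R] B) := RingHom.ker ψ.toRingHom
  have hQp : Q.IsPrime := RingHom.ker_isPrime _
  let φ : B →+* K ⊗[R] B := (Algebra.TensorProduct.includeRight : B →ₐ[R] K ⊗[R] B).toRingHom
  have hQb : ∀ b : B, φ b ∈ Q ↔ b ∈ q := fun b => by
    refine Iff.trans ?_ (Ideal.algebraMap_residueField_eq_zero (I := q) (x := b))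
    show ψ ((1 : K) ⊗ₜ[R] b) = 0 ↔ _
    rw [Algebra.TensorProduct.lift_tmul, map_one, one_mul]
    rfl
  have hp : RingHom.ker (algebraMap R K) = p := Ideal.ker_algebraMap_residueField p
  have hI : ∀ x ∈ p.map (algebraMap R B), φ x = 0 := fun x hx => by
    have : p.map (algebraMap R B) ≤ RingHom.ker φ := Ideal.map_le_iff_le_comap.2 fun a ha => by
      show φ (algebraMap R B a) = 0
      rw [show φ (algebraMap R B a) = algebraMap R (K ⊗[R] B) a from
        (Algebra.TensorProduct.includeRight : B →ₐ[R] K ⊗[R] B).commutes a,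
        Algebra.TensorProduct.algebraMap_apply, RingHom.mem_ker.1 (hp.ge ha), zero_tmul]
    exact this hx
  have hflat := SpPts86.flat_includeRight_quotient p hp hI
  let C := Localization.AtPrime q
  let KQ := Localization.AtPrime Q
  let φL : C →+* KQ := Localization.localRingHom q Q φ (Ideal.ext fun b => (hQb b).symm)
  have hφL : ∀ b, φL (algebraMap B C b) = algebraMap (K ⊗[R] B) KQ (φ b) :=
    fun b => Localization.localRingHom_to_map _ _ _ _ b
  let J := fibreIdeal (R := R) q
  have hker : ∀ x ∈ J, φL x = 0 := fun x hx => by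
    have : J ≤ RingHom.ker φL := Ideal.map_le_iff_le_comap.2 fun b hb => by
      show φL (algebraMap B C b) = 0
      rw [hφL, hI b hb, map_zero]
    exact this hx
  let : Algebra (C ⧸ J) KQ := (Ideal.Quotient.lift J φL hker).toAlgebra
  let : Algebra (B ⧸ p.map (algebraMap R B)) KQ :=
    ((algebraMap (K ⊗[R] B) KQ).comp (Ideal.Quotient.lift (p.map (algebraMap R B)) φ hI)).toAlgebra
  let : Algebra (B ⧸ p.map (algebraMap R B)) (C ⧸ J) :=
    inferInstanceAs (Algebra (B ⧸ p.map (algebraMap R B)) (C ⧸ (p.map (algebraMap R B)).map (algebraMap B C)))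
  have : IsLocalization (Algebra.algebraMapSubmonoid (B ⧸ p.map (algebraMap R B)) q.primeCompl) (C ⧸ J) :=
    inferInstanceAs (IsLocalization _ (C ⧸ (p.map (algebraMap R B)).map (algebraMap B C)))
  have : Module.Flat (B ⧸ p.map (algebraMap R B)) KQ :=
    RingHom.flat_algebraMap_iff.1 (RingHom.Flat.comp hflat
      (RingHom.flat_algebraMap_iff.2 (IsLocalization.flat KQ Q.primeCompl)))
  have : IsScalarTower (B ⧸ p.map (algebraMap R B)) (C ⧸ J) KQ := IsScalarTower.of_algebraMap_eq fun x => by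
    obtain ⟨b, rfl⟩ := Ideal.Quotient.mk_surjective x
    exact (hφL b).symm
  have : Module.Flat (C ⧸ J) KQ :=
    (Module.flat_iff_of_isLocalization (S := C ⧸ J)
      (p := Algebra.algebraMapSubmonoid (B ⧸ p.map (algebraMap R B)) q.primeCompl) (M := KQ)).2 ‹_›
  have k1 := h1.map_flat (C := KQ)
  have k2 := h2.map_flat (C := KQ)
  rw [Ideal.map_bot] at k1
  rw [Ideal.map_span, Set.image_singleton] at k2
  refine ⟨Q, hQp, hQb, ?_⟩
  have eg : algebraMap (C ⧸ J) KQ (Ideal.Quotient.mk J (algebraMap B C g)) =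
      algebraMap (K ⊗[R] B) KQ ((1 : K) ⊗ₜ[R] g) := hφL g
  have eh : algebraMap (C ⧸ J) KQ (Ideal.Quotient.mk J (algebraMap B C h)) =
      algebraMap (K ⊗[R] B) KQ ((1 : K) ⊗ₜ[R] h) := hφL h
  rw [eg] at k1 k2
  rw [eh] at k2
  show IsWeaklyRegular KQ [algebraMap (K ⊗[R] B) KQ ((1 : K) ⊗ₜ[R] g), algebraMap (K ⊗[R] B) KQ ((1 : K) ⊗ₜ[R] h)]
  generalize algebraMap (K ⊗[R] B) KQ ((1 : K) ⊗ₜ[R] g) = a at k1 k2
  generalize algebraMap (K ⊗[R] B) KQ ((1 : K) ⊗ₜ[R] h) = b at k2
  refine IsWeaklyRegular.cons (isSMulRegular_iff_right_eq_zero_of_smul.mpr fun y hy =>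
    Ideal.mem_bot.mp (k1 y (Ideal.mem_bot.mpr hy))) ?_
  rw [isWeaklyRegular_singleton_iff, isSMulRegular_iff_right_eq_zero_of_smul]
  intro y hy
  obtain ⟨c, rfl⟩ := Submodule.Quotient.mk_surjective _ y
  rw [← Submodule.Quotient.mk_smul, Submodule.Quotient.mk_eq_zero, Submodule.mem_smul_pointwise_iff_exists] at hy
  obtain ⟨w, -, hw⟩ := hy
  obtain ⟨v, hv⟩ := Ideal.mem_span_singleton'.mp (k2 c (Ideal.mem_span_singleton'.mpr
    ⟨w, by rw [smul_eq_mul, smul_eq_mul] at hw; rw [mul_comm w a]; exact hw⟩))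
  rw [Submodule.Quotient.mk_eq_zero, Submodule.mem_smul_pointwise_iff_exists]
  exact ⟨v, trivial, by rw [smul_eq_mul, mul_comm]; exact hv⟩

end Fibre

section OpenImm

set_option backward.isDefEq.respectTransparency.types false in
/-- The open immersion given by inverting one element. -/
theorem exists_openImmersion_of_equiv {B T A : Type u} [CommRing B] [CommRing T] [CommRing A]
    (e₁ : B ≃+* T) (t : T) (e₂ : A ≃+* Localization.Away t) :
    ∃ j : Spec (CommRingCat.of A) ⟶ Spec (CommRingCat.of B), IsOpenImmersion j ∧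
      (∀ x : Spec (CommRingCat.of B), e₁.symm t ∉ (x : PrimeSpectrum B).asIdeal → x ∈ Set.range j) ∧
      ∀ (z : Spec (CommRingCat.of A)) (b : B), b ∈ (j z : PrimeSpectrum B).asIdeal →
        e₂.symm (algebraMap T (Localization.Away t) (e₁ b)) ∈ (z : PrimeSpectrum A).asIdeal := by
  have : IsOpenImmersion (Spec.map (CommRingCat.ofHom (algebraMap T (Localization.Away t)))) :=
    IsOpenImmersion.of_isLocalization t
  refine ⟨Spec.map e₂.symm.toCommRingCatIso.hom ≫
      Spec.map (CommRingCat.ofHom (algebraMap T (Localization.Away t))) ≫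
      Spec.map e₁.toCommRingCatIso.hom, inferInstance, fun x hx => ?_, fun z b hb => hb⟩
  let w : PrimeSpectrum T := PrimeSpectrum.comap e₁.symm.toRingHom x
  have hw : w ∈ Set.range (PrimeSpectrum.comap (algebraMap T (Localization.Away t))) := by
    rw [PrimeSpectrum.localization_away_comap_range _ t]
    exact hx
  obtain ⟨v, hv⟩ := hw
  refine ⟨PrimeSpectrum.comap e₂.toRingHom v, PrimeSpectrum.ext (Ideal.ext fun b => ?_)⟩
  show e₂ (e₂.symm (algebraMap T _ (e₁ b))) ∈ v.asIdeal ↔ b ∈ (x : PrimeSpectrum B).asIdeal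
  rw [RingEquiv.apply_symm_apply]
  refine (SetLike.ext_iff.mp (congrArg PrimeSpectrum.asIdeal hv) (e₁ b)).trans ?_
  show e₁.symm (e₁ b) ∈ (x : PrimeSpectrum B).asIdeal ↔ b ∈ (x : PrimeSpectrum B).asIdeal
  rw [RingEquiv.symm_apply_apply]

end OpenImm

section Descent

variable {R : Type u} [CommRing R] {B : Type u} [CommRing B] [Algebra R B]

set_option backward.isDefEq.respectTransparency.types false in
set_option maxHeartbeats 1000000 in
set_option synthInstance.maxHeartbeats 400000 in
/-- Around a point of a closed subset of fibrewise codimension two, a smooth algebra has a model of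
finite type over the integers with a fibrewise regular pair vanishing on the subset. -/
theorem exists_model_nhd [Algebra.Smooth R B] (I : Ideal B)
    (hI : ∀ (P : Ideal B) [P.IsPrime], I ≤ P →
      (2 : WithBot ℕ∞) ≤ ringKrullDim (Localization.AtPrime P ⧸ fibreIdeal (R := R) P))
    (x : Spec (CommRingCat.of B)) (hx : I ≤ (x : PrimeSpectrum B).asIdeal) :
    ∃ (D : Subalgebra ℤ R) (_ : D.FG) (B₂ : Type u) (_ : CommRing B₂) (_ : Algebra D B₂)
      (_ : Algebra.Smooth D B₂) (g h : B₂) (_ : FibRegPair D g h)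
      (j : Spec (CommRingCat.of (R ⊗[D] B₂)) ⟶ Spec (CommRingCat.of B)),
      IsOpenImmersion j ∧ x ∈ Set.range j ∧
      ∀ z ∈ modelOpen (D₀ := D) g h R, ¬ I ≤ (j z : PrimeSpectrum B).asIdeal := by
  classical
  let q := (x : PrimeSpectrum B).asIdeal
  have := isRegularLocalRing_fibreQuot (R := R) q
  have hIF : I.map (algebraMap B (Localization.AtPrime q ⧸ fibreIdeal (R := R) q)) ≤ maximalIdeal _ := by
    rw [Ideal.map_le_iff_le_comap]
    intro b hb
    show Ideal.Quotient.mk (fibreIdeal (R := R) q) (algebraMap B (Localization.AtPrime q) b) ∈ maximalIdeal _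
    rw [← IsLocalRing.map_maximalIdeal_of_surjective _ Ideal.Quotient.mk_surjective]
    exact Ideal.mem_map_of_mem _ ((IsLocalization.AtPrime.to_map_mem_maximal_iff _ q b).mpr (hx hb))
  obtain ⟨g₀, hg₀, h₀, hh₀, r1, r2⟩ :=
    exists_pair_of_height I (fun P' hP' h => two_le_height_fibreQuot I hI q P' hP' h) hIF
  obtain ⟨Q, hQp, hQ, hreg⟩ := exists_point_fibre q g₀ h₀ r1 r2
  let K := (q.comap (algebraMap R B)).ResidueField
  obtain ⟨A₀, B₀, _, _, hA₀, _, ⟨e⟩⟩ := Algebra.Smooth.exists_subalgebra_fg ℤ R B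
  choose T hT using fun b : B => TensorProduct.exists_finset (e b)
  let gs : List B := [g₀, h₀]
  let Ts : Finset R := gs.toFinset.biUnion fun g => (T g).image Prod.fst
  let D : Subalgebra ℤ R := A₀ ⊔ Algebra.adjoin ℤ (Ts : Set R)
  have hD : D.FG := hA₀.sup ⟨Ts, rfl⟩
  have hA : A₀ ≤ D := le_sup_left
  let : Algebra A₀ D := (Subalgebra.inclusion hA).toRingHom.toAlgebra
  have : IsScalarTower A₀ D R := IsScalarTower.of_algebraMap_eq fun _ => rfl
  have : Algebra.FiniteType ℤ D := (Subalgebra.fg_iff_finiteType D).mp hD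
  have : IsNoetherianRing D := Algebra.FiniteType.isNoetherianRing ℤ D
  let B₁ := D ⊗[A₀] B₀
  have : Algebra.Smooth D B₁ := inferInstance
  have : Algebra.FinitePresentation D B₁ := Algebra.Smooth.finitePresentation
  have : Module.Flat D B₁ := inferInstance
  let e₁ : B ≃ₐ[R] R ⊗[D] B₁ := e.trans (Algebra.TensorProduct.cancelBaseChange A₀ D R R B₀).symm
  have hlift : ∀ g ∈ gs, ∃ b₁, e₁.symm ((1 : R) ⊗ₜ[D] b₁) = g := by
    intro g hg
    refine ⟨∑ c ∈ (T g).attach, (⟨c.1.1, le_sup_right (a := A₀) (Algebra.subset_adjoin (Finset.mem_coe.2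
      (Finset.mem_biUnion.2 ⟨g, List.mem_toFinset.2 hg, Finset.mem_image_of_mem _ c.2⟩)))⟩ : D) ⊗ₜ[A₀] c.1.2, ?_⟩
    apply e.injective
    change e (e.symm (Algebra.TensorProduct.cancelBaseChange A₀ D R R B₀ ((1 : R) ⊗ₜ[D] _))) = e g
    rw [AlgEquiv.apply_symm_apply, tmul_sum, map_sum, hT g, ← Finset.sum_attach (T g) (fun c => c.1 ⊗ₜ[A₀] c.2)]
    refine Finset.sum_congr rfl fun c _ => ?_
    rw [Algebra.TensorProduct.cancelBaseChange_tmul, Algebra.smul_def, mul_one]
    rfl
  obtain ⟨g₁, hg₁⟩ := hlift g₀ (by simp [gs])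
  obtain ⟨h₁, hh₁⟩ := hlift h₀ (by simp [gs])
  obtain ⟨σ, hσ⟩ : ∃ σ : K ⊗[R] B ≃ₐ[K] K ⊗[D] B₁,
      ∀ b, σ ((1 : K) ⊗ₜ[R] e₁.symm ((1 : R) ⊗ₜ[D] b)) = (1 : K) ⊗ₜ[D] b := by
    refine ⟨(Algebra.TensorProduct.congr AlgEquiv.refl e₁).trans
      (Algebra.TensorProduct.cancelBaseChange D R K K _), fun b => ?_⟩
    change Algebra.TensorProduct.cancelBaseChange D R K K _ ((1 : K) ⊗ₜ[R] e₁ (e₁.symm ((1 : R) ⊗ₜ[D] b))) = _
    rw [AlgEquiv.apply_symm_apply, Algebra.TensorProduct.cancelBaseChange_tmul, one_smul]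
  let Q' : Ideal (K ⊗[D] B₁) := Q.comap σ.symm.toRingEquiv.toRingHom
  have hQ' : ∀ y, σ.toRingEquiv y ∈ Q' ↔ y ∈ Q := fun y => by
    change σ.symm (σ y) ∈ Q ↔ y ∈ Q
    rw [AlgEquiv.symm_apply_apply]
  have hreg' := SpPts86.isWeaklyRegular_of_equiv (R := K ⊗[R] B) (R' := K ⊗[D] B₁) σ.toRingEquiv Q Q' hQ'
    [(1 : K) ⊗ₜ[R] g₀, (1 : K) ⊗ₜ[R] h₀] hreg
  rw [← hg₁, ← hh₁] at hreg'
  simp only [List.map_cons, List.map_nil, AlgEquiv.coe_ringEquiv, hσ] at hreg'
  obtain ⟨s, hs, hP⟩ := exists_fibRegPair_away g₁ h₁ Q' hreg'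
  let B₂ := Localization.Away s
  have : Algebra.Smooth D B₂ := Algebra.Smooth.comp D B₁ B₂
  let e₂ : R ⊗[D] B₂ ≃ₐ[R] Localization.Away ((1 : R) ⊗ₜ[D] s) :=
    IsLocalization.Away.tensorProductEquivTMulRight D R s B₂
  obtain ⟨j, hj, hjr, hjz⟩ := exists_openImmersion_of_equiv e₁.toRingEquiv ((1 : R) ⊗ₜ[D] s) e₂.toRingEquiv
  refine ⟨D, hD, B₂, inferInstance, inferInstance, inferInstance, algebraMap B₁ B₂ g₁, algebraMap B₁ B₂ h₁, hP,
    j, hj, hjr x fun hmem => hs ?_, ?_⟩
  · rw [← hσ]
    exact (hQ' _).2 ((hQ _).2 hmem)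
  · intro z hz hle
    have key : ∀ (b₀ : B) (b₁ : B₁), b₀ ∈ I → e₁.symm ((1 : R) ⊗ₜ[D] b₁) = b₀ →
        ((1 : R) ⊗ₜ[D] algebraMap B₁ B₂ b₁) ∈ (z : PrimeSpectrum (R ⊗[D] B₂)).asIdeal := by
      intro b₀ b₁ hb e'
      have h' : e₂.symm (algebraMap _ (Localization.Away ((1 : R) ⊗ₜ[D] s)) (e₁ b₀)) ∈
          (z : PrimeSpectrum (R ⊗[D] B₂)).asIdeal := hjz z b₀ (hle hb)
      rw [← e', AlgEquiv.apply_symm_apply,
        ← IsLocalization.Away.tensorProductEquivTMulRight_tmul (R := D) (S := R) (A := B₁) s B₂ (1 : R) b₁] at h'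
      exact (e₂.symm_apply_apply ((1 : R) ⊗ₜ[D] algebraMap B₁ B₂ b₁)) ▸ h'
    rcases hz with hz | hz
    · exact hz (key g₀ g₁ hg₀ hg₁)
    · exact hz (key h₀ h₁ hh₀ hh₁)

end Descent

end Groth.Agent.Pure83
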