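import Groth.Agent.Pure83.CurvePoint
import Groth.Agent.Pure83.FiniteGonfl
import Groth.Agent.Pure83.RelPurityLocal
import Groth.Agent.RelGCI94.CountCI

/-!
# Purity of smooth relative curves over bases of depth two at closed points of the fibre
-/

universe u

open CategoryTheory Limits AlgebraicGeometry IsLocalRing TensorProduct
open scoped Pointwise

set_option autoImplicit false
set_option linter.unusedSectionVars false

namespace Groth.Agent.Pure83

theorem ringKrullDim_eq_zero_of_unique_prime {R : Type u} [CommRing R] [Nontrivial R]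
    (h : ∀ P Q : PrimeSpectrum R, P = Q) : ringKrullDim R = 0 := by
  have : Ring.KrullDimLE 0 R := Ring.KrullDimLE.mk₀ fun P hP => by
    obtain ⟨M, hM, hle⟩ := Ideal.exists_le_maximal P hP.ne_top
    have := congrArg PrimeSpectrum.asIdeal (h ⟨P, hP⟩ ⟨M, hM.isPrime⟩)
    obtain rfl : P = M := this
    exact hM
  exact ringKrullDimZero_iff_ringKrullDim_eq_zero.mp this

/-- The maximal ideal of a regular local ring of dimension one is generated by one regular element. -/
theorem exists_uniformizer {F : Type u} [CommRing F] [IsRegularLocalRing F] (hd : ringKrullDim F = 1) :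
    ∃ τ : F, maximalIdeal F = Ideal.span {τ} ∧ τ ≠ 0 := by
  have hn : (maximalIdeal F).spanFinrank = 1 := by
    have := IsRegularLocalRing.spanFinrank_maximalIdeal (R := F)
    rw [hd] at this
    exact_mod_cast this
  obtain ⟨s, hs, hspan⟩ := Submodule.FG.exists_span_finset_card_eq_spanFinrank
    (IsNoetherian.noetherian (maximalIdeal F))
  rw [hn, Finset.card_eq_one] at hs
  obtain ⟨τ, rfl⟩ := hs
  refine ⟨τ, by rw [← hspan]; simp, fun h0 => ?_⟩
  subst h0
  have : IsField F := by
    rw [IsLocalRing.isField_iff_maximalIdeal_eq, ← hspan]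
    simp
  rw [ringKrullDim_eq_zero_of_isField this] at hd
  exact zero_ne_one hd

set_option backward.isDefEq.respectTransparency.types false in
set_option maxHeartbeats 1000000 in
/-- A smooth relative curve over a base of depth two is pure at closed points of the closed fibre. -/
theorem purityHolds_of_smooth_curve {A : Type u} [CommRing A] [IsNoetherianRing A] [IsLocalRing A]
    {C : Type u} [CommRing C] [Algebra A C] [Algebra.Smooth A C] (q : Ideal C) [q.IsPrime]
    (hq : q.comap (algebraMap A C) = maximalIdeal A) [Module.Finite A q.ResidueField]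
    (hA : (2 : ℕ∞) ≤ LocCoh.depth A A)
    (hd : ringKrullDim (Localization.AtPrime q ⧸ fibreIdeal (R := A) q) = 1) :
    FEt.PurityHolds (Localization.AtPrime q) := by
  have : Algebra.FinitePresentation A C := Algebra.Smooth.finitePresentation
  have : IsNoetherianRing C := Algebra.FiniteType.isNoetherianRing A C
  let l := q.ResidueField
  have : IsLocalHom (algebraMap A l) := ⟨fun a ha => by
    by_contra hu
    have hm : algebraMap A C a ∈ q := (hq.ge ((mem_maximalIdeal a).mpr hu) :)
    rw [IsScalarTower.algebraMap_apply A C l, Ideal.algebraMap_residueField_eq_zero.mpr hm] at ha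
    exact not_isUnit_zero ha⟩
  obtain ⟨A', _, _, _, ψ, hfin, hflat, hψ, hkψ, hm'⟩ := exists_finite_gonflement A l
  have : IsNoetherianRing A' := IsNoetherianRing.of_finite A A'
  have : IsLocalHom (algebraMap A A') :=
    ((local_hom_TFAE (algebraMap A A')).out 0 2).mpr hm'.le
  let C' := A' ⊗[A] C
  have : Algebra.Smooth A' C' := inferInstance
  have : Algebra.FinitePresentation A' C' := Algebra.Smooth.finitePresentation
  have : IsNoetherianRing C' := Algebra.FiniteType.isNoetherianRing A' C'
  let φ' : C' →ₐ[A] l := Algebra.TensorProduct.lift ψ (IsScalarTower.toAlgHom A C l) fun _ _ => Commute.all _ _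
  let q' : Ideal C' := RingHom.ker φ'.toRingHom
  have hq'p : q'.IsPrime := RingHom.ker_isPrime _
  let g : C →+* C' := (Algebra.TensorProduct.includeRight : C →ₐ[A] C').toRingHom
  have hφg : ∀ c, φ' (g c) = algebraMap C l c := fun c => by
    show φ' ((1 : A') ⊗ₜ[A] c) = _
    rw [Algebra.TensorProduct.lift_tmul, map_one, one_mul]
    rfl
  have hφA : ∀ a, φ' (algebraMap A' C' a) = ψ a := fun a => by
    show φ' (a ⊗ₜ[A] (1 : C)) = _
    rw [Algebra.TensorProduct.lift_tmul, map_one, mul_one]
  have hq'C : q = q'.comap g := Ideal.ext fun c => by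
    rw [Ideal.mem_comap, RingHom.mem_ker]
    show _ ↔ φ' (g c) = 0
    rw [hφg, Ideal.algebraMap_residueField_eq_zero]
  have hq'A : q'.comap (algebraMap A' C') = maximalIdeal A' := by
    rw [← hkψ]
    ext a
    rw [Ideal.mem_comap, RingHom.mem_ker, RingHom.mem_ker]
    show φ' (algebraMap A' C' a) = 0 ↔ _
    rw [hφA]
  have hgc : g = (Algebra.TensorProduct.comm A C A').toRingEquiv.toRingHom.comp (algebraMap C (C ⊗[A] A')) :=
    RingHom.ext fun c => (Algebra.TensorProduct.comm_tmul A c (1 : A')).symm
  have hgfl : g.Flat := by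
    rw [hgc]
    exact (RingHom.flat_algebraMap_iff.mpr inferInstance).comp
      (RingHom.Flat.of_bijective (Algebra.TensorProduct.comm A C A').toRingEquiv.bijective)
  have hgfin : g.Finite := by
    rw [hgc]
    exact (RingHom.Finite.of_surjective _ (Algebra.TensorProduct.comm A C A').toRingEquiv.surjective).comp
      (RingHom.finite_algebraMap.mpr (Module.Finite.base_change A C A'))
  let B := Localization.AtPrime q
  let B' := Localization.AtPrime q'
  let γ : B →+* B' := Localization.localRingHom q q' g hq'C
  have hγ : ∀ c, γ (algebraMap C B c) = algebraMap C' B' (g c) := fun c =>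
    Localization.localRingHom_to_map _ _ _ _ c
  let : Algebra B B' := γ.toAlgebra
  have : IsLocalHom (algebraMap B B') := Localization.isLocalHom_localRingHom _ _ _ _
  have : Module.Flat B B' := by
    let : Algebra C B' := ((algebraMap C' B').comp g).toAlgebra
    have : Module.Flat C B' := RingHom.flat_algebraMap_iff.mp
      (hgfl.comp (RingHom.flat_algebraMap_iff.mpr (IsLocalization.flat B' q'.primeCompl)))
    have : IsScalarTower C B B' := IsScalarTower.of_algebraMap_eq fun c => (hγ c).symm
    exact (Module.flat_iff_of_isLocalization (S := B) (p := q.primeCompl) (M := B')).2 ‹_›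
  have hrad : ∀ Q : Ideal B', Q.IsPrime → (maximalIdeal B).map (algebraMap B B') ≤ Q → Q = maximalIdeal B' := by
    intro Q hQ hle
    have h0 : Q.comap (algebraMap C' B') ≤ q' :=
      (Ideal.comap_mono (le_maximalIdeal hQ.ne_top)).trans (IsLocalization.AtPrime.under_maximalIdeal B' q').le
    have h1 : q ≤ (Q.comap (algebraMap C' B')).comap g := fun c hc => by
      show algebraMap C' B' (g c) ∈ Q
      rw [← hγ]
      exact hle (Ideal.mem_map_of_mem _ ((IsLocalization.AtPrime.to_map_mem_maximal_iff B q c).mpr hc))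
    let : Algebra C C' := g.toAlgebra
    have : Module.Finite C C' := hgfin
    have h2 : Q.comap (algebraMap C' B') = q' := by
      by_contra hne
      obtain ⟨x, hxq, hxQ⟩ := Set.exists_of_ssubset (SetLike.coe_ssubset_coe.mpr (lt_of_le_of_ne h0 hne))
      have hlt := Ideal.comap_lt_comap_of_integral_mem_sdiff (R := C) h0 ⟨hxq, hxQ⟩ (Algebra.IsIntegral.isIntegral x)
      exact (h1.trans_lt hlt).ne hq'C
    rw [← IsLocalization.map_under q'.primeCompl B' Q]
    show (Q.comap (algebraMap C' B')).map (algebraMap C' B') = _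
    rw [h2, Localization.AtPrime.map_eq_maximalIdeal]
  have : IsLocalHom (algebraMap A' B') := by
    refine ((local_hom_TFAE (algebraMap A' B')).out 0 4).mpr ?_
    rw [IsScalarTower.algebraMap_eq A' C' B', ← Ideal.comap_comap]
    exact (congrArg (Ideal.comap (algebraMap A' C')) (IsLocalization.AtPrime.under_maximalIdeal B' q')).trans hq'A
  have : Module.Flat A' B' := Module.Flat.trans A' C' B'
  have : IsLocalHom (algebraMap A B) := by
    refine ((local_hom_TFAE (algebraMap A B)).out 0 4).mpr ?_
    rw [IsScalarTower.algebraMap_eq A C B, ← Ideal.comap_comap]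
    exact (congrArg (Ideal.comap (algebraMap A C)) (IsLocalization.AtPrime.under_maximalIdeal B q)).trans hq
  have : Module.Flat A B := Module.Flat.trans A C B
  -- the fibre upstairs
  let I' := (maximalIdeal A').map (algebraMap A' B')
  have eI' : fibreIdeal (R := A') q' = I' := by
    show ((q'.comap (algebraMap A' C')).map (algebraMap A' C')).map (algebraMap C' B') = _
    rw [hq'A, Ideal.map_map, ← IsScalarTower.algebraMap_eq]
  have eI : fibreIdeal (R := A) q = (maximalIdeal A).map (algebraMap A B) := by
    show ((q.comap (algebraMap A C)).map (algebraMap A C)).map (algebraMap C B) = _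
    rw [hq, Ideal.map_map, ← IsScalarTower.algebraMap_eq]
  let F := B' ⧸ I'
  have hF : IsRegularLocalRing F :=
    have := isRegularLocalRing_fibreQuot (R := A') q'
    IsRegularLocalRing.of_ringEquiv (Ideal.quotEquivOfEq eI')
  have hFd : ringKrullDim F = 1 := by
    have e1 := RelGCI94.ringKrullDim_eq_add_of_flat (R := A) (S := B)
    rw [← eI, hd] at e1
    have e2 : ringKrullDim B' = ringKrullDim A' + ringKrullDim F :=
      RelGCI94.ringKrullDim_eq_add_of_flat (R := A') (S := B')
    have e3 := RelGCI94.ringKrullDim_eq_add_of_flat (R := B) (S := B')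
    have hK : (maximalIdeal B).map (algebraMap B B') ≠ ⊤ :=
      ne_top_of_le_ne_top (maximalIdeal.isMaximal B').ne_top (((local_hom_TFAE (algebraMap B B')).out 0 2).mp ‹_›)
    have : Nontrivial (B' ⧸ (maximalIdeal B).map (algebraMap B B')) := Ideal.Quotient.nontrivial_iff.mpr hK
    rw [ringKrullDim_eq_zero_of_unique_prime (R := B' ⧸ (maximalIdeal B).map (algebraMap B B')) fun P Q => by
      refine PrimeSpectrum.comap_injective_of_surjective _ Ideal.Quotient.mk_surjective (PrimeSpectrum.ext ?_)
      have h : ∀ R : PrimeSpectrum (B' ⧸ (maximalIdeal B).map (algebraMap B B')),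
          R.asIdeal.comap (Ideal.Quotient.mk _) = maximalIdeal B' := fun R =>
        hrad _ (Ideal.IsPrime.comap _) (fun x hx => by
          show Ideal.Quotient.mk _ x ∈ R.asIdeal
          rw [Ideal.Quotient.eq_zero_iff_mem.mpr hx]
          exact zero_mem _)
      exact (h P).trans (h Q).symm, add_zero] at e3
    have e4 := RelGCI94.ringKrullDim_eq_add_of_flat (R := A) (S := A')
    rw [hm', ringKrullDim_eq_zero_of_isField
      ((Ideal.Quotient.maximal_ideal_iff_isField_quotient _).mp (maximalIdeal.isMaximal A')), add_zero] at e4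
    obtain ⟨a, ha⟩ := CAlg9.CIT.exists_dim_eq A
    obtain ⟨b, hb⟩ := CAlg9.CIT.exists_dim_eq F
    rw [e3, e1, e4, ha, hb] at e2
    rw [hb]
    norm_cast at e2 ⊢
    omega
  obtain ⟨τ, hτ, hτ0⟩ := exists_uniformizer (F := F) (by exact hFd)
  obtain ⟨t, rfl⟩ := Ideal.Quotient.mk_surjective τ
  have hmF : (maximalIdeal B').map (Ideal.Quotient.mk I') = maximalIdeal F :=
    IsLocalRing.map_maximalIdeal_of_surjective _ Ideal.Quotient.mk_surjective
  have hI'le : I' ≤ maximalIdeal B' := ((local_hom_TFAE (algebraMap A' B')).out 0 2).mp ‹_›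
  have htm : t ∈ maximalIdeal B' := by
    have : Ideal.Quotient.mk I' t ∈ maximalIdeal F := hτ ▸ Ideal.subset_span rfl
    rw [← hmF,
      Ideal.mem_map_iff_of_surjective _ Ideal.Quotient.mk_surjective] at this
    obtain ⟨w, hw, he⟩ := this
    have := (maximalIdeal B').sub_mem hw (hI'le (Ideal.Quotient.eq.mp he))
    rwa [sub_sub_cancel] at this
  have hmax : maximalIdeal B' ≤ I' ⊔ Ideal.span {t} := fun b hb => by
    have : Ideal.Quotient.mk I' b ∈ maximalIdeal F := by
      rw [← hmF]
      exact Ideal.mem_map_of_mem _ hb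
    rw [hτ, Ideal.mem_span_singleton'] at this
    obtain ⟨r, hr⟩ := this
    obtain ⟨r, rfl⟩ := Ideal.Quotient.mk_surjective r
    rw [← map_mul, Ideal.Quotient.eq] at hr
    exact Submodule.mem_sup.mpr ⟨b - r * t, by simpa using I'.neg_mem hr, r * t,
      Ideal.mem_span_singleton'.mpr ⟨r, rfl⟩, sub_add_cancel _ _⟩
  have ht : RegMod I' t := fun b hb => by
    have hdom := CAlg1.isDomain_regular F
    rw [← Ideal.Quotient.eq_zero_iff_mem, map_mul] at hb
    exact Ideal.Quotient.eq_zero_iff_mem.mp ((mul_eq_zero.mp hb).resolve_left hτ0)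
  have hres : ∀ b : B', ∃ a : A', b - algebraMap A' B' a ∈ maximalIdeal B' := by
    intro b
    obtain ⟨⟨c, s⟩, hcs⟩ := IsLocalization.surj q'.primeCompl b
    obtain ⟨ac, hac⟩ := hψ (φ' c)
    obtain ⟨as, has⟩ := hψ (φ' s)
    have hu : IsUnit as := by
      by_contra hu
      have : ψ as = 0 := hkψ.ge ((mem_maximalIdeal as).mpr hu)
      exact s.2 (show φ' (s : C') = 0 by rw [← has, this])
    refine ⟨ac * ↑hu.unit⁻¹, ?_⟩
    have key : ∀ (x : C') (a : A'), ψ a = φ' x → algebraMap C' B' x - algebraMap A' B' a ∈ maximalIdeal B' := by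
      intro x a h
      rw [IsScalarTower.algebraMap_apply A' C' B', ← map_sub, IsLocalization.AtPrime.to_map_mem_maximal_iff B' q']
      show φ' (x - algebraMap A' C' a) = 0
      rw [map_sub, hφA, h, sub_self]
    have h1 := key c ac hac
    have h2 := key s as has
    rw [← hcs] at h1
    have h3 : b * algebraMap A' B' as - algebraMap A' B' ac ∈ maximalIdeal B' := by
      have := (maximalIdeal B').sub_mem h1 ((maximalIdeal B').mul_mem_left b h2)
      convert this using 1
      ring
    have := (maximalIdeal B').mul_mem_right (algebraMap A' B' ↑hu.unit⁻¹) h3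
    convert this using 1
    rw [sub_mul, mul_assoc, ← map_mul, ← map_mul, hu.mul_val_inv, map_one, mul_one]
  -- completions
  let Ah := AdicCompletion (maximalIdeal A') A'
  let Bh := AdicCompletion (maximalIdeal B') B'
  have hCA := Hens22.isCompl'_adic (A := A')
  have hCB := Hens22.isCompl'_adic (A := B')
  have := hCA.noetherian
  have := hCA.complete
  have := hCB.noetherian
  have := hCB.complete
  have := hCB.flat
  have := hCB.isLocalHom
  let g₀ : A' →ₐ[A'] Bh := Algebra.ofId A' Bh
  obtain ⟨θ, hθ⟩ := Cohen12.exists_algHom_extension (maximalIdeal A') (maximalIdeal Bh) g₀ (by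
    show (maximalIdeal A').map (algebraMap A' Bh) ≤ _
    rw [IsScalarTower.algebraMap_eq A' B' Bh, ← Ideal.map_map]
    exact (Ideal.map_mono hI'le).trans hCB.map_eq.le)
  let : Algebra Ah Bh := θ.toRingHom.toAlgebra
  have : IsScalarTower A' Ah Bh := IsScalarTower.of_algebraMap_eq fun a => (θ.commutes a).symm
  have : IsLocalHom (algebraMap Ah Bh) := Hens22.isLocalHom_completed (A := A') (B := B') hCA hCB
  have : Module.Flat Ah Bh := Hens22.flat_completed (A := A') (B := B') hCA hCB
  have eJ : (maximalIdeal Ah).map (algebraMap Ah Bh) = I'.map (algebraMap B' Bh) := by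
    rw [← hCA.map_eq, Ideal.map_map, Ideal.map_map, ← IsScalarTower.algebraMap_eq, ← IsScalarTower.algebraMap_eq]
  have hBh : FEt.PurityHolds Bh := by
    refine purityHolds_of_curve_point_complete (A := Ah) (two_le_depth_completion A' ?_) (fun b => ?_)
      (algebraMap B' Bh t) (hCB.map_eq ▸ Ideal.mem_map_of_mem _ htm) ?_ ?_
    · rw [CAlg1.depth_of_flat_local A A']
      exact le_add_right hA
    · obtain ⟨b', hb'⟩ := hCB.exists_sub_mem 1 b
      obtain ⟨a, ha⟩ := hres b'
      refine ⟨algebraMap A' Ah a, ?_⟩
      rw [← IsScalarTower.algebraMap_apply, IsScalarTower.algebraMap_apply A' B' Bh]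
      have h2 := Ideal.mem_map_of_mem (algebraMap B' Bh) ha
      rw [hCB.map_eq, map_sub] at h2
      rw [pow_one] at hb'
      convert (maximalIdeal Bh).add_mem hb' h2 using 1
      ring
    · rw [eJ, ← hCB.map_eq, ← Set.image_singleton, ← Ideal.map_span, ← Ideal.map_sup]
      exact Ideal.map_mono hmax
    · rw [eJ]
      exact ht.map_flat
  -- descent
  have hdB : (2 : ℕ∞) ≤ LocCoh.depth B B := by
    rw [CAlg1.depth_of_flat_local A B]
    exact le_add_right hA
  have : IsScalarTower B B' Bh := inferInstance
  have : Module.Flat B Bh := Module.Flat.trans B B' Bh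
  have : IsLocalHom (algebraMap B Bh) := ⟨fun b hb => by
    rw [IsScalarTower.algebraMap_apply B B' Bh] at hb
    exact (isUnit_map_iff (algebraMap B B') b).mp ((isUnit_map_iff (algebraMap B' Bh) _).mp hb)⟩
  refine purityHolds_of_faithfullyFlat_primary hdB (fun Q hQ hle => ?_) hBh
  have h1 : Q.comap (algebraMap B' Bh) = maximalIdeal B' := hrad _ (Ideal.IsPrime.comap _) (by
    rw [Ideal.map_le_iff_le_comap, Ideal.comap_comap, ← IsScalarTower.algebraMap_eq, ← Ideal.map_le_iff_le_comap]
    exact hle)
  refine le_antisymm (le_maximalIdeal hQ.ne_top) ?_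
  rw [← hCB.map_eq, Ideal.map_le_iff_le_comap, h1]

end Groth.Agent.Pure83
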