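import Groth.Agent.Pure83.FlatFibre
import Groth.Agent.Pure83.SmoothCurve
import Groth.Agent.Pure83.FibreResidue
import Mathlib.RingTheory.Smooth.StandardSmoothOfFree

/-!
# Purity of smooth algebras over bases of depth two
-/

universe u

open CategoryTheory Limits AlgebraicGeometry IsLocalRing TensorProduct

set_option autoImplicit false
set_option linter.unusedSectionVars false

namespace Groth.Agent.Pure83

section

variable {R : Type u} [CommRing R] {B : Type u} [CommRing B] [Algebra R B]

theorem fibreIdeal_eq (q : Ideal B) [q.IsPrime] :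
    fibreIdeal (R := R) q = (q.comap (algebraMap R B)).map (algebraMap R (Localization.AtPrime q)) := by
  show ((q.comap (algebraMap R B)).map (algebraMap R B)).map _ = _
  rw [Ideal.map_map, ← IsScalarTower.algebraMap_eq]

theorem purityHolds_localization_congr {C : Type u} [CommRing C] (q : Ideal B) [q.IsPrime] (r : Ideal C) [r.IsPrime]
    (e : Localization.AtPrime q ≃+* Localization.AtPrime r) (h : FEt.PurityHolds (Localization.AtPrime r)) :
    FEt.PurityHolds (Localization.AtPrime q) :=
  purityHolds_congr e h

/-- Fibre rings of isomorphic local algebras. -/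
theorem dim_fibre_of_equiv {C : Type u} [CommRing C] [Algebra R C] (q : Ideal B) [q.IsPrime] (r : Ideal C) [r.IsPrime]
    (e : Localization.AtPrime q ≃+* Localization.AtPrime r)
    (he : ∀ a : R, e (algebraMap R _ a) = algebraMap R _ a) (hqr : q.comap (algebraMap R B) = r.comap (algebraMap R C)) :
    ringKrullDim (Localization.AtPrime q ⧸ fibreIdeal (R := R) q) =
      ringKrullDim (Localization.AtPrime r ⧸ fibreIdeal (R := R) r) := by
  refine ringKrullDim_eq_of_ringEquiv (Ideal.quotientEquiv _ _ e ?_)
  rw [fibreIdeal_eq, fibreIdeal_eq, Ideal.map_map, hqr]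
  congr 1
  exact RingHom.ext fun a => (he a).symm

end

set_option backward.isDefEq.respectTransparency.types false in
/-- Étale extensions do not change the dimension of fibre local rings. -/
theorem dim_fibre_of_etale {R S C : Type u} [CommRing R] [IsNoetherianRing R] [CommRing S] [Algebra R S]
    [Algebra.Smooth R S] [CommRing C] [Algebra R C] [Algebra S C] [IsScalarTower R S C] [Algebra.Etale S C]
    (q : Ideal C) [q.IsPrime] :
    ringKrullDim (Localization.AtPrime q ⧸ fibreIdeal (R := R) q) =
      ringKrullDim (Localization.AtPrime (q.comap (algebraMap S C)) ⧸ fibreIdeal (R := R) (q.comap (algebraMap S C))) := by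
  let P := q.comap (algebraMap S C)
  let p := q.comap (algebraMap R C)
  have hp : P.comap (algebraMap R S) = p := by rw [Ideal.comap_comap, ← IsScalarTower.algebraMap_eq]
  have : Algebra.Smooth R C := Algebra.Smooth.comp R S C
  have : Algebra.FinitePresentation R C := Algebra.Smooth.finitePresentation
  have : Algebra.FinitePresentation R S := Algebra.Smooth.finitePresentation
  have : IsNoetherianRing S := Algebra.FiniteType.isNoetherianRing R S
  have : IsNoetherianRing C := Algebra.FiniteType.isNoetherianRing R C
  have : q.LiesOver P := ⟨rfl⟩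
  have : P.LiesOver p := ⟨hp.symm⟩
  have : q.LiesOver p := ⟨rfl⟩
  let : Algebra (Localization.AtPrime p) (Localization.AtPrime P) := Localization.AtPrime.algebraOfLiesOver p P
  let : Algebra (Localization.AtPrime p) (Localization.AtPrime q) := Localization.AtPrime.algebraOfLiesOver p q
  let : Algebra (Localization.AtPrime P) (Localization.AtPrime q) := Localization.AtPrime.algebraOfLiesOver P q
  let A := Localization.AtPrime p
  let SP := Localization.AtPrime P
  let CQ := Localization.AtPrime q
  have : IsLocalHom (algebraMap A SP) := Localization.isLocalHom_localRingHom _ _ _ _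
  have : IsLocalHom (algebraMap A CQ) := Localization.isLocalHom_localRingHom _ _ _ _
  have : IsLocalHom (algebraMap SP CQ) := Localization.isLocalHom_localRingHom _ _ _ _
  have : Module.Flat R SP := Module.Flat.trans R S SP
  have : Module.Flat R CQ := Module.Flat.trans R C CQ
  have : Module.Flat S CQ := Module.Flat.trans S C CQ
  have : Module.Flat A SP := (Module.flat_iff_of_isLocalization (S := A) (p := p.primeCompl) (M := SP)).2 ‹_›
  have : Module.Flat A CQ := (Module.flat_iff_of_isLocalization (S := A) (p := p.primeCompl) (M := CQ)).2 ‹_›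
  have : Module.Flat SP CQ := (Module.flat_iff_of_isLocalization (S := SP) (p := P.primeCompl) (M := CQ)).2 ‹_›
  have : Algebra.IsUnramifiedAt S q := inferInstance
  have hm : (maximalIdeal SP).map (algebraMap SP CQ) = maximalIdeal CQ := by
    rw [← Localization.AtPrime.map_eq_maximalIdeal, Ideal.map_map, ← IsScalarTower.algebraMap_eq]
    exact ((Algebra.isUnramifiedAt_iff_map_eq S P q).mp inferInstance).2
  have eC : fibreIdeal (R := R) q = (maximalIdeal A).map (algebraMap A CQ) := by
    rw [fibreIdeal_eq, ← Localization.AtPrime.map_eq_maximalIdeal (I := p), Ideal.map_map, ← IsScalarTower.algebraMap_eq]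
  have eS : fibreIdeal (R := R) P = (maximalIdeal A).map (algebraMap A SP) := by
    rw [fibreIdeal_eq, hp, ← Localization.AtPrime.map_eq_maximalIdeal (I := p), Ideal.map_map, ← IsScalarTower.algebraMap_eq]
  have e1 := RelGCI94.ringKrullDim_eq_add_of_flat (R := A) (S := CQ)
  have e2 := RelGCI94.ringKrullDim_eq_add_of_flat (R := A) (S := SP)
  have e3 := RelGCI94.ringKrullDim_eq_add_of_flat (R := SP) (S := CQ)
  rw [hm, ringKrullDim_eq_zero_of_isField
    ((Ideal.Quotient.maximal_ideal_iff_isField_quotient _).mp (maximalIdeal.isMaximal CQ)), add_zero] at e3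
  rw [← eC] at e1
  rw [← eS] at e2
  have hns : Nontrivial (SP ⧸ fibreIdeal (R := R) P) := Ideal.Quotient.nontrivial_iff.mpr
    (ne_top_of_le_ne_top (maximalIdeal.isMaximal _).ne_top (fibreIdeal_le P))
  have hnc : Nontrivial (CQ ⧸ fibreIdeal (R := R) q) := Ideal.Quotient.nontrivial_iff.mpr
    (ne_top_of_le_ne_top (maximalIdeal.isMaximal _).ne_top (fibreIdeal_le q))
  have : IsLocalRing (SP ⧸ fibreIdeal (R := R) P) := .of_surjective' _ Ideal.Quotient.mk_surjective
  have : IsLocalRing (CQ ⧸ fibreIdeal (R := R) q) := .of_surjective' _ Ideal.Quotient.mk_surjective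
  obtain ⟨a, ha⟩ := CAlg9.CIT.exists_dim_eq A
  obtain ⟨x, hx⟩ := CAlg9.CIT.exists_dim_eq (SP ⧸ fibreIdeal (R := R) P)
  obtain ⟨y, hy⟩ := CAlg9.CIT.exists_dim_eq (CQ ⧸ fibreIdeal (R := R) q)
  rw [ha, hy, e3, e2, ha, hx] at e1
  show ringKrullDim (CQ ⧸ fibreIdeal (R := R) q) = ringKrullDim (SP ⧸ fibreIdeal (R := R) P)
  rw [hy, hx]
  norm_cast at e1 ⊢
  omega

set_option backward.isDefEq.respectTransparency.types false in
set_option synthInstance.maxHeartbeats 400000 in
set_option maxHeartbeats 1000000 in
/-- Reduction of a fibre curve to a local base. -/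
theorem purityHolds_of_local_base {R' : Type u} [CommRing R'] [IsNoetherianRing R'] {C : Type u} [CommRing C]
    [Algebra R' C] [Algebra.Smooth R' C] (q : Ideal C) [q.IsPrime] (p' : Ideal R') [p'.IsPrime] [q.LiesOver p']
    [Algebra (Localization.AtPrime p') (Localization.AtPrime q)] [Localization.AtPrime.IsLiesOverAlgebra p' q]
    [hfL : Module.Finite p'.ResidueField q.ResidueField]
    (hA₁ : (2 : ℕ∞) ≤ LocCoh.depth (Localization.AtPrime p') (Localization.AtPrime p'))
    (hd : ringKrullDim (Localization.AtPrime q ⧸ fibreIdeal (R := R') q) = 1) :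
    FEt.PurityHolds (Localization.AtPrime q) := by
  let A₁ := Localization.AtPrime p'
  let L := q.ResidueField
  let CQ := Localization.AtPrime q
  have hfA : Module.Finite A₁ L := by
    have : Module.Finite A₁ p'.ResidueField :=
      Module.Finite.of_surjective (IsScalarTower.toAlgHom A₁ A₁ p'.ResidueField).toLinearMap residue_surjective
    exact Module.Finite.trans p'.ResidueField L
  have : IsLocalHom (algebraMap A₁ CQ) := by
    rw [Localization.AtPrime.IsLiesOverAlgebra.algebraMap_eq]
    exact Localization.isLocalHom_localRingHom _ _ _ _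
  have hp'q : q.comap (algebraMap R' C) = p' := (Ideal.LiesOver.over (P := q) (p := p')).symm
  -- the localised algebra
  let C₁ := A₁ ⊗[R'] C
  have : Algebra.Smooth A₁ C₁ := inferInstance
  let β : C₁ →ₐ[R'] CQ :=
    Algebra.TensorProduct.lift (IsScalarTower.toAlgHom R' A₁ CQ) (IsScalarTower.toAlgHom R' C CQ)
      fun _ _ => Commute.all _ _
  let q₁ : Ideal C₁ := (maximalIdeal CQ).comap β.toRingHom
  let ι : C →+* C₁ := (Algebra.TensorProduct.includeRight : C →ₐ[R'] C₁).toRingHom
  have hβι : ∀ c, β (ι c) = algebraMap C CQ c := fun c => by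
    show β ((1 : A₁) ⊗ₜ[R'] c) = _
    rw [Algebra.TensorProduct.lift_tmul, map_one, one_mul]
    rfl
  have hβA : ∀ a, β (algebraMap A₁ C₁ a) = algebraMap A₁ CQ a := fun a => by
    show β (a ⊗ₜ[R'] (1 : C)) = _
    rw [Algebra.TensorProduct.lift_tmul, map_one, mul_one]
    rfl
  have hq : q = q₁.comap ι := Ideal.ext fun c => by
    show _ ↔ β (ι c) ∈ maximalIdeal CQ
    rw [hβι, IsLocalization.AtPrime.to_map_mem_maximal_iff CQ q]
  have hq₁p : q₁.IsPrime := Ideal.IsPrime.comap _
  let C₁Q := Localization.AtPrime q₁
  let Φ : CQ →+* C₁Q := Localization.localRingHom q q₁ ι hq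
  let Ψ : C₁Q →+* CQ := IsLocalization.lift (M := q₁.primeCompl) (g := β.toRingHom) fun z =>
    Classical.byContradiction fun hu => z.2 ((mem_maximalIdeal _).mpr hu)
  have hΨ : ∀ z, Ψ (algebraMap C₁ C₁Q z) = β z := fun z => IsLocalization.lift_eq _ z
  have hΦ : ∀ c, Φ (algebraMap C CQ c) = algebraMap C₁ C₁Q (ι c) := fun c => Localization.localRingHom_to_map _ _ _ _ c
  have hΦA : ∀ a : A₁, Φ (algebraMap A₁ CQ a) = algebraMap A₁ C₁Q a := by
    have : Φ.comp (algebraMap A₁ CQ) = algebraMap A₁ C₁Q := IsLocalization.ringHom_ext p'.primeCompl <| by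
      refine RingHom.ext fun r => ?_
      show Φ (algebraMap A₁ CQ (algebraMap R' A₁ r)) = algebraMap A₁ C₁Q (algebraMap R' A₁ r)
      rw [← IsScalarTower.algebraMap_apply, IsScalarTower.algebraMap_apply R' C CQ, hΦ,
        ← IsScalarTower.algebraMap_apply, IsScalarTower.algebraMap_apply R' C₁ C₁Q]
      congr 1
      exact (Algebra.TensorProduct.includeRight : C →ₐ[R'] C₁).commutes r
    exact fun a => congr($this a)
  have h₁ : Φ.comp Ψ = RingHom.id C₁Q := IsLocalization.ringHom_ext q₁.primeCompl <| RingHom.ext fun z => by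
    show Φ (Ψ (algebraMap C₁ C₁Q z)) = algebraMap C₁ C₁Q z
    rw [hΨ]
    induction z using TensorProduct.induction_on with
    | zero => simp
    | add a b ha hb => rw [map_add, map_add, map_add, ha, hb]
    | tmul a c =>
      rw [show a ⊗ₜ[R'] c = algebraMap A₁ C₁ a * ι c by
        show _ = (a ⊗ₜ[R'] (1 : C)) * ((1 : A₁) ⊗ₜ[R'] c)
        rw [Algebra.TensorProduct.tmul_mul_tmul, mul_one, one_mul], map_mul, map_mul, map_mul, hβA, hβι, hΦA, hΦ,
        ← IsScalarTower.algebraMap_apply A₁ C₁ C₁Q]
  have h₂ : Ψ.comp Φ = RingHom.id CQ := IsLocalization.ringHom_ext q.primeCompl <| RingHom.ext fun c => by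
    show Ψ (Φ (algebraMap C CQ c)) = algebraMap C CQ c
    rw [hΦ, hΨ, hβι]
  let ε : CQ ≃+* C₁Q := RingEquiv.ofRingHom Φ Ψ h₁ h₂
  refine purityHolds_localization_congr q q₁ ε ?_
  have hq₁ : q₁.comap (algebraMap A₁ C₁) = maximalIdeal A₁ := by
    show ((maximalIdeal CQ).comap β.toRingHom).comap _ = _
    rw [Ideal.comap_comap, show β.toRingHom.comp (algebraMap A₁ C₁) = algebraMap A₁ CQ from RingHom.ext hβA]
    exact IsLocalRing.eq_maximalIdeal (by
      rw [IsLocalRing.maximalIdeal_comap]
      exact maximalIdeal.isMaximal A₁)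
  have : Module.Finite A₁ q₁.ResidueField := by
    let f : L →ₐ[A₁] q₁.ResidueField :=
      { ResidueField.map Φ with
        commutes' := fun a => by
          show ResidueField.map Φ (algebraMap A₁ L a) = algebraMap A₁ q₁.ResidueField a
          rw [IsScalarTower.algebraMap_apply A₁ CQ L]
          show residue C₁Q (Φ (algebraMap A₁ CQ a)) = _
          rw [hΦA]
          rfl }
    refine Module.Finite.of_surjective f.toLinearMap fun z => ?_
    obtain ⟨w, rfl⟩ := residue_surjective z
    refine ⟨residue CQ (ε.symm w), ?_⟩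
    show residue C₁Q (Φ (ε.symm w)) = _
    exact congrArg (residue C₁Q) (ε.apply_symm_apply w)
  refine purityHolds_of_smooth_curve q₁ hq₁ hA₁ ?_
  rw [← hd]
  refine (ringKrullDim_eq_of_ringEquiv (Ideal.quotientEquiv _ _ ε ?_)).symm
  rw [fibreIdeal_eq, fibreIdeal_eq, hq₁, hp'q, ← Localization.AtPrime.map_eq_maximalIdeal, Ideal.map_map,
    Ideal.map_map]
  congr 1
  refine RingHom.ext fun a => ?_
  show algebraMap A₁ C₁Q (algebraMap R' A₁ a) = Φ (algebraMap R' CQ a)
  rw [← hΦA, ← IsScalarTower.algebraMap_apply R' A₁ CQ]


set_option backward.isDefEq.respectTransparency.types false in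
set_option maxHeartbeats 1000000 in
set_option synthInstance.maxHeartbeats 400000 in
/-- Purity in a fibre curve presented by étale coordinates. -/
theorem purityHolds_of_coord {R : Type u} [CommRing R] [IsNoetherianRing R] {C : Type u} [CommRing C] {m : ℕ}
    [Algebra R C] [Algebra (MvPolynomial (Fin (m + 1)) R) C] [IsScalarTower R (MvPolynomial (Fin (m + 1)) R) C]
    [Algebra.Etale (MvPolynomial (Fin (m + 1)) R) C] (q : Ideal C) [q.IsPrime]
    (hA : (2 : ℕ∞) ≤ LocCoh.depth (Localization.AtPrime (q.comap (algebraMap R C)))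
      (Localization.AtPrime (q.comap (algebraMap R C))))
    (hd : ringKrullDim (Localization.AtPrime q ⧸ fibreIdeal (R := R) q) = 1) :
    FEt.PurityHolds (Localization.AtPrime q) := by
  let S := MvPolynomial (Fin (m + 1)) R
  have : Algebra.Smooth R S := ⟨inferInstance, inferInstance⟩
  let P := q.comap (algebraMap S C)
  let p := q.comap (algebraMap R C)
  have hp : P.comap (algebraMap R S) = p := by rw [Ideal.comap_comap, ← IsScalarTower.algebraMap_eq]
  have hdP : ringKrullDim (Localization.AtPrime P ⧸ fibreIdeal (R := R) P) = 1 :=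
    (dim_fibre_of_etale (R := R) (S := S) q).symm.trans hd
  obtain ⟨j, hj⟩ := exists_variable P hdP
  let R' := MvPolynomial (Fin m) R
  let ρ : R' →ₐ[R] S := MvPolynomial.rename j.succAbove
  let : Algebra R' S := ρ.toRingHom.toAlgebra
  have : IsScalarTower R R' S := IsScalarTower.of_algebraMap_eq fun a => (ρ.commutes a).symm
  let : Algebra R' C := ((algebraMap S C).comp ρ.toRingHom).toAlgebra
  have : IsScalarTower R' S C := IsScalarTower.of_algebraMap_eq fun _ => rfl
  have : IsScalarTower R R' C := IsScalarTower.of_algebraMap_eq fun a => by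
    rw [IsScalarTower.algebraMap_apply R S C, IsScalarTower.algebraMap_apply R R' S]
    rfl
  let e0 : S ≃ₐ[R] Polynomial R' :=
    (MvPolynomial.renameEquiv R (finSuccEquiv' j)).trans (MvPolynomial.optionEquivLeft R (Fin m))
  have he0 : ∀ a : R', e0 (ρ a) = Polynomial.C a := fun a => by
    have : e0.toAlgHom.comp ρ = IsScalarTower.toAlgHom R R' (Polynomial R') :=
      MvPolynomial.algHom_ext fun i => by
        show MvPolynomial.optionEquivLeft R (Fin m) (MvPolynomial.renameEquiv R (finSuccEquiv' j)
          (MvPolynomial.rename j.succAbove (MvPolynomial.X i))) = Polynomial.C (MvPolynomial.X i)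
        rw [MvPolynomial.rename_X, MvPolynomial.renameEquiv_apply, MvPolynomial.rename_X, finSuccEquiv'_succAbove,
          MvPolynomial.optionEquivLeft_X_some]
    exact congr($this a)
  let e : Polynomial R' ≃ₐ[R'] S := AlgEquiv.ofRingEquiv (f := e0.symm.toRingEquiv) fun a =>
    e0.injective ((e0.apply_symm_apply _).trans (he0 a).symm)
  have : Algebra.Smooth R' (Polynomial R') := ⟨inferInstance, inferInstance⟩
  have : Algebra.Smooth R' S := Algebra.Smooth.of_equiv e
  have : Algebra.Smooth R' C := Algebra.Smooth.comp R' S C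
  have : IsNoetherianRing R' := inferInstance
  let p' := q.comap (algebraMap R' C)
  have hp'P : p' = P.comap (algebraMap R' S) := by rw [Ideal.comap_comap]; rfl
  have hp'R : p'.comap (algebraMap R R') = p := by rw [Ideal.comap_comap, ← IsScalarTower.algebraMap_eq]
  have hp' : p' = p.map (algebraMap R R') := by
    refine le_antisymm (fun y hy => ?_) (hp'R ▸ Ideal.map_comap_le)
    have := hj y (show ρ y ∈ P from hp'P.le hy)
    rwa [hp] at this
  obtain ⟨s, hsP, hs⟩ : ∃ s ∈ P, s ∉ p'.map (algebraMap R' S) := by
    by_contra hc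
    push Not at hc
    have hfib : fibreIdeal (R := R) P = maximalIdeal (Localization.AtPrime P) := by
      show ((P.comap (algebraMap R S)).map (algebraMap R S)).map _ = _
      rw [hp, show p.map (algebraMap R S) = P from le_antisymm (hp ▸ Ideal.map_comap_le) (fun z hz => by
        have := hc z hz
        rwa [hp', Ideal.map_map, ← IsScalarTower.algebraMap_eq] at this), Localization.AtPrime.map_eq_maximalIdeal]
    rw [ringKrullDim_eq_zero_of_isField ((Ideal.Quotient.maximal_ideal_iff_isField_quotient _).mp
      (hfib ▸ maximalIdeal.isMaximal _))] at hdP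
    exact zero_ne_one hdP
  have : q.LiesOver P := ⟨rfl⟩
  have : P.LiesOver p' := ⟨hp'P⟩
  have : q.LiesOver p' := ⟨rfl⟩
  have : p'.LiesOver p := ⟨hp'R.symm⟩
  let : Algebra (Localization.AtPrime p') (Localization.AtPrime P) := Localization.AtPrime.algebraOfLiesOver p' P
  let : Algebra (Localization.AtPrime P) (Localization.AtPrime q) := Localization.AtPrime.algebraOfLiesOver P q
  let : Algebra (Localization.AtPrime p') (Localization.AtPrime q) := Localization.AtPrime.algebraOfLiesOver p' q
  have hf1 : Module.Finite p'.ResidueField P.ResidueField := finite_residue_of_ne e P p' s hsP hs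
  have : Algebra.IsUnramifiedAt S q := inferInstance
  have hf2 : Module.Finite P.ResidueField q.ResidueField := inferInstance
  let A₁ := Localization.AtPrime p'
  let L := q.ResidueField
  have hfL : Module.Finite p'.ResidueField L := Module.Finite.trans P.ResidueField L
  -- depth of the new base
  let : Algebra (Localization.AtPrime p) A₁ := Localization.AtPrime.algebraOfLiesOver p p'
  have : IsLocalHom (algebraMap (Localization.AtPrime p) A₁) := Localization.isLocalHom_localRingHom _ _ _ _
  have : Module.Flat R A₁ := Module.Flat.trans R R' A₁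
  have : Module.Flat (Localization.AtPrime p) A₁ :=
    (Module.flat_iff_of_isLocalization (S := Localization.AtPrime p) (p := p.primeCompl) (M := A₁)).2 ‹_›
  have hA₁ : (2 : ℕ∞) ≤ LocCoh.depth A₁ A₁ := by
    rw [CAlg1.depth_of_flat_local (Localization.AtPrime p) A₁]
    exact le_add_right hA
  refine purityHolds_of_local_base (R' := R') q p' hA₁ ?_
  rw [← hd]
  refine ringKrullDim_eq_of_ringEquiv (Ideal.quotEquivOfEq ?_)
  rw [fibreIdeal_eq, fibreIdeal_eq, show q.comap (algebraMap R' C) = p' from rfl, hp', Ideal.map_map,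
    ← IsScalarTower.algebraMap_eq]

set_option backward.isDefEq.respectTransparency.types false in
/-- Smooth algebras over bases of depth two are pure off the generic points of the fibres. -/
theorem purityHolds_of_smooth_fibre {R : Type u} [CommRing R] [IsNoetherianRing R] {B : Type u} [CommRing B]
    [Algebra R B] [Algebra.Smooth R B] (q : Ideal B) [q.IsPrime]
    (hA : (2 : ℕ∞) ≤ LocCoh.depth (Localization.AtPrime (q.comap (algebraMap R B)))
      (Localization.AtPrime (q.comap (algebraMap R B))))
    (hd : (1 : WithBot ℕ∞) ≤ ringKrullDim (Localization.AtPrime q ⧸ fibreIdeal (R := R) q)) :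
    FEt.PurityHolds (Localization.AtPrime q) := by
  have : Algebra.FinitePresentation R B := Algebra.Smooth.finitePresentation
  have : IsNoetherianRing B := Algebra.FiniteType.isNoetherianRing R B
  have hns : Nontrivial (Localization.AtPrime q ⧸ fibreIdeal (R := R) q) := Ideal.Quotient.nontrivial_iff.mpr
    (ne_top_of_le_ne_top (maximalIdeal.isMaximal _).ne_top (fibreIdeal_le q))
  have : IsLocalRing (Localization.AtPrime q ⧸ fibreIdeal (R := R) q) := .of_surjective' _ Ideal.Quotient.mk_surjective
  obtain ⟨n, hn⟩ := CAlg9.CIT.exists_dim_eq (Localization.AtPrime q ⧸ fibreIdeal (R := R) q)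
  rw [hn] at hd
  have hn1 : 1 ≤ n := by exact_mod_cast hd
  rcases hn1.eq_or_lt with h1 | h2
  · subst h1
    obtain ⟨f, hf, _⟩ := Algebra.IsSmoothAt.exists_notMem_isStandardSmooth (R := R) q
    let C := Localization.Away f
    let qC : Ideal C := q.map (algebraMap B C)
    have hdisj : Disjoint (Submonoid.powers f : Set B) q := Set.disjoint_left.mpr fun z ⟨k, hk⟩ hz =>
      hf (‹q.IsPrime›.mem_of_pow_mem k ((show f ^ k = z from hk) ▸ hz))
    have : qC.IsPrime := IsLocalization.isPrime_of_isPrime_disjoint (Submonoid.powers f) C q ‹_› hdisj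
    have hqC : qC.comap (algebraMap B C) = q :=
      IsLocalization.under_map_of_isPrime_disjoint (Submonoid.powers f) C ‹q.IsPrime› hdisj
    have : IsLocalization.AtPrime (Localization.AtPrime qC) q := by
      have key : ∀ (r : Ideal B) (_ : r.IsPrime), qC.comap (algebraMap B C) = r →
          IsLocalization.AtPrime (Localization.AtPrime qC) r := by
        rintro r _ rfl
        exact IsLocalization.isLocalization_atPrime_localization_atPrime (Submonoid.powers f) qC
      exact key q ‹_› hqC
    let ε : Localization.AtPrime q ≃ₐ[B] Localization.AtPrime qC := IsLocalization.algEquiv q.primeCompl _ _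
    have hqR : q.comap (algebraMap R B) = qC.comap (algebraMap R C) := by
      rw [IsScalarTower.algebraMap_eq R B C, ← Ideal.comap_comap, hqC]
    have hd1 : ringKrullDim (Localization.AtPrime qC ⧸ fibreIdeal (R := R) qC) = 1 := by
      rw [← dim_fibre_of_equiv (R := R) q qC ε.toRingEquiv (fun a => (ε.restrictScalars R).commutes a) hqR, hn]
      simp
    refine purityHolds_congr ε.toRingEquiv ?_
    obtain ⟨n, g, hgC, hg⟩ := RingHom.IsStandardSmooth.exists_etale_mvPolynomial
      (f := algebraMap R C) (RingHom.isStandardSmooth_algebraMap.mpr ‹_›)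
    let : Algebra (MvPolynomial (Fin n) R) C := g.toAlgebra
    have : Algebra.Etale (MvPolynomial (Fin n) R) C := hg
    have : IsScalarTower R (MvPolynomial (Fin n) R) C := IsScalarTower.of_algebraMap_eq fun a => congr($hgC a).symm
    have : Algebra.Smooth R (MvPolynomial (Fin n) R) := ⟨inferInstance, inferInstance⟩
    obtain _ | m := n
    · exfalso
      have hdP := (dim_fibre_of_etale (R := R) (S := MvPolynomial (Fin 0) R) qC).symm.trans hd1
      let P := qC.comap (algebraMap (MvPolynomial (Fin 0) R) C)
      have hfib : fibreIdeal (R := R) P = maximalIdeal (Localization.AtPrime P) := by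
        show ((P.comap (algebraMap R _)).map (algebraMap R _)).map _ = _
        rw [MvPolynomial.algebraMap_eq, Ideal.map_comap_of_surjective _ (MvPolynomial.C_surjective (Fin 0)),
          Localization.AtPrime.map_eq_maximalIdeal]
      have h0 : ringKrullDim (Localization.AtPrime P ⧸ fibreIdeal (R := R) P) = 0 :=
        ringKrullDim_eq_zero_of_isField ((Ideal.Quotient.maximal_ideal_iff_isField_quotient _).mp
          (hfib ▸ maximalIdeal.isMaximal _))
      exact zero_ne_one (h0.symm.trans hdP)
    · refine purityHolds_of_coord (R := R) (m := m) qC ?_ hd1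
      have key : ∀ (r : Ideal R) (_ : r.IsPrime), q.comap (algebraMap R B) = r →
          (2 : ℕ∞) ≤ LocCoh.depth (Localization.AtPrime r) (Localization.AtPrime r) := by
        rintro r _ rfl; exact hA
      exact key _ _ hqR
  · let p := q.comap (algebraMap R B)
    have : q.LiesOver p := ⟨rfl⟩
    let : Algebra (Localization.AtPrime p) (Localization.AtPrime q) := Localization.AtPrime.algebraOfLiesOver p q
    have : IsLocalHom (algebraMap (Localization.AtPrime p) (Localization.AtPrime q)) :=
      Localization.isLocalHom_localRingHom _ _ _ _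
    have : Module.Flat R (Localization.AtPrime q) := Module.Flat.trans R B _
    have : Module.Flat (Localization.AtPrime p) (Localization.AtPrime q) :=
      (Module.flat_iff_of_isLocalization (S := Localization.AtPrime p) (p := p.primeCompl)
        (M := Localization.AtPrime q)).2 ‹_›
    have eI : fibreIdeal (R := R) q =
        (maximalIdeal (Localization.AtPrime p)).map (algebraMap (Localization.AtPrime p) (Localization.AtPrime q)) := by
      rw [fibreIdeal_eq, ← Localization.AtPrime.map_eq_maximalIdeal (I := p), Ideal.map_map,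
        ← IsScalarTower.algebraMap_eq]
    obtain ⟨a, ha⟩ := CAlg9.CIT.exists_dim_eq (Localization.AtPrime p)
    refine purityHolds_of_flat_fibre (a + 1) (Localization.AtPrime p) (Localization.AtPrime q)
      (by rw [ha]; exact_mod_cast Nat.lt_succ_self a) ?_ ?_
    · have := isRegularLocalRing_fibreQuot (R := R) q
      exact IsRegularLocalRing.of_ringEquiv (Ideal.quotEquivOfEq eI)
    · rw [← ringKrullDim_eq_of_ringEquiv (Ideal.quotEquivOfEq eI), hn]
      exact_mod_cast h2

end Groth.Agent.Pure83
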