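import Groth.Agent.Pure83.Hypersurface
import Groth.Agent.EGA4Alg4.CMMod

/-!
# A cover extends if its trace on a hypersurface of depth two extends
-/

universe u

open CategoryTheory Limits AlgebraicGeometry TopologicalSpace Opposite

namespace Groth.Agent.Pure83

variable {A : Type u} [CommRing A] [IsLocalRing A] [IsNoetherianRing A]

theorem two_le_ringKrullDim (h : (2 : ℕ∞) ≤ LocCoh.depth A A) :
    (2 : WithBot ℕ∞) ≤ ringKrullDim A := by
  obtain ⟨p, hp⟩ := associatedPrimes.nonempty A A
  exact ((WithBot.coe_le_coe.mpr h).trans (EGA4Alg4.depth_le_ringKrullDim_quotient hp)).trans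
    (ringKrullDim_quotient_le p)

theorem two_le_depth_of_pair {x y : A} (hxm : x ∈ IsLocalRing.maximalIdeal A)
    (hym : y ∈ IsLocalRing.maximalIdeal A) (hx : IsSMulRegular A x)
    (hy : RegMod (Ideal.span {x}) y) : (2 : ℕ∞) ≤ LocCoh.depth A A := by
  rw [LocCoh.depth, LocCoh.idealDepth, if_neg (fun e => (IsLocalRing.maximalIdeal.isMaximal A).ne_top
    (by simpa using e))]
  refine le_iSup₂_of_le [x, y] ⟨?_, by intro r hr; simp at hr; rcases hr with rfl | rfl <;> assumption⟩ le_rfl
  rw [RingTheory.Sequence.isWeaklyRegular_cons_iff, RingTheory.Sequence.isWeaklyRegular_cons_iff]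
  refine ⟨hx, ?_, RingTheory.Sequence.IsWeaklyRegular.nil _ _⟩
  refine isSMulRegular_iff_right_eq_zero_of_smul.mpr fun q hq => ?_
  obtain ⟨a, rfl⟩ := Submodule.Quotient.mk_surjective _ q
  rw [← Submodule.Quotient.mk_smul, Submodule.Quotient.mk_eq_zero,
    Submodule.mem_smul_pointwise_iff_exists] at hq
  obtain ⟨c, -, hc⟩ := hq
  obtain ⟨d, rfl⟩ := Ideal.mem_span_singleton.mp (hy a (Ideal.mem_span_singleton.mpr ⟨c, hc.symm⟩))
  rw [Submodule.Quotient.mk_eq_zero, Submodule.mem_smul_pointwise_iff_exists]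
  exact ⟨d, trivial, rfl⟩

set_option backward.isDefEq.respectTransparency.types false in
/-- A cover extends if its trace on a hypersurface of depth at least two extends. -/
theorem extends_of_hypersurface (V : FEt.Cat (FEt.puncturedSpec A : Scheme.{u})) (f : A)
    (hf : f ∈ IsLocalRing.maximalIdeal A) (hfreg : IsSMulRegular A f)
    [IsLocalRing (A ⧸ Ideal.span {f})]
    (hdepth0 : (2 : ℕ∞) ≤ LocCoh.depth (A ⧸ Ideal.span {f}) (A ⧸ Ideal.span {f}))
    (Y₀ : FEt.Cat (Spec (CommRingCat.of (A ⧸ Ideal.span {f}))))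
    (e : (FEt.restrict (pullback.snd (FEt.puncturedSpec A).ι (hypMap f))).obj Y₀ ≅
      (FEt.restrict (pullback.fst (FEt.puncturedSpec A).ι (hypMap f))).obj V) :
    ∃ Y : FEt.Cat (Spec (CommRingCat.of A)),
      Nonempty ((FEt.restrict (FEt.puncturedSpec A).ι).obj Y ≅ V) := by
  obtain ⟨y0, hy0m, z0, hz0m, hy0reg, hyz⟩ := exists_pair_of_depth_two hdepth0
  obtain ⟨y, rfl⟩ := Ideal.Quotient.mk_surjective y0
  obtain ⟨z, rfl⟩ := Ideal.Quotient.mk_surjective z0
  have hloc : IsLocalHom (Ideal.Quotient.mk (Ideal.span {f})) :=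
    IsLocalHom.of_surjective _ Ideal.Quotient.mk_surjective
  have hym : y ∈ IsLocalRing.maximalIdeal A := fun h => hy0m (h.map _)
  have hzm : z ∈ IsLocalRing.maximalIdeal A := fun h => hz0m (h.map _)
  have hy : RegMod (Ideal.span {f}) y := fun a ha => by
    rw [← Ideal.Quotient.eq_zero_iff_mem] at ha ⊢
    rw [map_mul] at ha
    exact hy0reg.right_eq_zero_of_smul ha
  have hz : RegMod (Ideal.span {f, y}) z := fun a ha => by
    have h1 : Ideal.Quotient.mk (Ideal.span {f}) z * Ideal.Quotient.mk (Ideal.span {f}) a ∈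
        Ideal.span {Ideal.Quotient.mk (Ideal.span {f}) y} := by
      obtain ⟨p, q, hpq⟩ := mem_pair_iff.mp ha
      refine Ideal.mem_span_singleton'.mpr ⟨Ideal.Quotient.mk _ q, ?_⟩
      rw [← map_mul, ← map_mul, Ideal.Quotient.eq]
      exact Ideal.mem_span_singleton'.mpr ⟨-p, by linear_combination -hpq⟩
    obtain ⟨q, hq⟩ := Ideal.mem_span_singleton'.mp (hyz _ h1)
    obtain ⟨q, rfl⟩ := Ideal.Quotient.mk_surjective q
    rw [← map_mul, Ideal.Quotient.eq] at hq
    obtain ⟨p, hp⟩ := Ideal.mem_span_singleton'.mp hq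
    exact mem_pair_iff.mpr ⟨-p, q, by linear_combination -hp⟩
  obtain ⟨n, g, hg0, hg1, hgm, hgreg, hspan⟩ :=
    exists_regular_generators hf hfreg hym (hy.isSMulRegular hf hfreg)
  have hcov := coversPunctured_of_span g hspan
  have hdepth := two_le_depth_of_pair hf hym hfreg hy
  obtain ⟨C, ⟨eC⟩⟩ := (inferInstance : (FEt83.specFunctor (A ⧸ Ideal.span {f})).EssSurj).mem_essImage Y₀
  let B := C.unop.obj
  let _ : Algebra A B := Algebra.compHom B (Ideal.Quotient.mk (Ideal.span {f}))
  have : IsScalarTower A (A ⧸ Ideal.span {f}) B := IsScalarTower.of_algebraMap_eq fun _ => rfl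
  let h : hypCover V f ⟶ Spec (CommRingCat.of B) :=
    e.inv.left ≫ pullback.fst Y₀.hom (pullback.snd (FEt.puncturedSpec A).ι (hypMap f)) ≫ eC.inv.left
  have : IsIso e.inv.left :=
    ((MorphismProperty.Over.forget _ _ _ ⋙ CategoryTheory.Over.forget _).mapIso e.symm).isIso_hom
  have : IsIso eC.inv.left :=
    ((MorphismProperty.Over.forget _ _ _ ⋙ CategoryTheory.Over.forget _).mapIso eC.symm).isIso_hom
  have hop : IsOpenImmersion (pullback.fst Y₀.hom (pullback.snd (FEt.puncturedSpec A).ι (hypMap f))) :=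
    MorphismProperty.pullback_fst (P := @IsOpenImmersion) _ _ inferInstance
  have : IsOpenImmersion h := MorphismProperty.comp_mem (W := @IsOpenImmersion) _ _
    (@IsOpenImmersion.of_isIso _ _ e.inv.left ‹_›)
    (MorphismProperty.comp_mem (W := @IsOpenImmersion) _ _ hop (@IsOpenImmersion.of_isIso _ _ eC.inv.left ‹_›))
  have hw : h ≫ Spec.map (CommRingCat.ofHom (algebraMap (A ⧸ Ideal.span {f}) B)) =
      pullback.snd V.hom _ ≫ pullback.snd (FEt.puncturedSpec A).ι (hypMap f) := by
    refine (Category.assoc _ _ _).trans ?_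
    refine (congrArg (e.inv.left ≫ ·) ((Category.assoc _ _ _).trans
      (congrArg (pullback.fst Y₀.hom _ ≫ ·) (Over.w eC.inv.hom)))).trans ?_
    refine (congrArg (e.inv.left ≫ ·) pullback.condition).trans ((Category.assoc _ _ _).symm.trans ?_)
    exact congrArg (· ≫ _) (Over.w e.inv.hom)
  have hT : h ≫ Spec.map (CommRingCat.ofHom (algebraMap A B)) = hypIncl V f ≫ strHom V := by
    show h ≫ Spec.map (CommRingCat.ofHom (Ideal.Quotient.mk (Ideal.span {f})) ≫
      CommRingCat.ofHom (algebraMap (A ⧸ Ideal.span {f}) B)) = _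
    rw [Spec.map_comp]
    refine (Category.assoc _ _ _).symm.trans ?_
    refine (congrArg (· ≫ Spec.map (CommRingCat.ofHom (Ideal.Quotient.mk (Ideal.span {f})))) hw).trans ?_
    refine (Category.assoc _ _ _).trans ?_
    refine (congrArg (pullback.snd V.hom _ ≫ ·) pullback.condition.symm).trans ?_
    exact (pullback.condition_assoc _).symm
  have hprop := FEt83.prop_specMap (A ⧸ Ideal.span {f}) C.unop
  have : IsFinite (Spec.map (CommRingCat.ofHom (algebraMap (A ⧸ Ideal.span {f}) B))) := hprop.1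
  have : Etale (Spec.map (CommRingCat.ofHom (algebraMap (A ⧸ Ideal.span {f}) B))) := hprop.2
  have : IsNoetherianRing B := IsNoetherianRing.of_finite (A ⧸ Ideal.span {f}) B
  have hb : Function.Bijective h.appTop := by
    refine FEt83.appTop_bijective_of_depth h fun x hx => ?_
    rw [FEt83.depth_stalk_of_etale (Spec.map (CommRingCat.ofHom (algebraMap (A ⧸ Ideal.span {f}) B))) x]
    have hx0 : Spec.map (CommRingCat.ofHom (algebraMap (A ⧸ Ideal.span {f}) B)) x =
        IsLocalRing.closedPoint (A ⧸ Ideal.span {f}) := by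
      by_contra hne
      apply hx
      have hsnd : Spec.map (CommRingCat.ofHom (algebraMap (A ⧸ Ideal.span {f}) B)) x ∈
          Set.range (pullback.snd (FEt.puncturedSpec A).ι (hypMap f)) := by
        rw [IsOpenImmersion.range_pullbackSnd, Scheme.Opens.opensRange_ι]
        show hypMap f (Spec.map (CommRingCat.ofHom (algebraMap (A ⧸ Ideal.span {f}) B)) x) ∈
          FEt.puncturedSpec A
        refine (mem_puncturedSpec_iff _).mpr fun he => hne (PrimeSpectrum.ext ?_)
        refine Ideal.comap_injective_of_surjective _ Ideal.Quotient.mk_surjective (he.trans ?_)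
        exact (IsLocalRing.eq_maximalIdeal (Ideal.comap_isMaximal_of_surjective _
          Ideal.Quotient.mk_surjective (K := IsLocalRing.maximalIdeal (A ⧸ Ideal.span {f})))).symm
      obtain ⟨w, hw'⟩ := hsnd
      have hxY : Y₀.hom (eC.hom.left x) = pullback.snd (FEt.puncturedSpec A).ι (hypMap f) w :=
        (congr($(Over.w eC.hom.hom).base x)).trans hw'.symm
      obtain ⟨t, ht, -⟩ := Scheme.Pullback.exists_preimage_pullback (f := Y₀.hom)
        (g := pullback.snd (FEt.puncturedSpec A).ι (hypMap f)) (eC.hom.left x) w hxY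
      refine ⟨(inv e.inv.left) t, ?_⟩
      show eC.inv.left (pullback.fst Y₀.hom _ (e.inv.left ((inv e.inv.left) t))) = x
      rw [← Scheme.Hom.comp_apply (inv e.inv.left), IsIso.inv_hom_id]
      refine (congrArg eC.inv.left ht).trans ?_
      exact congr(($(eC.hom_inv_id)).left.base x)
    rw [hx0, FEt83.depth_stalk_closedPoint]
    exact hdepth0
  obtain ⟨E⟩ := exists_sectionsEval (g := g) h hdepth hgm hcov hT hb
  obtain ⟨hfin, het⟩ := (isSectionRing V g hcov).etale_of_hyperplane hgm hgreg 0 1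
    (by rw [hg0, hg1]; exact hy) z (by rw [hg0, hg1]; exact hz)
    (by rw [hspan]; exact Ideal.le_radical hzm) f hf hfreg (two_le_ringKrullDim hdepth) B E
  exact exists_extension V hdepth

end Groth.Agent.Pure83
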