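import Groth.Agent.Pure83.AlgebraiseEssSurj
import Groth.Agent.Pure83.Regular
import Groth.Agent.CAlg1.FlatFibre
import Groth.Agent.S0289
import Groth.Agent.CAlg9.Node.Fibral
import Groth.Agent.CAlg9.CIT.Regular

/-!
# Purity for flat local algebras with regular fibre of dimension at least two
-/

universe u

open CategoryTheory Limits AlgebraicGeometry IsLocalRing

set_option autoImplicit false

namespace Groth.Agent.Pure83

set_option backward.isDefEq.respectTransparency.types false in
/-- Purity is insensitive to nilpotent thickenings. -/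
theorem purityHolds_of_nilpotent {B : Type u} [CommRing B] [IsLocalRing B] (J : Ideal B)
    (hJ : J ≤ nilradical B) [IsLocalRing (B ⧸ J)] (h : FEt.PurityHolds (B ⧸ J)) :
    FEt.PurityHolds B := by
  refine ⟨fun V => ?_⟩
  let q := qMap J
  let snd := pullback.snd (FEt.puncturedSpec B).ι q
  let fst := pullback.fst (FEt.puncturedSpec B).ι q
  have : IsClosedImmersion q := IsClosedImmersion.spec_of_surjective _ Ideal.Quotient.mk_surjective
  have hqs : Surjective q := ⟨fun p => by
    refine ⟨(⟨(p : PrimeSpectrum B).asIdeal.map (Ideal.Quotient.mk J),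
      Ideal.map_isPrime_of_surjective Ideal.Quotient.mk_surjective (by
        rw [Ideal.mk_ker]; exact hJ.trans (nilradical_le_prime _))⟩ : PrimeSpectrum (B ⧸ J)),
      PrimeSpectrum.ext ?_⟩
    show ((p : PrimeSpectrum B).asIdeal.map (Ideal.Quotient.mk J)).comap (Ideal.Quotient.mk J) = _
    rw [Ideal.comap_map_of_surjective _ Ideal.Quotient.mk_surjective, ← RingHom.ker_eq_comap_bot,
      Ideal.mk_ker, sup_eq_left]
    exact hJ.trans (nilradical_le_prime _)⟩
  have : IsClosedImmersion fst := MorphismProperty.pullback_fst (P := @IsClosedImmersion) _ _ ‹_›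
  have : Surjective fst := MorphismProperty.pullback_fst (P := @Surjective) _ _ hqs
  have hfst := S0289.result fst
  have hq := S0289.result q
  have hr : Set.range snd = Set.range (FEt.puncturedSpec (B ⧸ J)).ι := by
    rw [IsOpenImmersion.range_pullbackSnd, Scheme.Opens.opensRange_ι, Scheme.Opens.range_ι]
    ext p
    show q p ∈ FEt.puncturedSpec B ↔ p ∈ FEt.puncturedSpec (B ⧸ J)
    refine Iff.trans (mem_puncturedSpec_iff _) (Iff.trans ?_ (mem_puncturedSpec_iff _).symm)
    have hm : (maximalIdeal (B ⧸ J)).comap (Ideal.Quotient.mk _) = maximalIdeal B :=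
      IsLocalRing.eq_maximalIdeal (Ideal.comap_isMaximal_of_surjective _ Ideal.Quotient.mk_surjective)
    exact not_congr ⟨fun e => Ideal.comap_injective_of_surjective _ Ideal.Quotient.mk_surjective
      (e.trans hm.symm), fun e => (congrArg (Ideal.comap (Ideal.Quotient.mk _)) e).trans hm⟩
  let j := IsOpenImmersion.isoOfRangeEq snd (FEt.puncturedSpec (B ⧸ J)).ι hr
  have hj : j.hom ≫ (FEt.puncturedSpec (B ⧸ J)).ι = snd := IsOpenImmersion.isoOfRangeEq_hom_fac _ _ _
  obtain ⟨Y₀, ⟨e⟩⟩ := h.mem_essImage ((FEt.restrict j.inv).obj ((FEt.restrict fst).obj V))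
  obtain ⟨Y, ⟨eY⟩⟩ := (hq.essSurj).mem_essImage Y₀
  refine ⟨Y, ⟨(FEt.restrict fst).preimageIso ?_⟩⟩
  exact FEt83.restrictSqIso fst (FEt.puncturedSpec B).ι snd q pullback.condition Y ≪≫
    (FEt.restrict snd).mapIso eY ≪≫ FEt83.restrictEqIso hj.symm Y₀ ≪≫
    (FEt83.restrictCompIso j.hom (FEt.puncturedSpec (B ⧸ J)).ι).app Y₀ ≪≫
    (FEt.restrict j.hom).mapIso e ≪≫
    ((FEt83.restrictCompIso j.hom j.inv).app _).symm ≪≫ FEt83.restrictEqIso j.hom_inv_id _ ≪≫
    FEt83.restrictIdIso _

theorem flat_quotient_map {A B : Type u} [CommRing A] [CommRing B] [Algebra A B] [Module.Flat A B]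
    (I : Ideal A) : Module.Flat (A ⧸ I) (B ⧸ I.map (algebraMap A B)) :=
  RingHom.flat_algebraMap_iff.mp
    (CAlg9.Node.flat_quotient_hom (algebraMap A B) (RingHom.flat_algebraMap_iff.mpr inferInstance)
      I _ rfl _ (RingHom.ext fun _ => rfl))

theorem isLocalHom_quotient_map {A B : Type u} [CommRing A] [CommRing B] [IsLocalRing A] [IsLocalRing B]
    [Algebra A B] [IsLocalHom (algebraMap A B)] (I : Ideal A) [IsLocalRing (A ⧸ I)]
    [IsLocalRing (B ⧸ I.map (algebraMap A B))] :
    IsLocalHom (algebraMap (A ⧸ I) (B ⧸ I.map (algebraMap A B))) := by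
  refine ⟨fun a ha => ?_⟩
  obtain ⟨a, rfl⟩ := Ideal.Quotient.mk_surjective a
  have : IsLocalHom (Ideal.Quotient.mk (I.map (algebraMap A B))) :=
    IsLocalHom.of_surjective _ Ideal.Quotient.mk_surjective
  exact ((ha.of_map (Ideal.Quotient.mk (I.map (algebraMap A B))) (algebraMap A B a)).of_map
    (algebraMap A B) a).map _

/-- Depth is at least two for flat local algebras with regular fibre of dimension at least two. -/
theorem two_le_depth_of_flat_fibre {A B : Type u} [CommRing A] [IsNoetherianRing A] [IsLocalRing A]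
    [CommRing B] [IsNoetherianRing B] [IsLocalRing B] [Algebra A B] [IsLocalHom (algebraMap A B)]
    [Module.Flat A B] [IsRegularLocalRing (B ⧸ (maximalIdeal A).map (algebraMap A B))]
    (hd : (2 : WithBot ℕ∞) ≤ ringKrullDim (B ⧸ (maximalIdeal A).map (algebraMap A B))) :
    (2 : ℕ∞) ≤ LocCoh.depth B B := by
  rw [CAlg1.depth_of_flat_local A B, CAlg1.depth_quotient_self]
  exact le_add_left (two_le_depth_regular hd)

set_option backward.isDefEq.respectTransparency.types false in
/-- A flat local algebra with regular fibre of dimension at least two is pure. -/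
theorem purityHolds_of_flat_fibre : ∀ (n : ℕ) (A B : Type u) [CommRing A] [IsNoetherianRing A]
    [IsLocalRing A] [CommRing B] [IsNoetherianRing B] [IsLocalRing B] [Algebra A B]
    [IsLocalHom (algebraMap A B)] [Module.Flat A B], ringKrullDim A < n →
    IsRegularLocalRing (B ⧸ (maximalIdeal A).map (algebraMap A B)) →
    (2 : WithBot ℕ∞) ≤ ringKrullDim (B ⧸ (maximalIdeal A).map (algebraMap A B)) →
    FEt.PurityHolds B := by
  intro n
  induction n with
  | zero =>
    intro A B _ _ _ _ _ _ _ _ _ hn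
    exact absurd hn (not_lt.mpr ringKrullDim_nonneg_of_nontrivial)
  | succ n ih =>
    intro A B _ _ _ _ _ _ _ _ _ hn hreg hd
    let N := nilradical A
    let Ā := A ⧸ N
    let B' := B ⧸ N.map (algebraMap A B)
    have hNm : N ≤ maximalIdeal A := nilradical_le_prime _
    have hNB : N.map (algebraMap A B) ≤ nilradical B := Ideal.map_le_iff_le_comap.mpr fun a ha =>
      mem_nilradical.mpr ((mem_nilradical.mp ha).map (algebraMap A B))
    have : Nontrivial Ā := Ideal.Quotient.nontrivial_iff.mpr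
      (ne_top_of_le_ne_top (maximalIdeal.isMaximal A).ne_top hNm)
    have : IsLocalRing Ā := IsLocalRing.of_surjective' (Ideal.Quotient.mk N) Ideal.Quotient.mk_surjective
    have : Nontrivial B' := Ideal.Quotient.nontrivial_iff.mpr
      (ne_top_of_le_ne_top (maximalIdeal.isMaximal B).ne_top (hNB.trans (nilradical_le_prime _)))
    have : IsLocalRing B' := IsLocalRing.of_surjective' (Ideal.Quotient.mk _) Ideal.Quotient.mk_surjective
    refine purityHolds_of_nilpotent _ hNB ?_
    have : Module.Flat Ā B' := flat_quotient_map N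
    have : IsLocalHom (algebraMap Ā B') := isLocalHom_quotient_map N
    have hred : IsReduced Ā := (Ideal.isRadical_iff_quotient_reduced N).mp (Ideal.radical_isRadical (⊥ : Ideal A))
    -- the fibre of `B'` over `Ā`
    have hfib : (maximalIdeal Ā).map (algebraMap Ā B') =
        ((maximalIdeal A).map (algebraMap A B)).map (Ideal.Quotient.mk (N.map (algebraMap A B))) := by
      rw [← IsLocalRing.map_maximalIdeal_of_surjective (Ideal.Quotient.mk N) Ideal.Quotient.mk_surjective,
        Ideal.map_map, Ideal.map_map]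
      rfl
    let eF : (B ⧸ (maximalIdeal A).map (algebraMap A B)) ≃+* B' ⧸ (maximalIdeal Ā).map (algebraMap Ā B') :=
      (DoubleQuot.quotQuotEquivQuotOfLE (Ideal.map_mono hNm)).symm.trans (Ideal.quotEquivOfEq hfib.symm)
    have hreg' : IsRegularLocalRing (B' ⧸ (maximalIdeal Ā).map (algebraMap Ā B')) :=
      IsRegularLocalRing.of_ringEquiv eF
    have hd' : (2 : WithBot ℕ∞) ≤ ringKrullDim (B' ⧸ (maximalIdeal Ā).map (algebraMap Ā B')) := by
      rwa [← ringKrullDim_eq_of_ringEquiv eF]
    by_cases hm : maximalIdeal Ā = ⊥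
    · let e : B' ≃+* B' ⧸ (maximalIdeal Ā).map (algebraMap Ā B') :=
        (RingEquiv.quotientBot B').symm.trans (Ideal.quotEquivOfEq (by rw [hm, Ideal.map_bot]))
      exact purityHolds_congr e (purityHolds_of_regular _ hd')
    obtain ⟨f, hfm, hf⟩ : ∃ f ∈ maximalIdeal Ā, ∀ p ∈ minimalPrimes Ā, f ∉ p := by
      by_contra hc
      push Not at hc
      have hfin : (minimalPrimes Ā).Finite := minimalPrimes.finite_of_isNoetherianRing Ā
      obtain ⟨p, hp, hmp⟩ := (Ideal.subset_union_prime_finite hfin (f := id) ⊥ ⊥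
        (fun p hp _ _ => hp.1.1) (I := maximalIdeal Ā)).mp (fun f hf => by
          obtain ⟨p, hp, hfp⟩ := hc f hf
          exact Set.mem_iUnion₂.mpr ⟨p, hp, hfp⟩)
      have hpm : p = maximalIdeal Ā := ((maximalIdeal.isMaximal Ā).eq_of_le
        (hp.1.1).ne_top hmp).symm
      have hu : ∀ q ∈ minimalPrimes Ā, q = maximalIdeal Ā := fun q hq =>
        le_antisymm (le_maximalIdeal (hq.1.1).ne_top)
          (hpm ▸ hp.2 ⟨hq.1.1, bot_le⟩
            (hpm ▸ le_maximalIdeal (hq.1.1).ne_top))
      have h0 : sInf (minimalPrimes Ā) = ⊥ :=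
        ((⊥ : Ideal Ā).sInf_minimalPrimes).trans (nilradical_eq_zero Ā)
      exact hm (le_bot_iff.mp (h0 ▸ le_sInf fun q hq => (hu q hq).ge))
    have hfz : IsSMulRegular Ā f := isLeftRegular_iff.mp (isLeftRegular_iff_right_eq_zero_of_mul.mpr
      fun a ha => by
        have h0 : sInf (minimalPrimes Ā) = ⊥ :=
          ((⊥ : Ideal Ā).sInf_minimalPrimes).trans (nilradical_eq_zero Ā)
        refine Ideal.mem_bot.mp (h0 ▸ Submodule.mem_sInf.mpr fun q hq => ?_)
        exact ((hq.1.1).mem_or_mem (ha ▸ zero_mem q)).resolve_left (hf q hq))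
    let g : B' := algebraMap Ā B' f
    have hgz : IsSMulRegular B' g := by
      have h1 := IsSMulRegular.of_flat (S := B') hfz
      exact h1
    have hgm : g ∈ maximalIdeal B' :=
      (((IsLocalRing.local_hom_TFAE (algebraMap Ā B')).out 0 2).mp ‹_› :
        (maximalIdeal Ā).map (algebraMap Ā B') ≤ maximalIdeal B') (Ideal.mem_map_of_mem _ hfm)
    let I := Ideal.span {f}
    have hIg : Ideal.span {g} = I.map (algebraMap Ā B') := by
      rw [Ideal.map_span, Set.image_singleton]
    have hIm : I ≤ maximalIdeal Ā := (Ideal.span_singleton_le_iff_mem _).mpr hfm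
    have : Nontrivial (Ā ⧸ I) := Ideal.Quotient.nontrivial_iff.mpr
      (ne_top_of_le_ne_top (maximalIdeal.isMaximal Ā).ne_top hIm)
    have : IsLocalRing (Ā ⧸ I) := IsLocalRing.of_surjective' (Ideal.Quotient.mk I) Ideal.Quotient.mk_surjective
    have : Nontrivial (B' ⧸ I.map (algebraMap Ā B')) := Ideal.Quotient.nontrivial_iff.mpr
      (ne_top_of_le_ne_top (maximalIdeal.isMaximal B').ne_top
        (hIg ▸ (Ideal.span_singleton_le_iff_mem _).mpr hgm))
    have : IsLocalRing (B' ⧸ I.map (algebraMap Ā B')) :=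
      IsLocalRing.of_surjective' (Ideal.Quotient.mk _) Ideal.Quotient.mk_surjective
    have : Nontrivial (B' ⧸ Ideal.span {g}) := hIg ▸ ‹_›
    have : IsLocalRing (B' ⧸ Ideal.span {g}) :=
      IsLocalRing.of_surjective' (Ideal.Quotient.mk _) Ideal.Quotient.mk_surjective
    have : Module.Flat (Ā ⧸ I) (B' ⧸ I.map (algebraMap Ā B')) := flat_quotient_map I
    have : IsLocalHom (algebraMap (Ā ⧸ I) (B' ⧸ I.map (algebraMap Ā B'))) := isLocalHom_quotient_map I
    let C := B' ⧸ I.map (algebraMap Ā B')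
    have hfib2 : (maximalIdeal (Ā ⧸ I)).map (algebraMap (Ā ⧸ I) C) =
        ((maximalIdeal Ā).map (algebraMap Ā B')).map (Ideal.Quotient.mk (I.map (algebraMap Ā B'))) := by
      rw [← IsLocalRing.map_maximalIdeal_of_surjective (Ideal.Quotient.mk I) Ideal.Quotient.mk_surjective,
        Ideal.map_map, Ideal.map_map]
      rfl
    let eF2 : (B' ⧸ (maximalIdeal Ā).map (algebraMap Ā B')) ≃+*
        C ⧸ (maximalIdeal (Ā ⧸ I)).map (algebraMap (Ā ⧸ I) C) :=
      (DoubleQuot.quotQuotEquivQuotOfLE (Ideal.map_mono hIm)).symm.trans (Ideal.quotEquivOfEq hfib2.symm)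
    have hreg2 : IsRegularLocalRing (C ⧸ (maximalIdeal (Ā ⧸ I)).map (algebraMap (Ā ⧸ I) C)) :=
      IsRegularLocalRing.of_ringEquiv eF2
    have hd2 : (2 : WithBot ℕ∞) ≤
        ringKrullDim (C ⧸ (maximalIdeal (Ā ⧸ I)).map (algebraMap (Ā ⧸ I) C)) := by
      rwa [← ringKrullDim_eq_of_ringEquiv eF2]
    refine purityHolds_of_quotient g hgm hgz ?_ ?_
    · have key : ∀ (K : Ideal B') (_ : K = I.map (algebraMap Ā B')) [IsLocalRing (B' ⧸ K)],
          (2 : ℕ∞) ≤ LocCoh.depth (B' ⧸ K) (B' ⧸ K) := by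
        rintro K rfl _
        exact two_le_depth_of_flat_fibre (A := Ā ⧸ I) (B := C) hd2
      exact key _ hIg
    · refine purityHolds_congr (Ideal.quotEquivOfEq hIg) (ih (Ā ⧸ I) C ?_ hreg2 hd2)
      have h1 := ringKrullDim_quotient_succ_le_of_nonZeroDivisor
        (r := f) (mem_nonZeroDivisors_iff.mpr ⟨fun a ha => hfz (show f * a = f * 0 by rw [ha, mul_zero]),
          fun a ha => hfz (show f * a = f * 0 by rw [mul_comm, ha, mul_zero])⟩)
      obtain ⟨a, ha⟩ := CAlg9.CIT.exists_dim_eq Ā
      obtain ⟨b, hb⟩ := CAlg9.CIT.exists_dim_eq (Ā ⧸ I)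
      obtain ⟨c, hc⟩ := CAlg9.CIT.exists_dim_eq A
      have h2 : ringKrullDim Ā ≤ ringKrullDim A :=
        ringKrullDim_le_of_surjective _ Ideal.Quotient.mk_surjective
      rw [hb, ha] at h1
      rw [ha, hc] at h2
      rw [hc] at hn
      rw [hb]
      norm_cast at h1 h2 hn ⊢
      omega

end Groth.Agent.Pure83
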