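import Groth.Agent.Pure83.FormalLoc
import Groth.Agent.CAlg7.Chevalley
import Mathlib.RingTheory.AdicCompletion.Noetherian

/-!
# Formal functions on a punctured spectrum and lifting of homomorphisms of section rings
-/

universe u

namespace Groth.Agent.Pure83

variable {A : Type u} [CommRing A]

/-- Compatible families modulo powers of `J` on the basic opens come from global elements, and
global elements are determined by them. -/
structure FormalSys {ι : Type} (g : ι → A) (J : Ideal A) : Prop where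
  lift : ∀ k, ∃ l, k ≤ l ∧ ∀ (e : ℕ) (a : ι → A),
    (∀ i j, InLoc (J ^ l : Submodule A A) (g i * g j) (g j ^ e • a i - g i ^ e • a j)) →
    ∃ x : A, ∀ i, InLoc (J ^ k : Submodule A A) (g i) (g i ^ e • x - a i)
  sep : ∀ a : A, (∀ k i, InLoc (J ^ k : Submodule A A) (g i) a) → a = 0

namespace InLoc

variable {M N : Type u} [AddCommGroup M] [Module A M] [AddCommGroup N] [Module A N] {I : Ideal A} {c : A}

theorem map_smul_top (φ : M →ₗ[A] N) {x : M} (h : InLoc (I • (⊤ : Submodule A M)) c x) :
    InLoc (I • (⊤ : Submodule A N)) c (φ x) := by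
  obtain ⟨n, hn⟩ := h
  refine ⟨n, ?_⟩
  have h1 := Submodule.mem_map_of_mem (f := φ) hn
  rw [Submodule.map_smul'', map_smul] at h1
  exact Submodule.smul_mono le_rfl le_top h1

theorem coord {n : ℕ} {v : Fin n → A} (h : InLoc (I • (⊤ : Submodule A (Fin n → A))) c v) (j : Fin n) :
    InLoc (I : Submodule A A) c (v j) := by
  have h1 := map_smul_top (LinearMap.proj (R := A) (φ := fun _ : Fin n => A) j) h
  rwa [Ideal.smul_eq_mul, Ideal.mul_top] at h1

theorem smul_elt {a : A} (h : InLoc (I : Submodule A A) c a) (t : M) :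
    InLoc (I • (⊤ : Submodule A M)) c (a • t) := by
  obtain ⟨n, hn⟩ := h
  exact ⟨n, by rw [← mul_smul]; exact Submodule.smul_mem_smul hn trivial⟩

theorem map_coords {n : ℕ} (ψ : (Fin n → A) →ₗ[A] M) {v : Fin n → A}
    (h : ∀ j, InLoc (I : Submodule A A) c (v j)) : InLoc (I • (⊤ : Submodule A M)) c (ψ v) := by
  classical
  have hv : v = ∑ j, v j • Pi.single j (1 : A) := by
    ext k; simp [Pi.single_apply, Finset.sum_apply]
  rw [hv, map_sum]
  refine Finset.sum_induction _ (InLoc (I • (⊤ : Submodule A M)) c) (fun _ _ => InLoc.add)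
    (InLoc.of_mem (Submodule.zero_mem _)) fun j _ => ?_
  rw [map_smul]
  exact smul_elt (h j) _

theorem of_pow_smul {P : Submodule A M} {x : M} {e : ℕ} (h : InLoc P c (c ^ e • x)) : InLoc P c x := by
  obtain ⟨n, hn⟩ := h
  exact ⟨n + e, by rw [pow_add, mul_smul]; exact hn⟩

end InLoc

/-- A version of `exists_factor` without regularity. -/
theorem exists_factor' {M : Type u} [AddCommGroup M] [Module A M] [IsNoetherianRing A]
    [Module.Finite A M] (f : A) {Af : Type*} [CommRing Af] [Algebra A Af] [IsLocalization.Away f Af]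
    {M' : Type*} [AddCommGroup M'] [Module A M'] [Module Af M'] [IsScalarTower A Af M']
    (ι : M →ₗ[A] M') [IsLocalizedModule (Submonoid.powers f) ι] [Module.Projective Af M'] :
    ∃ (n N : ℕ) (φ : M →ₗ[A] (Fin n → A)) (ψ : (Fin n → A) →ₗ[A] M),
      ∀ m, ψ (φ m) = f ^ N • m := by
  classical
  have : Module.FinitePresentation A M := Module.finitePresentation_of_finite A M
  obtain ⟨n, π, hπ⟩ := Module.Finite.exists_fin' A M
  let mk : (Fin n → A) →ₗ[A] (Fin n → Af) :=
    LinearMap.pi fun i => (Algebra.linearMap A Af) ∘ₗ LinearMap.proj i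
  have : IsLocalizedModule (Submonoid.powers f) mk := inferInstance
  let πl : (Fin n → Af) →ₗ[A] M' := IsLocalizedModule.map (Submonoid.powers f) mk ι π
  let π' : (Fin n → Af) →ₗ[Af] M' :=
    πl.extendScalarsOfIsLocalization (Submonoid.powers f) Af
  have hπ' : Function.Surjective π' := IsLocalizedModule.map_surjective _ mk ι π hπ
  obtain ⟨s, hs⟩ := Module.projective_lifting_property π' LinearMap.id hπ'
  obtain ⟨h, ⟨_, N, rfl⟩, hh⟩ := Module.FinitePresentation.exists_lift_of_isLocalizedModule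
    (Submonoid.powers f) mk ((s.restrictScalars A) ∘ₗ ι)
  have h1 : ∀ m, ι (π (h m)) = ι (f ^ N • m) := fun m => by
    have h2 := congrArg π' (LinearMap.congr_fun hh m)
    have h3 : π' (mk (h m)) = ι (π (h m)) := IsLocalizedModule.map_apply _ mk ι π (h m)
    rw [map_smul ι, ← h3]
    refine h2.trans ?_
    show πl (f ^ N • s (ι m)) = _
    rw [map_smul]
    exact congrArg (f ^ N • ·) (LinearMap.congr_fun hs (ι m))
  choose k hk using fun m => IsLocalizedModule.exists_of_eq (S := Submonoid.powers f) (h1 m)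
  obtain ⟨t, ht⟩ := (inferInstance : Module.Finite A M).fg_top
  have key : ∀ m ∈ t, ∃ j : ℕ, f ^ j • π (h m) = f ^ (j + N) • m := fun m _ => by
    obtain ⟨j, hj⟩ := (k m).2
    refine ⟨j, ?_⟩
    have := hk m
    rw [pow_add, mul_smul]
    simpa only [Submonoid.smul_def, ← hj] using this
  choose j hj using key
  let K := ∑ m ∈ t.attach, j m.1 m.2
  refine ⟨n, K + N, f ^ K • h, π, fun m => ?_⟩
  have : (f ^ K • (π ∘ₗ h)) = (f ^ (K + N)) • LinearMap.id := LinearMap.ext_on (s := (t : Set M))
    (by exact ht) fun m hm => by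
      have hle : j m hm ≤ K := Finset.single_le_sum (f := fun x : {x // x ∈ t} => j x.1 x.2)
        (fun _ _ => Nat.zero_le _) (Finset.mem_attach t ⟨m, hm⟩)
      show f ^ K • π (h m) = f ^ (K + N) • m
      conv_lhs => rw [← Nat.sub_add_cancel hle, pow_add, mul_smul, hj m hm, smul_smul, ← pow_add]
      congr 2; omega
  have := LinearMap.congr_fun this m
  simpa using this

namespace FormalSys

variable [IsLocalRing A] [IsNoetherianRing A]
variable {ι : Type} {g : ι → A} {J : Ideal A}

/-- Limits of coherent sequences. -/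
theorem exists_limit (F : FormalSys g J) [IsAdicComplete (IsLocalRing.maximalIdeal A) A] (a : ℕ → A)
    (h : ∀ k k', k ≤ k' → ∀ i, InLoc (J ^ k : Submodule A A) (g i) (a k' - a k)) :
    ∃ x, ∀ k i, InLoc (J ^ k : Submodule A A) (g i) (x - a k) := by
  let I : ℕ → Ideal A := fun k =>
    { carrier := {x | ∀ i, InLoc (J ^ k : Submodule A A) (g i) x}
      add_mem' := fun h h' i => (h i).add (h' i)
      zero_mem' := fun i => InLoc.of_mem (Submodule.zero_mem _)
      smul_mem' := fun r _ h i => (h i).smul r }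
  have hI : Antitone I := fun k k' hk x hx i => by
    obtain ⟨n, hn⟩ := hx i
    exact ⟨n, Ideal.pow_le_pow_right hk hn⟩
  have hbot : (⨅ k, I k) = ⊥ := le_bot_iff.mp fun x hx =>
    (Submodule.mem_bot _).mpr (F.sep x fun k i => (Ideal.mem_iInf.mp hx) k i)
  let m := IsLocalRing.maximalIdeal A
  choose ν hν using fun N => CAlg7.exists_le_sup_pow I hI N
  simp only [hbot, bot_sup_eq] at hν
  let κ : ℕ → ℕ := fun N => ∑ i ∈ Finset.range (N + 1), ν i
  have hκ : ∀ {M N}, M ≤ N → κ M ≤ κ N := fun {M N} h =>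
    Finset.sum_le_sum_of_subset (Finset.range_subset_range.mpr (by omega))
  have hκν : ∀ N, ν N ≤ κ N := fun N =>
    Finset.single_le_sum (f := ν) (fun _ _ => Nat.zero_le _) (Finset.self_mem_range_succ N)
  obtain ⟨x, hx⟩ := IsPrecomplete.prec (I := m) inferInstance (f := fun N => a (κ N))
    (fun {M N} hMN => by
      rw [SModEq.sub_mem, smul_eq_mul, Ideal.mul_top, ← neg_sub]
      exact neg_mem (hν M (hI (hκν M) (fun i => h _ _ (hκ hMN) i))))
  refine ⟨x, fun k => ?_⟩
  have : x - a k ∈ I k := by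
    have hmem : ∀ N, x - a k ∈ I k ⊔ m ^ N := fun N => by
      have h1 : a (κ N) - x ∈ m ^ N := by
        have := hx N
        rwa [SModEq.sub_mem, smul_eq_mul, Ideal.mul_top] at this
      have h2 : a (κ N) - a k ∈ I k ⊔ m ^ N := by
        rcases le_total k (κ N) with hle | hle
        · exact Submodule.mem_sup_left fun i => h _ _ hle i
        · exact Submodule.mem_sup_right (hν N (hI (hκν N) (neg_sub (a k) (a (κ N)) ▸
            neg_mem (show a k - a (κ N) ∈ I (κ N) from fun i => h _ _ hle i))))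
      have : x - a k = (a (κ N) - a k) - (a (κ N) - x) := by ring
      rw [this]
      exact Submodule.sub_mem _ h2 (Submodule.mem_sup_right h1)
    by_cases htop : I k = ⊤
    · rw [htop]; trivial
    have : IsLocalRing (A ⧸ I k) :=
      have := Ideal.Quotient.nontrivial_iff.mpr htop
      IsLocalRing.of_surjective' (Ideal.Quotient.mk (I k)) Ideal.Quotient.mk_surjective
    refine Ideal.Quotient.eq_zero_iff_mem.mp ?_
    have hinf : Ideal.Quotient.mk (I k) (x - a k) ∈ ⨅ N : ℕ, (m.map (Ideal.Quotient.mk (I k))) ^ N := by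
      refine Submodule.mem_iInf _ |>.mpr fun N => ?_
      obtain ⟨y, hy, z, hz, hyz⟩ := Submodule.mem_sup.mp (hmem N)
      rw [← hyz, map_add, Ideal.Quotient.eq_zero_iff_mem.mpr hy, zero_add, ← Ideal.map_pow]
      exact Ideal.mem_map_of_mem _ hz
    rwa [Ideal.iInf_pow_eq_bot_of_isLocalRing _ ?_, Submodule.mem_bot] at hinf
    refine ne_top_of_le_ne_top (IsLocalRing.maximalIdeal.isMaximal (A ⧸ I k)).ne_top
      (Ideal.map_le_iff_le_comap.mpr ?_)
    exact (IsLocalRing.eq_maximalIdeal
      (Ideal.comap_isMaximal_of_surjective _ Ideal.Quotient.mk_surjective)).ge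
  exact this

variable (F : FormalSys g J)
variable {S T : Type u} [CommRing S] [Algebra A S] [CommRing T] [Algebra A T] [Module.Finite A T]
  (hT : IsLocSectionRing A T g)

include hT in
theorem exists_factor_sec (i : ι) : ∃ (n N : ℕ) (Φ : T →ₗ[A] (Fin n → A)) (Ψ : (Fin n → A) →ₗ[A] T),
    ∀ x, Ψ (Φ x) = g i ^ N • x := by
  let Ac := Localization.Away (g i)
  let Tc := Localization.Away (algebraMap A T (g i))
  let _ := (awayStr A T (g i)).toAlgebra
  have : IsScalarTower A Ac Tc := IsScalarTower.of_algebraMap_eq fun a => by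
    rw [IsScalarTower.algebraMap_apply A T Tc]
    exact ((IsLocalization.map_eq (Q := Tc) (S := Ac) (M := Submonoid.powers (g i)) _ a) :
      (awayStr A T (g i)) (algebraMap A Ac a) = _).symm
  have : Algebra.Etale Ac Tc :=
    RingHom.etale_algebraMap.mp (by rw [RingHom.algebraMap_toAlgebra]; exact hT.etale i)
  have : Module.Finite Ac Tc :=
    RingHom.finite_algebraMap.mp (by rw [RingHom.algebraMap_toAlgebra]; exact hT.finite i)
  have : Module.FinitePresentation Ac Tc := Module.finitePresentation_of_finite Ac Tc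
  have : Module.Projective Ac Tc := Module.Flat.projective_of_finitePresentation
  have := isLocalizedModule_away (M := T) (g i) (R := Tc)
  exact exists_factor' (M := T) (g i) (Af := Ac) (M' := Tc) (IsScalarTower.toAlgHom A T Tc).toLinearMap

include F hT in
theorem sep_sections (x : T) (hx : ∀ k i, toLq J T (g i) k x = 0) : x = 0 := by
  refine hT.sep x fun i => ?_
  obtain ⟨n, N, Φ, Ψ, hΨΦ⟩ := exists_factor_sec hT i
  refine ⟨N, ?_⟩
  have h0 : Φ x = 0 := funext fun j =>
    F.sep _ fun k i => InLoc.coord (InLoc.map_smul_top Φ (toLq_eq_zero.mp (hx k i))) j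
  rw [← hΨΦ, h0, map_zero]

include F hT in
theorem sep_sections' (x y : T) (h : ∀ k i, 1 ≤ k → toLq J T (g i) k x = toLq J T (g i) k y) :
    x = y := by
  refine sub_eq_zero.mp (F.sep_sections hT _ fun k i => ?_)
  rcases Nat.eq_zero_or_pos k with rfl | hk
  · have := h 1 i le_rfl
    rw [← lqRed_toLq (g i) (Nat.zero_le 1), map_sub, this, sub_self, map_zero]
  · rw [map_sub, h k i hk, sub_self]

variable [Finite ι] [IsAdicComplete (IsLocalRing.maximalIdeal A) A]
variable [∀ i, Algebra.FormallyEtale A (Localization.Away (algebraMap A S (g i)))]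

include F hT in
omit [Finite ι] [IsAdicComplete (IsLocalRing.maximalIdeal A) A] in
theorem hom_unique {ν ν' : S →ₐ[A] T}
    (h : ∀ i, (toLq J T (g i) 1).comp ν = (toLq J T (g i) 1).comp ν') : ν = ν' := by
  refine AlgHom.ext fun b => F.sep_sections' hT _ _ fun k i hk => ?_
  refine AlgHom.congr_fun (lift_unique_lq (S := S) (dvd_refl (g i)) hk
    (ψ₁ := (toLq J T (g i) k).comp ν) (ψ₂ := (toLq J T (g i) k).comp ν') ?_) b
  rw [← AlgHom.comp_assoc, ← AlgHom.comp_assoc, lqRed_comp_toLq, h i]

include F hT in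
theorem exists_hom (φ : ∀ i, S →ₐ[A] Lq J T (g i) 1)
    (hφ : ∀ i j, (lqRes J T (dvd_mul_right (g i) (g j)) 1).comp (φ i) =
      (lqRes J T (dvd_mul_left (g j) (g i)) 1).comp (φ j)) :
    ∃ ν : S →ₐ[A] T, ∀ i, (toLq J T (g i) 1).comp ν = φ i := by
  choose ψ hψ using fun (i : ι) (k : ℕ) (hk : 1 ≤ k) => exists_lift_lq (φ i) hk
  have hred : ∀ i k l (hk : 1 ≤ k) (hl : 1 ≤ l) (hkl : k ≤ l),
      (lqRed J T (g i) hkl).comp (ψ i l hl) = ψ i k hk := fun i k l hk hl hkl =>
    lift_unique_lq (S := S) (dvd_refl (g i)) hk (by rw [← AlgHom.comp_assoc, lqRed_lqRed, hψ, hψ])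
  have hcompat : ∀ i j l (hl : 1 ≤ l), (lqRes J T (dvd_mul_right (g i) (g j)) l).comp (ψ i l hl) =
      (lqRes J T (dvd_mul_left (g j) (g i)) l).comp (ψ j l hl) := fun i j l hl =>
    lift_unique_lq (S := S) (dvd_mul_right (g i) (g j)) hl (by
      rw [← AlgHom.comp_assoc, ← AlgHom.comp_assoc, lqRed_comp_lqRes, lqRed_comp_lqRes,
        AlgHom.comp_assoc, AlgHom.comp_assoc, hψ, hψ, hφ])
  -- the value at `b`, up to a power of `g i₀`
  have key : ∀ (i₀ : ι) (b : S), ∃ (N : ℕ) (x : T), ∀ i k (hk : 1 ≤ k),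
      toLq J T (g i) k x = algebraMap A _ (g i₀) ^ N * ψ i k hk b := by
    intro i₀ b
    obtain ⟨n, N, Φ, Ψ, hΨΦ⟩ := exists_factor_sec hT i₀
    have step : ∀ k : ℕ, ∃ v : Fin n → A, ∀ i (hk : 1 ≤ k),
        toLq J T (g i) k (Ψ v) = algebraMap A _ (g i₀) ^ N * ψ i k hk b := by
      intro k
      rcases Nat.eq_zero_or_pos k with rfl | hk
      · exact ⟨0, fun i hk => absurd hk (by omega)⟩
      obtain ⟨l, hkl, hl⟩ := F.lift k
      choose e x hx using fun i => exists_rep (ψ i l (hk.trans_le hkl) b)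
      obtain ⟨e₀, he₀⟩ := Finite.exists_le e
      let X : ι → T := fun i => g i ^ (e₀ - e i) • x i
      have hX : ∀ i, algebraMap A _ (g i) ^ e₀ * ψ i l (hk.trans_le hkl) b = toLq J T (g i) l (X i) := by
        intro i
        rw [toLq_smul, ← hx i, map_pow, ← mul_assoc, ← pow_add,
          Nat.sub_add_cancel (he₀ i)]
      have hov : ∀ i j, InLoc (J ^ l • (⊤ : Submodule A T)) (g i * g j)
          (g j ^ e₀ • X i - g i ^ e₀ • X j) := by
        intro i j
        refine toLq_eq_zero.mp ?_
        have h1 := congrArg (lqRes J T (dvd_mul_right (g i) (g j)) l) (hX i)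
        have h2 := congrArg (lqRes J T (dvd_mul_left (g j) (g i)) l) (hX j)
        rw [map_mul, map_pow, AlgHom.commutes, ← AlgHom.comp_apply _ (toLq J T (g i) l),
          lqRes_comp_toLq] at h1
        rw [map_mul, map_pow, AlgHom.commutes, ← AlgHom.comp_apply _ (toLq J T (g j) l),
          lqRes_comp_toLq] at h2
        rw [← AlgHom.comp_apply (lqRes J T _ l) (ψ i l _), hcompat i j] at h1
        rw [← AlgHom.comp_apply (lqRes J T _ l) (ψ j l _)] at h2
        rw [map_sub, toLq_smul (g j ^ e₀) (X i), toLq_smul (g i ^ e₀) (X j), ← h1, ← h2, map_pow, map_pow]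
        ring
      choose a ha using fun c => hl e₀ (fun i => Φ (X i) c) fun i j => by
        have := InLoc.coord (InLoc.map_smul_top Φ (hov i j)) c
        simpa [map_sub, map_smul] using this
      refine ⟨a, fun i _ => ?_⟩
      have h1 : InLoc (J ^ k • (⊤ : Submodule A T)) (g i)
          (Ψ (g i ^ e₀ • a - Φ (X i))) := InLoc.map_coords Ψ fun c => by simpa using ha c i
      rw [map_sub, map_smul, hΨΦ] at h1
      have h2 := toLq_eq_zero.mpr h1
      rw [map_sub, toLq_smul, toLq_smul, map_pow, map_pow, sub_eq_zero, ← lqRed_toLq (g i) hkl (X i), ← hX i, map_mul, map_pow, AlgHom.commutes,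
        ← AlgHom.comp_apply (lqRed J T (g i) hkl), hred i k l hk] at h2
      refine ((isUnit_lq J T (g i) k).pow e₀).mul_left_cancel (h2.trans ?_)
      ring
    choose v hv using step
    have hcauchy : ∀ k k', k ≤ k' → ∀ i (c : Fin n),
        InLoc (J ^ k : Submodule A A) (g i) (Φ (Ψ (v k')) c - Φ (Ψ (v k)) c) := by
      intro k k' hkk' i c
      have h0 : toLq J T (g i) k (Ψ (v k') - Ψ (v k)) = 0 := by
        rcases Nat.eq_zero_or_pos k with rfl | hk
        · have : Subsingleton (Lq J T (g i) 0) :=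
            Ideal.Quotient.subsingleton_iff.mpr (by rw [pow_zero, Ideal.one_eq_top, Ideal.map_top])
          exact Subsingleton.elim _ _
        rw [map_sub, hv k i hk, ← lqRed_toLq (g i) hkk' (Ψ (v k')), hv k' i (hk.trans_le hkk'),
          map_mul, map_pow, AlgHom.commutes, ← AlgHom.comp_apply (lqRed J T (g i) hkk'),
          hred i k k' hk, sub_self]
      have := InLoc.coord (InLoc.map_smul_top Φ (toLq_eq_zero.mp h0)) c
      simpa [map_sub] using this
    choose y hy using fun c => F.exists_limit (fun k => Φ (Ψ (v k)) c)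
      fun k k' h i => hcauchy k k' h i c
    refine ⟨N + N, Ψ y, fun i k hk => ?_⟩
    have h1 := toLq_eq_zero.mpr (InLoc.map_coords Ψ (v := y - Φ (Ψ (v k))) (c := g i) (I := J ^ k)
      fun c => hy c k i)
    rw [map_sub, hΨΦ, map_sub, toLq_smul, sub_eq_zero, map_pow, hv k i hk] at h1
    rw [h1, pow_add, mul_assoc]
  have val : ∀ b : S, ∃ m : T, ∀ i k (hk : 1 ≤ k), toLq J T (g i) k m = ψ i k hk b := by
    intro b
    choose N x hx using fun i₀ => key i₀ b
    obtain ⟨N₀, hN₀⟩ := Finite.exists_le N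
    let X : ι → T := fun i₀ => g i₀ ^ (N₀ - N i₀) • x i₀
    have hX : ∀ i₀ i k (hk : 1 ≤ k),
        toLq J T (g i) k (X i₀) = algebraMap A _ (g i₀) ^ N₀ * ψ i k hk b := by
      intro i₀ i k hk
      rw [toLq_smul, hx i₀ i k hk, map_pow, ← mul_assoc, ← pow_add,
        Nat.sub_add_cancel (hN₀ i₀)]
    obtain ⟨m, hm⟩ := hT.glue N₀ X fun i j => F.sep_sections' hT _ _ fun k i' hk => by
      rw [toLq_smul (g j ^ N₀) (X i), toLq_smul (g i ^ N₀) (X j), hX i i' k hk, hX j i' k hk, map_pow, map_pow]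
      ring
    refine ⟨m, fun i k hk => ((isUnit_lq J T (g i) k).pow N₀).mul_left_cancel ?_⟩
    rw [← hX i i k hk, ← hm i, toLq_smul, map_pow]
  choose ν hν using val
  refine ⟨⟨⟨⟨⟨ν, ?_⟩, ?_⟩, ?_, ?_⟩, ?_⟩, fun i => AlgHom.ext fun b => ?_⟩
  · exact F.sep_sections' hT _ _ fun k i hk => by rw [hν 1 i k hk, map_one, map_one]
  · intro a b
    exact F.sep_sections' hT _ _ fun k i hk => by
      rw [hν (a * b) i k hk, map_mul (toLq J T (g i) k), hν a i k hk, hν b i k hk, map_mul]
  · exact F.sep_sections' hT _ _ fun k i hk => by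
      show toLq J T (g i) k (ν 0) = _
      rw [hν 0 i k hk, map_zero, map_zero]
  · intro a b
    exact F.sep_sections' hT _ _ fun k i hk => by
      show toLq J T (g i) k (ν (a + b)) = toLq J T (g i) k (ν a + ν b)
      rw [hν (a + b) i k hk, map_add (toLq J T (g i) k), hν a i k hk, hν b i k hk, map_add]
  · intro r
    exact F.sep_sections' hT _ _ fun k i hk => by
      show toLq J T (g i) k (ν (algebraMap A S r)) = _
      rw [hν _ i k hk, AlgHom.commutes, AlgHom.commutes]
  · refine (hν b i 1 le_rfl).trans ?_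
    have h := AlgHom.congr_fun (hψ i 1 le_rfl) b
    rw [show lqRed J T (g i) (le_refl 1) = AlgHom.id A _ from lq_hom_ext (lqRed_comp_toLq _ _)] at h
    exact h

end FormalSys

end Groth.Agent.Pure83
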