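import Groth.Agent.Pure83.Formal
import Groth.Agent.Pure83.Gen
import Groth.Agent.Pure83.Extend
import Groth.Agent.EGA4Alg4.CMMod

/-!
# Formal functions: the two basic examples
-/

universe u

namespace Groth.Agent.Pure83

variable {A : Type u} [CommRing A] [IsLocalRing A] [IsNoetherianRing A]
variable {ι : Type} {g : ι → A}

omit [IsLocalRing A] [IsNoetherianRing A] in
theorem RegMod.sup_pow {I : Ideal A} {x y : A} (hx : RegMod I x)
    (hy : RegMod (I ⊔ Ideal.span {x}) y) (n : ℕ) : RegMod (I ⊔ Ideal.span {x ^ n}) y := by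
  induction n with
  | zero => intro a _; simp
  | succ n ih =>
    intro a ha
    have h1 : a ∈ I ⊔ Ideal.span {x ^ n} := ih a (SetLike.le_def.mp
      (sup_le_sup_left (Ideal.span_singleton_le_span_singleton.mpr (pow_dvd_pow x n.le_succ)) _) ha)
    obtain ⟨j, hj, w, hw, rfl⟩ := Submodule.mem_sup.mp h1
    obtain ⟨r, rfl⟩ := Ideal.mem_span_singleton'.mp hw
    obtain ⟨j', hj', w', hw', he⟩ := Submodule.mem_sup.mp ha
    obtain ⟨s, rfl⟩ := Ideal.mem_span_singleton'.mp hw'
    have h2 : x ^ n * (y * r - x * s) ∈ I := by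
      have : x ^ n * (y * r - x * s) = j' - y * j := by linear_combination -he
      rw [this]
      exact Ideal.sub_mem _ hj' (Ideal.mul_mem_left _ _ hj)
    have h3 : r ∈ I ⊔ Ideal.span {x} := hy r (by
      rw [show y * r = (y * r - x * s) + s * x by ring]
      exact Submodule.add_mem_sup (hx.pow n _ h2) (Ideal.mem_span_singleton'.mpr ⟨s, rfl⟩))
    obtain ⟨j'', hj'', w'', hw'', rfl⟩ := Submodule.mem_sup.mp h3
    obtain ⟨t, rfl⟩ := Ideal.mem_span_singleton'.mp hw''
    rw [show j + (j'' + t * x) * x ^ n = (j + j'' * x ^ n) + t * x ^ (n + 1) by ring]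
    exact Submodule.add_mem_sup (Ideal.add_mem _ hj (Ideal.mul_mem_right _ _ hj''))
      (Ideal.mem_span_singleton'.mpr ⟨t, rfl⟩)

omit [IsLocalRing A] [IsNoetherianRing A] in
theorem exists_lift_of_regPair {I : Ideal A} (i0 i1 : ι) (hx : RegMod I (g i0))
    (hy : RegMod (I ⊔ Ideal.span {g i0}) (g i1)) (e : ℕ) (a : ι → A)
    (h : ∀ i j, InLoc (I : Submodule A A) (g i * g j) (g j ^ e • a i - g i ^ e • a j)) :
    ∃ r : A, ∀ i, InLoc (I : Submodule A A) (g i) (g i ^ e • r - a i) := by
  obtain ⟨N, hN⟩ := h i0 i1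
  simp only [smul_eq_mul] at hN
  have h1 : g i1 ^ N * (g i1 ^ e * a i0 - g i0 ^ e * a i1) ∈ I := hx.pow N _ (by
    rwa [← mul_assoc, ← mul_pow])
  have h2 : g i1 ^ (N + e) * a i0 ∈ I ⊔ Ideal.span {g i0 ^ e} := by
    rw [show g i1 ^ (N + e) * a i0 = g i1 ^ N * (g i1 ^ e * a i0 - g i0 ^ e * a i1) +
      (g i1 ^ N * a i1) * g i0 ^ e by ring]
    exact Submodule.add_mem_sup h1 (Ideal.mem_span_singleton'.mpr ⟨_, rfl⟩)
  obtain ⟨u, hu, w, hw, he⟩ := Submodule.mem_sup.mp ((hx.sup_pow hy e).pow (N + e) _ h2)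
  obtain ⟨r, rfl⟩ := Ideal.mem_span_singleton'.mp hw
  refine ⟨r, fun i => ?_⟩
  obtain ⟨n, hn⟩ := h i i0
  simp only [smul_eq_mul] at hn
  refine ⟨n, ?_⟩
  simp only [smul_eq_mul]
  refine hx.pow (n + e) _ ?_
  rw [show g i0 ^ (n + e) * (g i ^ n * (g i ^ e * r - a i)) =
    -((g i * g i0) ^ n * (g i0 ^ e * a i - g i ^ e * a i0)) - g i0 ^ n * g i ^ (n + e) * u by
      rw [← he]; ring]
  exact Ideal.sub_mem _ (Submodule.neg_mem _ hn) (Ideal.mul_mem_left _ _ hu)

/-- Uniform regular pairs modulo all powers of `J`. -/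
theorem formalSys_of_regPair {J : Ideal A} (hJ : J ≠ ⊤) (i0 i1 : ι)
    (hx : ∀ k, RegMod (J ^ k) (g i0)) (hy : ∀ k, RegMod (J ^ k ⊔ Ideal.span {g i0}) (g i1)) :
    FormalSys g J where
  lift k := ⟨k, le_rfl, exists_lift_of_regPair i0 i1 (hx k) (hy k)⟩
  sep a ha := by
    have : a ∈ ⨅ k : ℕ, J ^ k := Submodule.mem_iInf _ |>.mpr fun k => by
      obtain ⟨n, hn⟩ := ha k i0
      exact (hx k).pow n _ hn
    rwa [Ideal.iInf_pow_eq_bot_of_isLocalRing _ hJ, Submodule.mem_bot] at this

omit [IsLocalRing A] in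
theorem exists_torsion_bound (f : A) : ∃ d : ℕ, ∀ (a : A) (n : ℕ), f ^ n * a = 0 → f ^ d * a = 0 := by
  let T : ℕ →o Ideal A :=
    ⟨fun n => (⊥ : Ideal A).colon ({f ^ n} : Set A), fun m n hmn a ha => by
      rw [Submodule.mem_colon_singleton, Submodule.mem_bot, smul_eq_mul] at ha ⊢
      rw [← Nat.sub_add_cancel hmn, pow_add, mul_left_comm, ha, mul_zero]⟩
  obtain ⟨d, hd⟩ := monotone_stabilizes_iff_noetherian.mpr inferInstance T
  refine ⟨d, fun a n h => ?_⟩
  have h1 : a ∈ T (max d n) := T.monotone (le_max_right d n) (by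
    show a ∈ (⊥ : Ideal A).colon ({f ^ n} : Set A)
    rw [Submodule.mem_colon_singleton, Submodule.mem_bot, smul_eq_mul, mul_comm, h])
  rw [← hd _ (le_max_left d n)] at h1
  rw [mul_comm]
  have h2 : a ∈ (⊥ : Ideal A).colon ({f ^ d} : Set A) := h1
  rwa [Submodule.mem_colon_singleton, Submodule.mem_bot, smul_eq_mul] at h2

theorem sep_of_depth_three (h3 : (3 : ℕ∞) ≤ LocCoh.depth A A) {f : A}
    (hf : f ∈ IsLocalRing.maximalIdeal A) (hcov : CoversPunctured g) (a : A)
    (ha : ∀ k i, InLoc (Ideal.span {f} ^ k : Submodule A A) (g i) a) : a = 0 := by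
  by_contra hne
  obtain ⟨p, hp, hle⟩ := exists_le_isAssociatedPrime_of_isNoetherianRing A a hne
  have hdim : (3 : WithBot ℕ∞) ≤ ringKrullDim (A ⧸ p) :=
    (WithBot.coe_le_coe.mpr h3).trans (EGA4Alg4.depth_le_ringKrullDim_quotient hp)
  have hptop : p ≠ ⊤ := hp.isPrime.ne_top
  -- a prime containing `p` and `f`, other than the maximal ideal
  obtain ⟨q, hq, hpq, hfq, hqm⟩ : ∃ q : Ideal A, q.IsPrime ∧ p ≤ q ∧ f ∈ q ∧
      q ≠ IsLocalRing.maximalIdeal A := by
    have := Ideal.Quotient.nontrivial_iff.mpr hptop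
    have : IsLocalRing (A ⧸ p) :=
      IsLocalRing.of_surjective' (Ideal.Quotient.mk p) Ideal.Quotient.mk_surjective
    have hfm : Ideal.Quotient.mk p f ∈ IsLocalRing.maximalIdeal (A ⧸ p) :=
      fun h => hf ((IsLocalHom.of_surjective _ Ideal.Quotient.mk_surjective).map_nonunit f h)
    obtain ⟨q0, hq0⟩ := Ideal.nonempty_minimalPrimes (I := Ideal.span {Ideal.Quotient.mk p f})
      (ne_top_of_le_ne_top (IsLocalRing.maximalIdeal.isMaximal (A ⧸ p)).ne_top
        ((Ideal.span_singleton_le_iff_mem _).mpr hfm))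
    have := hq0.1.1
    have hh := Ideal.height_le_one_of_isPrincipal_of_mem_minimalPrimes
      (Ideal.span {Ideal.Quotient.mk p f}) q0 hq0
    refine ⟨q0.comap (Ideal.Quotient.mk p), inferInstance, ?_, ?_, ?_⟩
    · exact (Ideal.mk_ker (I := p)).symm.le.trans (Ideal.comap_mono bot_le)
    · exact hq0.1.2 (Ideal.mem_span_singleton_self _)
    · intro e
      have e' : q0 = IsLocalRing.maximalIdeal (A ⧸ p) :=
        Ideal.comap_injective_of_surjective _ Ideal.Quotient.mk_surjective (e.trans
          (IsLocalRing.eq_maximalIdeal (Ideal.comap_isMaximal_of_surjective _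
            Ideal.Quotient.mk_surjective)).symm)
      rw [e'] at hh
      rw [← IsLocalRing.maximalIdeal_height_eq_ringKrullDim] at hdim
      exact absurd (hdim.trans (WithBot.coe_le_coe.mpr hh)) (by decide)
  obtain ⟨i, hi⟩ := hcov ⟨q, hq⟩ hqm
  let Aq := Localization.AtPrime q
  have h0 : algebraMap A Aq a ∈ ⨅ k : ℕ, ((Ideal.span {f}).map (algebraMap A Aq)) ^ k := by
    refine Submodule.mem_iInf _ |>.mpr fun k => ?_
    obtain ⟨n, hn⟩ := ha k i
    have := Ideal.mem_map_of_mem (algebraMap A Aq) hn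
    rw [smul_eq_mul, map_mul, Ideal.map_pow, map_pow] at this
    exact (Ideal.unit_mul_mem_iff_mem _ (IsUnit.pow n
      (IsLocalization.map_units Aq (⟨g i, hi⟩ : q.primeCompl)))).mp this
  rw [Ideal.iInf_pow_eq_bot_of_isLocalRing _ (ne_top_of_le_ne_top
    (IsLocalRing.maximalIdeal.isMaximal Aq).ne_top ((Ideal.map_le_iff_le_comap).mpr (by
      show _ ≤ Ideal.comap (algebraMap A (Localization.AtPrime q)) _
      rw [← Ideal.under_def, IsLocalization.AtPrime.under_maximalIdeal Aq q]; exact (Ideal.span_singleton_le_iff_mem _).mpr hfq))),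
    Submodule.mem_bot] at h0
  obtain ⟨⟨s, hs⟩, hsa⟩ := (IsLocalization.map_eq_zero_iff q.primeCompl Aq a).mp h0
  refine hs (hpq (hle ?_))
  rw [Submodule.mem_colon_singleton, Submodule.mem_bot]
  exact hsa

/-- Depth at least three: any element gives a formal system. -/
theorem formalSys_of_depth_three (h3 : (3 : ℕ∞) ≤ LocCoh.depth A A) {f : A}
    (hf : f ∈ IsLocalRing.maximalIdeal A) [Finite ι] (hcov : CoversPunctured g)
    (hreg : ∀ i, IsSMulRegular A (g i)) (i0 i1 : ι) (hy : RegMod (Ideal.span {g i0}) (g i1))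
    (z : A) (hz : RegMod (Ideal.span {g i0, g i1}) z)
    (hzrad : z ∈ (Ideal.span (Set.range g)).radical) : FormalSys g (Ideal.span {f}) where
  sep := sep_of_depth_three h3 hf hcov
  lift k := by
    obtain ⟨d, hd⟩ := exists_torsion_bound f
    refine ⟨k + d, Nat.le_add_right k d, fun e a ha => ?_⟩
    have := Fintype.ofFinite ι
    let G := ∏ i, g i
    have hGreg : IsSMulRegular A G :=
      Finset.prod_induction g (IsSMulRegular A) (fun a b => IsSMulRegular.mul) (IsSMulRegular.one A)
        fun i _ => hreg i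
    let R := Localization.Away G
    have hinj : Function.Injective (algebraMap A R) :=
      IsLocalization.injective (M := Submonoid.powers G) R fun a ⟨j, e⟩ => e ▸
        mem_nonZeroDivisors_iff_right.mpr fun b hb => (hGreg.pow j).right_eq_zero_of_smul
          (by show G ^ j * b = 0; rwa [mul_comm])
    have hu : ∀ i, IsUnit (algebraMap A R (g i)) := fun i => isUnit_of_dvd_unit
      (map_dvd _ (Finset.dvd_prod_of_mem g (Finset.mem_univ i)))
      (IsLocalization.Away.algebraMap_isUnit G)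
    choose v hv using fun i => (hu i).exists_left_inv
    let af := algebraMap A R f
    let s : ι → R := fun i => algebraMap A R (a i) * v i ^ e
    have hs : ∀ i, InLoc (1 : Submodule A R) (g i) (s i) := fun i => ⟨e, Submodule.mem_one.mpr ⟨a i, by
      rw [Algebra.smul_def, map_pow, show s i = algebraMap A R (a i) * v i ^ e from rfl,
        mul_left_comm, ← mul_pow, mul_comm (algebraMap A R (g i)), hv, one_pow, mul_one]⟩⟩
    have hdiff : ∀ i j, ∃ c : R, InLoc (1 : Submodule A R) (g i * g j) c ∧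
        s i - s j = af ^ (k + d) * c := by
      intro i j
      obtain ⟨n, hn⟩ := ha i j
      rw [Ideal.span_singleton_pow] at hn
      obtain ⟨c, hc⟩ := Ideal.mem_span_singleton.mp hn
      refine ⟨algebraMap A R c * (v i * v j) ^ (n + e), ⟨n + e, Submodule.mem_one.mpr ⟨c, ?_⟩⟩, ?_⟩
      · rw [Algebra.smul_def, map_pow, map_mul, mul_left_comm, ← mul_pow]
        rw [show algebraMap A R (g i) * algebraMap A R (g j) * (v i * v j) = 1 by
          linear_combination (algebraMap A R (g j) * v j) * hv i + hv j, one_pow, mul_one]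
      · have hc' := congrArg (algebraMap A R) hc
        simp only [smul_eq_mul, map_mul, map_sub, map_pow] at hc'
        refine ((hu i).mul (hu j)).pow (n + e) |>.mul_left_cancel ?_
        have h1 : (algebraMap A R (g i) * v i) ^ e = 1 := by rw [mul_comm, hv, one_pow]
        have h2 : (algebraMap A R (g j) * v j) ^ e = 1 := by rw [mul_comm, hv, one_pow]
        have h3 : ((algebraMap A R (g i) * algebraMap A R (g j)) * (v i * v j)) ^ (n + e) = 1 := by
          rw [show algebraMap A R (g i) * algebraMap A R (g j) * (v i * v j) = 1 by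
            linear_combination (algebraMap A R (g j) * v j) * hv i + hv j, one_pow]
        simp only [s, af]
        linear_combination hc' +
          ((algebraMap A R (g i) * algebraMap A R (g j)) ^ n * algebraMap A R (g j) ^ e *
            algebraMap A R (a i)) * h1 -
          ((algebraMap A R (g i) * algebraMap A R (g j)) ^ n * algebraMap A R (g i) ^ e *
            algebraMap A R (a j)) * h2 -
          (algebraMap A R f ^ (k + d) * algebraMap A R c) * h3
    choose c hcloc hc using hdiff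
    have htors : ∀ z : R, af ^ (k + d) * z = 0 → af ^ d * z = 0 := by
      intro z hz
      obtain ⟨⟨x, _, m, rfl⟩, hx⟩ := IsLocalization.surj (Submonoid.powers G) z
      have h1 : f ^ (k + d) * x = 0 := hinj (by
        rw [map_mul, map_pow, ← hx, ← mul_assoc, hz, zero_mul, map_zero])
      have h2 := congrArg (algebraMap A R) (hd x _ h1)
      rw [map_mul, map_pow, ← hx, ← mul_assoc, map_zero] at h2
      exact (IsLocalization.map_units R (⟨G ^ m, m, rfl⟩ : Submonoid.powers G)).mul_left_eq_zero.mp h2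
    let u : ι → R := fun i => af ^ d * c i i0
    have hu' : ∀ i j, InLoc (1 : Submodule A R) (g i * g j) (u i - u j) := fun i j => by
      have : u i - u j = f ^ d • c i j := by
        rw [Algebra.smul_def, map_pow]
        refine sub_eq_zero.mp ?_
        rw [show u i - u j - af ^ d * c i j = af ^ d * (c i i0 - c j i0 - c i j) by ring]
        exact htors _ (by linear_combination -(hc i i0) + hc j i0 + hc i j)
      rw [this]
      exact (hcloc i j).smul _
    obtain ⟨w, hw⟩ := h1Prop_base hinj g hu i0 i1 (hreg i0) hy z hz hzrad u hu'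
    simp only [one_smul] at hw
    let σ : R := s i0 + af ^ k * w
    have hσi : ∀ i, σ = s i - f ^ k • (u i - w) := fun i => by
      rw [Algebra.smul_def, map_pow]
      show s i0 + af ^ k * w = s i - af ^ k * (af ^ d * c i i0 - w)
      linear_combination -(hc i i0)
    have hσ : ∀ i, InLoc (1 : Submodule A R) (g i) σ := fun i =>
      hσi i ▸ (hs i).sub ((hw i).smul _)
    obtain ⟨x, hx⟩ := Submodule.mem_one.mp
      (h0Prop_base hinj g i0 i1 (hu i0) (hreg i0) hy σ hσ)
    refine ⟨x, fun i => ?_⟩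
    obtain ⟨n, hn⟩ := hw i
    obtain ⟨b, hb⟩ := Submodule.mem_one.mp hn
    refine ⟨n, ?_⟩
    rw [Ideal.span_singleton_pow]
    refine Ideal.mem_span_singleton.mpr ⟨-(g i ^ e * b), hinj ?_⟩
    rw [Algebra.smul_def, map_pow] at hb
    simp only [smul_eq_mul, map_mul, map_sub, map_pow, map_neg, hx, hb]
    have h2 := hσi i
    rw [Algebra.smul_def, map_pow] at h2
    have h1 : (algebraMap A R (g i) * v i) ^ e = 1 := by rw [mul_comm, hv, one_pow]
    simp only [s] at h2
    linear_combination (algebraMap A R (g i) ^ n * algebraMap A R (g i) ^ e) * h2 +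
      (algebraMap A R (g i) ^ n * algebraMap A R (a i)) * h1

end Groth.Agent.Pure83
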