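import Groth.Agent.Pure83.FormalExtend
import Groth.Agent.Pure83.FormalApps
import Groth.Agent.FEt83.ClopenSections
import Groth.Agent.Hens22.Idempotents
import Groth.Agent.S0335
import Mathlib.RingTheory.Etale.Pi

/-!
# Clopen subsets of covers and their traces
-/

universe u

open CategoryTheory Limits AlgebraicGeometry TopologicalSpace Opposite TensorProduct

namespace Groth.Agent.Pure83

variable {A : Type u} [CommRing A] [IsLocalRing A] [IsNoetherianRing A]

/-- An idempotent defines a map out of `A × A`. -/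
noncomputable def idemHom {B : Type u} [CommRing B] [Algebra A B] (e : B) (he : IsIdempotentElem e) :
    (Fin 2 → A) →ₐ[A] B where
  toFun v := v 0 • e + v 1 • (1 - e)
  map_one' := by simp
  map_mul' v w := by
    simp only [Pi.mul_apply, Algebra.smul_def, map_mul]
    linear_combination (-(algebraMap A B (v 0) - algebraMap A B (v 1)) *
      (algebraMap A B (w 0) - algebraMap A B (w 1))) * he.eq
  map_zero' := by simp
  map_add' v w := by simp only [Pi.add_apply, add_smul]; abel
  commutes' r := by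
    simp only [Pi.algebraMap_apply, Algebra.smul_def, Algebra.algebraMap_self, RingHom.id_apply]
    ring

omit [IsLocalRing A] [IsNoetherianRing A] in
theorem idemHom_single {B : Type u} [CommRing B] [Algebra A B] (e : B) (he : IsIdempotentElem e) :
    idemHom (A := A) e he ![1, 0] = e := by
  show (![1, 0] : Fin 2 → A) 0 • e + (![1, 0] : Fin 2 → A) 1 • (1 - e) = e
  simp

variable {J : Ideal A} {ι : Type} {g : ι → A}

omit [IsLocalRing A] [IsNoetherianRing A] in
/-- Compatible idempotents on the formal neighbourhood come from a global one. -/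
theorem FormalSys.exists_idempotent [IsLocalRing A] [IsNoetherianRing A] [Finite ι]
    [IsAdicComplete (IsLocalRing.maximalIdeal A) A] (F : FormalSys g J) {T : Type u} [CommRing T]
    [Algebra A T] [Module.Finite A T] (hT : IsSectionRing A T g)
    (hg : ∀ i, g i ∈ IsLocalRing.maximalIdeal A) (ε : ∀ i, Lq J T (g i) 1)
    (hε : ∀ i, IsIdempotentElem (ε i))
    (hcomp : ∀ i j, lqRes J T (dvd_mul_right (g i) (g j)) 1 (ε i) =
      lqRes J T (dvd_mul_left (g j) (g i)) 1 (ε j)) :
    ∃ e : T, IsIdempotentElem e ∧ ∀ i, toLq J T (g i) 1 e = ε i := by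
  have : ∀ i, Algebra.FormallyEtale A (Localization.Away (algebraMap A (Fin 2 → A) (g i))) := fun i => by
    have : Algebra.FormallyEtale (Fin 2 → A) (Localization.Away (algebraMap A (Fin 2 → A) (g i))) :=
      Algebra.FormallyEtale.of_isLocalization (Submonoid.powers (algebraMap A (Fin 2 → A) (g i)))
    exact Algebra.FormallyEtale.comp A (Fin 2 → A) _
  obtain ⟨ν, hν⟩ := F.exists_hom (hT.toLoc hg) (fun i => idemHom (ε i) (hε i)) fun i j => AlgHom.ext fun v => by
    show lqRes J T _ 1 (v 0 • ε i + v 1 • (1 - ε i)) = lqRes J T _ 1 (v 0 • ε j + v 1 • (1 - ε j))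
    rw [map_add, map_add, map_smul, map_smul, map_smul, map_smul, map_sub, map_sub, hcomp i j,
      map_one, map_one]
  refine ⟨ν ![1, 0], IsIdempotentElem.map (show IsIdempotentElem (![1, 0] : Fin 2 → A) from ?_) ν,
    fun i => (AlgHom.congr_fun (hν i) _).trans (idemHom_single _ _)⟩
  ext k
  fin_cases k <;> simp

/-- Evaluation of a global function along a map from an affine scheme. -/
noncomputable def evTo {X : Scheme.{u}} {R : Type u} [CommRing R] (k : Spec (CommRingCat.of R) ⟶ X)
    (c : Γ(X, ⊤)) : R :=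
  (Scheme.ΓSpecIso (CommRingCat.of R)).hom (k.appTop c)

omit [IsLocalRing A] [IsNoetherianRing A] in
theorem evTo_map {X : Scheme.{u}} {R R' : Type u} [CommRing R] [CommRing R'] (u : R →+* R')
    (k : Spec (CommRingCat.of R) ⟶ X) (c : Γ(X, ⊤)) :
    evTo (Spec.map (CommRingCat.ofHom u) ≫ k) c = u (evTo k c) :=
  congr($(Scheme.ΓSpecIso_naturality (CommRingCat.ofHom u)) (k.appTop c))

omit [IsLocalRing A] [IsNoetherianRing A] in
theorem mem_basicOpen_evTo {X : Scheme.{u}} {R : Type u} [CommRing R]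
    (k : Spec (CommRingCat.of R) ⟶ X) (c : Γ(X, ⊤)) (x : PrimeSpectrum R) :
    k x ∈ X.basicOpen c ↔ x ∈ PrimeSpectrum.basicOpen (evTo k c) := by
  show (x : Spec (CommRingCat.of R)) ∈ k ⁻¹ᵁ X.basicOpen c ↔ _
  rw [Scheme.preimage_basicOpen_top, basicOpen_eq_of_affine']
  rfl

omit [IsLocalRing A] [IsNoetherianRing A] in
theorem isIdempotentElem_evTo {X : Scheme.{u}} {R : Type u} [CommRing R]
    (k : Spec (CommRingCat.of R) ⟶ X) {c : Γ(X, ⊤)} (hc : IsIdempotentElem c) :
    IsIdempotentElem (evTo k c) :=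
  (hc.map k.appTop.hom).map (Scheme.ΓSpecIso (CommRingCat.of R)).hom.hom

omit [IsLocalRing A] [IsNoetherianRing A] in
/-- A map to an affine scheme, evaluated on functions. -/
theorem evTo_of_comp {X : Scheme.{u}} {M R : Type u} [CommRing M] [CommRing R]
    (T : X ⟶ Spec (CommRingCat.of M)) (k : Spec (CommRingCat.of R) ⟶ X) (q : M →+* R)
    (h : k ≫ T = Spec.map (CommRingCat.ofHom q)) (m : M) :
    evTo k (T.appTop ((Scheme.ΓSpecIso (CommRingCat.of M)).inv m)) = q m := by
  show (Scheme.ΓSpecIso _).hom ((k ≫ T).appTop _) = _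
  rw [h]
  have := congr($(Scheme.ΓSpecIso_inv_naturality (CommRingCat.ofHom q)) m)
  refine (congrArg (Scheme.ΓSpecIso (CommRingCat.of R)).hom this.symm).trans ?_
  exact congr($((Scheme.ΓSpecIso (CommRingCat.of R)).inv_hom_id) (q m))

omit [IsNoetherianRing A] in
set_option backward.isDefEq.respectTransparency.types false in
theorem trIncl_strHom (V : FEt.Cat (FEt.puncturedSpec A : Scheme.{u})) :
    trIncl J V ≫ strHom V =
      ((trCover J V).hom ≫ pullback.snd (FEt.puncturedSpec A).ι (qMap J)) ≫ qMap J := by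
  refine ((Category.assoc _ _ _).symm.trans (congrArg (· ≫ _) pullback.condition)).trans ?_
  refine (Category.assoc _ _ _).trans (Eq.trans ?_ (Category.assoc _ _ _).symm)
  exact congrArg ((trCover J V).hom ≫ ·) pullback.condition

set_option backward.isDefEq.respectTransparency.types false in
/-- Points of the trace lie on the lifts of the basic opens. -/
theorem exists_point_lift (hdepth : (2 : ℕ∞) ≤ LocCoh.depth A A)
    (hcov : CoversPunctured g) (V : FEt.Cat (FEt.puncturedSpec A : Scheme.{u}))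
    (l : ∀ i, Spec (CommRingCat.of (Lq J Γ(V.left, ⊤) (g i) 1)) ⟶ (trCover J V).left)
    (hl : ∀ i, l i ≫ trIncl J V ≫ V.left.toSpecΓ =
      Spec.map (CommRingCat.ofHom (toLq J Γ(V.left, ⊤) (g i) 1).toRingHom))
    (p : (trCover J V).left) : ∃ i x, l i x = p := by
  obtain ⟨i, hi⟩ := hcov (strHom V (trIncl J V p)) ((mem_puncturedSpec_iff _).mp (V.hom (trIncl J V p)).2)
  let K : Type u := (trCover J V).left.residueField p
  let sp : Spec (CommRingCat.of K) ⟶ (trCover J V).left := (trCover J V).left.fromSpecResidueField p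
  have hsp : ∀ x, sp x = p := fun x => Scheme.fromSpecResidueField_apply p x
  let q' := Spec.preimage (sp ≫ trIncl J V ≫ V.left.toSpecΓ)
  let _ : Algebra A K := (q'.hom.comp (secStr V)).toAlgebra
  let qA : Γ(V.left, ⊤) →ₐ[A] K := ⟨q'.hom, fun _ => rfl⟩
  let ψ := Spec.preimage (sp ≫ (trCover J V).hom ≫ pullback.snd (FEt.puncturedSpec A).ι (qMap J))
  have hsq : CommRingCat.ofHom (secStr V) ≫ q' = CommRingCat.ofHom (Ideal.Quotient.mk J) ≫ ψ := by
    refine Spec.map_injective ?_
    rw [Spec.map_comp, Spec.map_comp, Spec.map_preimage, Spec.map_preimage, Category.assoc,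
      Category.assoc, (isPullback_sec V hdepth).w, Category.assoc]
    exact congrArg (sp ≫ ·) (trIncl_strHom V)
  have hJ : ∀ r ∈ J, algebraMap A K r = 0 := fun r hr => by
    refine congr($hsq r).trans ?_
    show ψ.hom (Ideal.Quotient.mk J r) = 0
    rw [Ideal.Quotient.eq_zero_iff_mem.mpr hr, map_zero]
  have hunit : IsUnit (algebraMap A K (g i)) := by
    have hne : algebraMap A K (g i) ≠ 0 := by
      intro h0
      have h1 : Spec.map (CommRingCat.ofHom (algebraMap A K)) = sp ≫ trIncl J V ≫ strHom V := by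
        show Spec.map (CommRingCat.ofHom (secStr V) ≫ q') = _
        rw [Spec.map_comp, Spec.map_preimage, Category.assoc, Category.assoc,
          (isPullback_sec V hdepth).w]
      obtain ⟨x⟩ : Nonempty (PrimeSpectrum K) := inferInstance
      refine hi ?_
      rw [← hsp x]
      have h2 := congr($h1 x)
      show g i ∈ ((sp ≫ trIncl J V ≫ strHom V) x : PrimeSpectrum A).asIdeal
      rw [← h2]
      show algebraMap A K (g i) ∈ (x : PrimeSpectrum K).asIdeal
      rw [h0]
      exact zero_mem _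
    exact isUnit_iff_ne_zero.mpr hne
  let θ := lqLift qA hunit (fun r hr => hJ r (by rwa [pow_one] at hr))
  have hk : Spec.map (CommRingCat.ofHom θ.toRingHom) ≫ l i = sp := by
    have := mono_trIncl (J := J) V
    refine (cancel_mono (trIncl J V ≫ V.left.toSpecΓ)).mp ?_
    refine (Category.assoc _ _ _).trans ((congrArg (_ ≫ ·) (hl i)).trans ?_)
    refine (Spec.map_comp _ _).symm.trans (Eq.trans (congrArg Spec.map ?_) (Spec.map_preimage _))
    ext m
    exact AlgHom.congr_fun (lqLift_comp qA hunit (fun r hr => hJ r (by rwa [pow_one] at hr))) m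
  obtain ⟨x⟩ : Nonempty (PrimeSpectrum K) := inferInstance
  refine ⟨i, Spec.map (CommRingCat.ofHom θ.toRingHom) x, ?_⟩
  rw [← Scheme.Hom.comp_apply, hk]
  exact hsp x

set_option maxHeartbeats 1600000 in
set_option backward.isDefEq.respectTransparency.types false in
/-- The idempotents cut out by a clopen subset of the trace, on the basic opens. -/
theorem exists_lq_idempotents (hdepth : (2 : ℕ∞) ≤ LocCoh.depth A A)
    (hg : ∀ i, g i ∈ IsLocalRing.maximalIdeal A) (hcov : CoversPunctured g)
    (V : FEt.Cat (FEt.puncturedSpec A : Scheme.{u})) (C₀ : Set (trCover J V).left) (hC₀ : IsClopen C₀) :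
    ∃ (ε : ∀ i, Lq J Γ(V.left, ⊤) (g i) 1), (∀ i, IsIdempotentElem (ε i)) ∧
      (∀ i j, lqRes J Γ(V.left, ⊤) (dvd_mul_right (g i) (g j)) 1 (ε i) =
        lqRes J Γ(V.left, ⊤) (dvd_mul_left (g j) (g i)) 1 (ε j)) ∧
      ∀ e : Γ(V.left, ⊤), (∀ i, toLq J Γ(V.left, ⊤) (g i) 1 e = ε i) →
        trIncl J V ⁻¹' (V.left.basicOpen e : Set V.left) = C₀ := by
  obtain ⟨e₀, he₀, hb₀⟩ := FEt83.exists_idempotent_of_isClopen C₀ hC₀
  choose l hl using fun i => exists_trace_lift (J := J) (V := V) hdepth hg
    (toLq J Γ(V.left, ⊤) (g i) 1) lq_zero_one ⟨i, isUnit_lq J _ (g i) 1⟩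
  have hmono := mono_trIncl (J := J) V
  refine ⟨fun i => evTo (l i) e₀, fun i => isIdempotentElem_evTo _ he₀, fun i j => ?_, fun e he => ?_⟩
  · have h : Spec.map (CommRingCat.ofHom (lqRes J Γ(V.left, ⊤) (dvd_mul_right (g i) (g j)) 1).toRingHom) ≫ l i =
        Spec.map (CommRingCat.ofHom (lqRes J Γ(V.left, ⊤) (dvd_mul_left (g j) (g i)) 1).toRingHom) ≫ l j := by
      refine (cancel_mono (trIncl J V ≫ V.left.toSpecΓ)).mp ?_
      refine (Category.assoc _ _ _).trans ((congrArg (_ ≫ ·) (hl i)).trans ?_)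
      refine Eq.trans ?_ ((Category.assoc _ _ _).trans (congrArg (_ ≫ ·) (hl j))).symm
      refine (Spec.map_comp _ _).symm.trans (Eq.trans (congrArg Spec.map ?_) (Spec.map_comp _ _))
      ext m
      exact (AlgHom.congr_fun (lqRes_comp_toLq (dvd_mul_right (g i) (g j)) 1) m).trans
        (AlgHom.congr_fun (lqRes_comp_toLq (dvd_mul_left (g j) (g i)) 1) m).symm
    exact (evTo_map _ (l i) e₀).symm.trans ((congrArg (fun k => evTo k e₀) h).trans (evTo_map _ (l j) e₀))
  · ext p
    obtain ⟨i, x, rfl⟩ := exists_point_lift hdepth hcov V l hl p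
    rw [← hb₀]
    show l i x ∈ trIncl J V ⁻¹ᵁ V.left.basicOpen e ↔ l i x ∈ (trCover J V).left.basicOpen e₀
    rw [Scheme.preimage_basicOpen_top, mem_basicOpen_evTo, mem_basicOpen_evTo]
    have h1 : evTo (l i) ((trIncl J V).appTop e) = toLq J Γ(V.left, ⊤) (g i) 1 e := by
      have h2 := evTo_of_comp _ (l i) _ (hl i) e
      rw [Scheme.Hom.comp_appTop, CommRingCat.comp_apply, Scheme.toSpecΓ_appTop] at h2
      refine Eq.trans ?_ h2
      exact congrArg (fun z => evTo (l i) ((trIncl J V).appTop z))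
        (congr($((Scheme.ΓSpecIso Γ(V.left, ⊤)).inv_hom_id) e)).symm
    rw [h1, he i]

end Groth.Agent.Pure83
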