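import Groth.Agent.Pure83.FormalClopen
import Groth.Agent.FEt83.FullFaithful

/-!
# Full faithfulness of restriction to a closed subscheme of the punctured spectrum
-/

universe u

open CategoryTheory Limits AlgebraicGeometry TopologicalSpace Opposite TensorProduct

namespace Groth.Agent.Pure83

variable {A : Type u} [CommRing A] [IsLocalRing A] [IsNoetherianRing A] {J : Ideal A}

set_option backward.isDefEq.respectTransparency.types false in
/-- Clopens of covers meet the trace. -/
theorem meetsClopens_trace (hdepth : (2 : ℕ∞) ≤ LocCoh.depth A A)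
    (q : PrimeSpectrum A) (hq : q.asIdeal ≠ IsLocalRing.maximalIdeal A) (hJq : J ≤ q.asIdeal) :
    FEt83.MeetsClopens (pullback.fst (FEt.puncturedSpec A).ι (qMap J)) := by
  intro Y C hC hne
  have : IsFinite Y.hom := Y.prop.1
  have : Etale Y.hom := Y.prop.2
  let U : Scheme.{u} := (FEt.puncturedSpec A : Scheme.{u})
  have hU : PreconnectedSpace U :=
    Subtype.preconnectedSpace (by
      have e : ((FEt.puncturedSpec A).carrier : Set (PrimeSpectrum A)) =
          {x : PrimeSpectrum A | x.asIdeal ≠ IsLocalRing.maximalIdeal A} :=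
        Set.ext fun p => mem_puncturedSpec_iff p
      show _root_.IsPreconnected (FEt.puncturedSpec A).carrier
      exact e.symm ▸ (S0335.result A hdepth).isPreconnected)
  have himg : IsClopen (Y.hom '' C) :=
    ⟨Y.hom.isClosedMap _ hC.1, Y.hom.isOpenMap _ hC.2⟩
  have htop : (Y.hom '' C : Set U) = Set.univ := @IsClopen.eq_univ U _ hU _ himg (hne.image _)
  let q0 : U := ⟨q, (mem_puncturedSpec_iff q).mpr hq⟩
  obtain ⟨y, hy, hyq⟩ : q0 ∈ Y.hom '' C := htop ▸ Set.mem_univ q0
  let qJ : Spec (CommRingCat.of (A ⧸ J)) :=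
    (⟨q.asIdeal.map (Ideal.Quotient.mk J), Ideal.map_isPrime_of_surjective Ideal.Quotient.mk_surjective
      (by rwa [Ideal.mk_ker])⟩ : PrimeSpectrum (A ⧸ J))
  have hqJ : qMap J qJ = q := by
    refine PrimeSpectrum.ext ?_
    show (q.asIdeal.map (Ideal.Quotient.mk J)).comap (Ideal.Quotient.mk J) = q.asIdeal
    rw [Ideal.comap_map_of_surjective _ Ideal.Quotient.mk_surjective, ← RingHom.ker_eq_comap_bot,
      Ideal.mk_ker, sup_eq_left]
    exact hJq
  obtain ⟨w, hw, -⟩ := Scheme.Pullback.exists_preimage_pullback (f := (FEt.puncturedSpec A).ι)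
    (g := qMap J) q0 qJ hqJ.symm
  obtain ⟨z, hz, -⟩ := Scheme.Pullback.exists_preimage_pullback (f := Y.hom)
    (g := pullback.fst (FEt.puncturedSpec A).ι (qMap J)) y w (hyq.trans hw.symm)
  exact ⟨z, by rw [hz]; exact hy⟩

/-- Data for the completion. -/
def CompletionSys (J : Ideal A) : Prop :=
  ∀ (C : Type u) [CommRing C] [IsLocalRing C] [IsNoetherianRing C] [Algebra A C]
      [Module.Flat A C], (IsLocalRing.maximalIdeal A).map (algebraMap A C) = IsLocalRing.maximalIdeal C →
      IsAdicComplete (IsLocalRing.maximalIdeal C) C →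
      (2 : ℕ∞) ≤ LocCoh.depth C C ∧ J.map (algebraMap A C) ≤ IsLocalRing.maximalIdeal C ∧
        ∃ (n : ℕ) (g : Fin n → C), (∀ i, g i ∈ IsLocalRing.maximalIdeal C) ∧ CoversPunctured g ∧
          FormalSys g (J.map (algebraMap A C))

omit [IsLocalRing A] [IsNoetherianRing A] in
/-- Idempotents of a finite algebra over a henselian ring descend along tensor products with
algebras having the same residue ring. -/
theorem exists_idempotent_descend {M C : Type u} [CommRing M] [Algebra A M] [Module.Finite A M]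
    [CommRing C] [Algebra A C] (I : Ideal A) [HenselianRing A I]
    (hIC : I.map (algebraMap A C) ≤ Ideal.jacobson ⊥)
    (hsub : ∀ c : C, ∃ a : A, c - algebraMap A C a ∈ I.map (algebraMap A C))
    (hinj : ∀ a : A, algebraMap A C a ∈ I.map (algebraMap A C) → a ∈ I)
    [Module.Finite C (C ⊗[A] M)]
    (ê : C ⊗[A] M) (hê : IsIdempotentElem ê) :
    ∃ e : M, IsIdempotentElem e ∧ (1 : C) ⊗ₜ[A] e = ê := by
  let K : Ideal (C ⊗[A] M) := (I.map (algebraMap A C)).map (algebraMap C (C ⊗[A] M))
  have hK : K ≤ Ideal.jacobson ⊥ := Hens22.map_le_jacobson_of_isIntegral hIC (C ⊗[A] M)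
  have happrox : ∀ z : C ⊗[A] M, ∃ m : M, z - (1 : C) ⊗ₜ[A] m ∈ K := by
    intro z
    induction z using TensorProduct.induction_on with
    | zero => exact ⟨0, by simp⟩
    | tmul c m =>
      obtain ⟨a, ha⟩ := hsub c
      refine ⟨a • m, ?_⟩
      rw [TensorProduct.tmul_smul, TensorProduct.smul_tmul', ← TensorProduct.sub_tmul,
        Algebra.smul_def, mul_one]
      have : (c - algebraMap A C a) ⊗ₜ[A] m = algebraMap C (C ⊗[A] M) (c - algebraMap A C a) * ((1 : C) ⊗ₜ[A] m) := by
        rw [Algebra.TensorProduct.algebraMap_apply, Algebra.TensorProduct.tmul_mul_tmul, one_mul]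
        simp
      rw [this]
      exact Ideal.mul_mem_right _ _ (Ideal.mem_map_of_mem _ ha)
    | add z w hz hw =>
      obtain ⟨m, hm⟩ := hz
      obtain ⟨m', hm'⟩ := hw
      exact ⟨m + m', by rw [TensorProduct.tmul_add, add_sub_add_comm]; exact Ideal.add_mem _ hm hm'⟩
  obtain ⟨m₀, hm₀⟩ := happrox ê
  let ρ : M →ₐ[A] C ⊗[A] M := Algebra.TensorProduct.includeRight
  -- `K` contracts to `I M`
  have hcontract : ∀ x : M, ρ x ∈ K → x ∈ I.map (algebraMap A M) := by
    intro x hx
    let AI := A ⧸ I
    let e1 : C →ₐ[A] A ⧸ I :=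
      { toFun := fun c => Ideal.Quotient.mk I (hsub c).choose
        map_one' := by
          refine Ideal.Quotient.eq.mpr (hinj _ ?_)
          have := neg_mem (hsub 1).choose_spec
          simpa [map_sub] using this
        map_mul' := fun c d => by
          rw [← map_mul]
          refine Ideal.Quotient.eq.mpr (hinj _ ?_)
          have h1 := (hsub (c * d)).choose_spec
          have h2 := (hsub c).choose_spec
          have h3 := (hsub d).choose_spec
          have := Ideal.sub_mem _ (Ideal.add_mem _ (Ideal.mul_mem_right d _ h2)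
            (Ideal.mul_mem_left _ (algebraMap A C (hsub c).choose) h3)) h1
          rw [map_sub, map_mul]
          convert this using 1
          ring
        map_zero' := by
          refine Ideal.Quotient.eq_zero_iff_mem.mpr (hinj _ ?_)
          simpa using neg_mem (hsub 0).choose_spec
        map_add' := fun c d => by
          rw [← map_add]
          refine Ideal.Quotient.eq.mpr (hinj _ ?_)
          have := Ideal.sub_mem _ (Ideal.add_mem _ (hsub c).choose_spec (hsub d).choose_spec)
            (hsub (c + d)).choose_spec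
          rw [map_sub, map_add]
          convert this using 1
          ring
        commutes' := fun a => by
          refine Ideal.Quotient.eq.mpr (hinj _ ?_)
          have := neg_mem (hsub (algebraMap A C a)).choose_spec
          rw [map_sub]
          simpa using this }
    let M0 := M ⧸ I.map (algebraMap A M)
    let q0 : M →ₐ[A] M0 := Ideal.Quotient.mkₐ A _
    let e2 : C →ₐ[A] M0 := (Ideal.Quotient.liftₐ I (Algebra.ofId A M0) (fun a ha => by
      show algebraMap A M0 a = 0
      rw [IsScalarTower.algebraMap_apply A M M0]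
      exact Ideal.Quotient.eq_zero_iff_mem.mpr (Ideal.mem_map_of_mem _ ha))).comp e1
    let r : C ⊗[A] M →ₐ[A] M0 := Algebra.TensorProduct.lift e2 q0 fun _ _ => .all _ _
    have hKr : K ≤ RingHom.ker r := by
      refine Ideal.map_le_iff_le_comap.mpr (Ideal.map_le_iff_le_comap.mpr fun a ha => ?_)
      rw [Ideal.mem_comap, Ideal.mem_comap, RingHom.mem_ker, ← IsScalarTower.algebraMap_apply,
        AlgHom.commutes, IsScalarTower.algebraMap_apply A M M0]
      exact Ideal.Quotient.eq_zero_iff_mem.mpr (Ideal.mem_map_of_mem _ ha)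
    have h := hKr hx
    rw [RingHom.mem_ker] at h
    refine Ideal.Quotient.eq_zero_iff_mem.mp ?_
    refine Eq.trans ?_ h
    show q0 x = r ((1 : C) ⊗ₜ[A] x)
    rw [Algebra.TensorProduct.lift_tmul, map_one, one_mul]
  have hρ : ∀ x, ρ x = (1 : C) ⊗ₜ[A] x := fun _ => rfl
  have he : m₀ * m₀ - m₀ ∈ I.map (algebraMap A M) := hcontract _ (by
    rw [map_sub, map_mul, hρ]
    rw [show (1 : C) ⊗ₜ[A] m₀ * (1 : C) ⊗ₜ[A] m₀ - (1 : C) ⊗ₜ[A] m₀ =
      (ê - (1 : C) ⊗ₜ[A] m₀) * (1 - ê - (1 : C) ⊗ₜ[A] m₀) by linear_combination hê.eq]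
    exact Ideal.mul_mem_right _ _ hm₀)
  obtain ⟨e, he', hee⟩ := Hens22.exists_idempotent_lift I he
  refine ⟨e, he', ?_⟩
  refine Hens22.eq_of_idempotent_of_sub_mem_jacobson (he'.map ρ) hê (hK ?_)
  have h1 : ρ (e - m₀) ∈ K := by
    have := Ideal.mem_map_of_mem (ρ : M →+* C ⊗[A] M) hee
    rw [Ideal.map_map, AlgHom.comp_algebraMap, IsScalarTower.algebraMap_eq A C (C ⊗[A] M),
      ← Ideal.map_map] at this
    exact this
  rw [map_sub, hρ m₀] at h1
  show ρ e - ê ∈ K
  rw [show ρ e - ê = (ρ e - (1 : C) ⊗ₜ[A] m₀) - (ê - (1 : C) ⊗ₜ[A] m₀) by ring]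
  exact Ideal.sub_mem _ h1 hm₀

set_option maxHeartbeats 1600000 in
set_option backward.isDefEq.respectTransparency.types false in
/-- Clopens of traces lift to covers over a henselian base. -/
theorem liftsClopens_trace [HenselianRing A (IsLocalRing.maximalIdeal A)]
    (hdepth : (2 : ℕ∞) ≤ LocCoh.depth A A) (hyp : CompletionSys J) :
    FEt83.LiftsClopens (pullback.fst (FEt.puncturedSpec A).ι (qMap J)) := by
  intro V C₀ hC₀
  let C := AdicCompletion (IsLocalRing.maximalIdeal A) A
  have := faithfullyFlat_completion (A := A)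
  have hm : (IsLocalRing.maximalIdeal A).map (algebraMap A C) = IsLocalRing.maximalIdeal C :=
    AdicCompletion.maximalIdeal_eq_map.symm
  have hc := Cohen12.isAdicComplete_completion A
  have : IsNoetherianRing C := Cohen12.isNoetherianRing_completion A
  obtain ⟨h2, hJ, n, g, hg, hcov, F⟩ := hyp C hm hc
  obtain ⟨a, ha⟩ := exists_puncturedMap (A := A) hm
  let V' := (FEt.restrict a).obj V
  let P := pullback (FEt.puncturedSpec A).ι (descMap A C)
  have hr : Set.range (pullback.snd (FEt.puncturedSpec A).ι (descMap A C)) =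
      Set.range (FEt.puncturedSpec C).ι := by
    rw [IsOpenImmersion.range_pullbackSnd, Scheme.Opens.opensRange_ι, Scheme.Opens.range_ι]
    ext q
    show descMap A C q ∈ FEt.puncturedSpec A ↔ q ∈ FEt.puncturedSpec C
    refine Iff.trans (mem_puncturedSpec_iff _) (Iff.trans (not_congr ?_) (mem_puncturedSpec_iff _).symm)
    refine ⟨fun e => ((IsLocalRing.maximalIdeal.isMaximal C).eq_of_le
      (q : PrimeSpectrum C).isPrime.ne_top (hm ▸ Ideal.map_le_iff_le_comap.mpr e.ge)).symm, fun e => ?_⟩
    refine ((IsLocalRing.maximalIdeal.isMaximal A).eq_of_le (descMap A C q : PrimeSpectrum A).isPrime.ne_top ?_).symm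
    show _ ≤ Ideal.comap (algebraMap A C) (q : PrimeSpectrum C).asIdeal
    rw [e, ← hm]
    exact Ideal.le_comap_map
  let j := IsOpenImmersion.isoOfRangeEq (pullback.snd (FEt.puncturedSpec A).ι (descMap A C))
    (FEt.puncturedSpec C).ι hr
  have hj : j.hom ≫ (FEt.puncturedSpec C).ι = pullback.snd (FEt.puncturedSpec A).ι (descMap A C) :=
    IsOpenImmersion.isoOfRangeEq_hom_fac _ _ _
  have hfst : j.hom ≫ a = pullback.fst (FEt.puncturedSpec A).ι (descMap A C) := by
    refine (cancel_mono (FEt.puncturedSpec A).ι).mp ?_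
    rw [Category.assoc, ha, ← Category.assoc, hj]
    exact pullback.condition.symm
  -- the sections of the pulled back cover
  let P' := pullback V.hom (pullback.fst (FEt.puncturedSpec A).ι (descMap A C))
  let κ : P' ⟶ V'.left := pullback.map _ _ _ _ (𝟙 _) j.hom (𝟙 _) (by simp) (by simp [hfst])
  have : IsIso κ := pullback.map_isIso ..
  obtain ⟨θ, hθl, hθr⟩ := exists_tensor_equiv (C := C) V
  have hbij : Function.Bijective κ.appTop :=
    @ConcreteCategory.bijective_of_isIso CommRingCat.{u} _ _ _ _ _ _ _ κ.appTop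
      (by show IsIso (Scheme.Γ.map κ.op); infer_instance)
  let κe : Γ(V'.left, ⊤) ≃+* Γ(P', ⊤) := RingEquiv.ofBijective κ.appTop.hom hbij
  let Θ : C ⊗[A] Γ(V.left, ⊤) ≃+* Γ(V'.left, ⊤) := θ.trans κe.symm
  let ρ : Γ(V.left, ⊤) →+* Γ(V'.left, ⊤) := (pullback.fst V.hom a).appTop.hom
  have hΘr : ∀ m, Θ ((1 : C) ⊗ₜ[A] m) = ρ m := fun m => by
    refine κe.injective ((κe.apply_symm_apply _).trans ((hθr m).trans ?_))
    exact congrArg (fun k : P' ⟶ V.left => k.appTop m)
      ((pullback.lift_fst _ _ _).trans (Category.comp_id _)).symm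
  have hΘl : ∀ c : C, Θ (c ⊗ₜ[A] 1) = secStr V' c := fun c => by
    refine κe.injective ((κe.apply_symm_apply _).trans ((hθl c).trans ?_))
    show _ = (κ ≫ strHom V').appTop ((Scheme.ΓSpecIso (CommRingCat.of C)).inv c)
    refine congrArg (fun k : P' ⟶ Spec (CommRingCat.of C) =>
      k.appTop ((Scheme.ΓSpecIso (CommRingCat.of C)).inv c)) ?_
    show _ = κ ≫ pullback.snd V.hom a ≫ (FEt.puncturedSpec C).ι
    refine Eq.trans ?_ (Category.assoc _ _ _)
    refine Eq.trans ?_ (congrArg (· ≫ _) (pullback.lift_snd _ _ _).symm)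
    refine Eq.trans ?_ (Category.assoc _ _ _).symm
    exact congrArg (pullback.snd V.hom _ ≫ ·) hj.symm
  let ΘA : C ⊗[A] Γ(V.left, ⊤) ≃ₐ[C] Γ(V'.left, ⊤) := AlgEquiv.ofRingEquiv (f := Θ) fun c => by
    rw [Algebra.TensorProduct.algebraMap_apply]
    exact hΘl c
  have := finite_sections hdepth V
  have := finite_sections h2 V'
  have : Module.Finite C (C ⊗[A] Γ(V.left, ⊤)) := inferInstance
  -- the trace upstairs
  let JC := J.map (algebraMap A C)
  let c : Spec (CommRingCat.of (C ⧸ JC)) ⟶ Spec (CommRingCat.of (A ⧸ J)) :=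
    Spec.map (CommRingCat.ofHom (Ideal.quotientMap _ (algebraMap A C) Ideal.le_comap_map))
  have hcq : c ≫ qMap J = qMap JC ≫ descMap A C := by
    refine (Spec.map_comp _ _).symm.trans (Eq.trans ?_ (Spec.map_comp _ _))
    exact congrArg Spec.map (by ext x; rfl)
  let b : pullback (FEt.puncturedSpec C).ι (qMap JC) ⟶ pullback (FEt.puncturedSpec A).ι (qMap J) :=
    pullback.map _ _ _ _ a c (descMap A C) ha.symm hcq.symm
  let β : (trCover JC V').left ⟶ (trCover J V).left :=
    pullback.map _ _ _ _ (pullback.fst V.hom a) b a pullback.condition.symm (pullback.lift_fst _ _ _).symm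
  obtain ⟨ε, hε, hεc, hεe⟩ := exists_lq_idempotents (J := JC) h2 hg hcov V' (β ⁻¹' C₀)
    (hC₀.preimage β.continuous)
  have hS := isSectionRing V' g hcov
  obtain ⟨ê, hê, hêε⟩ := F.exists_idempotent hS hg ε hε hεc
  obtain ⟨e, he, hee⟩ := exists_idempotent_descend (IsLocalRing.maximalIdeal A) (C := C)
    (by rw [hm]; exact (IsLocalRing.jacobson_eq_maximalIdeal ⊥ bot_ne_top).ge)
    (fun z => by simpa using completion_hsub 1 z)
    (fun x hx => by
      rw [hm] at hx
      simpa using (Cohen12.algebraMap_mem_pow_iff A 1 x).mp (by rwa [pow_one]))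
    (ΘA.symm ê) (hê.map ΘA.symm)
  have hρe : ρ e = ê := by
    rw [← hΘr e, hee]
    exact ΘA.apply_symm_apply ê
  refine ⟨V.left.basicOpen e, ⟨?_, (V.left.basicOpen e).2⟩, ?_⟩
  · rw [← isOpen_compl_iff, FEt83.compl_basicOpen_of_idem he]
    exact (V.left.basicOpen (1 - e)).2
  · have h1 := hεe ê hêε
    ext p
    -- `p` lifts to the trace upstairs
    obtain ⟨p', rfl⟩ : ∃ p', β p' = p := by
      let u := pullback.snd V.hom (pullback.fst (FEt.puncturedSpec A).ι (qMap J)) p
      let qA := pullback.snd (FEt.puncturedSpec A).ι (qMap J) u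
      obtain ⟨qC, hqC⟩ := PrimeSpectrum.comap_surjective_of_faithfullyFlat (A := A) (B := C)
        (qMap J qA : PrimeSpectrum A)
      have hJq : J ≤ (qMap J qA : PrimeSpectrum A).asIdeal := fun r hr => by
        show Ideal.Quotient.mk J r ∈ (qA : PrimeSpectrum (A ⧸ J)).asIdeal
        rw [Ideal.Quotient.eq_zero_iff_mem.mpr hr]
        exact zero_mem _
      have hqC' : qC.asIdeal.comap (algebraMap A C) = (qMap J qA : PrimeSpectrum A).asIdeal :=
        congrArg PrimeSpectrum.asIdeal hqC
      have hJC : JC ≤ qC.asIdeal := Ideal.map_le_iff_le_comap.mpr (hqC' ▸ hJq)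
      have hu : qMap J qA = (FEt.puncturedSpec A).ι (pullback.fst (FEt.puncturedSpec A).ι (qMap J) u) := by
        rw [← Scheme.Hom.comp_apply, ← pullback.condition]; rfl
      have hne : qC.asIdeal ≠ IsLocalRing.maximalIdeal C := fun h => by
        refine (mem_puncturedSpec_iff _).mp (pullback.fst (FEt.puncturedSpec A).ι (qMap J) u).2 ?_
        show ((FEt.puncturedSpec A).ι (pullback.fst (FEt.puncturedSpec A).ι (qMap J) u) : PrimeSpectrum A).asIdeal = _
        rw [← hu, ← hqC', h, ← hm]
        exact ((IsLocalRing.maximalIdeal.isMaximal A).eq_of_le (by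
          rw [hm]; exact Ideal.comap_ne_top _ (IsLocalRing.maximalIdeal.isMaximal C).ne_top)
          Ideal.le_comap_map).symm
      let q0 : (FEt.puncturedSpec C : Scheme.{u}) := ⟨qC, (mem_puncturedSpec_iff qC).mpr hne⟩
      let y := pullback.fst V.hom (pullback.fst (FEt.puncturedSpec A).ι (qMap J)) p
      have hy : V.hom y = a q0 := by
        refine (FEt.puncturedSpec A).ι.isOpenEmbedding.injective ?_
        show (V.hom ≫ (FEt.puncturedSpec A).ι) y = (a ≫ (FEt.puncturedSpec A).ι) q0
        rw [ha]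
        have : (pullback.fst V.hom _ ≫ V.hom) p = (pullback.snd V.hom _ ≫ pullback.fst _ _) p := by
          rw [pullback.condition]
        show (FEt.puncturedSpec A).ι (V.hom y) = descMap A C qC
        rw [show V.hom y = pullback.fst (FEt.puncturedSpec A).ι (qMap J) u from this, ← hu]
        exact hqC.symm
      obtain ⟨v, hv1, hv2⟩ := Scheme.Pullback.exists_preimage_pullback (f := V.hom) (g := a) y q0 hy
      let qJ : Spec (CommRingCat.of (C ⧸ JC)) :=
        (⟨qC.asIdeal.map (Ideal.Quotient.mk JC), Ideal.map_isPrime_of_surjective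
          Ideal.Quotient.mk_surjective (by rwa [Ideal.mk_ker])⟩ : PrimeSpectrum (C ⧸ JC))
      have hqJ : qMap JC qJ = qC := by
        refine PrimeSpectrum.ext ?_
        show (qC.asIdeal.map (Ideal.Quotient.mk JC)).comap (Ideal.Quotient.mk JC) = qC.asIdeal
        rw [Ideal.comap_map_of_surjective _ Ideal.Quotient.mk_surjective, ← RingHom.ker_eq_comap_bot,
          Ideal.mk_ker, sup_eq_left]
        exact hJC
      obtain ⟨w, hw1, -⟩ := Scheme.Pullback.exists_preimage_pullback (f := (FEt.puncturedSpec C).ι)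
        (g := qMap JC) q0 qJ hqJ.symm
      obtain ⟨z, hz1, -⟩ := Scheme.Pullback.exists_preimage_pullback (f := pullback.snd V.hom a)
        (g := pullback.fst (FEt.puncturedSpec C).ι (qMap JC)) v w (hv2.trans hw1.symm)
      refine ⟨z, ?_⟩
      have : IsClosedImmersion (qMap J) :=
        IsClosedImmersion.spec_of_surjective _ Ideal.Quotient.mk_surjective
      have hincl : IsClosedImmersion (trIncl J V) := MorphismProperty.pullback_fst (P := @IsClosedImmersion) _ _
        (MorphismProperty.pullback_fst (P := @IsClosedImmersion) _ _ ‹_›)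
      refine (Scheme.Hom.isClosedEmbedding (trIncl J V)).injective ?_
      refine Eq.trans ?_ ((congrArg (pullback.fst V.hom a) hz1).trans hv1)
      show (β ≫ trIncl J V) z = (trIncl JC V' ≫ pullback.fst V.hom a) z
      exact congrArg (fun k : (trCover JC V').left ⟶ V.left => k z) (pullback.lift_fst _ _ _)
    have h2' : β p' ∈ C₀ ↔ p' ∈ trIncl JC V' ⁻¹' (V'.left.basicOpen ê : Set V'.left) := by rw [h1]; rfl
    refine Iff.trans ?_ h2'.symm
    have e1 : trIncl J V (β p') = pullback.fst V.hom a (trIncl JC V' p') :=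
      congrArg (fun k : (trCover JC V').left ⟶ V.left => k p') (pullback.lift_fst _ _ _)
    show trIncl J V (β p') ∈ V.left.basicOpen e ↔ trIncl JC V' p' ∈ V'.left.basicOpen ê
    rw [e1, ← hρe]
    exact Eq.to_iff (congrArg (trIncl JC V' p' ∈ ·) (Scheme.preimage_basicOpen_top (pullback.fst V.hom a) e))

/-- Restriction to the trace is fully faithful over a henselian base. -/
theorem fullyFaithful_trace [HenselianRing A (IsLocalRing.maximalIdeal A)]
    (hdepth : (2 : ℕ∞) ≤ LocCoh.depth A A) (hyp : CompletionSys J)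
    (q : PrimeSpectrum A) (hq : q.asIdeal ≠ IsLocalRing.maximalIdeal A) (hJq : J ≤ q.asIdeal) :
    (FEt.restrict (pullback.fst (FEt.puncturedSpec A).ι (qMap J))).Full ∧
    (FEt.restrict (pullback.fst (FEt.puncturedSpec A).ι (qMap J))).Faithful :=
  have hm := meetsClopens_trace hdepth q hq hJq
  ⟨FEt83.full_of_lifts hm (liftsClopens_trace hdepth hyp), FEt83.faithful_of_meets hm⟩

end Groth.Agent.Pure83
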