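import Groth.Agent.Pure83.FormalApps
import Mathlib.RingTheory.Flat.Basic
import Mathlib.LinearAlgebra.TensorProduct.Quotient
import Mathlib.LinearAlgebra.Basis.VectorSpace

/-!
# Flat local algebras have free graded rings along the closed fibre
-/

universe u

open TensorProduct

namespace Groth.Agent.Pure83

variable {A B : Type u} [CommRing A] [CommRing B] [Algebra A B] [Module.Flat A B]

/-- Colon ideals commute with flat extensions. -/
theorem colon_map_flat {I K : Ideal A} {e : A} (h : ∀ a, e * a ∈ K → a ∈ I)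
    (hI : ∀ a ∈ I, e * a ∈ K) {c : B} (hc : algebraMap A B e * c ∈ K.map (algebraMap A B)) :
    c ∈ I.map (algebraMap A B) := by
  let φ : (A ⧸ I) →ₗ[A] A ⧸ K := Submodule.mapQ I K (e • LinearMap.id) fun a ha => by simpa using hI a ha
  have hφ : Function.Injective φ := (injective_iff_map_eq_zero φ).mpr fun q hq => by
    obtain ⟨a, rfl⟩ := Submodule.Quotient.mk_surjective I q
    exact (Submodule.Quotient.mk_eq_zero I).mpr (h a ((Submodule.Quotient.mk_eq_zero K).mp hq))
  have hinj := Module.Flat.rTensor_preserves_injective_linearMap (M := B) φ hφ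
  let E := TensorProduct.quotTensorEquivQuotSMul B I
  let EK := TensorProduct.quotTensorEquivQuotSMul B K
  have h0 : φ.rTensor B (E.symm (Submodule.Quotient.mk c)) = 0 := by
    refine EK.injective ?_
    rw [map_zero, TensorProduct.quotTensorEquivQuotSMul_symm_mk, LinearMap.rTensor_tmul]
    have : φ 1 = Ideal.Quotient.mk K e := by
      show Submodule.Quotient.mk (e • (1 : A)) = _
      rw [smul_eq_mul, mul_one]; rfl
    rw [this, TensorProduct.quotTensorEquivQuotSMul_mk_tmul, Submodule.Quotient.mk_eq_zero,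
      Ideal.smul_top_eq_map, Submodule.restrictScalars_mem, Algebra.smul_def]
    exact hc
  have h1 := (injective_iff_map_eq_zero _).mp hinj _ h0
  rw [LinearEquiv.map_eq_zero_iff, Submodule.Quotient.mk_eq_zero, Ideal.smul_top_eq_map,
    Submodule.restrictScalars_mem] at h1
  exact h1

/-- The graded ring along the closed fibre of a flat algebra is free. -/
theorem gr_free_of_flat [IsLocalRing A] (n : ℕ) :
    let J := (IsLocalRing.maximalIdeal A).map (algebraMap A B)
    Module.Free (B ⧸ J) (↥(J ^ n) ⧸ (J • (⊤ : Submodule B ↥(J ^ n)))) := by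
  classical
  intro J
  let m := IsLocalRing.maximalIdeal A
  let _ : Field (A ⧸ m) := Ideal.Quotient.field m
  let V := ↥(m ^ n) ⧸ (m • (⊤ : Submodule A ↥(m ^ n)))
  let β := Module.Free.chooseBasis (A ⧸ m) V
  choose e he using fun i => Submodule.Quotient.mk_surjective (m • (⊤ : Submodule A ↥(m ^ n))) (β i)
  have hmemA : ∀ v : ↥(m ^ n), v ∈ m • (⊤ : Submodule A ↥(m ^ n)) ↔ (v : A) ∈ m ^ (n + 1) := fun v => by
    rw [Submodule.mem_smul_top_iff, pow_succ', smul_eq_mul]
  have hJn : J ^ n = (m ^ n).map (algebraMap A B) := (Ideal.map_pow _ _ _).symm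
  have hJn1 : J ^ (n + 1) = (m ^ (n + 1)).map (algebraMap A B) := (Ideal.map_pow _ _ _).symm
  let f : Module.Free.ChooseBasisIndex (A ⧸ m) V → ↥(J ^ n) := fun i =>
    ⟨algebraMap A B (e i), hJn ▸ Ideal.mem_map_of_mem _ (e i).2⟩
  have hmemB : ∀ v : ↥(J ^ n), v ∈ J • (⊤ : Submodule B ↥(J ^ n)) ↔ (v : B) ∈ J ^ (n + 1) := fun v => by
    rw [Submodule.mem_smul_top_iff, pow_succ', smul_eq_mul]
  refine Module.Free.of_basis (Module.Basis.mk
    (v := fun i => (Submodule.Quotient.mk (f i) : ↥(J ^ n) ⧸ (J • (⊤ : Submodule B ↥(J ^ n))))) ?_ ?_)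
  · rw [linearIndependent_iff']
    intro s c hc i hi
    choose c' hc' using fun i => Ideal.Quotient.mk_surjective (c i)
    have h1 : (∑ j ∈ s, c' j * algebraMap A B (e j)) ∈ J ^ (n + 1) := by
      have h2 : (Submodule.Quotient.mk (∑ j ∈ s, c' j • f j) : ↥(J ^ n) ⧸ (J • (⊤ : Submodule B ↥(J ^ n)))) = 0 := by
        rw [← hc]
        refine (map_sum (Submodule.mkQ _) _ _).trans (Finset.sum_congr rfl fun j _ => ?_)
        rw [← hc' j]; rfl
      have h3 := (hmemB _).mp ((Submodule.Quotient.mk_eq_zero _).mp h2)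
      simpa [f] using h3
    let K : Ideal A := m ^ (n + 1) ⊔ Ideal.span ((fun j => (e j : A)) '' {j | j ≠ i})
    have hkey : ∀ a : A, (e i : A) * a ∈ K → a ∈ m := by
      intro a ha
      obtain ⟨u, hu, w, hw, huw⟩ := Submodule.mem_sup.mp ha
      obtain ⟨l, hl, rfl⟩ := Finsupp.mem_span_image_iff_linearCombination A |>.mp hw
      have h2 : Ideal.Quotient.mk m a • β i -
          ∑ j ∈ l.support, Ideal.Quotient.mk m (l j) • β j = 0 := by
        have : (Submodule.Quotient.mk (a • e i - ∑ j ∈ l.support, l j • e j) : V) = 0 := by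
          rw [Submodule.Quotient.mk_eq_zero, hmemA]
          simp only [Finsupp.linearCombination_apply, Finsupp.sum, smul_eq_mul] at huw
          have : ((a • e i - ∑ j ∈ l.support, l j • e j : ↥(m ^ n)) : A) = u := by
            simp only [Submodule.coe_sub, Submodule.coe_smul, Submodule.coe_sum, smul_eq_mul]
            linear_combination -huw
          rw [this]; exact hu
        rw [← this, Submodule.Quotient.mk_sub]
        congr 1
        · rw [← he i]; rfl
        · refine Eq.trans ?_ (map_sum (Submodule.mkQ _) _ _).symm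
          exact Finset.sum_congr rfl fun j _ => by rw [← he j]; rfl
      have h3 := DFunLike.congr_fun (congrArg β.repr h2) i
      have hli : l i = 0 := by
        by_contra hne
        exact (Finsupp.mem_supported A l).mp hl (Finsupp.mem_support_iff.mpr hne) rfl
      have h4 : ∀ j ∈ l.support, β.repr (Ideal.Quotient.mk m (l j) • β j) i = 0 := fun j hj => by
        rw [map_smul, Finsupp.smul_apply, β.repr_self,
          Finsupp.single_eq_of_ne (fun e : i = j => Finsupp.mem_support_iff.mp hj (e ▸ hli)), smul_zero]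
      rw [map_sub, map_sum, map_zero, Finsupp.zero_apply, Finsupp.sub_apply, Finset.sum_apply',
        Finset.sum_eq_zero h4, sub_zero, map_smul, Finsupp.smul_apply, β.repr_self,
        Finsupp.single_eq_same, smul_eq_mul, mul_one] at h3
      exact Ideal.Quotient.eq_zero_iff_mem.mp h3
    have hKJ : algebraMap A B (e i) * c' i ∈ K.map (algebraMap A B) := by
      have hrest : (∑ j ∈ s.erase i, c' j * algebraMap A B (e j)) ∈ K.map (algebraMap A B) :=
        Submodule.sum_mem _ fun j hj => Ideal.mul_mem_left _ _ (Ideal.mem_map_of_mem _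
          (Submodule.mem_sup_right (Ideal.subset_span ⟨j, Finset.ne_of_mem_erase hj, rfl⟩)))
      have hall : (∑ j ∈ s, c' j * algebraMap A B (e j)) ∈ K.map (algebraMap A B) :=
        Ideal.map_mono le_sup_left (hJn1 ▸ h1)
      rw [← Finset.add_sum_erase _ _ hi] at hall
      rw [mul_comm]
      exact (Ideal.add_mem_iff_left _ hrest).mp hall
    have hci : c' i ∈ J := colon_map_flat hkey (fun a ha => Submodule.mem_sup_left (by
      rw [pow_succ]; exact Ideal.mul_mem_mul (e i).2 ha)) hKJ
    rw [← hc' i]
    exact Ideal.Quotient.eq_zero_iff_mem.mpr hci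
  · rintro q -
    obtain ⟨⟨v, hv⟩, rfl⟩ := Submodule.Quotient.mk_surjective _ q
    have key : ∀ w ∈ (m ^ n).map (algebraMap A B), ∀ hw : w ∈ J ^ n,
        (Submodule.Quotient.mk (⟨w, hw⟩ : ↥(J ^ n)) : ↥(J ^ n) ⧸ (J • (⊤ : Submodule B ↥(J ^ n)))) ∈
          Submodule.span (B ⧸ J) (Set.range fun i =>
            (Submodule.Quotient.mk (f i) : ↥(J ^ n) ⧸ (J • (⊤ : Submodule B ↥(J ^ n))))) := by
      intro w hw
      induction hw using Submodule.span_induction with
      | mem w hw =>
        intro hw'
        obtain ⟨a, ha, rfl⟩ := hw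
        let α : ↥(m ^ n) := ⟨a, ha⟩
        let l := β.repr (Submodule.Quotient.mk α : V)
        choose l' hl' using fun i => Ideal.Quotient.mk_surjective (l i)
        have h1 : (Submodule.Quotient.mk (∑ i ∈ l.support, l' i • e i) : V) = Submodule.Quotient.mk α := by
          conv_rhs => rw [← β.linearCombination_repr (Submodule.Quotient.mk α : V)]
          rw [Finsupp.linearCombination_apply, Finsupp.sum]
          refine (map_sum (Submodule.mkQ _) _ _).trans (Finset.sum_congr rfl fun j _ => ?_)
          show _ = l j • β j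
          rw [← hl' j, ← he j]; rfl
        have h2 := (hmemA _).mp ((Submodule.Quotient.eq _).mp h1.symm)
        have h3 : (Submodule.Quotient.mk (⟨algebraMap A B a, hw'⟩ : ↥(J ^ n)) :
            ↥(J ^ n) ⧸ (J • (⊤ : Submodule B ↥(J ^ n)))) =
            Submodule.Quotient.mk (∑ i ∈ l.support, algebraMap A B (l' i) • f i) := by
          rw [Submodule.Quotient.eq, hmemB, hJn1]
          have := Ideal.mem_map_of_mem (algebraMap A B) h2
          simpa [f, α, Algebra.smul_def] using this
        rw [h3]
        refine Finset.sum_induction (M := ↥(J ^ n)) _ (fun z => (Submodule.Quotient.mk z :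
            ↥(J ^ n) ⧸ (J • (⊤ : Submodule B ↥(J ^ n)))) ∈ Submodule.span (B ⧸ J) (Set.range fun i =>
            (Submodule.Quotient.mk (f i) : ↥(J ^ n) ⧸ (J • (⊤ : Submodule B ↥(J ^ n))))))
          (fun _ _ h h' => Submodule.add_mem _ h h') (Submodule.zero_mem _) fun j _ => ?_
        exact Submodule.smul_mem (Submodule.span (B ⧸ J) (Set.range fun i =>
            (Submodule.Quotient.mk (f i) : ↥(J ^ n) ⧸ (J • (⊤ : Submodule B ↥(J ^ n))))))
          (Ideal.Quotient.mk J (algebraMap A B (l' j))) (Submodule.subset_span ⟨j, rfl⟩)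
      | zero => intro hw; exact Submodule.zero_mem _
      | add w w' hw hw' ih ih' =>
        intro h
        exact Submodule.add_mem _ (ih (hJn ▸ hw)) (ih' (hJn ▸ hw'))
      | smul r w hw ih =>
        intro h
        exact Submodule.smul_mem _ (Ideal.Quotient.mk J r) (ih (hJn ▸ hw))
    exact key v (hJn ▸ hv) hv

end Groth.Agent.Pure83
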