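import Groth.Agent.Pure83.Setup
import Mathlib.RingTheory.Ideal.Operations
import Mathlib.RingTheory.Localization.Ideal
import Mathlib.RingTheory.Etale.Basic

/-!
# Reductions of localizations modulo powers of an ideal
-/

universe u

namespace Groth.Agent.Pure83

variable {A : Type u} [CommRing A] (J : Ideal A) (T : Type u) [CommRing T] [Algebra A T]

/-- `T` localized at `c` and reduced modulo `J ^ k`. -/
abbrev Lq (c : A) (k : ℕ) : Type u :=
  Localization.Away (algebraMap A T c) ⧸
    (J ^ k).map (algebraMap A (Localization.Away (algebraMap A T c)))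

/-- The reduction map. -/
noncomputable def toLq (c : A) (k : ℕ) : T →ₐ[A] Lq J T c k :=
  (Ideal.Quotient.mkₐ A _).comp (IsScalarTower.toAlgHom A T _)

theorem isUnit_lq (c : A) (k : ℕ) : IsUnit (algebraMap A (Lq J T c k) c) := by
  have h : IsUnit (algebraMap A (Localization.Away (algebraMap A T c)) c) := by
    rw [IsScalarTower.algebraMap_apply A T (Localization.Away (algebraMap A T c))]
    exact IsLocalization.Away.algebraMap_isUnit _
  exact h.map (Ideal.Quotient.mk _)

theorem lq_zero {c : A} {k : ℕ} : ∀ r ∈ J ^ k, algebraMap A (Lq J T c k) r = 0 := fun _ hr =>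
  Ideal.Quotient.eq_zero_iff_mem.mpr (Ideal.mem_map_of_mem _ hr)

variable {J T}

theorem lq_zero_one {c : A} : ∀ r ∈ J, algebraMap A (Lq J T c 1) r = 0 := fun r hr =>
  lq_zero J T r (by rwa [pow_one])

theorem toLq_eq_zero {c : A} {k : ℕ} {x : T} :
    toLq J T c k x = 0 ↔ InLoc (J ^ k • (⊤ : Submodule A T)) c x := by
  refine Ideal.Quotient.eq_zero_iff_mem.trans ?_
  show algebraMap T _ x ∈ (J ^ k).map _ ↔ _
  rw [IsScalarTower.algebraMap_eq A T (Localization.Away (algebraMap A T c)), ← Ideal.map_map,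
    IsLocalization.algebraMap_mem_map_algebraMap_iff (Submonoid.powers (algebraMap A T c))]
  constructor
  · rintro ⟨_, ⟨n, rfl⟩, hn⟩
    refine ⟨n, ?_⟩
    rw [Ideal.smul_top_eq_map, Submodule.restrictScalars_mem, Algebra.smul_def, map_pow]
    exact hn
  · rintro ⟨n, hn⟩
    refine ⟨_, ⟨n, rfl⟩, ?_⟩
    rw [Ideal.smul_top_eq_map, Submodule.restrictScalars_mem, Algebra.smul_def, map_pow] at hn
    exact hn

theorem exists_rep {c : A} {k : ℕ} (z : Lq J T c k) : ∃ (e : ℕ) (x : T), algebraMap A _ c ^ e * z = toLq J T c k x := by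
  obtain ⟨w, rfl⟩ := Ideal.Quotient.mk_surjective z
  obtain ⟨⟨x, _, e, rfl⟩, hx⟩ := IsLocalization.surj (Submonoid.powers (algebraMap A T c)) w
  refine ⟨e, x, ?_⟩
  rw [← map_pow]
  show algebraMap A (Lq J T c k) (c ^ e) * Ideal.Quotient.mk _ w = Ideal.Quotient.mk _ _
  refine (map_mul (Ideal.Quotient.mk _) _ w).symm.trans (congrArg _ ?_)
  rw [IsScalarTower.algebraMap_apply A T (Localization.Away (algebraMap A T c)), map_pow (algebraMap A T),
    mul_comm]
  exact hx

theorem toLq_smul {c : A} {k : ℕ} (a : A) (x : T) :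
    toLq J T c k (a • x) = algebraMap A (Lq J T c k) a * toLq J T c k x := by
  rw [Algebra.smul_def, map_mul, AlgHom.commutes]

section Universal

variable {P : Type u} [CommRing P] [Algebra A P] {c : A} {k : ℕ}

theorem exists_lqLift (q : T →ₐ[A] P) (hc : IsUnit (algebraMap A P c))
    (hJ : ∀ r ∈ J ^ k, algebraMap A P r = 0) :
    ∃ θ : Lq J T c k →ₐ[A] P, θ.comp (toLq J T c k) = q := by
  have hu : ∀ y : Submonoid.powers (algebraMap A T c), IsUnit (q y) := by
    rintro ⟨_, n, rfl⟩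
    show IsUnit (q (algebraMap A T c ^ n))
    rw [map_pow, AlgHom.commutes]
    exact hc.pow n
  let L : Localization.Away (algebraMap A T c) →ₐ[A] P := IsLocalization.liftAlgHom hu
  refine ⟨Ideal.Quotient.liftₐ _ L (fun a ha => ?_), AlgHom.ext fun x => ?_⟩
  · have hle : (J ^ k).map (algebraMap A (Localization.Away (algebraMap A T c))) ≤ RingHom.ker L :=
      Ideal.map_le_iff_le_comap.mpr fun r hr => by
        rw [Ideal.mem_comap, RingHom.mem_ker, AlgHom.commutes]
        exact hJ r hr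
    exact hle ha
  · exact IsLocalization.lift_eq (g := q.toRingHom) (fun y => hu y) x

/-- The universal map. -/
noncomputable def lqLift (q : T →ₐ[A] P) (hc : IsUnit (algebraMap A P c))
    (hJ : ∀ r ∈ J ^ k, algebraMap A P r = 0) : Lq J T c k →ₐ[A] P :=
  (exists_lqLift q hc hJ).choose

theorem lqLift_comp (q : T →ₐ[A] P) (hc : IsUnit (algebraMap A P c))
    (hJ : ∀ r ∈ J ^ k, algebraMap A P r = 0) : (lqLift q hc hJ).comp (toLq J T c k) = q :=
  (exists_lqLift q hc hJ).choose_spec

theorem lq_hom_ext {θ θ' : Lq J T c k →ₐ[A] P}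
    (h : θ.comp (toLq J T c k) = θ'.comp (toLq J T c k)) : θ = θ' := by
  refine AlgHom.ext fun z => ?_
  obtain ⟨e, x, hx⟩ := exists_rep z
  have h1 := AlgHom.congr_fun h x
  simp only [AlgHom.comp_apply, ← hx, map_mul, map_pow, AlgHom.commutes] at h1
  have hu : IsUnit (algebraMap A P c ^ e) := by
    exact (AlgHom.commutes θ c ▸ (isUnit_lq J T c k).map θ).pow e
  exact hu.mul_left_cancel h1

end Universal

/-- Reduction to a smaller exponent. -/
noncomputable def lqRed (J : Ideal A) (T : Type u) [CommRing T] [Algebra A T] (c : A) {k l : ℕ}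
    (h : k ≤ l) : Lq J T c l →ₐ[A] Lq J T c k :=
  lqLift (toLq J T c k) (isUnit_lq J T c k) fun r hr => lq_zero J T r (Ideal.pow_le_pow_right h hr)

theorem lqRed_comp_toLq (c : A) {k l : ℕ} (h : k ≤ l) :
    (lqRed J T c h).comp (toLq J T c l) = toLq J T c k := lqLift_comp _ _ _

theorem lqRed_toLq (c : A) {k l : ℕ} (h : k ≤ l) (x : T) :
    lqRed J T c h (toLq J T c l x) = toLq J T c k x := AlgHom.congr_fun (lqRed_comp_toLq c h) x

theorem isUnit_of_dvd {c d : A} (k : ℕ) (h : c ∣ d) : IsUnit (algebraMap A (Lq J T d k) c) :=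
  isUnit_of_dvd_unit (map_dvd _ h) (isUnit_lq J T d k)

/-- Restriction to a smaller basic open. -/
noncomputable def lqRes (J : Ideal A) (T : Type u) [CommRing T] [Algebra A T] {c d : A}
    (h : c ∣ d) (k : ℕ) : Lq J T c k →ₐ[A] Lq J T d k :=
  lqLift (toLq J T d k) (isUnit_of_dvd k h) (lq_zero J T)

theorem lqRes_comp_toLq {c d : A} (h : c ∣ d) (k : ℕ) :
    (lqRes J T h k).comp (toLq J T c k) = toLq J T d k := lqLift_comp _ _ _

theorem lqRed_comp_lqRes {c d : A} (h : c ∣ d) {k l : ℕ} (h' : k ≤ l) :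
    (lqRed J T d h').comp (lqRes J T h l) = (lqRes J T h k).comp (lqRed J T c h') := by
  refine lq_hom_ext ?_
  rw [AlgHom.comp_assoc, lqRes_comp_toLq, lqRed_comp_toLq, AlgHom.comp_assoc, lqRed_comp_toLq,
    lqRes_comp_toLq]

theorem lqRed_lqRed (c : A) {k l n : ℕ} (h : k ≤ l) (h' : l ≤ n) :
    (lqRed J T c h).comp (lqRed J T c h') = lqRed J T c (h.trans h') := by
  refine lq_hom_ext ?_
  rw [AlgHom.comp_assoc, lqRed_comp_toLq, lqRed_comp_toLq, lqRed_comp_toLq]

theorem lqRed_surjective (c : A) {k l : ℕ} (h : k ≤ l) : Function.Surjective (lqRed J T c h) := by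
  intro z
  obtain ⟨e, x, hx⟩ := exists_rep z
  obtain ⟨v, hv⟩ := ((isUnit_lq J T c l).pow e).exists_left_inv
  refine ⟨v * toLq J T c l x, ?_⟩
  rw [map_mul, lqRed_toLq, ← hx, ← mul_assoc]
  have := congrArg (lqRed J T c h) hv
  rw [map_mul, map_pow, AlgHom.commutes, map_one] at this
  rw [this, one_mul]

theorem isNilpotent_ker_lqRed (c : A) {k : ℕ} (h : 1 ≤ k) :
    IsNilpotent (RingHom.ker (lqRed J T c h : Lq J T c k →+* Lq J T c 1)) := by
  refine ⟨k, le_bot_iff.mp ?_⟩
  have hle : RingHom.ker (lqRed J T c h : Lq J T c k →+* Lq J T c 1) ≤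
      J.map (algebraMap A (Lq J T c k)) := by
    intro z hz
    obtain ⟨e, x, hx⟩ := exists_rep z
    have h0 : toLq J T c 1 x = 0 := by
      rw [← lqRed_toLq c h, ← hx, map_mul, show lqRed J T c h z = 0 from hz, mul_zero]
    obtain ⟨n, hn⟩ := toLq_eq_zero.mp h0
    rw [pow_one, Ideal.smul_top_eq_map, Submodule.restrictScalars_mem] at hn
    have h1 := Ideal.mem_map_of_mem (toLq J T c k) hn
    rw [Algebra.smul_def, map_mul, AlgHom.commutes, map_pow, ← hx, ← mul_assoc] at h1
    replace h1 : algebraMap A (Lq J T c k) c ^ n * algebraMap A (Lq J T c k) c ^ e * z ∈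
        (J.map (algebraMap A T)).map (toLq J T c k).toRingHom := h1
    rw [Ideal.map_map, show (toLq J T c k).toRingHom.comp (algebraMap A T) = algebraMap A (Lq J T c k)
      from (toLq J T c k).comp_algebraMap] at h1
    refine (Ideal.unit_mul_mem_iff_mem _ ?_).mp h1
    exact ((isUnit_lq J T c k).pow n).mul ((isUnit_lq J T c k).pow e)
  refine (Ideal.pow_right_mono hle k).trans ?_
  rw [← Ideal.map_pow, Ideal.map_le_iff_le_comap]
  intro r hr
  exact Ideal.mem_comap.mpr ((Submodule.mem_bot _).mpr (lq_zero J T r hr))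

variable {S : Type u} [CommRing S] [Algebra A S]

/-- Lifts from an algebra which is formally étale on a basic open. -/
theorem exists_lift_lq {c : A} [Algebra.FormallyEtale A (Localization.Away (algebraMap A S c))]
    (φ : S →ₐ[A] Lq J T c 1) {k : ℕ} (h : 1 ≤ k) :
    ∃ ψ : S →ₐ[A] Lq J T c k, (lqRed J T c h).comp ψ = φ := by
  have hu : ∀ y : Submonoid.powers (algebraMap A S c), IsUnit (φ y) := by
    rintro ⟨_, n, rfl⟩
    show IsUnit (φ (algebraMap A S c ^ n))
    rw [map_pow, AlgHom.commutes]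
    exact (isUnit_lq J T c 1).pow n
  let φ' : Localization.Away (algebraMap A S c) →ₐ[A] Lq J T c 1 := IsLocalization.liftAlgHom hu
  refine ⟨(Algebra.FormallySmooth.liftOfSurjective φ' (lqRed J T c h) (lqRed_surjective c h)
    (isNilpotent_ker_lqRed c h)).comp (IsScalarTower.toAlgHom A S _), ?_⟩
  refine AlgHom.ext fun x => ?_
  exact (Algebra.FormallySmooth.liftOfSurjective_apply φ' (lqRed J T c h) (lqRed_surjective c h)
    (isNilpotent_ker_lqRed c h) _).trans
    (IsLocalization.lift_eq (g := φ.toRingHom) (fun y => hu y) x)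

/-- Lifts are unique. -/
theorem lift_unique_lq {c d : A} (hcd : c ∣ d)
    [Algebra.FormallyEtale A (Localization.Away (algebraMap A S c))]
    {k : ℕ} (h : 1 ≤ k) {ψ₁ ψ₂ : S →ₐ[A] Lq J T d k}
    (he : (lqRed J T d h).comp ψ₁ = (lqRed J T d h).comp ψ₂) : ψ₁ = ψ₂ := by
  have hu : ∀ (ψ : S →ₐ[A] Lq J T d k) (y : Submonoid.powers (algebraMap A S c)), IsUnit (ψ y) := by
    rintro ψ ⟨_, n, rfl⟩
    show IsUnit (ψ (algebraMap A S c ^ n))
    rw [map_pow, AlgHom.commutes]
    exact (isUnit_of_dvd k hcd).pow n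
  let L := fun ψ : S →ₐ[A] Lq J T d k =>
    (IsLocalization.liftAlgHom (hu ψ) : Localization.Away (algebraMap A S c) →ₐ[A] Lq J T d k)
  have hL : ∀ ψ x, L ψ (algebraMap S _ x) = ψ x := fun ψ x =>
    IsLocalization.lift_eq (g := ψ.toRingHom) (fun y => hu ψ y) x
  have : L ψ₁ = L ψ₂ := Algebra.FormallyUnramified.lift_unique' _ (isNilpotent_ker_lqRed d h) _ _ (by
    refine IsLocalization.algHom_ext (Submonoid.powers (algebraMap A S c)) (AlgHom.ext fun x => ?_)
    show lqRed J T d h (L ψ₁ (algebraMap S _ x)) = lqRed J T d h (L ψ₂ (algebraMap S _ x))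
    rw [hL, hL]
    exact AlgHom.congr_fun he x)
  exact AlgHom.ext fun x => by rw [← hL, ← hL, this]

end Groth.Agent.Pure83
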