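import Mathlib.RingTheory.AdicCompletion.Basic
import Mathlib.RingTheory.Noetherian.Basic
import Mathlib.RingTheory.Localization.Away.Basic
import Mathlib.RingTheory.Idempotents
import Mathlib.LinearAlgebra.Matrix.Charpoly.LinearMap
import Mathlib.RingTheory.Localization.Finiteness
import Mathlib.Algebra.Module.Submodule.Pointwise

/-!
# Idempotents on a formal neighbourhood come from an honest neighbourhood

`B` is a finite algebra over `A` and `f ∈ A`. Families of elements of the localizations of `B` at the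
members of a family `c`, compatible modulo all powers of `f`, agree with elements of `B` near `V(f)`,
provided their reductions modulo `f` form a finite module.
-/

universe u

namespace Groth.Agent.Pure83.Germ

set_option linter.unusedSectionVars false

variable {A B : Type u} [CommRing A] [CommRing B] [Algebra A B] {ι : Type} (c : ι → A) (f : A)

/-- The localization at the `i`-th member. -/
abbrev Bc (B : Type u) [CommRing B] [Algebra A B] (i : ι) : Type u :=
  Localization.Away (algebraMap A B (c i))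

/-- The localization at two members. -/
abbrev Bcc (B : Type u) [CommRing B] [Algebra A B] (i j : ι) : Type u :=
  Localization.Away (algebraMap A B (c i) * algebraMap A B (c j))

theorem isUnit_left (i j : ι) : IsUnit (algebraMap B (Bcc c B i j) (algebraMap A B (c i))) :=
  isUnit_of_dvd_unit (map_dvd _ (dvd_mul_right _ (algebraMap A B (c j))))
    (IsLocalization.Away.algebraMap_isUnit _)

theorem isUnit_right (i j : ι) : IsUnit (algebraMap B (Bcc c B i j) (algebraMap A B (c j))) :=
  isUnit_of_dvd_unit (map_dvd _ (dvd_mul_left _ (algebraMap A B (c i))))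
    (IsLocalization.Away.algebraMap_isUnit _)

/-- Restriction from the left factor. -/
noncomputable def r1 (i j : ι) : Bc c B i →ₐ[B] Bcc c B i j where
  __ := IsLocalization.Away.lift (algebraMap A B (c i)) (isUnit_left c i j)
  commutes' b := IsLocalization.Away.lift_eq _ _ b

/-- Restriction from the right factor. -/
noncomputable def r2 (i j : ι) : Bc c B j →ₐ[B] Bcc c B i j where
  __ := IsLocalization.Away.lift (algebraMap A B (c j)) (isUnit_right c i j)
  commutes' b := IsLocalization.Away.lift_eq _ _ b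

theorem r1_f (i j : ι) (a : A) : r1 c i j (algebraMap A (Bc c B i) a) = algebraMap A (Bcc c B i j) a :=
  ((r1 c i j).restrictScalars A).commutes a

theorem r2_f (i j : ι) (a : A) : r2 c i j (algebraMap A (Bc c B j) a) = algebraMap A (Bcc c B i j) a :=
  ((r2 c i j).restrictScalars A).commutes a

theorem r1_smul (i j : ι) (a : A) (x : Bc c B i) : r1 c i j (a • x) = a • r1 c i j x :=
  ((r1 c i j).restrictScalars A).toLinearMap.map_smul a x

theorem r2_smul (i j : ι) (a : A) (x : Bc c B j) : r2 c i j (a • x) = a • r2 c i j x :=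
  ((r2 c i j).restrictScalars A).toLinearMap.map_smul a x

/-- Families compatible modulo `f`. -/
noncomputable def fam : Submodule A (∀ i, Bc c B i) where
  carrier := {x | ∀ i j, algebraMap A (Bcc c B i j) f ∣ r1 c i j (x i) - r2 c i j (x j)}
  add_mem' {x y} hx hy i j := by
    simp only [Pi.add_apply, map_add, add_sub_add_comm]
    exact dvd_add (hx i j) (hy i j)
  zero_mem' i j := by simp
  smul_mem' a x hx i j := by
    simp only [Pi.smul_apply, r1_smul, r2_smul, ← smul_sub]
    rw [Algebra.smul_def]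
    exact Dvd.dvd.mul_left (hx i j) _

/-- Families divisible by `f`. -/
noncomputable def dvdFam : Submodule A (∀ i, Bc c B i) where
  carrier := {x | ∀ i, algebraMap A (Bc c B i) f ∣ x i}
  add_mem' hx hy i := dvd_add (hx i) (hy i)
  zero_mem' i := dvd_zero _
  smul_mem' a x hx i := by
    simp only [Pi.smul_apply, Algebra.smul_def]; exact Dvd.dvd.mul_left (hx i) _

/-- Compatible families divisible by `f`. -/
noncomputable def dvdSub : Submodule A (fam (B := B) c f) :=
  (dvdFam c f).comap (fam (B := B) c f).subtype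

/-- Compatible families modulo `f`. -/
abbrev FamBar (B : Type u) [CommRing B] [Algebra A B] : Type u :=
  ↥(fam (B := B) c f) ⧸ dvdSub (B := B) c f

set_option maxHeartbeats 800000 in
theorem mk_eq_zero {x : fam (B := B) c f} :
    (Submodule.Quotient.mk x : FamBar c f B) = 0 ↔ ∀ i, algebraMap A (Bc c B i) f ∣ (x : ∀ i, Bc c B i) i :=
  (Submodule.Quotient.mk_eq_zero (dvdSub c f) (x := x)).trans Iff.rfl

/-- Families compatible modulo all powers of `f`. -/
noncomputable def coh : Submodule A (ℕ → ∀ i, Bc c B i) where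
  carrier := {x | (∀ n i, algebraMap A (Bc c B i) f ^ (n + 1) ∣ x (n + 1) i - x n i) ∧
    ∀ n i j, algebraMap A (Bcc c B i j) f ^ (n + 1) ∣ r1 c i j (x n i) - r2 c i j (x n j)}
  add_mem' {x y} hx hy := by
    refine ⟨fun n i => ?_, fun n i j => ?_⟩
    · simp only [Pi.add_apply, add_sub_add_comm]; exact dvd_add (hx.1 n i) (hy.1 n i)
    · simp only [Pi.add_apply, map_add, add_sub_add_comm]; exact dvd_add (hx.2 n i j) (hy.2 n i j)
  zero_mem' := ⟨fun n i => by simp, fun n i j => by simp⟩
  smul_mem' a x hx := by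
    refine ⟨fun n i => ?_, fun n i j => ?_⟩
    · show _ ∣ a • x (n + 1) i - a • x n i
      rw [← smul_sub, Algebra.smul_def]; exact Dvd.dvd.mul_left (hx.1 n i) _
    · show _ ∣ r1 c i j (a • x n i) - r2 c i j (a • x n j)
      rw [r1_smul, r2_smul, ← smul_sub, Algebra.smul_def]
      exact Dvd.dvd.mul_left (hx.2 n i j) _

/-- Null families. -/
noncomputable def nul : Submodule A (ℕ → ∀ i, Bc c B i) where
  carrier := {x | ∀ n i, algebraMap A (Bc c B i) f ^ (n + 1) ∣ x n i}
  add_mem' hx hy n i := dvd_add (hx n i) (hy n i)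
  zero_mem' n i := dvd_zero _
  smul_mem' a x hx n i := by
    simp only [Pi.smul_apply, Algebra.smul_def]; exact Dvd.dvd.mul_left (hx n i) _

/-- Constant families. -/
noncomputable def cst : B →ₗ[A] ℕ → ∀ i, Bc c B i :=
  LinearMap.pi fun _ => LinearMap.pi fun i => (IsScalarTower.toAlgHom A B (Bc c B i)).toLinearMap

theorem cst_apply (b : B) (n : ℕ) (i : ι) : cst c b n i = algebraMap B (Bc c B i) b := rfl

theorem cst_mem (b : B) : cst c b ∈ coh (B := B) c f :=
  ⟨fun n i => by simp [cst_apply], fun n i j => by simp [cst_apply]⟩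

variable {c f}

theorem dvd_of_pow_one {R : Type u} [CommRing R] {a b : R} (h : a ^ 1 ∣ b) : a ∣ b := by
  rwa [pow_one] at h

variable (c f) in
/-- The bottom reduction of a coherent family. -/
noncomputable def bottom : coh (B := B) c f →ₗ[A] FamBar c f B where
  toFun x := Submodule.Quotient.mk ⟨(x : ℕ → ∀ i, Bc c B i) 0, fun i j => dvd_of_pow_one (x.2.2 0 i j)⟩
  map_add' x y := rfl
  map_smul' a x := rfl

theorem congr_of_coh {x : ℕ → ∀ i, Bc c B i} (hx : x ∈ coh c f) {m n : ℕ} (h : m ≤ n) (i : ι) :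
    algebraMap A (Bc c B i) f ^ (m + 1) ∣ x n i - x m i := by
  induction n, h using Nat.le_induction with
  | base => simp
  | succ n hmn ih =>
    rw [← sub_add_sub_cancel (x (n + 1) i) (x n i) (x m i)]
    exact dvd_add ((pow_dvd_pow _ (by omega)).trans (hx.1 n i)) ih

section

variable (hreg : IsSMulRegular B f)
include hreg

theorem regular_loc (R : Type u) [CommRing R] [Algebra A R] [Algebra B R] [IsScalarTower A B R]
    (x : B) [IsLocalization.Away x R] : IsSMulRegular R f := by
  refine isSMulRegular_iff_right_eq_zero_of_smul.mpr fun z hz => ?_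
  obtain ⟨b, s, rfl⟩ := IsLocalization.exists_mk'_eq (Submonoid.powers x) z
  rw [Algebra.smul_def, IsScalarTower.algebraMap_apply A B R, IsLocalization.mul_mk'_eq_mk'_of_mul,
    IsLocalization.mk'_eq_zero_iff] at hz
  obtain ⟨m, hm⟩ := hz
  refine (IsLocalization.mk'_eq_zero_iff _ _).mpr ⟨m, hreg.right_eq_zero_of_smul ?_⟩
  rw [Algebra.smul_def, mul_left_comm]
  exact hm

theorem dvd_cancel (R : Type u) [CommRing R] [Algebra A R] [Algebra B R] [IsScalarTower A B R]
    (x : B) [IsLocalization.Away x R] {z : R} {n : ℕ}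
    (h : algebraMap A R f ^ (n + 1) ∣ algebraMap A R f * z) : algebraMap A R f ^ n ∣ z := by
  obtain ⟨w, hw⟩ := h
  refine ⟨w, regular_loc hreg R x ?_⟩
  simp only [Algebra.smul_def, hw, pow_succ']
  ring

/-- A coherent family which vanishes at the bottom is divisible by `f`. -/
theorem exists_div {x : ℕ → ∀ i, Bc c B i} (hx : x ∈ coh c f)
    (h0 : ∀ i, algebraMap A (Bc c B i) f ∣ x 0 i) :
    ∃ y ∈ coh (B := B) c f, x - f • y ∈ nul c f := by
  have hd : ∀ n i, algebraMap A (Bc c B i) f ∣ x (n + 1) i := fun n i => by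
    rw [← sub_add_cancel (x (n + 1) i) (x 0 i)]
    exact dvd_add ((pow_one _).symm.dvd.trans (congr_of_coh hx (Nat.zero_le _) i)) (h0 i)
  choose y hy using hd
  refine ⟨y, ⟨fun n i => ?_, fun n i j => ?_⟩, fun n i => ?_⟩
  · refine dvd_cancel hreg (Bc c B i) (algebraMap A B (c i)) ?_
    rw [mul_sub, ← hy, ← hy]
    exact hx.1 (n + 1) i
  · refine dvd_cancel hreg (Bcc c B i j) (algebraMap A B (c i) * algebraMap A B (c j)) ?_
    have := hx.2 (n + 1) i j
    rw [hy, hy, map_mul, map_mul, r1_f, r2_f, ← mul_sub] at this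
    exact this
  · show _ ∣ x n i - f • y n i
    rw [Algebra.smul_def, ← hy, ← neg_sub, dvd_neg]
    exact hx.1 n i

set_option maxHeartbeats 1600000 in
/-- The coherent families form a finite module modulo null families. -/
theorem exists_generators [IsNoetherianRing A] [IsPrecomplete (Ideal.span {f}) A]
    (hS : Module.Finite A (FamBar c f B)) :
    ∃ T : Finset (ℕ → ∀ i, Bc c B i), (∀ s ∈ T, s ∈ coh c f) ∧
      coh c f ≤ Submodule.span A (T : Set (ℕ → ∀ i, Bc c B i)) ⊔ nul c f := by
  classical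
  let p0 : coh (B := B) c f →ₗ[A] FamBar c f B := bottom c f
  have : IsNoetherian A (FamBar c f B) := isNoetherian_of_isNoetherianRing_of_finite A _
  obtain ⟨T, hT⟩ := IsNoetherian.noetherian (LinearMap.range p0)
  have hmem : ∀ x : T, ∃ s, p0 s = x.1 := fun x => hT.le (Submodule.subset_span x.2)
  choose S hS using hmem
  refine ⟨Finset.univ.image fun x => (S x : ℕ → ∀ i, Bc c B i), ?_, fun s hs => ?_⟩
  · intro s hs
    obtain ⟨x, -, rfl⟩ := Finset.mem_image.mp hs
    exact (S x).2
  have hdec : ∀ s : coh (B := B) c f, ∃ (a : T → A) (t : coh (B := B) c f),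
      (s : ℕ → ∀ i, Bc c B i) - (∑ x : T, a x • (S x : ℕ → ∀ i, Bc c B i) + f • (t : ℕ → ∀ i, Bc c B i)) ∈
        nul c f := by
    intro s
    have hs : p0 s ∈ Submodule.span A (Set.range fun x : T => (x : FamBar c f B)) := by
      rw [Subtype.range_coe_subtype]
      exact hT.ge ⟨s, rfl⟩
    obtain ⟨a, ha⟩ := Submodule.mem_span_range_iff_exists_fun A |>.mp hs
    let w : coh (B := B) c f := s - ∑ x : T, a x • S x
    have hw : p0 w = 0 := by simp only [w, map_sub, map_sum, map_smul, hS, ha, sub_self]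
    obtain ⟨y, hy, hyn⟩ := exists_div hreg w.2 ((mk_eq_zero c f).mp hw)
    refine ⟨a, ⟨y, hy⟩, ?_⟩
    simpa [w, sub_add_eq_sub_sub] using hyn
  choose a nx hax using hdec
  let t : ℕ → coh (B := B) c f := fun j => Nat.rec ⟨s, hs⟩ (fun _ z => nx z) j
  let α : T → ℕ → A := fun x j => ∑ l ∈ Finset.range j, f ^ l * a (t l) x
  have key : ∀ j, s - (∑ x : T, α x j • (S x : ℕ → ∀ i, Bc c B i) + f ^ j • (t j).1) ∈
      nul c f := by
    intro j
    induction j with
    | zero => simp [α, t]
    | succ j ih =>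
      have h2 := add_mem ih ((nul c f).smul_mem (f ^ j) (hax (t j)))
      convert h2 using 1
      simp only [α, Finset.sum_range_succ, add_smul, Finset.sum_add_distrib, smul_sub, smul_add,
        Finset.smul_sum, smul_smul, ← pow_succ]
      show _ - (_ + f ^ (j + 1) • (nx (t j)).1) = _
      abel
  have hL : ∀ x : T, ∃ L : A, ∀ j, α x j ≡ L [SMOD (Ideal.span {f} ^ j • ⊤ : Submodule A A)] := by
    intro x
    refine IsPrecomplete.prec ‹_› fun {m n} hmn => ?_
    rw [SModEq.sub_mem, Ideal.span_singleton_pow, smul_eq_mul, Ideal.mul_top,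
      Ideal.mem_span_singleton]
    refine dvd_sub_comm.mp ?_
    simp only [α, ← Finset.sum_range_add_sum_Ico _ hmn, add_sub_cancel_left]
    exact Finset.dvd_sum fun l hl => (pow_dvd_pow f (Finset.mem_Ico.mp hl).1).trans (dvd_mul_right _ _)
  choose L hL using hL
  have hn : s - ∑ x : T, L x • (S x : ℕ → ∀ i, Bc c B i) ∈ nul c f := by
    intro n i
    have hd : ∀ x : T, ∃ b, α x (n + 1) - L x = f ^ (n + 1) * b := fun x => by
      have h1 := hL x (n + 1)
      rw [SModEq.sub_mem, Ideal.span_singleton_pow, smul_eq_mul, Ideal.mul_top,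
        Ideal.mem_span_singleton] at h1
      exact h1
    choose b hb using hd
    let F := algebraMap A (Bc c B i) f ^ (n + 1)
    have h1 : F ∣ (f ^ (n + 1) • (∑ x : T, b x • (S x : ℕ → ∀ i, Bc c B i) +
        (t (n + 1)).1)) n i := by
      simp only [F, Pi.smul_apply, Algebra.smul_def, map_pow]
      exact dvd_mul_right _ _
    have h2 : F ∣ _ := dvd_add (key (n + 1) n i) h1
    convert h2 using 1
    rw [← Pi.add_apply, ← Pi.add_apply]
    refine congrFun (congrFun ?_ n) i
    simp only [smul_add, Finset.smul_sum, smul_smul, ← hb, sub_smul, Finset.sum_sub_distrib]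
    abel
  rw [← sub_add_cancel s (∑ x : T, L x • (S x : ℕ → ∀ i, Bc c B i))]
  refine add_mem (Submodule.mem_sup_right hn) (Submodule.mem_sup_left ?_)
  exact Submodule.sum_mem _ fun x _ => Submodule.smul_mem _ _
    (Submodule.subset_span (Finset.mem_image_of_mem _ (Finset.mem_univ x)))

end

/-- A finite module divisible by `f` up to powers of `s` is killed outside primes containing `f` and
not `s`. -/
theorem exists_notMem_kill {Q : Type u} [AddCommGroup Q] [Module A Q] [Module.Finite A Q] {s : A}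
    (q : Ideal A) [q.IsPrime] (hf : f ∈ q) (hs : s ∉ q) (h : ∀ x : Q, ∃ k y, s ^ k • x = f • y) :
    ∃ a ∉ q, ∀ x : Q, a • x = 0 := by
  classical
  obtain ⟨T, hT⟩ := (Module.Finite.fg_top : (⊤ : Submodule A Q).FG)
  choose k y hy using h
  let K := T.sup k
  have hK : ∀ x : Q, ∃ z, s ^ K • x = f • z := fun x => by
    induction (hT.ge trivial : x ∈ Submodule.span A (T : Set Q)) using Submodule.span_induction with
    | mem x hx =>
      exact ⟨s ^ (K - k x) • y x, by
        rw [smul_comm f, ← hy, smul_smul, ← pow_add, Nat.sub_add_cancel (Finset.le_sup hx)]⟩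
    | zero => exact ⟨0, by simp⟩
    | add a b _ _ ha hb =>
      obtain ⟨z, hz⟩ := ha; obtain ⟨w, hw⟩ := hb
      exact ⟨z + w, by rw [smul_add, hz, hw, smul_add]⟩
    | smul r a _ ha =>
      obtain ⟨z, hz⟩ := ha
      exact ⟨r • z, by rw [smul_comm, hz, smul_comm]⟩
  let φ : Module.End A Q := algebraMap A _ (s ^ K)
  obtain ⟨p, hp, -, hpc, hp0⟩ := LinearMap.exists_monic_and_natDegree_eq_and_coeff_mem_pow_and_aeval_eq_zero
    A φ (Ideal.span {f}) (by
      rintro _ ⟨x, rfl⟩
      obtain ⟨z, hz⟩ := hK x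
      show s ^ K • x ∈ _
      rw [hz]
      exact Submodule.smul_mem_smul (Ideal.mem_span_singleton_self f) trivial)
  refine ⟨p.eval (s ^ K), fun hmem => ?_, fun x => ?_⟩
  · refine hs (Ideal.IsPrime.mem_of_pow_mem ‹_› (K * p.natDegree) ?_)
    rw [Polynomial.eval_eq_sum_range, Finset.sum_range_succ, Polynomial.Monic.coeff_natDegree hp,
      one_mul, ← pow_mul] at hmem
    refine (Ideal.add_mem_iff_right q (Submodule.sum_mem _ fun j hj => ?_)).mp hmem
    refine q.mul_mem_right _ ?_
    have h1 : Ideal.span {f} ^ (p.natDegree - j) ≤ q :=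
      (Ideal.pow_le_self (Nat.sub_ne_zero_of_lt (Finset.mem_range.mp hj))).trans
        ((Ideal.span_singleton_le_iff_mem _).mpr hf)
    exact h1 (hpc j)
  · have := congrArg (fun g : Module.End A Q => g x) hp0
    rw [Polynomial.aeval_algebraMap_apply_eq_algebraMap_eval] at this
    exact this

section Main

variable (B) (c f)
variable [Finite ι]

/-- The kernel of the map to coherent families. -/
noncomputable def ker : Submodule A B := (nul c f).comap (cst c)

variable {B c f}

theorem exists_pow_smul_dvd (i : ι) {j : ι} {z : Bc c B j}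
    (h : algebraMap A (Bcc c B i j) f ∣ r2 c i j z) :
    ∃ k : ℕ, algebraMap A (Bc c B j) f ∣ c i ^ k • z := by
  obtain ⟨w, hw⟩ := h
  obtain ⟨b, ⟨_, m, rfl⟩, hb⟩ := IsLocalization.exists_mk'_eq
    (Submonoid.powers (algebraMap A B (c i) * algebraMap A B (c j))) w
  obtain ⟨bz, ⟨_, l, rfl⟩, hbz⟩ := IsLocalization.exists_mk'_eq (Submonoid.powers (algebraMap A B (c j))) z
  have hu1 : r2 c i j z * algebraMap B (Bcc c B i j) (algebraMap A B (c j) ^ l) =
      algebraMap B (Bcc c B i j) bz := by
    rw [← AlgHom.commutes (r2 c i j), ← AlgHom.commutes (r2 c i j) bz, ← map_mul, ← hbz]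
    exact congrArg (r2 c i j) (IsLocalization.mk'_spec _ _ _)
  have hu2 : w * algebraMap B (Bcc c B i j) ((algebraMap A B (c i) * algebraMap A B (c j)) ^ m) =
      algebraMap B (Bcc c B i j) b := by
    rw [← hb, IsLocalization.mk'_spec]
  have heq : algebraMap B (Bcc c B i j) (bz * (algebraMap A B (c i) * algebraMap A B (c j)) ^ m) =
      algebraMap B (Bcc c B i j) (algebraMap A B f * b * algebraMap A B (c j) ^ l) := by
    rw [map_mul, map_mul, map_mul, ← hu1, ← hu2, hw, IsScalarTower.algebraMap_apply A B (Bcc c B i j)]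
    ring
  obtain ⟨⟨_, e, rfl⟩, he⟩ := (IsLocalization.eq_iff_exists
    (Submonoid.powers (algebraMap A B (c i) * algebraMap A B (c j))) (Bcc c B i j)).mp heq
  refine ⟨e + m, ?_⟩
  have hcu := IsLocalization.Away.algebraMap_isUnit (S := Bc c B j) (algebraMap A B (c j))
  refine ((hcu.pow (e + m + l)).dvd_mul_right).mp ?_
  refine ⟨algebraMap B (Bc c B j) ((algebraMap A B (c i) * algebraMap A B (c j)) ^ e * b *
    algebraMap A B (c j) ^ l), ?_⟩
  have hz' : z * algebraMap B (Bc c B j) (algebraMap A B (c j) ^ l) = algebraMap B (Bc c B j) bz := by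
    rw [← hbz, IsLocalization.mk'_spec]
  rw [Algebra.smul_def, IsScalarTower.algebraMap_apply A B (Bc c B j),
    IsScalarTower.algebraMap_apply A B (Bc c B j) f, map_pow (algebraMap A B)]
  have he' := congrArg (algebraMap B (Bc c B j)) he
  simp only [map_mul, map_pow] at he' hz' ⊢
  rw [← hz'] at he'
  linear_combination he'

theorem exists_kill_coker [IsNoetherianRing A] [IsPrecomplete (Ideal.span {f}) A]
    (hreg : IsSMulRegular B f) (hS : Module.Finite A (FamBar c f B))
    (q : Ideal A) [q.IsPrime] (hf : f ∈ q) {i : ι} (hi : c i ∉ q) :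
    ∃ a ∉ q, ∀ x ∈ coh (B := B) c f, a • x ∈ LinearMap.range (cst c) ⊔ nul c f := by
  classical
  obtain ⟨T, hT, hle⟩ := exists_generators hreg hS
  let N0 := (LinearMap.range (cst (B := B) c) ⊔ nul c f).comap (coh (B := B) c f).subtype
  have : Module.Finite A (coh (B := B) c f ⧸ N0) := by
    refine ⟨⟨T.attach.image fun x => N0.mkQ ⟨x.1, hT x.1 x.2⟩, eq_top_iff.mpr fun z _ => ?_⟩⟩
    obtain ⟨⟨x, hx⟩, rfl⟩ := N0.mkQ_surjective z
    obtain ⟨u, hu, v, hv, rfl⟩ := Submodule.mem_sup.mp (hle hx)
    obtain ⟨a, -, ha⟩ := Submodule.mem_span_finset.mp hu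
    subst ha
    have : N0.mkQ ⟨_, hx⟩ = ∑ y ∈ T.attach, a y.1 • N0.mkQ ⟨y.1, hT y.1 y.2⟩ := by
      simp only [← map_smul, ← map_sum]
      refine (Submodule.Quotient.eq N0).mpr (Submodule.mem_comap.mpr ?_)
      simp only [map_sub, map_sum, map_smul, Submodule.subtype_apply]
      rw [Finset.sum_attach T fun y => a y • y, add_sub_cancel_left]
      exact Submodule.mem_sup_right hv
    rw [this]
    exact Submodule.sum_mem _ fun y hy => Submodule.smul_mem _ _
      (Submodule.subset_span (Finset.mem_coe.mpr (Finset.mem_image_of_mem _ hy)))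
  obtain ⟨a, ha, hkill⟩ := exists_notMem_kill (f := f) (Q := coh (B := B) c f ⧸ N0) (s := c i) q hf hi (by
    intro z
    obtain ⟨⟨x, hx⟩, rfl⟩ := N0.mkQ_surjective z
    obtain ⟨b, ⟨_, k, rfl⟩, hb⟩ := IsLocalization.exists_mk'_eq
      (Submonoid.powers (algebraMap A B (c i))) (x 0 i)
    let w := c i ^ k • x - cst c b
    have hw : w ∈ coh c f := sub_mem ((coh c f).smul_mem _ hx) (cst_mem c f b)
    have hwi : w 0 i = 0 := by
      show c i ^ k • x 0 i - algebraMap B (Bc c B i) b = 0
      rw [Algebra.smul_def, IsScalarTower.algebraMap_apply A B (Bc c B i), map_pow, ← hb]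
      refine sub_eq_zero.mpr ?_
      have h := (IsLocalization.mk'_spec' (M := Submonoid.powers (algebraMap A B (c i))) (Bc c B i) b
        ⟨algebraMap A B (c i) ^ k, k, rfl⟩)
      simp only [map_pow] at h ⊢
      exact h
    have hd : ∀ j, ∃ l : ℕ, algebraMap A (Bc c B j) f ∣ c i ^ l • w 0 j := fun j => by
      refine exists_pow_smul_dvd (f := f) i ?_
      have h := hw.2 0 i j
      rw [zero_add, pow_one, hwi, map_zero, zero_sub, dvd_neg] at h
      exact h
    choose l hl using hd
    obtain ⟨m, hm⟩ := Finite.exists_le l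
    obtain ⟨y, hy, hyn⟩ := exists_div hreg ((coh c f).smul_mem (c i ^ m) hw) (fun j => by
      show _ ∣ c i ^ m • w 0 j
      rw [← Nat.sub_add_cancel (hm j), pow_add, mul_smul, Algebra.smul_def]
      exact (hl j).mul_left _)
    refine ⟨m + k, N0.mkQ ⟨y, hy⟩, ?_⟩
    rw [← map_smul, ← map_smul]
    refine (Submodule.Quotient.eq N0).mpr (Submodule.mem_comap.mpr ?_)
    show c i ^ (m + k) • x - f • y ∈ _
    have : c i ^ (m + k) • x - f • y = cst c (c i ^ m • b) + (c i ^ m • w - f • y) := by
      simp only [w, map_smul, smul_sub, smul_smul, ← pow_add]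
      abel
    rw [this]
    exact Submodule.add_mem_sup ⟨_, rfl⟩ hyn)
  refine ⟨a, ha, fun x hx => ?_⟩
  have := hkill (N0.mkQ ⟨x, hx⟩)
  rw [← map_smul, Submodule.mkQ_apply, Submodule.Quotient.mk_eq_zero] at this
  exact this

theorem exists_kill_ker [IsNoetherianRing A] [Module.Finite A B] (hreg : IsSMulRegular B f)
    (q : Ideal A) [q.IsPrime] (hf : f ∈ q) {i : ι} (hi : c i ∉ q) :
    ∃ a ∉ q, ∀ b ∈ ker B c f, a • b = 0 := by
  have : Module.Finite A (ker B c f) :=
    Module.Finite.iff_fg.mpr (IsNoetherian.noetherian (ker B c f))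
  obtain ⟨a, ha, hkill⟩ := exists_notMem_kill (f := f) (Q := ker B c f) (s := c i) q hf hi (by
    rintro ⟨b, hb⟩
    obtain ⟨w, hw⟩ : algebraMap A (Bc c B i) f ∣ algebraMap B (Bc c B i) b := dvd_of_pow_one (hb 0 i)
    obtain ⟨b', ⟨_, k, rfl⟩, hb'⟩ := IsLocalization.exists_mk'_eq
      (Submonoid.powers (algebraMap A B (c i))) w
    have h1 : algebraMap B (Bc c B i) (b * algebraMap A B (c i) ^ k) =
        algebraMap B (Bc c B i) (algebraMap A B f * b') := by
      rw [map_mul, map_mul, hw, ← hb', IsScalarTower.algebraMap_apply A B (Bc c B i), mul_assoc]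
      congr 1
      exact IsLocalization.mk'_spec (Bc c B i) b' _
    obtain ⟨⟨_, e, rfl⟩, he⟩ := (IsLocalization.eq_iff_exists
      (Submonoid.powers (algebraMap A B (c i))) (Bc c B i)).mp h1
    have he' : c i ^ (e + k) • b = f • (c i ^ e • b') := by
      simp only [Algebra.smul_def, map_pow]
      linear_combination he
    refine ⟨e + k, ⟨c i ^ e • b', fun n j => ?_⟩, Subtype.ext he'⟩
    refine dvd_cancel hreg (Bc c B j) (algebraMap A B (c j)) ?_
    have h2 : algebraMap A (Bc c B j) f ^ (n + 1 + 1) ∣ cst c (c i ^ (e + k) • b) (n + 1) j := by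
      rw [map_smul]
      exact (nul c f).smul_mem (c i ^ (e + k)) hb (n + 1) j
    rw [he', cst_apply, Algebra.smul_def, map_mul, ← IsScalarTower.algebraMap_apply] at h2
    rw [cst_apply]
    exact h2)
  exact ⟨a, ha, fun b hb => congrArg Subtype.val (hkill ⟨b, hb⟩)⟩

omit [Finite ι] in
/-- Idempotents modulo a power of `F` which agree modulo `F` agree. -/
theorem idem_unique {R : Type u} [CommRing R] {F a b : R} {n : ℕ} (ha : F ^ (n + 1) ∣ a * a - a)
    (hb : F ^ (n + 1) ∣ b * b - b) (h : F ∣ a - b) : F ^ (n + 1) ∣ a - b := by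
  let q := Ideal.Quotient.mk (Ideal.span {F ^ (n + 1)})
  have hq : ∀ z, F ^ (n + 1) ∣ z → q z = 0 := fun z hz =>
    Ideal.Quotient.eq_zero_iff_mem.mpr (Ideal.mem_span_singleton.mpr hz)
  have hid : ∀ z, F ^ (n + 1) ∣ z * z - z → IsIdempotentElem (q z) := fun z hz => by
    have := hq _ hz
    rwa [map_sub, map_mul, sub_eq_zero] at this
  have := eq_of_isNilpotent_sub_of_isIdempotentElem (hid a ha) (hid b hb) (by
    obtain ⟨w, hw⟩ := h
    refine ⟨n + 1, ?_⟩
    rw [← map_sub, ← map_pow, hw, mul_pow]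
    exact hq _ (dvd_mul_right _ _))
  exact Ideal.mem_span_singleton.mp (Ideal.Quotient.eq.mp this)

/-- Newton's iteration for idempotents. -/
def newton {R : Type u} [CommRing R] (e : R) : R := 3 * (e * e) - 2 * (e * e * e)

omit [Finite ι] in
theorem newton_spec {R : Type u} [CommRing R] {F e : R} (h : F ∣ e * e - e) : ∀ n : ℕ,
    F ^ (n + 1) ∣ newton^[n] e * newton^[n] e - newton^[n] e ∧ F ∣ newton^[n] e - e := by
  intro n
  induction n with
  | zero => simp [h]
  | succ n ih =>
    rw [Function.iterate_succ_apply']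
    generalize newton^[n] e = x at ih
    obtain ⟨w, hw⟩ := ih.1
    refine ⟨?_, ?_⟩
    · have : newton x * newton x - newton x = (x * x - x) * (x * x - x) * (4 * (x * x - x) - 3) := by
        simp only [newton]; ring
      rw [this]
      refine Dvd.dvd.mul_right ((pow_dvd_pow F (show n + 1 + 1 ≤ (n + 1) + (n + 1) by omega)).trans ?_) _
      rw [pow_add]
      exact mul_dvd_mul ih.1 ih.1
    · have : newton x - e = (x * x - x) * (1 - 2 * x) + (x - e) := by simp only [newton]; ring
      rw [this]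
      exact dvd_add (((dvd_pow_self F n.succ_ne_zero).trans ih.1).mul_right _) ih.2

/-- Idempotents on the closed subscheme come from a neighbourhood. -/
theorem exists_germ [IsNoetherianRing A] [IsPrecomplete (Ideal.span {f}) A] [Module.Finite A B]
    (hreg : IsSMulRegular B f) (hS : Module.Finite A (FamBar c f B)) :
    ∃ 𝔞 : Ideal A, (∀ q : Ideal A, q.IsPrime → f ∈ q → (∃ i, c i ∉ q) → ¬ 𝔞 ≤ q) ∧
      ∀ ε ∈ fam (B := B) c f, (∀ i, algebraMap A (Bc c B i) f ∣ ε i * ε i - ε i) →
        ∃ b : A → B, ∀ d ∈ 𝔞, d • (b d * (b d - algebraMap A B d)) = 0 ∧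
          (∀ d' ∈ 𝔞, d • (d' • b d - d • b d') = 0) ∧
          ∀ i, algebraMap A (Bc c B i) f ∣ algebraMap B (Bc c B i) (b d) - d • ε i := by
  classical
  let 𝔞₁ : Ideal A :=
    { carrier := {a | ∀ x ∈ coh (B := B) c f, a • x ∈ LinearMap.range (cst c) ⊔ nul c f}
      add_mem' := fun ha hb x hx => by rw [add_smul]; exact add_mem (ha x hx) (hb x hx)
      zero_mem' := fun x _ => by rw [zero_smul]; exact zero_mem _
      smul_mem' := fun r a ha x hx => by
        rw [smul_eq_mul, mul_smul]; exact Submodule.smul_mem _ _ (ha x hx) }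
  let 𝔞₂ : Ideal A :=
    { carrier := {a | ∀ b ∈ ker B c f, a • b = 0}
      add_mem' := fun ha hb x hx => by rw [add_smul, ha x hx, hb x hx, add_zero]
      zero_mem' := fun x _ => zero_smul _ _
      smul_mem' := fun r a ha x hx => by rw [smul_eq_mul, mul_smul, ha x hx, smul_zero] }
  refine ⟨𝔞₁ ⊓ 𝔞₂, fun q hq hfq ⟨i, hi⟩ hle => ?_, fun ε hε hidem => ?_⟩
  · obtain ⟨a, ha, hka⟩ := exists_kill_coker hreg hS q hfq hi
    obtain ⟨a', ha', hka'⟩ := exists_kill_ker (B := B) (c := c) hreg q hfq hi
    rcases hq.mem_or_mem (hle ⟨𝔞₁.mul_mem_right a' hka, 𝔞₂.mul_mem_left a hka'⟩) with h | h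
    exacts [ha h, ha' h]
  let x : ℕ → ∀ i, Bc c B i := fun n i => newton^[n] (ε i)
  have hxx : ∀ n i, algebraMap A (Bc c B i) f ^ (n + 1) ∣ x n i * x n i - x n i :=
    fun n i => (newton_spec (hidem i) n).1
  have hxe : ∀ n i, algebraMap A (Bc c B i) f ∣ x n i - ε i := fun n i => (newton_spec (hidem i) n).2
  have hx : x ∈ coh c f := by
    refine ⟨fun n i => idem_unique ((pow_dvd_pow _ (Nat.le_succ _)).trans (hxx (n + 1) i)) (hxx n i) ?_,
      fun n i j => idem_unique ?_ ?_ ?_⟩
    · rw [← sub_sub_sub_cancel_right (x (n + 1) i) (x n i) (ε i)]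
      exact dvd_sub (hxe _ i) (hxe _ i)
    · have := map_dvd (r1 c i j) (hxx n i)
      rwa [map_pow, r1_f, map_sub, map_mul] at this
    · have := map_dvd (r2 c i j) (hxx n j)
      rwa [map_pow, r2_f, map_sub, map_mul] at this
    · have h1 := map_dvd (r1 c i j) (hxe n i)
      have h2 := map_dvd (r2 c i j) (hxe n j)
      rw [r1_f, map_sub] at h1
      rw [r2_f, map_sub] at h2
      have := dvd_add (dvd_sub h1 h2) (hε i j)
      convert this using 1
      abel
  have hb : ∀ d, ∃ b : B, d ∈ 𝔞₁ → d • x - cst c b ∈ nul c f := fun d => by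
    by_cases hd : d ∈ 𝔞₁
    · obtain ⟨_, ⟨b, rfl⟩, v, hv, e⟩ := Submodule.mem_sup.mp (hd x hx)
      exact ⟨b, fun _ => by rw [← e, add_sub_cancel_left]; exact hv⟩
    · exact ⟨0, fun h => absurd h hd⟩
  choose b hb using hb
  have hnul : ∀ d ∈ 𝔞₁, ∀ n i, algebraMap A (Bc c B i) f ^ (n + 1) ∣
      algebraMap A (Bc c B i) d * x n i - algebraMap B (Bc c B i) (b d) := fun d hd n i => by
    rw [← Algebra.smul_def]
    exact hb d hd n i
  refine ⟨b, fun d hd => ⟨hd.2 _ fun n i => ?_, fun d' hd' => hd.2 _ fun n i => ?_, fun i => ?_⟩⟩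
  · have h1 := hnul d hd.1 n i
    have h2 := hxx n i
    rw [cst_apply, map_mul, map_sub, ← IsScalarTower.algebraMap_apply A B (Bc c B i)]
    generalize algebraMap B (Bc c B i) (b d) = y at h1
    generalize algebraMap A (Bc c B i) d = D at h1
    generalize x n i = z at h1 h2
    have : y * (y - D) = D * D * (z * z - z) - (D * z - y) * (y + D * z - D) := by ring
    rw [this]
    exact dvd_sub (h2.mul_left _) (h1.mul_right _)
  · have h1 := hnul d hd.1 n i
    have h2 := hnul d' hd'.1 n i
    rw [cst_apply, map_sub, Algebra.smul_def, Algebra.smul_def, map_mul, map_mul,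
      ← IsScalarTower.algebraMap_apply A B (Bc c B i), ← IsScalarTower.algebraMap_apply A B (Bc c B i)]
    convert dvd_sub (h2.mul_left (algebraMap A (Bc c B i) d)) (h1.mul_left (algebraMap A (Bc c B i) d')) using 1
    ring
  · have h1 := dvd_of_pow_one (hnul d hd.1 0 i)
    rw [Algebra.smul_def, ← dvd_neg, neg_sub]
    exact h1

end Main

end Groth.Agent.Pure83.Germ
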