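import Groth.Agent.Pure83.GermAlg
import Groth.Agent.Pure83.SectionFinite
import Groth.Agent.LC16.DTH

/-!
# Finiteness of compatible families on a punctured hypersurface
-/

universe u

open LocCoh

namespace Groth.Agent.Pure83.Germ

set_option linter.unusedSectionVars false

variable {A B : Type u} [CommRing A] [CommRing B] [Algebra A B] {ι : Type} {c : ι → A} {f : A}

theorem cst_mem_fam (b : B) : cst c b 0 ∈ fam (B := B) c f :=
  fun i j => dvd_of_pow_one ((cst_mem c f b).2 0 i j)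

variable (B c f) in
/-- Constant compatible families. -/
noncomputable def cstFam : B →ₗ[A] fam (B := B) c f where
  toFun b := ⟨cst c b 0, cst_mem_fam b⟩
  map_add' x y := Subtype.ext (congrFun (map_add (cst c) x y) 0)
  map_smul' a x := Subtype.ext (congrFun (map_smul (cst c) a x) 0)

variable (B c f) in
/-- The reduction of `B` maps to families. -/
noncomputable def mkFam : fam (B := B) c f →ₗ[A] FamBar c f B := (dvdSub (B := B) c f).mkQ

variable (B c f) in
/-- The reduction of `B` maps to families. -/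
noncomputable def toFam : B →ₗ[A] FamBar c f B where
  toFun b := mkFam B c f (cstFam B c f b)
  map_add' x y := (congrArg (mkFam B c f) (map_add (cstFam B c f) x y)).trans (map_add (mkFam B c f) _ _)
  map_smul' a x := (congrArg (mkFam B c f) (map_smul (cstFam B c f) a x)).trans (map_smul (mkFam B c f) _ _)

theorem toFam_apply (b : B) :
    toFam B c f b = Submodule.Quotient.mk ⟨cst c b 0, cst_mem_fam b⟩ := rfl

theorem isUnit_loc (i : ι) : IsUnit (algebraMap A (Bc c B i) (c i)) := by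
  rw [IsScalarTower.algebraMap_apply A B (Bc c B i)]
  exact IsLocalization.Away.algebraMap_isUnit _

theorem smul_famBar (z : FamBar c f B) : f • z = 0 := by
  obtain ⟨x, rfl⟩ := Submodule.Quotient.mk_surjective _ z
  rw [← Submodule.Quotient.mk_smul, mk_eq_zero]
  exact fun i => ⟨x.1 i, Algebra.smul_def f (x.1 i)⟩

/-- A power of a member of the family moves any element into the image. -/
theorem exists_pow_smul_mem [Finite ι] (z : FamBar c f B) (i : ι) :
    ∃ k : ℕ, c i ^ k • z ∈ LinearMap.range (toFam B c f) := by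
  obtain ⟨⟨x, hx⟩, rfl⟩ := Submodule.Quotient.mk_surjective _ z
  obtain ⟨b, ⟨_, k, rfl⟩, hb⟩ := IsLocalization.exists_mk'_eq
    (Submonoid.powers (algebraMap A B (c i))) (x i)
  let w := c i ^ k • x - cst c b 0
  have hw : w ∈ fam (B := B) c f := sub_mem ((fam c f).smul_mem _ hx) (cst_mem_fam b)
  have hwi : w i = 0 := by
    show c i ^ k • x i - algebraMap B (Bc c B i) b = 0
    rw [Algebra.smul_def, IsScalarTower.algebraMap_apply A B (Bc c B i), map_pow, ← hb]
    refine sub_eq_zero.mpr ?_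
    have h := (IsLocalization.mk'_spec' (M := Submonoid.powers (algebraMap A B (c i))) (Bc c B i) b
      ⟨algebraMap A B (c i) ^ k, k, rfl⟩)
    simp only [map_pow] at h ⊢
    exact h
  have hd : ∀ j, ∃ l : ℕ, algebraMap A (Bc c B j) f ∣ c i ^ l • w j := fun j => by
    refine exists_pow_smul_dvd i ?_
    have h := hw i j
    rw [hwi, map_zero, zero_sub, dvd_neg] at h
    exact h
  choose l hl using hd
  obtain ⟨m, hm⟩ := Finite.exists_le l
  refine ⟨m + k, c i ^ m • b, ?_⟩
  rw [map_smul, toFam_apply, ← Submodule.Quotient.mk_smul, ← Submodule.Quotient.mk_smul,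
    eq_comm, ← sub_eq_zero, ← Submodule.Quotient.mk_sub, mk_eq_zero]
  intro j
  show _ ∣ c i ^ (m + k) • x j - c i ^ m • (cst c b 0 j)
  rw [pow_add, mul_smul, ← smul_sub]
  show _ ∣ c i ^ m • w j
  rw [← Nat.sub_add_cancel (hm j), pow_add, mul_smul, Algebra.smul_def]
  exact (hl j).mul_left _

variable {m : Ideal A} [IsNoetherianRing A] [Finite ι]

/-- Elements moved into a submodule by `f` and by powers of the family are moved by a power of the
maximal ideal. -/
theorem exists_pow_smul_max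
    (hrad : m ≤ (Ideal.span (insert f (Set.range c))).radical)
    {N : Type u} [AddCommGroup N] [Module A N] (z : N) (S : Submodule A N)
    (hk : ∀ i, ∃ k : ℕ, c i ^ k • z ∈ S) (hfz : f • z ∈ S) :
    ∃ n, ∀ a ∈ m ^ n, a • z ∈ S := by
  let J : Ideal A := S.comap (LinearMap.toSpanSingleton A N z)
  have hJ : m ≤ J.radical :=
    hrad.trans (Ideal.radical_le_radical_iff.mpr (Ideal.span_le.mpr (by
      rintro _ (rfl | ⟨i, rfl⟩)
      · exact Ideal.le_radical hfz
      · obtain ⟨k, hk⟩ := hk i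
        exact ⟨k, hk⟩)))
  obtain ⟨n, hn⟩ := Ideal.exists_pow_le_of_le_radical_of_fg hJ (IsNoetherian.noetherian _)
  exact ⟨n, fun a ha => hn ha⟩

variable (B f) in
/-- The multiples of `f`. -/
abbrev fSub : Submodule A B := LinearMap.range (LinearMap.lsmul A B f)

theorem smul_quot (z : B ⧸ fSub B f) : f • z = 0 := by
  obtain ⟨b, rfl⟩ := (fSub B f).mkQ_surjective z
  rw [← map_smul]
  exact (Submodule.Quotient.mk_eq_zero _).mpr ⟨b, rfl⟩

theorem fSub_le_ker : fSub B f ≤ LinearMap.ker (toFam B c f) := by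
  rintro _ ⟨b, rfl⟩
  show toFam B c f (f • b) = 0
  rw [map_smul, smul_famBar]

variable (B c f) in
/-- The map from the reduction. -/
noncomputable def redFam : (B ⧸ fSub B f) →ₗ[A] FamBar c f B :=
  Submodule.liftQ (fSub B f) (toFam B c f) fSub_le_ker

variable (hrad : m ≤ (Ideal.span (insert f (Set.range c))).radical)
include hrad

theorem ker_redFam_le :
    LinearMap.ker (redFam B c f) ≤ DRing.torsionSub (m) (B ⧸ fSub B f) := by
  intro z hz
  suffices hk : ∀ i, ∃ k : ℕ, c i ^ k • z ∈ (⊥ : Submodule A (B ⧸ fSub B f)) by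
    obtain ⟨n, hn⟩ := exists_pow_smul_max hrad z ⊥ hk (by rw [smul_quot]; exact zero_mem _)
    exact ⟨n, fun a ha => (Submodule.mem_bot A).mp (hn a ha)⟩
  intro i
  obtain ⟨b, rfl⟩ := (fSub B f).mkQ_surjective z
  have h0 : algebraMap A (Bc c B i) f ∣ algebraMap B (Bc c B i) b := (mk_eq_zero c f).mp hz i
  obtain ⟨w, hw⟩ := h0
  obtain ⟨b', ⟨_, k, rfl⟩, hb'⟩ := IsLocalization.exists_mk'_eq
    (Submonoid.powers (algebraMap A B (c i))) w
  have h2 : algebraMap B (Bc c B i) (b * algebraMap A B (c i) ^ k) =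
      algebraMap B (Bc c B i) (algebraMap A B f * b') := by
    rw [map_mul, map_mul, hw, ← hb', IsScalarTower.algebraMap_apply A B (Bc c B i), mul_assoc]
    congr 1
    exact IsLocalization.mk'_spec (Bc c B i) b' _
  obtain ⟨⟨_, t, rfl⟩, ht⟩ := (IsLocalization.eq_iff_exists
    (Submonoid.powers (algebraMap A B (c i))) (Bc c B i)).mp h2
  refine ⟨t + k, (Submodule.mem_bot A).mpr ?_⟩
  rw [← map_smul]
  refine (Submodule.Quotient.mk_eq_zero (fSub B f)).mpr ⟨c i ^ t • b', ?_⟩
  show f • (c i ^ t • b') = c i ^ (t + k) • b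
  simp only [Algebra.smul_def, map_pow]
  linear_combination -ht

theorem isPowerTorsion_coker :
    IsPowerTorsion (m) (FamBar c f B ⧸ LinearMap.range (redFam B c f)) := by
  intro z
  obtain ⟨z, rfl⟩ := Submodule.Quotient.mk_surjective _ z
  have hr : LinearMap.range (redFam B c f) = LinearMap.range (toFam B c f) :=
    Submodule.range_liftQ _ _ _
  obtain ⟨n, hn⟩ := exists_pow_smul_max hrad z (LinearMap.range (redFam B c f))
    (fun i => by rw [hr]; exact exists_pow_smul_mem z i) (by rw [smul_famBar]; exact zero_mem _)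
  refine ⟨n, fun a ha => ?_⟩
  rw [← Submodule.Quotient.mk_smul, Submodule.Quotient.mk_eq_zero]
  exact hn a ha

/-- The families embed in the ideal transform of the reduction. -/
theorem exists_injective_DT (hc : ∀ i, c i ∈ m) :
    ∃ Φ : FamBar c f B →ₗ[A] DT (m) (B ⧸ fSub B f), Function.Injective Φ ∧
      ∀ w, Φ (redFam B c f w) = toDT m (B ⧸ fSub B f) w := by
  obtain ⟨Φ, hΦ, -⟩ := LC16.DT.existsUnique_factor (redFam B c f) (ker_redFam_le hrad)
    (isPowerTorsion_coker hrad) LinearMap.id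
  refine ⟨Φ, (injective_iff_map_eq_zero Φ).mpr fun z hz => ?_, fun w => LinearMap.congr_fun hΦ w⟩
  obtain ⟨n, hn⟩ := isPowerTorsion_coker (B := B) hrad (Submodule.Quotient.mk z)
  have hn' : ∀ a ∈ m ^ n, a • z ∈ LinearMap.range (redFam B c f) := fun a ha => by
    have := hn a ha
    rwa [← Submodule.Quotient.mk_smul, Submodule.Quotient.mk_eq_zero] at this
  obtain ⟨⟨x, hx⟩, rfl⟩ := Submodule.Quotient.mk_surjective _ z
  refine (mk_eq_zero c f).mpr fun i => ?_
  obtain ⟨w, hw⟩ := hn' _ (Ideal.pow_mem_pow (hc i) n)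
  have hw0 : toDT (m) (B ⧸ fSub B f) w = 0 := by
    refine (LinearMap.congr_fun hΦ w).symm.trans ?_
    show Φ (redFam B c f w) = 0
    rw [hw, map_smul, hz, smul_zero]
  have hwt : w ∈ DRing.torsionSub (m) (B ⧸ fSub B f) := by
    rw [← LC16.DT.ker_toDT]; exact hw0
  obtain ⟨p, hp⟩ := hwt
  have h0 : (c i ^ p * c i ^ n) • (Submodule.Quotient.mk ⟨x, hx⟩ : FamBar c f B) = 0 := by
    rw [mul_smul, ← hw, ← map_smul, hp _ (Ideal.pow_mem_pow (hc i) p), map_zero]
  rw [← Submodule.Quotient.mk_smul, mk_eq_zero] at h0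
  have h3 : algebraMap A (Bc c B i) f ∣ (c i ^ p * c i ^ n) • x i := h0 i
  rw [Algebra.smul_def, map_mul, map_pow, map_pow] at h3
  exact (((isUnit_loc (B := B) i).pow p).mul ((isUnit_loc (B := B) i).pow n)).dvd_mul_left.mp h3

/-- The ideal transform of the reduction of `B` is finite. -/
theorem finite_DT_quot
    (h1 : Module.Finite A (LocCoh.H (m) 1 (A ⧸ Ideal.span {f})))
    (hφ : ∀ i, ∃ (n N : ℕ) (φ : B →ₗ[A] (Fin n → A)) (ψ : (Fin n → A) →ₗ[A] B),
      ∀ b, ψ (φ b) = c i ^ N • b) :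
    Module.Finite A (DT (m) (B ⧸ fSub B f)) := by
  classical
    let R := A ⧸ Ideal.span {f}
  choose n N φ ψ hψ using hφ
  let L := Σ i, Fin (n i)
  have hφbar : ∀ l : L, fSub B f ≤ LinearMap.ker ((Ideal.Quotient.mkₐ A (Ideal.span {f})).toLinearMap ∘ₗ
      LinearMap.proj l.2 ∘ₗ φ l.1) := by
    rintro l _ ⟨b, rfl⟩
    rw [LinearMap.mem_ker]
    show Ideal.Quotient.mk _ (φ l.1 (f • b) l.2) = 0
    rw [map_smul, Pi.smul_apply, smul_eq_mul]
    exact Ideal.Quotient.eq_zero_iff_mem.mpr (Ideal.mul_mem_right _ _ (Ideal.mem_span_singleton_self f))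
  let φb : L → (B ⧸ fSub B f) →ₗ[A] R := fun l => (fSub B f).liftQ _ (hφbar l)
  have hφb : ∀ z : B ⧸ fSub B f, (∀ l, φb l z = 0) → z ∈ DRing.torsionSub m (B ⧸ fSub B f) := by
    intro z hz
    suffices hk : ∀ i, ∃ k : ℕ, c i ^ k • z ∈ (⊥ : Submodule A (B ⧸ fSub B f)) by
      obtain ⟨t, ht⟩ := exists_pow_smul_max hrad z ⊥ hk (by rw [smul_quot]; exact zero_mem _)
      exact ⟨t, fun a ha => (Submodule.mem_bot A).mp (ht a ha)⟩
    intro i
    obtain ⟨b, rfl⟩ := (fSub B f).mkQ_surjective z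
    have hd : ∀ j, ∃ a, φ i b j = f * a := fun j =>
      Ideal.mem_span_singleton.mp (Ideal.Quotient.eq_zero_iff_mem.mp (hz ⟨i, j⟩))
    choose a ha using hd
    refine ⟨N i, (Submodule.mem_bot A).mpr ?_⟩
    rw [← map_smul, ← hψ, show φ i b = f • a from funext ha, map_smul]
    exact (Submodule.Quotient.mk_eq_zero _).mpr ⟨_, rfl⟩
  obtain ⟨eq1⟩ := LC16.DT.exists_coker_equiv_H1 (R := A) (I := m) (M := R)
  have : Module.Finite A (DT m R ⧸ LinearMap.range (toDT m R)) := Module.Finite.equiv eq1.symm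
  have : Module.Finite A (DT m R) := Module.Finite.of_submodule_quotient (LinearMap.range (toDT m R))
  let Ψ : DT m (B ⧸ fSub B f) →ₗ[A] L → DT m R := LinearMap.pi fun l => LC16.DT.map (I := m) (φb l)
  refine Module.Finite.of_injective Ψ ((injective_iff_map_eq_zero Ψ).mpr fun z hz => ?_)
  obtain ⟨t, h, rfl⟩ := LC16.DT.inc_surjective z
  have h0 : ∀ l, LC16.DT.inc m R t (φb l ∘ₗ h) = 0 := fun l => by
    rw [← LC16.DT.map_inc]; exact congrFun hz l
  choose k hk using fun l => (LC16.DT.inc_eq_zero_iff _).mp (h0 l)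
  choose hkt hres using hk
  obtain ⟨K, hK⟩ := Finite.exists_le k
  have hKt : t ≤ max t K := le_max_left _ _
  rw [← LC16.DT.inc_res hKt h]
  refine LC16.DT.inc_eq_zero_of_le_torsion _ ?_
  rintro _ ⟨a, rfl⟩
  refine hφb _ fun l => ?_
  exact LinearMap.congr_fun (hres l) ⟨a.1, Ideal.pow_le_pow_right ((hK l).trans (le_max_right _ _)) a.2⟩

/-- Compatible families modulo `f` form a finite module. -/
theorem finite_famBar (hc : ∀ i, c i ∈ m)
    (h1 : Module.Finite A (LocCoh.H (m) 1 (A ⧸ Ideal.span {f})))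
    (hφ : ∀ i, ∃ (n N : ℕ) (φ : B →ₗ[A] (Fin n → A)) (ψ : (Fin n → A) →ₗ[A] B),
      ∀ b, ψ (φ b) = c i ^ N • b) :
    Module.Finite A (FamBar c f B) := by
  obtain ⟨Φ, hΦ, -⟩ := exists_injective_DT (B := B) hrad hc
  have := finite_DT_quot (B := B) hrad h1 hφ
  exact Module.Finite.of_injective Φ hΦ

end Groth.Agent.Pure83.Germ
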