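import Groth.Agent.Pure83.GermModel
import Groth.Agent.Pure83.GermFinite

/-!
# Clopen subsets of the closed fibre extend to a neighbourhood
-/

universe u

open CategoryTheory Limits AlgebraicGeometry TopologicalSpace PrimeSpectrum

namespace Groth.Agent.Pure83.Germ

set_option linter.unusedSectionVars false
set_option backward.isDefEq.respectTransparency.types false

theorem not_dvd_unit {R : Type u} [CommRing R] (P : PrimeSpectrum R) {x : R} (hx : IsUnit x) :
    x ∉ P.asIdeal := fun h => P.isPrime.ne_top (Ideal.eq_top_of_isUnit_mem _ h hx)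

/-- Idempotents modulo `f` with the same vanishing agree modulo `f`. -/
theorem dvd_sub_of_iff {R : Type u} [CommRing R] {F a b : R} (ha : F ∣ a * a - a) (hb : F ∣ b * b - b)
    (h : ∀ P : PrimeSpectrum R, F ∈ P.asIdeal → (a ∈ P.asIdeal ↔ b ∈ P.asIdeal)) : F ∣ a - b := by
  let q := Ideal.Quotient.mk (Ideal.span {F})
  have hid : ∀ z, F ∣ z * z - z → IsIdempotentElem (q z) := fun z hz => by
    have : q (z * z - z) = 0 := Ideal.Quotient.eq_zero_iff_mem.mpr (Ideal.mem_span_singleton.mpr hz)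
    rwa [map_sub, map_mul, sub_eq_zero] at this
  have heq : q a = q b := by
    refine PrimeSpectrum.basicOpen_injOn_isIdempotentElem (hid a ha) (hid b hb) (SetLike.ext fun Q => ?_)
    have hF : F ∈ (PrimeSpectrum.comap q Q).asIdeal := by
      show q F ∈ Q.asIdeal
      rw [Ideal.Quotient.eq_zero_iff_mem.mpr (Ideal.mem_span_singleton_self F)]
      exact zero_mem _
    exact not_congr (h (PrimeSpectrum.comap q Q) hF)
  exact Ideal.mem_span_singleton.mp (Ideal.Quotient.eq.mp heq)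

variable {A : Type u} [CommRing A]

theorem mem_of_basicOpen {U' : (Spec (CommRingCat.of A)).Opens} {d : A}
    (hd : (PrimeSpectrum.basicOpen d : (Spec (CommRingCat.of A)).Opens) ≤ U')
    (p : PrimeSpectrum A) (h : d ∉ p.asIdeal) : p ∈ U' := hd h

section Local

variable [IsLocalRing A] [IsNoetherianRing A]

/-- A finite covering of an open subset of the punctured spectrum. -/
theorem exists_cover_fin (U' : (Spec (CommRingCat.of A)).Opens) (hU' : U' ≤ FEt.puncturedSpec A) :
    ∃ (n : ℕ) (c : Fin n → A), (∀ i, c i ∈ IsLocalRing.maximalIdeal A) ∧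
      (∀ i, (PrimeSpectrum.basicOpen (c i) : (Spec (CommRingCat.of A)).Opens) ≤ U') ∧
      ∀ p : PrimeSpectrum A, p ∈ U' → ∃ i, c i ∉ p.asIdeal := by
  classical
  obtain ⟨s, hs⟩ := (PrimeSpectrum.isCompact_isOpen_iff (s := {p : PrimeSpectrum A | p ∈ U'})).mp
    ⟨NoetherianSpace.isCompact _, U'.isOpen⟩
  have hmem : ∀ p : PrimeSpectrum A, p ∈ U' ↔ ∃ a ∈ s, a ∉ p.asIdeal := fun p => by
    have := Set.ext_iff.mp hs p
    simp only [Set.mem_compl_iff, PrimeSpectrum.mem_zeroLocus, Set.subset_def,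
      not_forall, exists_prop, SetLike.mem_coe] at this
    exact this.symm
  refine ⟨s.card, fun i => (s.equivFin.symm i).1, fun i => ?_, fun i p hp => ?_, fun p hp => ?_⟩
  · by_contra h
    exact hU' ((hmem (IsLocalRing.closedPoint A)).mpr ⟨_, (s.equivFin.symm i).2, h⟩) rfl
  · exact (hmem p).mpr ⟨_, (s.equivFin.symm i).2, hp⟩
  · obtain ⟨a, ha, hap⟩ := (hmem p).mp hp
    exact ⟨s.equivFin ⟨a, ha⟩, by simpa using hap⟩

theorem maximalIdeal_le_radical (f : A) (U' : (Spec (CommRingCat.of A)).Opens) {ι : Type} (c : ι → A)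
    (hU0 : ∀ p : PrimeSpectrum A, f ∈ p.asIdeal → p ≠ IsLocalRing.closedPoint A → p ∈ U')
    (hc : ∀ p : PrimeSpectrum A, p ∈ U' → ∃ i, c i ∉ p.asIdeal) :
    IsLocalRing.maximalIdeal A ≤ (Ideal.span (insert f (Set.range c))).radical := by
  rw [Ideal.radical_eq_sInf]
  refine le_sInf fun q ⟨hle, hq⟩ => ?_
  by_contra hne
  have hp : (⟨q, hq⟩ : PrimeSpectrum A) ≠ IsLocalRing.closedPoint A := fun h =>
    hne (congrArg PrimeSpectrum.asIdeal h).ge
  obtain ⟨i, hi⟩ := hc _ (hU0 ⟨q, hq⟩ (hle (Ideal.subset_span (Set.mem_insert _ _))) hp)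
  exact hi (hle (Ideal.subset_span (Set.mem_insert_of_mem _ ⟨i, rfl⟩)))

end Local

variable [IsNoetherianRing A]

set_option maxHeartbeats 1600000 in
/-- Clopen subsets of the closed part of a cover extend to a neighbourhood. -/
theorem exists_clopen_gen (f : A) [IsPrecomplete (Ideal.span {f}) A] (hnz : f ∈ nonZeroDivisors A) (m : Ideal A)
    (h1 : Module.Finite A (LocCoh.H m 1 (A ⧸ Ideal.span {f})))
    (U' : (Spec (CommRingCat.of A)).Opens) {n : ℕ} (c : Fin n → A) (hcm : ∀ i, c i ∈ m)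
    (hcU : ∀ i, (PrimeSpectrum.basicOpen (c i) : (Spec (CommRingCat.of A)).Opens) ≤ U')
    (hcc : ∀ p : PrimeSpectrum A, p ∈ U' → ∃ i, c i ∉ p.asIdeal)
    (hrad : m ≤ (Ideal.span (insert f (Set.range c))).radical)
    (Z : FEt.Cat (U' : Scheme.{u}))
    (K : Set {z : Z.left // f ∈ (toBase U' Z z : PrimeSpectrum A).asIdeal}) (hK : IsClopen K) :
    ∃ (U'' : (Spec (CommRingCat.of A)).Opens), U'' ≤ U' ∧
      (∀ p : PrimeSpectrum A, p ∈ U' → f ∈ p.asIdeal → p ∈ U'') ∧
      ∃ C : Set Z.left, IsOpen C ∧ IsClosed (Subtype.val ⁻¹' C : Set {z : Z.left // toBase U' Z z ∈ U''}) ∧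
        ∀ z, z.1 ∈ C ↔ z ∈ K := by
  classical
  obtain ⟨M⟩ := exists_model U' Z
  have hreg := M.regular f hnz
  have hS := finite_famBar (B := M.B) hrad hcm h1 (fun i => M.factor (c i) (hcU i))
  obtain ⟨𝔞, h𝔞, hgerm⟩ := exists_germ (c := c) hreg hS
  -- the map from the reduced localizations
  let toB : ∀ i, PrimeSpectrum (Bc c M.B i ⧸ Ideal.span {algebraMap A (Bc c M.B i) f}) → PrimeSpectrum M.B :=
    fun i => PrimeSpectrum.comap (algebraMap M.B (Bc c M.B i)) ∘ PrimeSpectrum.comap (Ideal.Quotient.mk _)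
  have hrange : ∀ (i) (x : PrimeSpectrum (Bc c M.B i)),
      PrimeSpectrum.comap (algebraMap M.B (Bc c M.B i)) x ∈ Set.range M.pt := fun i x => by
    refine M.mem_range _ (hcU i (fun h => ?_))
    exact not_dvd_unit x (isUnit_loc (B := M.B) i) (by rwa [IsScalarTower.algebraMap_apply A M.B (Bc c M.B i)])
  choose σ hσ using fun i x => hrange i x
  have hσf : ∀ i x, algebraMap A (Bc c M.B i) f ∈ x.asIdeal → f ∈ (toBase U' Z (σ i x) : PrimeSpectrum A).asIdeal := by
    intro i x hx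
    rw [← M.comap_pt, hσ]
    show algebraMap M.B (Bc c M.B i) (algebraMap A M.B f) ∈ x.asIdeal
    rwa [← IsScalarTower.algebraMap_apply]
  have hqf : ∀ i (y : PrimeSpectrum (Bc c M.B i ⧸ Ideal.span {algebraMap A (Bc c M.B i) f})),
      algebraMap A (Bc c M.B i) f ∈ (PrimeSpectrum.comap (Ideal.Quotient.mk _) y).asIdeal := fun i y => by
    show Ideal.Quotient.mk _ _ ∈ y.asIdeal
    rw [Ideal.Quotient.eq_zero_iff_mem.mpr (Ideal.mem_span_singleton_self _)]
    exact zero_mem _
  let σ0 : ∀ i, PrimeSpectrum (Bc c M.B i ⧸ Ideal.span {algebraMap A (Bc c M.B i) f}) →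
      {z : Z.left // f ∈ (toBase U' Z z : PrimeSpectrum A).asIdeal} :=
    fun i y => ⟨σ i (PrimeSpectrum.comap (Ideal.Quotient.mk _) y), hσf i _ (hqf i y)⟩
  have hcont : ∀ i, Continuous (σ0 i) := fun i => by
    refine Continuous.subtype_mk (M.isEmbedding.isInducing.continuous_iff.mpr ?_) _
    have : M.pt ∘ (fun y => σ i (PrimeSpectrum.comap (Ideal.Quotient.mk _) y)) = toB i := funext fun y => hσ i _
    rw [this]
    exact (PrimeSpectrum.continuous_comap _).comp (PrimeSpectrum.continuous_comap _)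
  let σx : ∀ (i) (x : PrimeSpectrum (Bc c M.B i)), algebraMap A (Bc c M.B i) f ∈ x.asIdeal →
      {z : Z.left // f ∈ (toBase U' Z z : PrimeSpectrum A).asIdeal} := fun i x hx => ⟨σ i x, hσf i x hx⟩
  have hex : ∀ i, ∃ e : Bc c M.B i, algebraMap A (Bc c M.B i) f ∣ e * e - e ∧
      ∀ x (hx : algebraMap A (Bc c M.B i) f ∈ x.asIdeal), e ∉ x.asIdeal ↔ σx i x hx ∈ K := by
    intro i
    obtain ⟨e, he, hKe⟩ := PrimeSpectrum.isClopen_iff.mp (hK.preimage (hcont i))
    obtain ⟨e, rfl⟩ := Ideal.Quotient.mk_surjective e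
    refine ⟨e, Ideal.mem_span_singleton.mp (Ideal.Quotient.eq.mp ((map_mul _ e e).trans he)), fun x hx => ?_⟩
    have hle : Ideal.span {algebraMap A (Bc c M.B i) f} ≤ x.asIdeal := by
      rw [Ideal.span_singleton_le_iff_mem]; exact hx
    obtain ⟨y, rfl⟩ : x ∈ Set.range (PrimeSpectrum.comap (Ideal.Quotient.mk
        (Ideal.span {algebraMap A (Bc c M.B i) f}))) := by
      rw [range_comap_of_surjective _ _ Ideal.Quotient.mk_surjective, PrimeSpectrum.mem_zeroLocus,
        Ideal.mk_ker]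
      exact hle
    exact (Set.ext_iff.mp hKe y).symm
  choose ε hε hεK using hex
  have hfam : ε ∈ fam (B := M.B) c f := by
    intro i j
    refine dvd_sub_of_iff ?_ ?_ fun P hP => not_iff_not.mp ?_
    · have := map_dvd (r1 c i j) (hε i)
      rwa [r1_f, map_sub, map_mul] at this
    · have := map_dvd (r2 c i j) (hε j)
      rwa [r2_f, map_sub, map_mul] at this
    · have h1' : algebraMap A (Bc c M.B i) f ∈ (PrimeSpectrum.comap (r1 c i j).toRingHom P).asIdeal := by
        show r1 c i j _ ∈ P.asIdeal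
        rwa [r1_f]
      have h2' : algebraMap A (Bc c M.B j) f ∈ (PrimeSpectrum.comap (r2 c i j).toRingHom P).asIdeal := by
        show r2 c i j _ ∈ P.asIdeal
        rwa [r2_f]
      refine (hεK i _ h1').trans (Iff.trans ?_ (hεK j _ h2').symm)
      have : σ i (PrimeSpectrum.comap (r1 c i j).toRingHom P) = σ j (PrimeSpectrum.comap (r2 c i j).toRingHom P) := by
        refine M.isEmbedding.injective ?_
        rw [hσ, hσ, ← PrimeSpectrum.comap_comp_apply, ← PrimeSpectrum.comap_comp_apply]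
        refine congrArg (fun φ => PrimeSpectrum.comap φ P) (RingHom.ext fun b => ?_)
        exact ((r1 c i j).commutes b).trans ((r2 c i j).commutes b).symm
      rw [show σx i _ h1' = σx j _ h2' from Subtype.ext this]
  obtain ⟨b, hb⟩ := hgerm ε hfam hε
  have hmem : ∀ (z : Z.left) (a : A), algebraMap A M.B a ∈ (M.pt z).asIdeal ↔
      a ∈ (toBase U' Z z : PrimeSpectrum A).asIdeal := fun z a => by rw [← M.comap_pt]; rfl
  let U'' : (Spec (CommRingCat.of A)).Opens :=
    U' ⊓ ⟨(PrimeSpectrum.zeroLocus (𝔞 : Set A))ᶜ, (PrimeSpectrum.isClosed_zeroLocus _).isOpen_compl⟩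
  let O : A → Set Z.left := fun d => M.pt ⁻¹' (PrimeSpectrum.basicOpen (algebraMap A M.B d) : Set (PrimeSpectrum M.B))
  let O1 : A → Set Z.left := fun d => M.pt ⁻¹' (PrimeSpectrum.basicOpen (b d) : Set (PrimeSpectrum M.B))
  let O2 : A → Set Z.left := fun d => M.pt ⁻¹' (PrimeSpectrum.basicOpen (b d - algebraMap A M.B d) : Set (PrimeSpectrum M.B))
  have hO : ∀ x : M.B, IsOpen (M.pt ⁻¹' (PrimeSpectrum.basicOpen x : Set (PrimeSpectrum M.B))) := fun x =>
    (PrimeSpectrum.basicOpen x).isOpen.preimage M.isEmbedding.continuous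
  -- the sign is independent of the denominator
  have hindep : ∀ z, ∀ d ∈ 𝔞, ∀ d' ∈ 𝔞, z ∈ O d → z ∈ O d' → z ∈ O1 d → z ∈ O1 d' := by
    intro z d hd d' hd' hzd hzd' hz
    have h0 : algebraMap A M.B d * (algebraMap A M.B d' * b d - algebraMap A M.B d * b d') ∈ (M.pt z).asIdeal := by
      have := (hb d hd).2.1 d' hd'
      simp only [Algebra.smul_def] at this
      rw [this]; exact zero_mem _
    intro hbd'
    have h3 := ((M.pt z).isPrime.mem_or_mem h0).resolve_left hzd
    have h4 := (Submodule.sub_mem_iff_left _ ((M.pt z).asIdeal.mul_mem_left (algebraMap A M.B d) hbd')).mp h3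
    exact ((M.pt z).isPrime.mem_or_mem h4).elim hzd' hz
  refine ⟨U'', inf_le_left, fun p hpU hpf => ⟨hpU, fun hle => ?_⟩,
    ⋃ d ∈ 𝔞, O d ∩ O1 d, isOpen_biUnion fun d _ => (hO _).inter (hO _), ?_, fun z => ?_⟩
  · obtain ⟨i, hi⟩ := hcc p hpU
    exact h𝔞 p.asIdeal p.isPrime hpf ⟨i, hi⟩ hle
  · refine ⟨?_⟩
    refine isOpen_induced_iff.mpr ⟨⋃ d ∈ 𝔞, O d ∩ O2 d, isOpen_biUnion fun d _ => (hO _).inter (hO _), ?_⟩
    ext ⟨z, hz⟩
    simp only [Set.mem_preimage, Set.mem_compl_iff, Set.mem_iUnion₂, Set.mem_inter_iff, exists_prop]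
    constructor
    · rintro ⟨d, hd, hzd, hz2⟩ ⟨d', hd', hzd', hz1⟩
      have hz1d := hindep z d' hd' d hd hzd' hzd hz1
      have h0 : algebraMap A M.B d * (b d * (b d - algebraMap A M.B d)) ∈ (M.pt z).asIdeal := by
        have := (hb d hd).1
        rw [Algebra.smul_def] at this
        rw [this]; exact zero_mem _
      exact (((M.pt z).isPrime.mem_or_mem h0).resolve_left hzd |> (M.pt z).isPrime.mem_or_mem).elim hz1d hz2
    · intro hn
      obtain ⟨d, hd, hzd⟩ := Set.not_subset.mp hz.2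
      have hzd' : z ∈ O d := fun h => hzd ((hmem z d).mp h)
      have hb0 : b d ∈ (M.pt z).asIdeal := by
        by_contra h
        exact hn ⟨d, hd, hzd', h⟩
      exact ⟨d, hd, hzd', fun h => hzd' (by
        have := (M.pt z).asIdeal.sub_mem hb0 h
        rwa [sub_sub_cancel] at this)⟩
  · obtain ⟨z, hzf⟩ := z
    have hzU : toBase U' Z z ∈ U' := (Z.hom z).2
    obtain ⟨i, hi⟩ := hcc _ hzU
    have hzi : algebraMap A M.B (c i) ∉ (M.pt z).asIdeal := fun h => hi ((hmem z _).mp h)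
    have : (M.pt z) ∈ Set.range (PrimeSpectrum.comap (algebraMap M.B (Bc c M.B i))) := by
      rw [PrimeSpectrum.localization_away_comap_range (Bc c M.B i) (algebraMap A M.B (c i))]
      exact hzi
    obtain ⟨x, hx⟩ := this
    have hσz : σ i x = z := M.isEmbedding.injective ((hσ i x).trans hx)
    have hxf : algebraMap A (Bc c M.B i) f ∈ x.asIdeal := by
      rw [IsScalarTower.algebraMap_apply A M.B (Bc c M.B i)]
      show algebraMap A M.B f ∈ (PrimeSpectrum.comap (algebraMap M.B (Bc c M.B i)) x).asIdeal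
      rw [hx]
      exact (hmem z f).mpr hzf
    let z0 : {z : Z.left // f ∈ (toBase U' Z z : PrimeSpectrum A).asIdeal} := ⟨z, hzf⟩
    have key : ∀ d ∈ 𝔞, z ∈ O d → (z ∈ O1 d ↔ z0 ∈ K) := by
      intro d hd hzd
      have hK' : σx i x hxf = z0 := Subtype.ext hσz
      rw [← hK', ← hεK i x hxf]
      show b d ∉ (M.pt z).asIdeal ↔ _
      rw [← hx]
      show algebraMap M.B (Bc c M.B i) (b d) ∉ x.asIdeal ↔ _
      have hsub : algebraMap M.B (Bc c M.B i) (b d) - d • ε i ∈ x.asIdeal := x.asIdeal.mem_of_dvd ((hb d hd).2.2 i) hxf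
      have hdx : algebraMap A (Bc c M.B i) d ∉ x.asIdeal := by
        rw [IsScalarTower.algebraMap_apply A M.B (Bc c M.B i)]
        show algebraMap A M.B d ∉ (PrimeSpectrum.comap (algebraMap M.B (Bc c M.B i)) x).asIdeal
        rw [hx]; exact hzd
      refine not_congr ⟨fun h => ?_, fun h => ?_⟩
      · have := (Submodule.sub_mem_iff_right _ h).mp hsub
        rw [Algebra.smul_def] at this
        exact (x.isPrime.mem_or_mem this).resolve_left hdx
      · refine (Submodule.sub_mem_iff_left _ ?_).mp hsub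
        rw [Algebra.smul_def]
        exact x.asIdeal.mul_mem_left _ h
    simp only [Set.mem_iUnion₂, Set.mem_inter_iff, exists_prop]
    refine ⟨fun ⟨d, hd, hzd, h⟩ => (key d hd hzd).mp h, fun h => ?_⟩
    obtain ⟨d, hd, hdq⟩ := SetLike.not_le_iff_exists.mp (h𝔞 (toBase U' Z z : PrimeSpectrum A).asIdeal inferInstance hzf ⟨i, hi⟩)
    have hzd : z ∈ O d := fun hh => hdq ((hmem z d).mp hh)
    exact ⟨d, hd, hzd, (key d hd hzd).mpr h⟩


/-- Clopen subsets of closed parts of covers extend to neighbourhoods. -/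
def ClopenLifts [IsLocalRing A] (f : A) : Prop :=
  ∀ (U' : (Spec (CommRingCat.of A)).Opens), U' ≤ FEt.puncturedSpec A →
    (∀ p : PrimeSpectrum A, f ∈ p.asIdeal → p ≠ IsLocalRing.closedPoint A → p ∈ U') →
    ∀ (Z : FEt.Cat (U' : Scheme.{u}))
      (K : Set {z : Z.left // f ∈ (toBase U' Z z : PrimeSpectrum A).asIdeal}), IsClopen K →
    ∃ (U'' : (Spec (CommRingCat.of A)).Opens), U'' ≤ U' ∧
      (∀ p : PrimeSpectrum A, f ∈ p.asIdeal → p ≠ IsLocalRing.closedPoint A → p ∈ U'') ∧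
      ∃ C : Set Z.left, IsOpen C ∧ IsClosed (Subtype.val ⁻¹' C : Set {z : Z.left // toBase U' Z z ∈ U''}) ∧
        ∀ z, z.1 ∈ C ↔ z ∈ K

/-- Clopen subsets of the closed part of a cover extend to a neighbourhood, for a regular element. -/
theorem clopenLifts_of_regular [IsLocalRing A] (f : A) [IsPrecomplete (Ideal.span {f}) A]
    (hnz : f ∈ nonZeroDivisors A)
    (h1 : Module.Finite A (LocCoh.H (IsLocalRing.maximalIdeal A) 1 (A ⧸ Ideal.span {f}))) :
    ClopenLifts f := by
  intro U' hU' hU0 Z K hK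
  obtain ⟨n, c, hcm, hcU, hcc⟩ := exists_cover_fin U' hU'
  obtain ⟨U'', h1', h2', h3'⟩ := exists_clopen_gen f hnz _ h1 U' c hcm hcU hcc
    (maximalIdeal_le_radical f U' c hU0 hcc) Z K hK
  exact ⟨U'', h1', fun p hp hne => h2' p (hU0 p hp hne) hp, h3'⟩

end Groth.Agent.Pure83.Germ
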