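import Groth.Agent.Pure83.GermFinite
import Groth.Agent.Hensel20.PairApi
import Mathlib.RingTheory.Filtration

/-!
# Idempotents on a punctured hypersurface lift for henselian pairs

If a power of `f` kills `H¹` and `H²` of `B`, families of idempotents modulo `f` lift uniquely to
exact families of idempotents.
-/

universe u

open LocCoh
open Groth.Agent.LC15

namespace Groth.Agent.Pure83.Germ

set_option linter.unusedSectionVars false

variable {A B : Type u} [CommRing A] [CommRing B] [Algebra A B] {ι : Type} {c : ι → A} {f : A}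
  {m : Ideal A}

/-- Killing of local cohomology by powers passes along a short exact sequence. -/
theorem kill_middle {M N L : Type u} [AddCommGroup M] [Module A M] [AddCommGroup N] [Module A N]
    [AddCommGroup L] [Module A L] {p : M →ₗ[A] N} {q : N →ₗ[A] L} (hp : Function.Injective p)
    (hpq : Function.Exact p q) (hq : Function.Surjective q) {i : ℕ} {a b : A}
    (hN : ∀ y : LocCoh.H m i N, a • y = 0) (hM : ∀ y : LocCoh.H m (i + 1) M, b • y = 0)
    (y : LocCoh.H m i L) : (a * b) • y = 0 := by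
  obtain ⟨z, hz⟩ := (H_exact₃ m i hp hpq hq (b • y)).1 (by rw [map_smul, hM])
  rw [mul_smul, ← hz, ← map_smul, hN, map_zero]

theorem Hmap_sum {M N : Type u} [AddCommGroup M] [Module A M] [AddCommGroup N] [Module A N] {κ : Type}
    (s : Finset κ) (g : κ → M →ₗ[A] N) (i : ℕ) :
    Hmap m i (∑ k ∈ s, g k) = ∑ k ∈ s, Hmap m i (g k) := by
  classical
  induction s using Finset.induction_on with
  | empty => rw [Finset.sum_empty, Finset.sum_empty, Hmap_zero]
  | insert k s hk ih => rw [Finset.sum_insert hk, Finset.sum_insert hk, Hmap_add, ih]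

/-- Killing passes to modules which are locally direct summands of free modules. -/
theorem exists_kill_H [IsNoetherianRing A] [Finite ι] (hf : f ∈ m) (hrad : m ≤ (Ideal.span (Set.range c)).radical)
    (hφ : ∀ j, ∃ (n N : ℕ) (φ : B →ₗ[A] (Fin n → A)) (ψ : (Fin n → A) →ₗ[A] B),
      ∀ b, ψ (φ b) = c j ^ N • b) {i k : ℕ} (hA : ∀ y : LocCoh.H m i A, f ^ k • y = 0) :
    ∃ N, ∀ y : LocCoh.H m i B, f ^ N • y = 0 := by
  classical
  choose n N φ ψ hψ using hφ
  let J : Ideal A :=
    { carrier := {a | ∀ y : LocCoh.H m i B, a • f ^ k • y = 0}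
      add_mem' := fun ha hb y => by rw [add_smul, ha y, hb y, add_zero]
      zero_mem' := fun y => zero_smul _ _
      smul_mem' := fun r a ha y => by rw [smul_eq_mul, mul_smul, ha y, smul_zero] }
  have hJ : Ideal.span (Set.range c) ≤ J.radical := by
    rw [Ideal.span_le]
    rintro _ ⟨j, rfl⟩
    refine ⟨N j, fun y => ?_⟩
    have h1 : ∀ z : LocCoh.H m i (Fin (n j) → A), f ^ k • z = 0 := fun z => by
      have hid : (LinearMap.id : (Fin (n j) → A) →ₗ[A] (Fin (n j) → A)) =
          ∑ l, LinearMap.single A (fun _ => A) l ∘ₗ LinearMap.proj l := by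
        refine LinearMap.ext fun v => funext fun l => ?_
        simp [LinearMap.sum_apply, Pi.single_apply]
      rw [← LinearMap.id_apply (R := A) z, ← Hmap_id, hid, Hmap_sum, LinearMap.sum_apply, Finset.smul_sum]
      refine Finset.sum_eq_zero fun l _ => ?_
      rw [Hmap_comp, LinearMap.comp_apply, ← map_smul, hA, map_zero]
    have h2 : LinearMap.lsmul A B (c j ^ N j) = ψ j ∘ₗ φ j := LinearMap.ext fun b => (hψ j b).symm
    rw [← Hmap_lsmul, h2, Hmap_comp, LinearMap.comp_apply, map_smul, h1, map_zero]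
  obtain ⟨t, ht⟩ := Ideal.exists_pow_le_of_le_radical_of_fg
    (hrad.trans (Ideal.radical_le_radical_iff.mpr hJ)) (IsNoetherian.noetherian _)
  refine ⟨t + k, fun y => ?_⟩
  rw [pow_add, mul_smul]
  exact ht (Ideal.pow_mem_pow hf t) y

section

variable [IsNoetherianRing A] [Finite ι] (hc : ∀ i, c i ∈ m)
  (hrad : m ≤ (Ideal.span (Set.range c)).radical)
include hc hrad

theorem hrad_insert (g : A) : m ≤ (Ideal.span (insert g (Set.range c))).radical :=
  hrad.trans (Ideal.radical_mono (Ideal.span_mono (Set.subset_insert _ _)))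

/-- Families modulo `g` come from `B` up to an element killing first cohomology. -/
theorem exists_approx (g : A) {a : A} (ha : ∀ y : LocCoh.H m 1 (B ⧸ fSub B g), a • y = 0)
    (z : FamBar c g B) : ∃ b : B, toFam B c g b = a • z := by
  obtain ⟨Φ, hΦ, hΦr⟩ := exists_injective_DT (B := B) (hrad_insert hc hrad g) hc
  obtain ⟨e⟩ := LC16.DT.exists_coker_equiv_H1 (R := A) (I := m) (M := B ⧸ fSub B g)
  have : (Submodule.Quotient.mk (a • Φ z) : DT m (B ⧸ fSub B g) ⧸ LinearMap.range (toDT m (B ⧸ fSub B g))) = 0 :=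
    e.injective (by rw [Submodule.Quotient.mk_smul, map_smul, ha, map_zero])
  obtain ⟨w, hw⟩ := (Submodule.Quotient.mk_eq_zero _).mp this
  obtain ⟨b, rfl⟩ := (fSub B g).mkQ_surjective w
  refine ⟨b, hΦ ?_⟩
  rw [map_smul, ← hw, ← hΦr]
  rfl

/-- The kernel of the map to families modulo `g` is killed. -/
theorem smul_mem_fSub (g : A) {a : A} (ha : ∀ z ∈ gamma m (B ⧸ fSub B g), a • z = 0) {b : B}
    (hb : toFam B c g b = 0) : a • b ∈ fSub B g := by
  have h1 : (fSub B g).mkQ b ∈ gamma m (B ⧸ fSub B g) :=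
    ker_redFam_le (B := B) (hrad_insert hc hrad g) (show toFam B c g b = 0 from hb)
  have h2 := ha _ h1
  rwa [← map_smul, Submodule.mkQ_apply, Submodule.Quotient.mk_eq_zero] at h2

end

section

variable [IsNoetherianRing A] (hf : f ∈ m) (hreg : IsSMulRegular B f)
include hf hreg

theorem gamma_eq_bot : gamma m B = ⊥ := by
  refine eq_bot_iff.mpr fun b hb => ?_
  obtain ⟨n, hn⟩ := hb
  exact (Submodule.mem_bot A).mpr ((hreg.pow n).right_eq_zero_of_smul (hn _ (Ideal.pow_mem_pow hf n)))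

theorem ses_quot (L : ℕ) : Function.Injective (LinearMap.lsmul A B (f ^ L)) ∧
    Function.Exact (LinearMap.lsmul A B (f ^ L)) (fSub B (f ^ L)).mkQ :=
  ⟨hreg.pow L, LinearMap.exact_map_mkQ_range _⟩

theorem kill_gamma_quot {N : ℕ} (h1 : ∀ y : LocCoh.H m 1 B, f ^ N • y = 0) (L : ℕ)
    {z : B ⧸ fSub B (f ^ L)} (hz : z ∈ gamma m (B ⧸ fSub B (f ^ L))) : f ^ N • z = 0 := by
  obtain ⟨hp, hpq⟩ := ses_quot hf hreg L
  have h0 : ∀ y : LocCoh.H m 0 B, (1 : A) • y = 0 := fun y => by
    have := (subsingleton_H0_iff m B).mpr (gamma_eq_bot hf hreg)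
    exact Subsingleton.elim _ _
  have := kill_middle (i := 0) hp hpq (Submodule.mkQ_surjective _) h0 h1 ((H0equiv m _).symm ⟨z, hz⟩)
  rw [one_mul] at this
  have h3 := congrArg (H0equiv m _) this
  rw [map_smul, LinearEquiv.apply_symm_apply, map_zero] at h3
  exact congrArg Subtype.val h3

theorem kill_H1_quot {N : ℕ} (h1 : ∀ y : LocCoh.H m 1 B, f ^ N • y = 0) (h2 : ∀ y : LocCoh.H m 2 B, f ^ N • y = 0)
    (L : ℕ) (y : LocCoh.H m 1 (B ⧸ fSub B (f ^ L))) : f ^ (N + N) • y = 0 := by
  obtain ⟨hp, hpq⟩ := ses_quot hf hreg L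
  rw [pow_add]
  exact kill_middle (i := 1) hp hpq (Submodule.mkQ_surjective _) h1 h2 y

end

theorem isLocalization_dvd_toFam {g : A} {b : B} {a : A} {x : ∀ i, Bc c B i} {hx : x ∈ fam (B := B) c g}
    (h : toFam B c g b = a • Submodule.Quotient.mk ⟨x, hx⟩) (i : ι) :
    algebraMap A (Bc c B i) g ∣ algebraMap B (Bc c B i) b - algebraMap A (Bc c B i) a * x i := by
  rw [toFam_apply, ← Submodule.Quotient.mk_smul] at h
  have h2 := (Submodule.Quotient.eq (dvdSub (B := B) c g)).mp h
  rw [← Algebra.smul_def]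
  exact h2 i

section Main

variable [IsNoetherianRing A] [Module.Finite A B] [Finite ι] (hc : ∀ i, c i ∈ m)
  (hrad : m ≤ (Ideal.span (Set.range c)).radical) (hf : f ∈ m) (hreg : IsSMulRegular B f)
  {N : ℕ} (h1 : ∀ y : LocCoh.H m 1 B, f ^ N • y = 0)
include hc hrad hf hreg h1

theorem mem_fSub_of_dvd (L : ℕ) {b : B}
    (hb : ∀ i, algebraMap A (Bc c B i) (f ^ L) ∣ algebraMap B (Bc c B i) b) : f ^ N • b ∈ fSub B (f ^ L) := by
  refine smul_mem_fSub hc hrad (f ^ L) (fun z hz => kill_gamma_quot hf hreg h1 L hz) ?_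
  rw [toFam_apply]
  exact (mk_eq_zero c (f ^ L)).mpr hb

/-- An exact family of idempotents divisible by `f` is zero. -/
theorem idem_eq_zero (hjac : f ∈ Ideal.jacobson (⊥ : Ideal A)) {e : ∀ i, Bc c B i}
    (he : ∀ i j, r1 c i j (e i) = r2 c i j (e j)) (hid : ∀ i, IsIdempotentElem (e i))
    (hdvd : ∀ i, algebraMap A (Bc c B i) f ∣ e i) : e = 0 := by
  have hfam : e ∈ fam (B := B) c (0 : A) := fun i j => by rw [he, sub_self]; exact dvd_zero _
  have ha : ∀ y : LocCoh.H m 1 (B ⧸ fSub B (0 : A)), f ^ N • y = 0 := fun y => by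
    have hbot : fSub B (0 : A) = ⊥ := eq_bot_iff.mpr (by rintro _ ⟨x, rfl⟩; simp)
    let eq := Hequiv m 1 ((fSub B (0 : A)).quotEquivOfEqBot hbot)
    exact eq.injective (by rw [map_smul, h1, map_zero])
  obtain ⟨b, hb⟩ := exists_approx hc hrad 0 ha (Submodule.Quotient.mk ⟨e, hfam⟩)
  have hbi : ∀ i, algebraMap B (Bc c B i) b = algebraMap A (Bc c B i) f ^ N * e i := fun i => by
    have := isLocalization_dvd_toFam hb i
    rw [map_zero, zero_dvd_iff, sub_eq_zero, map_pow] at this
    exact this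
  have hmem : ∀ M : ℕ, f ^ N • b ∈ fSub B (f ^ M) := fun M => by
    refine mem_fSub_of_dvd hc hrad hf hreg h1 M fun i => ?_
    rw [hbi i, map_pow]
    refine Dvd.dvd.mul_left ?_ _
    rcases Nat.eq_zero_or_pos M with rfl | hM
    · rw [pow_zero]; exact one_dvd _
    · rw [← (hid i).pow_eq hM.ne']
      exact pow_dvd_pow_of_dvd (hdvd i) M
  have hzero : f ^ N • b = 0 := by
    have hI : Ideal.span {f} ≤ Ideal.jacobson (⊥ : Ideal A) := (Ideal.span_singleton_le_iff_mem _).mpr hjac
    have h0 : f ^ N • b ∈ (⨅ M : ℕ, Ideal.span {f} ^ M • ⊤ : Submodule A B) := by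
      refine Submodule.mem_iInf _ |>.mpr fun M => ?_
      obtain ⟨x, hx⟩ := hmem M
      rw [← hx]
      exact Submodule.smul_mem_smul (Ideal.pow_mem_pow (Ideal.mem_span_singleton_self f) M) trivial
    rwa [Ideal.iInf_pow_smul_eq_bot_of_le_jacobson _ hI, Submodule.mem_bot] at h0
  funext i
  refine (regular_loc hreg (Bc c B i) (algebraMap A B (c i))).pow (N + N) |>.right_eq_zero_of_smul ?_
  rw [Algebra.smul_def, map_pow, pow_add, mul_assoc, ← hbi i, ← map_pow, ← Algebra.smul_def,
    ← IsScalarTower.toAlgHom_apply A B (Bc c B i), ← map_smul, hzero, map_zero]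

/-- Idempotents modulo `f` lift to exact families. -/
theorem exists_idem_lift [HenselianRing A (Ideal.span {f})] (h2 : ∀ y : LocCoh.H m 2 B, f ^ N • y = 0)
    {ε : ∀ i, Bc c B i} (hε : ε ∈ fam (B := B) c f)
    (hid : ∀ i, algebraMap A (Bc c B i) f ∣ ε i * ε i - ε i) :
    ∃ e : ∀ i, Bc c B i, (∀ i j, r1 c i j (e i) = r2 c i j (e j)) ∧ (∀ i, IsIdempotentElem (e i)) ∧
      ∀ i, algebraMap A (Bc c B i) f ∣ e i - ε i := by
  classical
  let k := N + N
  let L := N + (2 * k + 1)
  let x : ∀ i, Bc c B i := fun i => newton^[L - 1] (ε i)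
  have hL : L - 1 + 1 = L := by omega
  have hxx : ∀ i, algebraMap A (Bc c B i) f ^ L ∣ x i * x i - x i := fun i => by
    have := (newton_spec (hid i) (L - 1)).1
    rwa [hL] at this
  have hxe : ∀ i, algebraMap A (Bc c B i) f ∣ x i - ε i := fun i => (newton_spec (hid i) (L - 1)).2
  have hx : x ∈ fam (B := B) c (f ^ L) := fun i j => by
    rw [map_pow, ← hL]
    refine idem_unique ?_ ?_ ?_
    · have := map_dvd (r1 c i j) (hxx i)
      rwa [map_pow, r1_f, map_sub, map_mul, ← hL] at this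
    · have := map_dvd (r2 c i j) (hxx j)
      rwa [map_pow, r2_f, map_sub, map_mul, ← hL] at this
    · have h1' := map_dvd (r1 c i j) (hxe i)
      have h2' := map_dvd (r2 c i j) (hxe j)
      rw [r1_f, map_sub] at h1'
      rw [r2_f, map_sub] at h2'
      have := dvd_add (dvd_sub h1' h2') (hε i j)
      convert this using 1
      abel
  obtain ⟨b, hb⟩ := exists_approx hc hrad (f ^ L) (kill_H1_quot hf hreg h1 h2 L) (Submodule.Quotient.mk ⟨x, hx⟩)
  let φ : ∀ i, B →+* Bc c B i := fun i => algebraMap B (Bc c B i)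
  let F : B := algebraMap A B f
  have hF : ∀ i, φ i F = algebraMap A (Bc c B i) f := fun i => (IsScalarTower.algebraMap_apply A B (Bc c B i) f).symm
  have hbi : ∀ i, φ i F ^ L ∣ φ i b - φ i F ^ k * x i := fun i => by
    have := isLocalization_dvd_toFam hb i
    rw [map_pow, map_pow] at this
    rw [hF]
    exact this
  simp only [← hF] at hxx hxe hid
  -- the quadratic equation, exactly in `B`
  obtain ⟨c0, hc0⟩ : ∃ c0, b * (b - F ^ k) = F ^ (2 * k + 1) * c0 := by
    have h3 : f ^ N • (b * (b - F ^ k)) ∈ fSub B (f ^ L) := by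
      refine mem_fSub_of_dvd hc hrad hf hreg h1 L fun i => ?_
      rw [map_pow, ← hF]
      show φ i F ^ L ∣ φ i (b * (b - F ^ k))
      rw [map_mul, map_sub, map_pow]
      obtain ⟨t, ht⟩ := hbi i
      obtain ⟨r, hr⟩ := hxx i
      refine ⟨t * (φ i b + φ i F ^ k * x i - φ i F ^ k) + φ i F ^ k * φ i F ^ k * r, ?_⟩
      linear_combination (φ i b + φ i F ^ k * x i - φ i F ^ k) * ht + φ i F ^ k * φ i F ^ k * hr
    obtain ⟨c0, hc0⟩ := h3
    refine ⟨c0, (hreg.pow N) ?_⟩
    show f ^ N • _ = f ^ N • _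
    rw [← hc0]
    show f ^ L • c0 = _
    simp only [L, F, Algebra.smul_def, map_pow, map_mul, pow_add]
    ring
  have : HenselianRing B (Ideal.span {F}) := by
    have := Hensel20.henselianRing_of_integral (I := Ideal.span {f}) B
    rwa [Ideal.map_span, Set.image_singleton] at this
  have hu : IsUnit (1 + 4 * (F * c0)) := by
    have h4 : F ∈ Ideal.jacobson (⊥ : Ideal B) :=
      HenselianRing.jac (Ideal.mem_span_singleton_self F)
    have := Ideal.mem_jacobson_bot.mp h4 (4 * c0)
    rwa [show F * (4 * c0) + 1 = 1 + 4 * (F * c0) by ring] at this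
  obtain ⟨u, hu⟩ := hu
  let g : B := F * c0 * (↑u⁻¹ : B)
  obtain ⟨w, hw, hwF⟩ := HenselianRing.is_henselian (I := Ideal.span {F})
    (Polynomial.X ^ 2 + Polynomial.X + Polynomial.C g) (by monicity!) 0
    (by
      simp only [Polynomial.eval_add, Polynomial.eval_pow, Polynomial.eval_X, Polynomial.eval_C]
      rw [zero_pow two_ne_zero, zero_add, zero_add, Ideal.mem_span_singleton]
      exact ⟨c0 * ↑u⁻¹, mul_assoc _ _ _⟩)
    (by simp [Polynomial.derivative_pow])
  simp only [Polynomial.IsRoot, Polynomial.eval_add, Polynomial.eval_pow, Polynomial.eval_X, Polynomial.eval_C] at hw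
  rw [sub_zero, Ideal.mem_span_singleton] at hwF
  let b' := b + (2 * b - F ^ k) * w
  have hb' : b' * (b' - F ^ k) = 0 := by
    have hug : (↑u : B) * g = F * c0 := by
      show (↑u : B) * (F * c0 * ↑u⁻¹) = _
      rw [mul_left_comm, Units.mul_inv, mul_one]
    have hs : (2 * b - F ^ k) * (2 * b - F ^ k) = F ^ k * F ^ k * u := by
      rw [hu]; linear_combination 4 * hc0
    show (b + (2 * b - F ^ k) * w) * (b + (2 * b - F ^ k) * w - F ^ k) = 0
    linear_combination hc0 + (w + w ^ 2) * hs + F ^ k * F ^ k * (u : B) * hw - F ^ k * F ^ k * hug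
  have hdiv : ∀ i, ∃ t, φ i b' = φ i F ^ k * (x i + φ i F * t) := fun i => by
    obtain ⟨t, ht⟩ := hbi i
    obtain ⟨v, hv⟩ := hwF
    refine ⟨φ i F ^ (N + k) * t * (1 + 2 * φ i w) + (2 * x i - 1) * φ i v, ?_⟩
    have hwv : φ i w = φ i F * φ i v := by rw [← map_mul, ← hv]
    show φ i (b + (2 * b - F ^ k) * w) = _
    rw [map_add, map_mul, map_sub, map_mul, map_pow, map_ofNat]
    have hLe : φ i F ^ L = φ i F ^ k * φ i F * φ i F ^ (N + k) := by
      rw [← pow_succ, ← pow_add]; congr 1; omega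
    rw [hLe] at ht
    linear_combination (1 + 2 * φ i w) * ht + φ i F ^ k * (2 * x i - 1) * hwv
  choose t ht using hdiv
  let e : ∀ i, Bc c B i := fun i => x i + φ i F * t i
  refine ⟨e, fun i j => ?_, fun i => ?_, fun i => ?_⟩
  · refine (regular_loc (f := f) hreg (Bcc c B i j) (algebraMap A B (c i) * algebraMap A B (c j))).pow k ?_
    show f ^ k • r1 c i j (e i) = f ^ k • r2 c i j (e j)
    rw [← r1_smul, ← r2_smul, Algebra.smul_def, Algebra.smul_def, map_pow, map_pow, ← hF, ← hF, ← ht, ← ht]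
    exact ((r1 c i j).commutes b').trans ((r2 c i j).commutes b').symm
  · refine (regular_loc (f := f) hreg (Bc c B i) (algebraMap A B (c i))).pow (k + k) ?_
    show f ^ (k + k) • (e i * e i) = f ^ (k + k) • e i
    rw [Algebra.smul_def, Algebra.smul_def, map_pow, ← hF]
    have h5 : φ i b' * φ i b' = φ i b' * φ i F ^ k := by
      rw [← map_pow, ← map_mul, ← map_mul, ← sub_eq_zero, ← map_sub, ← mul_sub, hb', map_zero]
    rw [ht] at h5
    rw [pow_add]
    linear_combination h5
  · rw [← hF]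
    obtain ⟨r, hr⟩ := hxe i
    exact ⟨r + t i, by show x i + φ i F * t i - ε i = _; linear_combination hr⟩

end Main

end Groth.Agent.Pure83.Germ
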