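import Groth.Agent.Pure83.GermFF
import Groth.Agent.Pure83.GermHens

/-!
# Clopen subsets of the punctured hypersurface lift for henselian pairs
-/

universe u

open CategoryTheory Limits AlgebraicGeometry TopologicalSpace PrimeSpectrum
open Groth.Agent.LC15

namespace Groth.Agent.Pure83.Germ

set_option linter.unusedSectionVars false
set_option backward.isDefEq.respectTransparency.types false

variable {A : Type u} [CommRing A] [IsLocalRing A] [IsNoetherianRing A] (f : A)

/-- Elements killed by a power of `f`. -/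
def torsF (B : Type u) [CommRing B] [Algebra A B] : Ideal B where
  carrier := {b | ∃ n : ℕ, f ^ n • b = 0}
  add_mem' := fun {a b} ⟨n, hn⟩ ⟨k, hk⟩ => ⟨n + k, by
    rw [smul_add, pow_add, mul_smul, mul_smul, hk, smul_zero, smul_comm, hn, smul_zero, add_zero]⟩
  zero_mem' := ⟨0, smul_zero _⟩
  smul_mem' := fun r b ⟨n, hn⟩ => ⟨n, by rw [smul_eq_mul, ← mul_smul_comm, hn, mul_zero]⟩

theorem exists_kill_torsF (B : Type u) [CommRing B] [Algebra A B] [Module.Finite A B] :
    ∃ N, ∀ b ∈ torsF f B, f ^ N • b = 0 := by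
  have : IsNoetherianRing B := IsNoetherianRing.of_finite A B
  obtain ⟨T, hT⟩ := IsNoetherian.noetherian (torsF f B)
  have hTmem : ∀ t ∈ T, t ∈ torsF f B := fun t ht => hT ▸ Submodule.subset_span ht
  choose n hn using hTmem
  refine ⟨T.attach.sup fun t => n t.1 t.2, fun b hb => ?_⟩
  rw [← hT] at hb
  induction hb using Submodule.span_induction with
  | mem x hx =>
    have : n x hx ≤ T.attach.sup fun t => n t.1 t.2 := Finset.le_sup (f := fun t : T => n t.1 t.2) (Finset.mem_attach T ⟨x, hx⟩)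
    rw [← Nat.sub_add_cancel this, pow_add, mul_smul, hn x hx, smul_zero]
  | zero => rw [smul_zero]
  | add x y _ _ hx hy => rw [smul_add, hx, hy, add_zero]
  | smul r x _ hx => rw [smul_eq_mul, ← mul_smul_comm, hx, mul_zero]

theorem regular_torsF (B : Type u) [CommRing B] [Algebra A B] : IsSMulRegular (B ⧸ torsF f B) f := by
  refine isSMulRegular_iff_right_eq_zero_of_smul.mpr fun z hz => ?_
  obtain ⟨b, rfl⟩ := Ideal.Quotient.mk_surjective z
  have : Ideal.Quotient.mk (torsF f B) (f • b) = 0 := hz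
  obtain ⟨n, hn⟩ := Ideal.Quotient.eq_zero_iff_mem.mp this
  exact Ideal.Quotient.eq_zero_iff_mem.mpr ⟨n + 1, by rw [pow_succ, mul_smul]; exact hn⟩

theorem kill_H_torsF (B : Type u) [CommRing B] [Algebra A B] [Module.Finite A B] {i : ℕ}
    (h : ∃ N, ∀ y : LocCoh.H (IsLocalRing.maximalIdeal A) i B, f ^ N • y = 0) :
    ∃ N, ∀ y : LocCoh.H (IsLocalRing.maximalIdeal A) i (B ⧸ torsF f B), f ^ N • y = 0 := by
  obtain ⟨N, hN⟩ := h
  obtain ⟨N₀, hN₀⟩ := exists_kill_torsF f B
  let T := (torsF f B).restrictScalars A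
  have hT : ∀ y : LocCoh.H (IsLocalRing.maximalIdeal A) (i + 1) T, f ^ N₀ • y = 0 := fun y => by
    have h0 : LinearMap.lsmul A T (f ^ N₀) = 0 := LinearMap.ext fun t => Subtype.ext (hN₀ t.1 t.2)
    rw [← Hmap_lsmul, h0, Hmap_zero, LinearMap.zero_apply]
  refine ⟨N + N₀, fun y => ?_⟩
  rw [pow_add]
  refine kill_middle (p := T.subtype) (q := (Ideal.Quotient.mkₐ A (torsF f B)).toLinearMap)
    T.injective_subtype (fun b => ?_) Ideal.Quotient.mk_surjective hN hT y
  refine ⟨fun hb => ⟨⟨b, Ideal.Quotient.eq_zero_iff_mem.mp hb⟩, rfl⟩, ?_⟩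
  rintro ⟨t, rfl⟩
  exact Ideal.Quotient.eq_zero_iff_mem.mpr t.2

variable (hA : ∀ i, i = 1 ∨ i = 2 → ∃ k : ℕ, ∀ y : LocCoh.H (IsLocalRing.maximalIdeal A) i A, f ^ k • y = 0)
  [HenselianRing A (Ideal.span {f})]
include hA

set_option maxHeartbeats 1600000 in
/-- Clopen subsets of `Z ∩ V(f)` lift uniquely, for covers of the punctured spectrum. -/
theorem exists_clopen_henselian (hf : f ∈ IsLocalRing.maximalIdeal A) (Z : FEt.Cat (FEt.puncturedSpec A : Scheme.{u})) :
    (∀ K : Set {z : Z.left // f ∈ (toBase (FEt.puncturedSpec A) Z z : PrimeSpectrum A).asIdeal}, IsClopen K →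
      ∃ C : Set Z.left, IsClopen C ∧ ∀ z, z.1 ∈ C ↔ z ∈ K) ∧
    ∀ C : Set Z.left, IsClopen C →
      (∀ z ∈ C, f ∉ (toBase (FEt.puncturedSpec A) Z z : PrimeSpectrum A).asIdeal) → C = ∅ := by
  classical
  let U := FEt.puncturedSpec A
  let m := IsLocalRing.maximalIdeal A
  obtain ⟨n, c, hcm, hcU, hcc⟩ := exists_cover_fin U le_rfl
  have hrad : m ≤ (Ideal.span (Set.range c)).radical := by
    rw [Ideal.radical_eq_sInf]
    refine le_sInf fun q ⟨hle, hq⟩ => ?_
    by_contra hne
    have hp : (⟨q, hq⟩ : PrimeSpectrum A) ≠ IsLocalRing.closedPoint A := fun h =>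
      hne (congrArg PrimeSpectrum.asIdeal h).ge
    obtain ⟨i, hi⟩ := hcc ⟨q, hq⟩ hp
    exact hi (hle (Ideal.subset_span ⟨i, rfl⟩))
  obtain ⟨M⟩ := exists_model U Z
  have hφ := fun j => M.factor (c j) (hcU j)
  have hk : ∀ i, i = 1 ∨ i = 2 → ∃ N, ∀ y : LocCoh.H m i (M.B ⧸ torsF f M.B), f ^ N • y = 0 := fun i hi =>
    kill_H_torsF f M.B (by
      obtain ⟨k, hk⟩ := hA i hi
      exact exists_kill_H hf hrad hφ hk)
  obtain ⟨N₁, hN₁⟩ := hk 1 (Or.inl rfl)
  obtain ⟨N₂, hN₂⟩ := hk 2 (Or.inr rfl)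
  let Bb := M.B ⧸ torsF f M.B
  let N := N₁ + N₂
  have h1 : ∀ y : LocCoh.H m 1 Bb, f ^ N • y = 0 := fun y => by
    rw [show N = N₂ + N₁ from add_comm _ _, pow_add, mul_smul, hN₁, smul_zero]
  have h2 : ∀ y : LocCoh.H m 2 Bb, f ^ N • y = 0 := fun y => by rw [pow_add, mul_smul, hN₂, smul_zero]
  have hreg : IsSMulRegular Bb f := regular_torsF f M.B
  have hjac : f ∈ Ideal.jacobson (⊥ : Ideal A) := HenselianRing.jac (Ideal.mem_span_singleton_self f)
  have : Module.Finite A Bb := inferInstance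
  -- points
  let π : PrimeSpectrum Bb → PrimeSpectrum M.B := PrimeSpectrum.comap (Ideal.Quotient.mk _)
  have hrange : ∀ (i) (x : PrimeSpectrum (Bc c Bb i)), π (PrimeSpectrum.comap (algebraMap Bb _) x) ∈ Set.range M.pt :=
    fun i x => M.mem_range _ (hcU i fun h => not_dvd_unit x (isUnit_loc (B := Bb) i) h)
  choose σ hσ using fun i x => hrange i x
  have hσcont : ∀ i, Continuous (σ i) := fun i => by
    refine M.isEmbedding.isInducing.continuous_iff.mpr ?_
    rw [show M.pt ∘ σ i = π ∘ PrimeSpectrum.comap (algebraMap Bb (Bc c Bb i)) from funext (hσ i)]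
    exact (PrimeSpectrum.continuous_comap _).comp (PrimeSpectrum.continuous_comap _)
  let base : Z.left → PrimeSpectrum A := fun z => toBase U Z z
  have hmem : ∀ (z : Z.left) (a : A), algebraMap A M.B a ∈ (M.pt z).asIdeal ↔ a ∈ (base z).asIdeal :=
    fun z a => by show _ ↔ _ ∈ (toBase U Z z : PrimeSpectrum A).asIdeal; rw [← M.comap_pt]; rfl
  have hbσ : ∀ i x (a : A), a ∈ (base (σ i x)).asIdeal ↔ algebraMap A (Bc c Bb i) a ∈ x.asIdeal := fun i x a => by
    rw [← hmem, hσ]; rfl
  let Zb : Set Z.left := M.pt ⁻¹' Set.range π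
  have hZb : IsClosed Zb := by
    refine IsClosed.preimage M.isEmbedding.continuous ?_
    show IsClosed (Set.range (PrimeSpectrum.comap (Ideal.Quotient.mk (torsF f M.B))))
    rw [range_comap_of_surjective _ _ Ideal.Quotient.mk_surjective]
    exact PrimeSpectrum.isClosed_zeroLocus _
  have hfZb : ∀ z, f ∉ (base z).asIdeal → z ∈ Zb := fun z hz => by
    show M.pt z ∈ Set.range (PrimeSpectrum.comap (Ideal.Quotient.mk (torsF f M.B)))
    rw [range_comap_of_surjective _ _ Ideal.Quotient.mk_surjective, PrimeSpectrum.mem_zeroLocus, Ideal.mk_ker]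
    rintro b ⟨l, hl⟩
    have h0 : algebraMap A M.B f ^ l * b ∈ (M.pt z).asIdeal := by
      rw [← map_pow, ← Algebra.smul_def, hl]; exact zero_mem _
    exact ((M.pt z).isPrime.mem_or_mem h0).resolve_left fun h => hz ((hmem z f).mp ((M.pt z).isPrime.mem_of_pow_mem l h))
  have hσsurj : ∀ i z, z ∈ Zb → c i ∉ (base z).asIdeal → ∃ x, σ i x = z := by
    rintro i z ⟨y, hy⟩ hi
    have : y ∈ Set.range (PrimeSpectrum.comap (algebraMap Bb (Bc c Bb i))) := by
      rw [PrimeSpectrum.localization_away_comap_range (Bc c Bb i) (algebraMap A Bb (c i))]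
      intro h
      refine hi ((hmem z _).mp ?_)
      rw [← hy]; exact h
    obtain ⟨x, hx⟩ := this
    exact ⟨x, M.isEmbedding.injective (by rw [hσ, hx, hy])⟩
  have hσZb : ∀ i x, σ i x ∈ Zb := fun i x => ⟨_, (hσ i x).symm⟩
  have hσc : ∀ i x, c i ∉ (base (σ i x)).asIdeal := fun i x h =>
    not_dvd_unit x (isUnit_loc (B := Bb) i) ((hbσ i x (c i)).mp h)
  have hσr : ∀ i j (P : PrimeSpectrum (Bcc c Bb i j)),
      σ i (PrimeSpectrum.comap (r1 c i j).toRingHom P) = σ j (PrimeSpectrum.comap (r2 c i j).toRingHom P) := by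
    intro i j P
    refine M.isEmbedding.injective ?_
    rw [hσ, hσ, ← PrimeSpectrum.comap_comp_apply, ← PrimeSpectrum.comap_comp_apply]
    refine congrArg (fun φ => π (PrimeSpectrum.comap φ P)) (RingHom.ext fun b => ?_)
    exact ((r1 c i j).commutes b).trans ((r2 c i j).commutes b).symm
  refine ⟨fun K hK => ?_, fun C hC hCf => ?_⟩
  · have hσ0 : ∀ i (x : PrimeSpectrum (Bc c Bb i)), algebraMap A (Bc c Bb i) f ∈ x.asIdeal → f ∈ (base (σ i x)).asIdeal :=
      fun i x hx => (hbσ i x f).mpr hx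
    let σx : ∀ (i) (x : PrimeSpectrum (Bc c Bb i)), algebraMap A (Bc c Bb i) f ∈ x.asIdeal →
        {z : Z.left // f ∈ (toBase U Z z : PrimeSpectrum A).asIdeal} := fun i x hx => ⟨σ i x, hσ0 i x hx⟩
    have hex : ∀ i, ∃ e : Bc c Bb i, algebraMap A (Bc c Bb i) f ∣ e * e - e ∧
        ∀ x (hx : algebraMap A (Bc c Bb i) f ∈ x.asIdeal), e ∉ x.asIdeal ↔ σx i x hx ∈ K := by
      intro i
      let I := Ideal.span {algebraMap A (Bc c Bb i) f}
      have hI : ∀ y : PrimeSpectrum (Bc c Bb i ⧸ I),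
          algebraMap A (Bc c Bb i) f ∈ (PrimeSpectrum.comap (Ideal.Quotient.mk I) y).asIdeal := fun y => by
        show Ideal.Quotient.mk I _ ∈ y.asIdeal
        rw [Ideal.Quotient.eq_zero_iff_mem.mpr (Ideal.mem_span_singleton_self _)]
        exact zero_mem _
      have hcont : Continuous fun y => σx i _ (hI y) :=
        Continuous.subtype_mk ((hσcont i).comp (PrimeSpectrum.continuous_comap _)) _
      obtain ⟨e, he, hKe⟩ := PrimeSpectrum.isClopen_iff.mp (hK.preimage hcont)
      obtain ⟨e, rfl⟩ := Ideal.Quotient.mk_surjective e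
      refine ⟨e, Ideal.mem_span_singleton.mp (Ideal.Quotient.eq.mp ((map_mul _ e e).trans he)), fun x hx => ?_⟩
      obtain ⟨y, rfl⟩ : x ∈ Set.range (PrimeSpectrum.comap (Ideal.Quotient.mk I)) := by
        rw [range_comap_of_surjective _ _ Ideal.Quotient.mk_surjective, PrimeSpectrum.mem_zeroLocus, Ideal.mk_ker]
        exact (Ideal.span_singleton_le_iff_mem _).mpr hx
      exact (Set.ext_iff.mp hKe y).symm
    choose ε hε hεK using hex
    have hfam : ε ∈ fam (B := Bb) c f := by
      intro i j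
      refine dvd_sub_of_iff ?_ ?_ fun P hP => not_iff_not.mp ?_
      · have := map_dvd (r1 c i j) (hε i)
        rwa [r1_f, map_sub, map_mul] at this
      · have := map_dvd (r2 c i j) (hε j)
        rwa [r2_f, map_sub, map_mul] at this
      · have h1' : algebraMap A (Bc c Bb i) f ∈ (PrimeSpectrum.comap (r1 c i j).toRingHom P).asIdeal := by
          show r1 c i j _ ∈ P.asIdeal
          rwa [r1_f]
        have h2' : algebraMap A (Bc c Bb j) f ∈ (PrimeSpectrum.comap (r2 c i j).toRingHom P).asIdeal := by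
          show r2 c i j _ ∈ P.asIdeal
          rwa [r2_f]
        refine (hεK i _ h1').trans (Iff.trans ?_ (hεK j _ h2').symm)
        rw [show σx i _ h1' = σx j _ h2' from Subtype.ext (hσr i j P)]
    obtain ⟨e, hecomp, heid, heε⟩ := exists_idem_lift hcm hrad hf hreg h1 h2 hfam hε
    let K' : Set Z.left := Subtype.val '' K
    have hfclosed : IsClosed {z : Z.left | f ∈ (toBase U Z z : PrimeSpectrum A).asIdeal} := by
      have := (PrimeSpectrum.isClosed_zeroLocus ({f} : Set A)).preimage (toBase U Z).continuous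
      convert this using 1
      ext z
      exact (Set.singleton_subset_iff (s := ((toBase U Z z : PrimeSpectrum A).asIdeal : Set A))).symm
    have hK' : IsClosed K' := hfclosed.isClosedEmbedding_subtypeVal.isClosedMap _ hK.1
    have hK'c : IsClosed (Subtype.val '' Kᶜ : Set Z.left) :=
      hfclosed.isClosedEmbedding_subtypeVal.isClosedMap _ hK.compl.1
    -- a lifted numerator
    have hnum : ∀ i, ∃ a a' : M.B, ∀ x : PrimeSpectrum (Bc c Bb i),
        (e i ∈ x.asIdeal ↔ a ∈ (M.pt (σ i x)).asIdeal) ∧ (e i ∉ x.asIdeal ↔ a' ∈ (M.pt (σ i x)).asIdeal) := by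
      intro i
      obtain ⟨b, ⟨_, l, rfl⟩, hb⟩ := IsLocalization.exists_mk'_eq (Submonoid.powers (algebraMap A Bb (c i))) (e i)
      obtain ⟨a, rfl⟩ := Ideal.Quotient.mk_surjective b
      refine ⟨a, algebraMap A M.B (c i) ^ l - a, fun x => ?_⟩
      have hu : IsUnit (algebraMap Bb (Bc c Bb i) (algebraMap A Bb (c i) ^ l)) := by
        rw [map_pow]; exact (IsLocalization.Away.algebraMap_isUnit _).pow l
      have hspec : algebraMap Bb (Bc c Bb i) (Ideal.Quotient.mk _ a) =
          e i * algebraMap Bb (Bc c Bb i) (algebraMap A Bb (c i) ^ l) := by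
        rw [← hb]; exact (IsLocalization.mk'_spec _ _ _).symm
      rw [hσ]
      constructor
      · show _ ↔ algebraMap Bb (Bc c Bb i) (Ideal.Quotient.mk _ a) ∈ x.asIdeal
        rw [hspec]
        exact ⟨fun h => x.asIdeal.mul_mem_right _ h,
          fun h => (x.isPrime.mem_or_mem h).resolve_right (not_dvd_unit x hu)⟩
      · show _ ↔ algebraMap Bb (Bc c Bb i) (Ideal.Quotient.mk _ (algebraMap A M.B (c i) ^ l - a)) ∈ x.asIdeal
        rw [map_sub, map_pow, Ideal.Quotient.mk_algebraMap, map_sub, hspec]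
        have hid : e i * (1 - e i) = 0 := by rw [mul_sub, mul_one, (heid i).eq, sub_self]
        constructor
        · intro h
          have h0 : (1 : Bc c Bb i) - e i ∈ x.asIdeal :=
            (x.isPrime.mem_or_mem (show e i * (1 - e i) ∈ x.asIdeal by rw [hid]; exact zero_mem _)).resolve_left h
          have := x.asIdeal.mul_mem_right (algebraMap Bb (Bc c Bb i) (algebraMap A Bb (c i) ^ l)) h0
          rwa [sub_mul, one_mul] at this
        · intro h he
          rw [← sub_add_cancel (algebraMap Bb (Bc c Bb i) (algebraMap A Bb (c i) ^ l))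
            (e i * algebraMap Bb (Bc c Bb i) (algebraMap A Bb (c i) ^ l))] at hu
          exact not_dvd_unit x hu (x.asIdeal.add_mem h (x.asIdeal.mul_mem_right _ he))
    choose a a' haa using hnum
    let O : Fin n → Set Z.left := fun i => {z | c i ∉ (base z).asIdeal}
    have hO : ∀ i, IsOpen (O i) := fun i =>
      (PrimeSpectrum.basicOpen (c i)).isOpen.preimage (toBase U Z).continuous
    let V : M.B → Set Z.left := fun b => M.pt ⁻¹' PrimeSpectrum.zeroLocus {b}
    have hV : ∀ b, IsClosed (V b) := fun b => (PrimeSpectrum.isClosed_zeroLocus _).preimage M.isEmbedding.continuous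
    have hVmem : ∀ b z, z ∈ V b ↔ b ∈ (M.pt z).asIdeal := fun b z =>
      Set.singleton_subset_iff (s := ((M.pt z).asIdeal : Set M.B))
    let G0 : Fin n → Set Z.left := fun i => (Zb ∩ V (a i)) ∪ Subtype.val '' Kᶜ
    let G1 : Fin n → Set Z.left := fun i => (Zb ∩ V (a' i)) ∪ K'
    have hG0 : ∀ i, IsClosed (G0 i) := fun i => (hZb.inter (hV _)).union hK'c
    have hG1 : ∀ i, IsClosed (G1 i) := fun i => (hZb.inter (hV _)).union hK'
    have hKe : ∀ i x (hx : f ∈ (base (σ i x)).asIdeal),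
        e i ∉ x.asIdeal ↔ (⟨σ i x, hx⟩ : {z : Z.left // f ∈ (toBase U Z z : PrimeSpectrum A).asIdeal}) ∈ K := by
      intro i x hx
      have hxf := (hbσ i x f).mp hx
      rw [← show σx i x hxf = ⟨σ i x, hx⟩ from rfl, ← hεK i x hxf]
      have hd : e i - ε i ∈ x.asIdeal := x.asIdeal.mem_of_dvd (heε i) hxf
      exact not_congr ⟨fun h => (Submodule.sub_mem_iff_right _ h).mp hd, fun h => (Submodule.sub_mem_iff_left _ h).mp hd⟩
    have hexcl : ∀ i z, z ∈ O i → (z ∈ G1 i ↔ z ∉ G0 i) := by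
      intro i z hz
      by_cases hzb : z ∈ Zb
      · obtain ⟨x, rfl⟩ := hσsurj i z hzb hz
        obtain ⟨ha, ha'⟩ := haa i x
        have hK1 : σ i x ∈ K' → e i ∉ x.asIdeal := by
          rintro ⟨⟨z', hz'⟩, hK', e'⟩
          cases e'
          exact (hKe i x hz').mpr hK'
        have hK0 : σ i x ∈ Subtype.val '' Kᶜ → e i ∈ x.asIdeal := by
          rintro ⟨⟨z', hz'⟩, hK', e'⟩
          cases e'
          exact not_not.mp fun h => hK' ((hKe i x hz').mp h)
        constructor
        · intro h h'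
          have he1 : e i ∉ x.asIdeal := h.elim (fun h => ha'.mpr ((hVmem _ _).mp h.2)) hK1
          exact he1 (h'.elim (fun h => ha.mpr ((hVmem _ _).mp h.2)) hK0)
        · intro h
          refine Or.inl ⟨hzb, (hVmem _ _).mpr (ha'.mp fun he => h (Or.inl ⟨hzb, (hVmem _ _).mpr (ha.mp he)⟩))⟩
      · have hzf : f ∈ (base z).asIdeal := not_not.mp fun h => hzb (hfZb z h)
        constructor
        · rintro (h | ⟨z1, h1', e1⟩) (h0 | ⟨z0, h0', e0⟩)
          · exact hzb h.1
          · exact hzb h.1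
          · exact hzb h0.1
          · exact h0' (Subtype.ext (e0.trans e1.symm) ▸ h1')
        · intro h
          by_cases hK1 : (⟨z, hzf⟩ : {z : Z.left // f ∈ (toBase U Z z : PrimeSpectrum A).asIdeal}) ∈ K
          · exact Or.inr ⟨_, hK1, rfl⟩
          · exact absurd (Or.inr ⟨_, hK1, rfl⟩) h
    have hindep : ∀ i j z, z ∈ O i → z ∈ O j → z ∈ G1 i → z ∈ G1 j := by
      intro i j z hi hj hz
      rcases hz with hz | hz
      · obtain ⟨x, rfl⟩ := hσsurj i z hz.1 hi
        obtain ⟨P, hP⟩ : x ∈ Set.range (PrimeSpectrum.comap (r1 c i j).toRingHom) := by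
          have h0 : PrimeSpectrum.comap (algebraMap Bb (Bc c Bb i)) x ∈
              Set.range (PrimeSpectrum.comap (algebraMap Bb (Bcc c Bb i j))) := by
            rw [PrimeSpectrum.localization_away_comap_range (Bcc c Bb i j) (algebraMap A Bb (c i) * algebraMap A Bb (c j))]
            intro h
            refine ((PrimeSpectrum.comap (algebraMap Bb (Bc c Bb i)) x).isPrime.mem_or_mem h).elim (fun h => hi ?_) fun h => hj ?_
            · exact (hbσ i x (c i)).mpr (by rw [IsScalarTower.algebraMap_apply A Bb (Bc c Bb i)]; exact h)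
            · exact (hbσ i x (c j)).mpr (by rw [IsScalarTower.algebraMap_apply A Bb (Bc c Bb i)]; exact h)
          obtain ⟨P, hP⟩ := h0
          refine ⟨P, PrimeSpectrum.localization_comap_injective (Bc c Bb i) (Submonoid.powers (algebraMap A Bb (c i))) ?_⟩
          rw [← hP, ← PrimeSpectrum.comap_comp_apply]
          exact congrArg (fun φ => PrimeSpectrum.comap φ P) (RingHom.ext fun b => (r1 c i j).commutes b)
        refine Or.inl ⟨hz.1, (hVmem _ _).mpr ?_⟩
        have h' := ((haa i x).2).mpr ((hVmem _ _).mp hz.2)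
        rw [← hP] at h'
        have h'' : e j ∉ (PrimeSpectrum.comap (r2 c i j).toRingHom P).asIdeal := by
          show r2 c i j (e j) ∉ P.asIdeal
          rw [← hecomp i j]; exact h'
        have := ((haa j _).2).mp h''
        rw [← hσr i j P, hP] at this
        exact this
      · exact Or.inr hz
    let C : Set Z.left := ⋃ i, O i \ G0 i
    have hCmem : ∀ z, z ∈ C ↔ ∀ i, z ∈ O i → z ∈ G1 i := by
      intro z
      simp only [C, Set.mem_iUnion, Set.mem_sdiff]
      constructor
      · rintro ⟨j, hj, hj'⟩ i hi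
        exact hindep j i z hj hi ((hexcl j z hj).mpr hj')
      · intro h
        obtain ⟨i, hi⟩ := hcc (base z) (Z.hom z).2
        exact ⟨i, hi, (hexcl i z hi).mp (h i hi)⟩
    refine ⟨C, ⟨⟨?_⟩, isOpen_iUnion fun i => (hO i).sdiff (hG0 i)⟩, fun z => ?_⟩
    · have : Cᶜ = ⋃ i, O i \ G1 i := by
        ext z
        simp only [Set.mem_compl_iff, hCmem, Set.mem_iUnion, Set.mem_sdiff, not_forall, exists_prop]
      rw [this]
      exact isOpen_iUnion fun i => (hO i).sdiff (hG1 i)
    · obtain ⟨z, hzf⟩ := z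
      rw [hCmem]
      obtain ⟨i, hi⟩ := hcc (base z) (Z.hom z).2
      refine ⟨fun h => ?_, fun h j _ => Or.inr ⟨_, h, rfl⟩⟩
      by_contra hK1
      exact (hexcl i z hi).mp (h i hi) (Or.inr ⟨_, hK1, rfl⟩)
  · -- a clopen subset avoiding `V(f)` is empty
    have hex : ∀ i, ∃ e : Bc c Bb i, IsIdempotentElem e ∧ σ i ⁻¹' C = PrimeSpectrum.basicOpen e := fun i =>
      PrimeSpectrum.isClopen_iff.mp (hC.preimage (hσcont i))
    choose e heid heC using hex
    have hmemC : ∀ i x, σ i x ∈ C ↔ e i ∉ x.asIdeal := fun i x => Set.ext_iff.mp (heC i) x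
    have hcomp : ∀ i j, r1 c i j (e i) = r2 c i j (e j) := fun i j => by
      refine PrimeSpectrum.basicOpen_injOn_isIdempotentElem ((heid i).map (r1 c i j)) ((heid j).map (r2 c i j)) ?_
      refine SetLike.ext fun P => ?_
      show r1 c i j (e i) ∉ P.asIdeal ↔ r2 c i j (e j) ∉ P.asIdeal
      rw [← show _ ↔ r1 c i j (e i) ∉ P.asIdeal from hmemC i (PrimeSpectrum.comap (r1 c i j).toRingHom P),
        ← show _ ↔ r2 c i j (e j) ∉ P.asIdeal from hmemC j (PrimeSpectrum.comap (r2 c i j).toRingHom P), hσr i j P]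
    have hdvd : ∀ i, algebraMap A (Bc c Bb i) f ∣ e i := fun i => by
      have h := dvd_sub_of_iff (F := algebraMap A (Bc c Bb i) f) (a := e i) (b := 0)
        (by rw [(heid i).eq, sub_self]; exact dvd_zero _) (by simp) fun P hP => ⟨fun _ => zero_mem _, fun _ => ?_⟩
      · rwa [sub_zero] at h
      · exact not_not.mp fun h => hCf _ ((hmemC i P).mpr h) ((hbσ i P f).mpr hP)
    have he0 := idem_eq_zero hcm hrad hf hreg h1 hjac hcomp heid hdvd
    refine Set.eq_empty_iff_forall_notMem.mpr fun z hz => ?_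
    obtain ⟨i, hi⟩ := hcc (base z) (Z.hom z).2
    obtain ⟨x, rfl⟩ := hσsurj i z (hfZb z (hCf z hz)) hi
    exact (hmemC i x).mp hz (by rw [congrFun he0 i]; exact zero_mem _)

end Groth.Agent.Pure83.Germ
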