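import Groth.Agent.Pure83.GermDepthStep
import Groth.Agent.FEt83.PureDescent
import Groth.Agent.FEt83.UHLift
import Groth.Agent.Frg27.RigClosed
import Groth.Agent.CAlg1.Complete
import Groth.Agent.CAlg1.FlatFibre
import Groth.Agent.Ega11.LiftGood
import Mathlib.RingTheory.Regular.RegularSequence

/-!
# Restriction to the trace of a regular sequence
-/

universe u

open CategoryTheory Limits AlgebraicGeometry TopologicalSpace PrimeSpectrum RingTheory.Sequence

namespace Groth.Agent.Pure83.Germ

set_option linter.unusedSectionVars false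
set_option backward.isDefEq.respectTransparency.types false

/-- Composites of maps with fully faithful restriction. -/
theorem ff_comp {X'' X' X : Scheme.{u}} {h : X'' ⟶ X'} {g : X' ⟶ X}
    (hh : (FEt.restrict h).Full ∧ (FEt.restrict h).Faithful)
    (hg : (FEt.restrict g).Full ∧ (FEt.restrict g).Faithful) :
    (FEt.restrict (h ≫ g)).Full ∧ (FEt.restrict (h ≫ g)).Faithful := by
  obtain ⟨_, _⟩ := hh
  obtain ⟨_, _⟩ := hg
  exact ⟨Functor.Full.of_iso (FEt83.restrictCompIso h g).symm,
    Functor.Faithful.of_iso (FEt83.restrictCompIso h g).symm⟩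

/-- Restriction along an isomorphism is fully faithful. -/
theorem ff_isIso {X' X : Scheme.{u}} (g : X' ⟶ X) [IsIso g] :
    (FEt.restrict g).Full ∧ (FEt.restrict g).Faithful := by
  have : (FEt.restrict g).IsEquivalence := FEt83.isEquivalence_restrict_of_iso (asIso g)
  exact ⟨inferInstance, inferInstance⟩

/-- The height of the image of the maximal ideal is at most the number of equations cutting it out. -/
theorem height_map_maximal_le {B : Type u} [CommRing B] [IsLocalRing B] [IsNoetherianRing B]
    (q : Ideal B) [q.IsPrime] (s : Finset B) (hs : ∀ x ∈ s, x ∈ IsLocalRing.maximalIdeal B)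
    (hrad : ∀ P : Ideal B, P.IsPrime → q ≤ P → (∀ x ∈ s, x ∈ P) → P = IsLocalRing.maximalIdeal B) :
    ((IsLocalRing.maximalIdeal B).map (Ideal.Quotient.mk q)).height ≤ s.card := by
  classical
  let π := Ideal.Quotient.mk q
  have hker : RingHom.ker π ≤ IsLocalRing.maximalIdeal B := by
    rw [Ideal.mk_ker]; exact IsLocalRing.le_maximalIdeal (Ideal.IsPrime.ne_top ‹_›)
  have : ((IsLocalRing.maximalIdeal B).map π).IsPrime :=
    Ideal.map_isPrime_of_surjective Ideal.Quotient.mk_surjective hker
  have hmin : (IsLocalRing.maximalIdeal B).map π ∈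
      (Ideal.span ((s.image π : Finset (B ⧸ q)) : Set (B ⧸ q))).minimalPrimes := by
    refine ⟨⟨this, Ideal.span_le.mpr ?_⟩, ?_⟩
    · intro y hy
      obtain ⟨x, hx, rfl⟩ := Finset.mem_image.mp hy
      exact Ideal.mem_map_of_mem π (hs x hx)
    · rintro P ⟨hP, hle⟩ -
      have := hrad (P.comap π) (hP.comap π) (fun x hx => by
        rw [Ideal.mem_comap, Ideal.Quotient.eq_zero_iff_mem.mpr hx]; exact zero_mem _)
        fun x hx => hle (Ideal.subset_span (Finset.mem_image_of_mem π hx))
      rw [← this, Ideal.map_comap_of_surjective _ Ideal.Quotient.mk_surjective]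
  exact (Ideal.height_le_card_of_mem_minimalPrimes_span_finset hmin).trans
    (by exact_mod_cast Finset.card_image_le)

set_option maxHeartbeats 1600000 in
/-- Restriction to the trace of a regular sequence on an open meeting its zero set in the punctured
zero set is fully faithful, if the depth exceeds the length by two. -/
theorem fullyFaithful_regular : ∀ (k : ℕ) {B : Type u} [CommRing B] [IsLocalRing B] [IsNoetherianRing B]
    (l : List B) {R : Type u} [CommRing R] (π : B →+* R), Function.Surjective π →
    RingHom.ker π = Ideal.ofList l → l.length = k → (∀ x ∈ l, x ∈ IsLocalRing.maximalIdeal B) →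
    IsWeaklyRegular B l → IsAdicComplete (Ideal.ofList l) B →
    ((k + 2 : ℕ) : ℕ∞) ≤ LocCoh.depth B B →
    ∀ {V : Scheme.{u}} (j : V ⟶ Spec (CommRingCat.of B)) [IsOpenImmersion j],
    (∀ q : PrimeSpectrum B, Ideal.ofList l ≤ q.asIdeal →
      ((q : Spec (CommRingCat.of B)) ∈ Set.range j ↔ q ≠ IsLocalRing.closedPoint B)) →
    (FEt.restrict (pullback.fst j (Spec.map (CommRingCat.ofHom π)))).Full ∧
      (FEt.restrict (pullback.fst j (Spec.map (CommRingCat.ofHom π)))).Faithful := by
  classical
  intro k
  induction k with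
  | zero =>
    intro B _ _ _ l R _ π hπ hker hlen hl hreg hc hdepth V j _ hV
    rw [List.length_eq_zero_iff] at hlen
    subst hlen
    have hinj : Function.Injective π := (RingHom.injective_iff_ker_eq_bot π).mpr (hker.trans Ideal.ofList_nil)
    have : IsIso (CommRingCat.ofHom π) :=
      (ConcreteCategory.isIso_iff_bijective (CommRingCat.ofHom π)).mpr ⟨hinj, hπ⟩
    have : IsIso (Spec.map (CommRingCat.ofHom π)) := inferInstance
    exact ff_isIso _
  | succ k ih =>
    intro B _ _ _ l R _ π hπ hker hlen hl hreg hc hdepth V j _ hV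
    obtain ⟨f, l', rfl⟩ := List.exists_cons_of_length_eq_add_one hlen
    rw [List.length_cons, Nat.add_right_cancel_iff] at hlen
    have hfm : f ∈ IsLocalRing.maximalIdeal B := hl f (List.mem_cons_self ..)
    obtain ⟨hfreg, hreg'⟩ := (isWeaklyRegular_cons_iff' B f l').mp hreg
    have hnz : f ∈ nonZeroDivisors B :=
      ⟨fun x hx => hfreg (show f • x = f • 0 by rw [smul_eq_mul, mul_comm, smul_zero]; simpa [mul_comm] using hx),
        fun x hx => hfreg (show f • x = f • 0 by rw [smul_eq_mul, smul_zero]; simpa [mul_comm] using hx)⟩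
    have hfle : Ideal.span {f} ≤ Ideal.ofList (f :: l') := by
      rw [Ideal.ofList_cons]; exact le_sup_left
    have : IsAdicComplete (Ideal.span {f}) B :=
      CAlg1.isAdicComplete_of_le hfle (IsNoetherian.noetherian _)
    let qf := Ideal.Quotient.mk (Ideal.span {f})
    let B' := B ⧸ Ideal.span {f}
    have : Nontrivial B' := Ideal.Quotient.nontrivial_iff.mpr fun h => (IsLocalRing.maximalIdeal.isMaximal B).ne_top
      (top_le_iff.mp (h ▸ (Ideal.span_singleton_le_iff_mem _).mpr hfm))
    have : IsLocalRing B' := IsLocalRing.of_surjective' qf Ideal.Quotient.mk_surjective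
    have : IsLocalHom qf := IsLocalHom.of_surjective qf Ideal.Quotient.mk_surjective
    -- the quotient data
    have hπf : ∀ a ∈ Ideal.span {f}, π a = 0 := fun a ha => by
      rw [← RingHom.mem_ker, hker]; exact hfle ha
    let π' : B' →+* R := Ideal.Quotient.lift _ π hπf
    have hπ' : Function.Surjective π' := fun r => ⟨qf (hπ r).choose, (hπ r).choose_spec⟩
    have hfac : π'.comp qf = π := RingHom.ext fun _ => rfl
    have hofl : Ideal.ofList (l'.map qf) = (Ideal.ofList (f :: l')).map qf := by
      rw [Ideal.map_ofList, List.map_cons, Ideal.ofList_cons, Ideal.Quotient.eq_zero_iff_mem.mpr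
        (Ideal.mem_span_singleton_self f), Ideal.span_singleton_eq_bot.mpr rfl, bot_sup_eq]
    have hker' : RingHom.ker π' = Ideal.ofList (l'.map qf) := by
      rw [hofl, ← hker]
      ext x
      obtain ⟨x, rfl⟩ := Ideal.Quotient.mk_surjective x
      rw [Ideal.mem_map_iff_of_surjective _ Ideal.Quotient.mk_surjective]
      refine ⟨fun h => ⟨x, h, rfl⟩, ?_⟩
      rintro ⟨y, hy, hxy⟩
      show π' (qf x) = 0
      rw [← hxy]; exact hy
    have hl' : ∀ x ∈ l'.map qf, x ∈ IsLocalRing.maximalIdeal B' := fun x hx => by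
      obtain ⟨y, hy, rfl⟩ := List.mem_map.mp hx
      exact map_nonunit qf y (hl y (List.mem_cons_of_mem _ hy))
    let eB : QuotSMulTop f B ≃ₗ[B] B' :=
      Submodule.quotEquivOfEq _ _ (by rw [← Submodule.ideal_span_singleton_smul, smul_eq_mul, Ideal.mul_top])
    have hregB : IsWeaklyRegular B' (l'.map qf) :=
      (LinearEquiv.isWeaklyRegular_congr
        (LinearEquiv.extendScalarsOfSurjective (S := B ⧸ Ideal.span {f}) Ideal.Quotient.mk_surjective eB)
        (l'.map qf)).mp hreg'
    have hc' : IsAdicComplete (Ideal.ofList (l'.map qf)) B' := by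
      rw [hofl]; exact Frg27.isAdicComplete_quotient _ _
    have hdepth' : ((k + 2 : ℕ) : ℕ∞) ≤ LocCoh.depth B' B' := by
      rw [← Ega11.LiftGood.depth_quotient_add_one hfm hnz] at hdepth
      rw [← CAlg1.depth_quotient_self B (Ideal.span {f})]
      rw [show ((k + 1 + 2 : ℕ) : ℕ∞) = ((k + 2 : ℕ) : ℕ∞) + 1 by push_cast; ring] at hdepth
      exact (ENat.add_le_add_iff_right ENat.one_ne_top).mp hdepth
    let cf : Spec (CommRingCat.of B') ⟶ Spec (CommRingCat.of B) := Spec.map (CommRingCat.ofHom qf)
    let cπ : Spec (CommRingCat.of R) ⟶ Spec (CommRingCat.of B') := Spec.map (CommRingCat.ofHom π')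
    have hcl : ∀ q : PrimeSpectrum B',
        PrimeSpectrum.comap qf q = IsLocalRing.closedPoint B ↔ q = IsLocalRing.closedPoint B' := fun q => by
      constructor
      · intro h
        refine PrimeSpectrum.ext (((IsLocalRing.maximalIdeal.isMaximal B').eq_of_le q.isPrime.ne_top ?_).symm)
        intro x hx
        obtain ⟨x, rfl⟩ := Ideal.Quotient.mk_surjective x
        have : x ∈ IsLocalRing.maximalIdeal B := fun hu => hx (hu.map qf)
        exact (congrArg PrimeSpectrum.asIdeal h).ge this
      · rintro rfl
        exact PrimeSpectrum.ext (IsLocalRing.maximalIdeal_comap qf)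
    -- the inner map
    have hinner := ih (l'.map qf) π' hπ' hker' (by rw [List.length_map, hlen]) hl' hregB hc' hdepth'
      (pullback.snd j cf) fun q hq => by
        refine (Set.ext_iff.mp (Scheme.Pullback.range_snd (f := j) (g := cf)) q).trans ?_
        show (PrimeSpectrum.comap qf q : Spec (CommRingCat.of B)) ∈ Set.range j ↔ _
        rw [hV _ ?_]
        · exact not_congr (hcl q)
        · rw [hofl] at hq
          exact Ideal.map_le_iff_le_comap.mp hq
    -- the outer map
    let W := j.opensRange
    have h3 : ∀ s : PrimeSpectrum B, (s : Spec (CommRingCat.of B)) ∉ W → f ∈ s.asIdeal →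
        (3 : ℕ∞) ≤ LocCoh.depth (Localization.AtPrime s.asIdeal) (Localization.AtPrime s.asIdeal) := by
      intro s hs hfs
      have hrad : ∀ P : Ideal B, P.IsPrime → s.asIdeal ≤ P → (∀ x ∈ l'.toFinset, x ∈ P) →
          P = IsLocalRing.maximalIdeal B := fun P hP hsP hxP => by
        have hle : Ideal.ofList (f :: l') ≤ P := Ideal.span_le.mpr fun x hx => by
          rcases List.mem_cons.mp hx with rfl | hx
          · exact hsP hfs
          · exact hxP x (List.mem_toFinset.mpr hx)
        by_contra hne
        refine hs ?_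
        have hP' : (⟨P, hP⟩ : PrimeSpectrum B) ∈ Set.range j :=
          (hV ⟨P, hP⟩ hle).mpr fun h => hne (congrArg PrimeSpectrum.asIdeal h)
        exact ((PrimeSpectrum.le_iff_specializes s ⟨P, hP⟩).mp hsP).mem_open W.2 hP'
      have hh := height_map_maximal_le s.asIdeal l'.toFinset
        (fun x hx => hl x (List.mem_cons_of_mem _ (List.mem_toFinset.mp hx))) hrad
      have h' := S11650.result B B s.asIdeal (IsLocalRing.maximalIdeal B) (IsLocalRing.le_maximalIdeal s.isPrime.ne_top)
      rw [CAlg1.depth_locSelf, CAlg1.depth_locSelf] at h'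
      rw [← FEt83.depth_stalk_Spec B (IsLocalRing.closedPoint B) |>.trans (rfl :
        LocCoh.depth (Localization.AtPrime (IsLocalRing.maximalIdeal B)) (Localization.AtPrime (IsLocalRing.maximalIdeal B)) = _),
        FEt83.depth_stalk_closedPoint] at h'
      have hcard : (l'.toFinset.card : ℕ∞) ≤ (k : ℕ∞) := by
        exact_mod_cast hlen ▸ List.toFinset_card_le l'
      have := hdepth.trans (h'.trans (add_le_add le_rfl (hh.trans hcard)))
      rw [show ((k + 1 + 2 : ℕ) : ℕ∞) = (3 : ℕ∞) + (k : ℕ∞) by push_cast; ring] at this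
      exact (ENat.add_le_add_iff_right (ENat.natCast_ne_top k)).mp this
    have houter := fullyFaithful_step W hfm hnz h3
    -- assembling
    let κ : pullback j cf ⟶ pullback W.ι cf :=
      pullback.map j cf W.ι cf j.isoOpensRange.hom (𝟙 _) (𝟙 _) (by simp [W]) (by simp)
    have : IsIso κ := pullback.map_isIso ..
    have hκ : pullback.fst j cf = κ ≫ pullback.fst W.ι cf ≫ j.isoOpensRange.inv := by
      rw [pullback.lift_fst_assoc, Category.assoc, Iso.hom_inv_id, Category.comp_id]
    have h1 : (FEt.restrict (pullback.fst j cf)).Full ∧ (FEt.restrict (pullback.fst j cf)).Faithful := by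
      rw [hκ]
      exact ff_comp (ff_isIso κ) (ff_comp houter (ff_isIso _))
    have hπeq : Spec.map (CommRingCat.ofHom π) = cπ ≫ cf := by
      rw [← Spec.map_comp, ← CommRingCat.ofHom_comp, hfac]
    rw [hπeq]
    have hfst : pullback.fst j (cπ ≫ cf) = (pullbackLeftPullbackSndIso j cf cπ).inv ≫
        pullback.fst (pullback.snd j cf) cπ ≫ pullback.fst j cf := by
      rw [← pullbackLeftPullbackSndIso_hom_fst, Iso.inv_hom_id_assoc]
    rw [hfst]
    exact ff_comp (ff_isIso _) (ff_comp hinner h1)

end Groth.Agent.Pure83.Germ
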