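import Groth.Agent.Pure83.GermFF
import Groth.Agent.FEt83.DepthSections
import Groth.Agent.LC15.CritDepth
import Groth.Agent.LC15.ExtDepth
import Groth.Agent.LC17.IDepth
import Groth.Agent.S5152
import Groth.Agent.S11650
import Groth.Agent.Ega11.LiftGood

/-!
# Restriction to the trace of a hyperplane along which the depth is at least three
-/

universe u

open CategoryTheory Limits AlgebraicGeometry TopologicalSpace PrimeSpectrum

namespace Groth.Agent.Pure83.Germ

set_option linter.unusedSectionVars false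
set_option backward.isDefEq.respectTransparency.types false

variable {B : Type u} [CommRing B] [IsNoetherianRing B]

/-- A finite covering of an open set by basic opens. -/
theorem exists_cover_basic (U : (Spec (CommRingCat.of B)).Opens) :
    ∃ (n : ℕ) (c : Fin n → B),
      (∀ i, (PrimeSpectrum.basicOpen (c i) : (Spec (CommRingCat.of B)).Opens) ≤ U) ∧
      ∀ p : PrimeSpectrum B, p ∈ U → ∃ i, c i ∉ p.asIdeal := by
  classical
  obtain ⟨s, hs⟩ := (PrimeSpectrum.isCompact_isOpen_iff (s := {p : PrimeSpectrum B | p ∈ U})).mp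
    ⟨NoetherianSpace.isCompact _, U.isOpen⟩
  have hmem : ∀ p : PrimeSpectrum B, p ∈ U ↔ ∃ a ∈ s, a ∉ p.asIdeal := fun p => by
    have := Set.ext_iff.mp hs p
    simp only [Set.mem_compl_iff, PrimeSpectrum.mem_zeroLocus, Set.subset_def,
      not_forall, exists_prop, SetLike.mem_coe] at this
    exact this.symm
  refine ⟨s.card, fun i => (s.equivFin.symm i).1, fun i p hp => ?_, fun p hp => ?_⟩
  · exact (hmem p).mpr ⟨_, (s.equivFin.symm i).2, hp⟩
  · obtain ⟨a, ha, hap⟩ := (hmem p).mp hp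
    exact ⟨s.equivFin ⟨a, ha⟩, by simpa using hap⟩

variable [IsLocalRing B] {f : B}

/-- If the closure of a point meets a hyperplane only where the depth is at least three, its depth
is at least two. -/
theorem two_le_depth_of_closure (hf : f ∈ IsLocalRing.maximalIdeal B) (W : Set (PrimeSpectrum B))
    (h3 : ∀ s : PrimeSpectrum B, s ∉ W → f ∈ s.asIdeal →
      (3 : ℕ∞) ≤ LocCoh.depth (Localization.AtPrime s.asIdeal) (Localization.AtPrime s.asIdeal))
    (q : PrimeSpectrum B) (hq : ∀ s : PrimeSpectrum B, q.asIdeal ≤ s.asIdeal → f ∈ s.asIdeal → s ∉ W) :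
    (2 : ℕ∞) ≤ LocCoh.depth (Localization.AtPrime q.asIdeal) (Localization.AtPrime q.asIdeal) := by
  obtain ⟨s, hs, -⟩ := Ideal.exists_minimalPrimes_le
    (show q.asIdeal ⊔ Ideal.span {f} ≤ IsLocalRing.maximalIdeal B from
      sup_le (IsLocalRing.le_maximalIdeal q.isPrime.ne_top) ((Ideal.span_singleton_le_iff_mem _).mpr hf))
  have : s.IsPrime := hs.1.1
  have hqs : q.asIdeal ≤ s := le_sup_left.trans hs.1.2
  have hfs : f ∈ s := hs.1.2 (Ideal.mem_sup_right (Ideal.mem_span_singleton_self f))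
  have h := h3 ⟨s, ‹_›⟩ (hq ⟨s, ‹_›⟩ hqs hfs) hfs
  have h' := S11650.result B B q.asIdeal s hqs
  rw [CAlg1.depth_locSelf, CAlg1.depth_locSelf] at h'
  let π := Ideal.Quotient.mk q.asIdeal
  have hht : (s.map π).height ≤ 1 := by
    refine Ideal.height_le_one_of_isPrincipal_of_mem_minimalPrimes (Ideal.span {π f}) _ ?_
    have hker : RingHom.ker π ≤ s := by rwa [Ideal.mk_ker]
    have : (s.map π).IsPrime := Ideal.map_isPrime_of_surjective Ideal.Quotient.mk_surjective hker
    refine ⟨⟨this, (Ideal.span_singleton_le_iff_mem _).mpr (Ideal.mem_map_of_mem π hfs)⟩, ?_⟩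
    rintro P ⟨hP, hfP⟩ hPs
    have hq' : q.asIdeal ≤ P.comap π := fun x hx => by
      rw [Ideal.mem_comap, Ideal.Quotient.eq_zero_iff_mem.mpr hx]
      exact zero_mem _
    have hPs' : P.comap π ≤ s := by
      refine (Ideal.comap_mono hPs).trans ?_
      rw [Ideal.comap_map_of_surjective _ Ideal.Quotient.mk_surjective, ← RingHom.ker_eq_comap_bot]
      exact sup_le le_rfl hker
    have hle : s ≤ P.comap π := hs.2 ⟨hP.comap π, sup_le hq'
      ((Ideal.span_singleton_le_iff_mem _).mpr (hfP (Ideal.mem_span_singleton_self _)))⟩ hPs'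
    exact Ideal.map_le_iff_le_comap.mpr hle
  have : (3 : ℕ∞) ≤ LocCoh.depth (Localization.AtPrime q.asIdeal) (Localization.AtPrime q.asIdeal) + 1 :=
    (h.trans h').trans (add_le_add le_rfl hht)
  rw [show (3 : ℕ∞) = 2 + 1 by norm_num] at this
  exact (ENat.add_le_add_iff_right ENat.one_ne_top).mp this

/-- The depth of an open subscheme of a spectrum at a point. -/
theorem depth_stalk_open (W : (Spec (CommRingCat.of B)).Opens) (x : (W : Scheme.{u})) :
    LocCoh.depth ((W : Scheme.{u}).presheaf.stalk x) ((W : Scheme.{u}).presheaf.stalk x) =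
      LocCoh.depth (Localization.AtPrime (W.ι x : PrimeSpectrum B).asIdeal)
        (Localization.AtPrime (W.ι x : PrimeSpectrum B).asIdeal) :=
  ((CAlg1.depth_eq_of_ringEquiv (asIso (W.ι.stalkMap x)).commRingCatIsoToRingEquiv).symm).trans
    (FEt83.depth_stalk_Spec B (W.ι x))

variable [IsPrecomplete (Ideal.span {f}) B] (W : (Spec (CommRingCat.of B)).Opens)

theorem range_fst_trace (x : (W : Scheme.{u})) :
    x ∈ Set.range (pullback.fst W.ι (Spec.map (CommRingCat.ofHom (Ideal.Quotient.mk (Ideal.span {f}))))) ↔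
      f ∈ (W.ι x : PrimeSpectrum B).asIdeal := by
  rw [Scheme.Pullback.range_fst, Set.mem_preimage]
  show (W.ι x : PrimeSpectrum B) ∈ Set.range (PrimeSpectrum.comap (Ideal.Quotient.mk (Ideal.span {f}))) ↔ _
  rw [range_comap_of_surjective _ _ Ideal.Quotient.mk_surjective, Ideal.mk_ker,
    PrimeSpectrum.zeroLocus_span]
  exact Set.singleton_subset_iff

theorem meetsClopens_step (hf : f ∈ IsLocalRing.maximalIdeal B)
    (h3 : ∀ s : PrimeSpectrum B, s ∉ W → f ∈ s.asIdeal →
      (3 : ℕ∞) ≤ LocCoh.depth (Localization.AtPrime s.asIdeal) (Localization.AtPrime s.asIdeal)) :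
    FEt83.MeetsClopens (pullback.fst W.ι (Spec.map (CommRingCat.ofHom (Ideal.Quotient.mk (Ideal.span {f}))))) := by
  intro Y C hC hne
  have hD := FEt83.isClopen_image Y hC
  by_contra hno
  push Not at hno
  -- the image avoids the hyperplane
  have havoid : ∀ x ∈ Y.hom '' C, f ∉ (W.ι x : PrimeSpectrum B).asIdeal := by
    rintro x ⟨y, hy, rfl⟩ hfx
    obtain ⟨t, ht⟩ := (range_fst_trace W (Y.hom y)).mpr hfx
    obtain ⟨z, hz⟩ := FEt83.exists_point Y ht.symm
    exact hno z (hz ▸ hy)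
  obtain ⟨x₀, hx₀⟩ := hne.image Y.hom
  obtain ⟨p, hp, hpx⟩ := Ideal.exists_minimalPrimes_le
    (show (⊥ : Ideal B) ≤ (W.ι x₀ : PrimeSpectrum B).asIdeal from bot_le)
  have : p.IsPrime := hp.1.1
  let P : PrimeSpectrum B := ⟨p, ‹_›⟩
  have hsp : (P : Spec (CommRingCat.of B)) ⤳ W.ι x₀ := (PrimeSpectrum.le_iff_specializes P _).mp hpx
  have hPW : (P : Spec (CommRingCat.of B)) ∈ W := hsp.mem_open W.2 x₀.2
  let P' : (W : Scheme.{u}) := ⟨P, hPW⟩
  have hPD : P' ∈ Y.hom '' C := (W.ι.isOpenEmbedding.isInducing.specializes_iff.mp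
    (show W.ι P' ⤳ W.ι x₀ from hsp)).mem_open hD.2 hx₀
  have h2 := two_le_depth_of_closure hf {s : PrimeSpectrum B | s ∈ W} h3 P fun s hs hfs hsW => by
    let s' : (W : Scheme.{u}) := ⟨s, hsW⟩
    refine havoid s' ((W.ι.isOpenEmbedding.isInducing.specializes_iff.mp
      (show W.ι P' ⤳ W.ι s' from (PrimeSpectrum.le_iff_specializes P s).mp hs)).mem_closed hD.1 hPD) hfs
  have h0 := LC15.CritDepth.depth_eq_zero_of_minimal (M := B) P (by
    rwa [Module.annihilator_eq_bot.mpr inferInstance])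
  rw [CAlg1.depth_locSelf] at h0
  exact absurd (h0 ▸ h2) (by simp)

theorem finite_H_one_quotient (hnz : f ∈ nonZeroDivisors B) (m : Ideal B) (hfm : f ∈ m)
    (h3 : ∀ s : PrimeSpectrum B, m ≤ s.asIdeal →
      (3 : ℕ∞) ≤ LocCoh.depth (Localization.AtPrime s.asIdeal) (Localization.AtPrime s.asIdeal)) :
    Module.Finite B (LocCoh.H m 1 (B ⧸ Ideal.span {f})) := by
  have h : (3 : ℕ∞) ≤ LocCoh.idealDepth m B := by
    rw [S5152.result]
    exact le_iInf₂ fun s hs => (h3 s hs).trans (CAlg1.depth_locSelf s.asIdeal).ge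
  rw [← LC15.idealDepth_quotSMulTop_add_one m hfm (Ega11.LiftGood.isSMulRegular_of_mem hnz)] at h
  let e : QuotSMulTop f B ≃ₗ[B] B ⧸ Ideal.span {f} :=
    Submodule.quotEquivOfEq _ _ (by rw [← Submodule.ideal_span_singleton_smul, smul_eq_mul, Ideal.mul_top])
  rw [LC17.idealDepth_congr m e, show (3 : ℕ∞) = ((2 : ℕ) : ℕ∞) + 1 by norm_num] at h
  have h2 := (ENat.add_le_add_iff_right ENat.one_ne_top).mp h
  have := (LC17.natCast_le_idealDepth_iff m _ 2).mp h2 1 (by omega)
  infer_instance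

set_option maxHeartbeats 1600000 in
theorem liftsClopens_step (hf : f ∈ IsLocalRing.maximalIdeal B) (hnz : f ∈ nonZeroDivisors B)
    (h3 : ∀ s : PrimeSpectrum B, s ∉ W → f ∈ s.asIdeal →
      (3 : ℕ∞) ≤ LocCoh.depth (Localization.AtPrime s.asIdeal) (Localization.AtPrime s.asIdeal)) :
    FEt83.LiftsClopens (pullback.fst W.ι (Spec.map (CommRingCat.ofHom (Ideal.Quotient.mk (Ideal.span {f}))))) := by
  intro Z C₀ hC₀
  let u₀ := pullback.fst W.ι (Spec.map (CommRingCat.ofHom (Ideal.Quotient.mk (Ideal.span {f}))))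
  let q := pullback.fst Z.hom u₀
  have : IsClosedImmersion (Spec.map (CommRingCat.ofHom (Ideal.Quotient.mk (Ideal.span {f})))) :=
    IsClosedImmersion.spec_of_surjective _ Ideal.Quotient.mk_surjective
  have : IsClosedImmersion u₀ := MorphismProperty.pullback_fst _ _ ‹_›
  have : IsClosedImmersion q := MorphismProperty.pullback_fst _ _ ‹_›
  have hmem : ∀ z, f ∈ (toBase W Z (q z) : PrimeSpectrum B).asIdeal := fun z =>
    (range_fst_trace W _).mp ⟨pullback.snd Z.hom u₀ z,
      congr($(pullback.condition (f := Z.hom) (g := u₀)) z).symm⟩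
  let e : ↥(pullback Z.hom u₀) → {z : Z.left // f ∈ (toBase W Z z : PrimeSpectrum B).asIdeal} :=
    fun z => ⟨q z, hmem z⟩
  have he : IsHomeomorph e := by
    rw [isHomeomorph_iff_isEmbedding_surjective]
    refine ⟨(pullback.fst Z.hom u₀).isClosedEmbedding.isEmbedding.codRestrict _ hmem, fun ⟨z, hz⟩ => ?_⟩
    obtain ⟨t, ht⟩ := (range_fst_trace W (Z.hom z)).mpr hz
    obtain ⟨w, hw⟩ := FEt83.exists_point Z ht.symm
    exact ⟨w, Subtype.ext hw⟩
  obtain ⟨n, c, hcU, hcc⟩ := exists_cover_basic W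
  let m : Ideal B := Ideal.span (insert f (Set.range c))
  obtain ⟨U'', -, hU''0, C, hCo, hCc, hCK⟩ := exists_clopen_gen f hnz m
    (finite_H_one_quotient hnz m (Ideal.subset_span (Set.mem_insert _ _)) fun s hs => h3 s
      (fun hsW => by
        obtain ⟨i, hi⟩ := hcc s hsW
        exact hi (hs (Ideal.subset_span (Set.mem_insert_of_mem _ ⟨i, rfl⟩))))
      (hs (Ideal.subset_span (Set.mem_insert _ _))))
    W c (fun i => Ideal.subset_span (Set.mem_insert_of_mem _ ⟨i, rfl⟩)) hcU hcc Ideal.le_radical Z (e '' C₀)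
    ⟨he.isClosedMap _ hC₀.1, he.isOpenMap _ hC₀.2⟩
  -- extend the clopen from the neighbourhood
  let V : Z.left.Opens := toBase W Z ⁻¹ᵁ U''
  have : Etale Z.hom := Z.prop.2
  have : IsLocallyNoetherian ((Functor.fromPUnit (W : Scheme.{u})).obj Z.right) :=
    isLocallyNoetherian_of_isOpenImmersion W.ι
  have hZn : IsLocallyNoetherian ((𝟭 Scheme).obj Z.left) := LocallyOfFiniteType.isLocallyNoetherian Z.hom
  have : IsLocallyNoetherian Z.left := hZn
  have hdepth : ∀ x : Z.left, x ∉ Set.range V.ι →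
      (2 : ℕ∞) ≤ LocCoh.depth (Z.left.presheaf.stalk x) (Z.left.presheaf.stalk x) := fun x hx => by
    rw [Scheme.Opens.range_ι] at hx
    refine (two_le_depth_of_closure hf {s : PrimeSpectrum B | s ∈ W} h3 (toBase W Z x)
      fun s hs hfs hsW => hx ?_).trans ((depth_stalk_open W (Z.hom x)).symm.trans
        (FEt83.depth_stalk_of_etale Z.hom x).symm).le
    show toBase W Z x ∈ U''
    exact ((PrimeSpectrum.le_iff_specializes _ s).mp hs).mem_open U''.2 (hU''0 s hsW hfs)
  have hbij := FEt83.appTop_bijective_of_depth V.ι hdepth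
  have hCV : IsClopen (V.ι ⁻¹' C : Set (V : Scheme.{u})) :=
    ⟨hCc.preimage (f := fun z : (V : Scheme.{u}) => (⟨V.ι z, z.2⟩ : {z : Z.left // toBase W Z z ∈ U''}))
      (V.ι.continuous.subtype_mk _), hCo.preimage V.ι.continuous⟩
  obtain ⟨e₀, he₀, hb₀⟩ := FEt83.exists_idempotent_of_isClopen _ hCV
  obtain ⟨a, rfl⟩ := hbij.2 e₀
  have ha : IsIdempotentElem a := hbij.1 (by rw [map_mul]; exact he₀)
  refine ⟨Z.left.basicOpen a, ⟨?_, (Z.left.basicOpen a).2⟩, ?_⟩
  · rw [← isOpen_compl_iff, FEt83.compl_basicOpen_of_idem ha]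
    exact (Z.left.basicOpen (1 - a)).2
  · ext z
    have hzV : q z ∈ V := hU''0 _ (Z.hom (q z)).2 (hmem z)
    have h1 : V.ι ⟨q z, hzV⟩ ∈ Z.left.basicOpen a ↔ V.ι ⟨q z, hzV⟩ ∈ C := by
      refine Iff.trans ?_ (Set.ext_iff.mp hb₀ ⟨q z, hzV⟩)
      rw [← Scheme.preimage_basicOpen_top]
      rfl
    exact (h1.trans (hCK (e z))).trans he.injective.mem_set_image

/-- Restriction to the trace of a hyperplane is fully faithful if the depth is at least three at the
points of the hyperplane outside the open. -/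
theorem fullyFaithful_step (hf : f ∈ IsLocalRing.maximalIdeal B) (hnz : f ∈ nonZeroDivisors B)
    (h3 : ∀ s : PrimeSpectrum B, s ∉ W → f ∈ s.asIdeal →
      (3 : ℕ∞) ≤ LocCoh.depth (Localization.AtPrime s.asIdeal) (Localization.AtPrime s.asIdeal)) :
    (FEt.restrict (pullback.fst W.ι (Spec.map (CommRingCat.ofHom (Ideal.Quotient.mk (Ideal.span {f})))))).Full ∧
    (FEt.restrict (pullback.fst W.ι (Spec.map (CommRingCat.ofHom (Ideal.Quotient.mk (Ideal.span {f})))))).Faithful :=
  have hm := meetsClopens_step W hf h3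
  ⟨FEt83.full_of_lifts hm (liftsClopens_step W hf hnz h3), FEt83.faithful_of_meets hm⟩

end Groth.Agent.Pure83.Germ
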