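import Groth.Agent.Pure83.GermGlobal
import Groth.Agent.Pure83.FormalFF
import Groth.Agent.Pure83.FormalExtend
import Groth.Agent.FEt83.ClopensOfFF
import Groth.Agent.Cohen12.Completion
import Groth.Agent.CAlg1.Complete

/-!
# Clopen subsets of covers descend from the completion over a henselian pair
-/

universe u

open CategoryTheory Limits AlgebraicGeometry TopologicalSpace PrimeSpectrum TensorProduct

namespace Groth.Agent.Pure83.Germ

set_option linter.unusedSectionVars false
set_option backward.isDefEq.respectTransparency.types false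

/-- Integrality descends along faithfully flat extensions. -/
theorem isIntegral_of_tmul {A C M : Type u} [CommRing A] [CommRing C] [Algebra A C] [IsNoetherianRing C]
    [Module.FaithfullyFlat A C] [CommRing M] [Algebra A M] (x : M)
    (h : IsIntegral C ((1 : C) ⊗ₜ[A] x)) : IsIntegral A x := by
  let S := Algebra.adjoin A {x}
  let μ : C ⊗[A] S →ₐ[C] C ⊗[A] M := Algebra.TensorProduct.map (AlgHom.id C C) S.val
  have hμ : Function.Injective μ :=
    Module.Flat.lTensor_preserves_injective_linearMap (M := C) S.val.toLinearMap Subtype.val_injective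
  let T := Algebra.adjoin C {(1 : C) ⊗ₜ[A] x}
  have : Module.Finite C T := Module.Finite.iff_fg.mpr h.fg_adjoin_singleton
  have hmem : ∀ z, μ z ∈ T := by
    intro z
    induction z using TensorProduct.induction_on with
    | zero => rw [map_zero]; exact zero_mem _
    | tmul c s =>
      have hs : S ≤ ((T.restrictScalars A).comap
          (Algebra.TensorProduct.includeRight : M →ₐ[A] C ⊗[A] M)) :=
        Algebra.adjoin_le fun y hy => by
          obtain rfl := Set.mem_singleton_iff.mp hy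
          exact Algebra.subset_adjoin rfl
      have he : μ (c ⊗ₜ s) = algebraMap C (C ⊗[A] M) c * ((1 : C) ⊗ₜ[A] (s : M)) := by
        simp [μ, Algebra.TensorProduct.algebraMap_apply]
      rw [he]
      exact mul_mem (T.algebraMap_mem c) (hs s.2)
    | add a b ha hb => rw [map_add]; exact add_mem ha hb
  have : Module.Finite C (C ⊗[A] S) :=
    Module.Finite.of_injective (μ.codRestrict T hmem).toLinearMap fun a b e => hμ (congrArg Subtype.val e)
  have : Module.Finite A S := Module.Finite.of_finite_tensorProduct_of_faithfullyFlat C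
  exact (Algebra.IsIntegral.isIntegral (R := A) (⟨x, Algebra.subset_adjoin rfl⟩ : S)).map S.val

/-- A map to an affine scheme which is injective on functions and finite over an open hits every
point over that open. -/
theorem mem_range_of_injective {X T : Scheme.{u}} [CompactSpace X] [QuasiSeparatedSpace X] {S : Type u}
    [CommRing S] (q : X ⟶ Spec (CommRingCat.of S)) (h : Spec (CommRingCat.of S) ⟶ T) [IsSeparated h]
    (hq : Function.Injective (((Scheme.ΓSpecIso (CommRingCat.of S)).inv ≫ q.appTop).hom))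
    (W : T.Opens) (hfin : IsFinite ((q ≫ h) ∣_ W)) (p : Spec (CommRingCat.of S)) (hp : h p ∈ W) :
    p ∈ Set.range q := by
  by_contra hnot
  have : IsFinite (q ∣_ (h ⁻¹ᵁ W) ≫ h ∣_ W) := by
    rw [← morphismRestrict_comp]
    exact hfin
  have : IsFinite (q ∣_ (h ⁻¹ᵁ W)) := IsFinite.of_comp _ (h ∣_ W)
  have hcl : IsClosed (Set.range (q ∣_ (h ⁻¹ᵁ W))) := (q ∣_ (h ⁻¹ᵁ W)).isClosedMap.isClosed_range
  let O : (Spec (CommRingCat.of S)).Opens :=
    ⟨Subtype.val '' (Set.range (q ∣_ (h ⁻¹ᵁ W)))ᶜ,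
      (h ⁻¹ᵁ W).isOpen.isOpenEmbedding_subtypeVal.isOpenMap _ hcl.isOpen_compl⟩
  have hbot : O = ⊥ := mem_image_of_closed q hq O fun x => by
    rintro ⟨⟨y, hy⟩, hny, rfl⟩
    exact hny ⟨⟨x, hy⟩, Subtype.ext (morphismRestrict_base_coe _ _ _)⟩
  have hpO : p ∈ O := by
    refine ⟨⟨p, hp⟩, ?_, rfl⟩
    rintro ⟨x, hx⟩
    exact hnot ⟨x.1, (morphismRestrict_base_coe _ _ _).symm.trans (congrArg Subtype.val hx)⟩
  rw [hbot] at hpO
  exact hpO

theorem isFinite_comp_restrict {X U T : Scheme.{u}} (p : X ⟶ U) [IsFinite p] (j : U ⟶ T)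
    [IsOpenImmersion j] : IsFinite ((p ≫ j) ∣_ j.opensRange) := by
  have : IsIso (j ∣_ j.opensRange) := by
    have : Surjective (j ∣_ j.opensRange) := ⟨by
      rintro ⟨w, v, rfl⟩
      exact ⟨⟨v, v, rfl⟩, Subtype.ext (morphismRestrict_base_coe _ _ _)⟩⟩
    have : Epi (j ∣_ j.opensRange).base := (TopCat.epi_iff_surjective _).mpr (j ∣_ j.opensRange).surjective
    exact IsOpenImmersion.isIso _
  rw [morphismRestrict_comp]
  have h1 : IsFinite (p ∣_ j ⁻¹ᵁ j.opensRange) := inferInstance
  exact MorphismProperty.comp_mem (W := @IsFinite) _ _ h1 (inferInstanceAs (IsFinite (j ∣_ j.opensRange)))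

variable {A : Type u} [CommRing A] [IsLocalRing A] [IsNoetherianRing A]

set_option maxHeartbeats 3200000 in
/-- A clopen subset over the completion whose trace descends can be replaced by a clopen subset over
the base, for a henselian pair. -/
theorem exists_clopen_descend (f : A) (hf : f ∈ IsLocalRing.maximalIdeal A) [HenselianRing A (Ideal.span {f})]
    (C : Type u) [CommRing C] [IsLocalRing C] [IsNoetherianRing C] [Algebra A C] [Module.FaithfullyFlat A C]
    (hm : (IsLocalRing.maximalIdeal A).map (algebraMap A C) = IsLocalRing.maximalIdeal C)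
    (hsub : ∀ (k : ℕ) (c : C), ∃ a : A,
      c - algebraMap A C a ∈ (IsLocalRing.maximalIdeal A ^ k).map (algebraMap A C))
    (Z : FEt.Cat (FEt.puncturedSpec A : Scheme.{u})) (K₀ : Set Z.left)
    (C' : Set ↥(pullback Z.hom (pullback.fst (FEt.puncturedSpec A).ι (descMap A C)))) (hC' : IsClopen C')
    (hCK : ∀ z' : ↥(pullback Z.hom (pullback.fst (FEt.puncturedSpec A).ι (descMap A C))),
      f ∈ (strHom Z (pullback.fst Z.hom (pullback.fst (FEt.puncturedSpec A).ι (descMap A C)) z') :
        PrimeSpectrum A).asIdeal →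
      (z' ∈ C' ↔ pullback.fst Z.hom (pullback.fst (FEt.puncturedSpec A).ι (descMap A C)) z' ∈ K₀)) :
    ∃ D : Set Z.left, IsClopen D ∧
      ∀ z, f ∈ (strHom Z z : PrimeSpectrum A).asIdeal → (z ∈ D ↔ z ∈ K₀) := by
  classical
  let U := FEt.puncturedSpec A
  let π := pullback.fst U.ι (descMap A C)
  let σ := pullback.snd U.ι (descMap A C)
  let f' := pullback.fst Z.hom π
  let s' := pullback.snd Z.hom π ≫ σ
  let M := Γ(Z.left, ⊤)
  have : IsFinite Z.hom := Z.prop.1
  have hcs : CompactSpace Z.left := compactSpace_left Z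
  have hqs : QuasiSeparatedSpace Z.left := (compactSpace_cover U Z).2
  have hfst : QuasiCompact f' := by
    have : IsAffineHom (descMap A C) := isAffineHom_of_isAffine _
    have hπ : QuasiCompact π := MorphismProperty.pullback_fst (P := @QuasiCompact) _ _ inferInstance
    exact MorphismProperty.pullback_fst (P := @QuasiCompact) _ _ hπ
  have : CompactSpace (pullback Z.hom π : Scheme.{u}) :=
    @QuasiCompact.compactSpace_of_compactSpace _ Z.left f' hfst hcs
  have hσ : IsOpenImmersion σ := MorphismProperty.pullback_snd (P := @IsOpenImmersion) _ _ inferInstance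
  have : IsFinite (pullback.snd Z.hom π) := MorphismProperty.pullback_snd (P := @IsFinite) _ _ ‹_›
  have : QuasiSeparatedSpace (pullback Z.hom π : Scheme.{u}) := by
    have : QuasiSeparated s' := inferInstanceAs (QuasiSeparated (pullback.snd Z.hom π ≫ σ))
    exact quasiSeparatedSpace_of_quasiSeparated s'
  obtain ⟨θ, hθc, hθm⟩ := exists_tensor_equiv (C := C) Z
  -- a finite subalgebra with the cover as an open subscheme
  obtain ⟨hlft, hlqf, hsep, hqc⟩ := locallyOfFiniteType_toBase U Z
  have : IsNoetherian (Spec (CommRingCat.of A)) := inferInstance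
  obtain ⟨Y₁, g, i, hg, hi, hig⟩ := Open62.FiniteTest.exists_finite_extension (toBase U Z)
  have : IsAffine Y₁ := isAffine_of_isAffineHom g
  let gA : A →+* Γ(Y₁, ⊤) := ((Scheme.ΓSpecIso (CommRingCat.of A)).inv ≫ g.appTop).hom
  have hgA : gA.Finite := RingHom.Finite.comp g.finite_appTop
    (RingHom.Finite.of_surjective _ (ConcreteCategory.bijective_of_isIso (Scheme.ΓSpecIso (CommRingCat.of A)).inv).2)
  let _ : Algebra A Γ(Y₁, ⊤) := gA.toAlgebra
  have : Module.Finite A Γ(Y₁, ⊤) := hgA
  have hcomm : ∀ a, i.appTop (gA a) = algebraMap A M a := fun a => by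
    exact congr($(hig).appTop ((Scheme.ΓSpecIso (CommRingCat.of A)).inv a))
  let ρ : Γ(Y₁, ⊤) →ₐ[A] M := { i.appTop.hom with commutes' := hcomm }
  let R₀ : Subalgebra A M := ρ.range
  have hR₀ : Module.Finite A R₀ := Module.Finite.of_surjective ρ.rangeRestrict.toLinearMap
    ρ.rangeRestrict_surjective
  have hT : ∀ x : M, ∃ k : ℕ, ∀ a ∈ IsLocalRing.maximalIdeal A ^ k, a • x ∈ R₀ := by
    intro x
    let S : Ideal A := (Subalgebra.toSubmodule R₀).comap (LinearMap.toSpanSingleton A M x)
    have hS : IsLocalRing.maximalIdeal A ≤ S.radical := by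
      intro d hd
      have hd' := basicOpen_le_punctured (A := A) hd
      let P : Z.left.Opens := toBase U Z ⁻¹ᵁ (PrimeSpectrum.basicOpen d : (Spec (CommRingCat.of A)).Opens)
      obtain ⟨n, cc, hcc⟩ := exists_surj_restrict U Z g i hig d hd' P rfl
        (Z.left.presheaf.map (homOfLE le_top : P ⟶ ⊤).op x)
      have h0 : Z.left.presheaf.map (homOfLE le_top : P ⟶ ⊤).op
          (i.appTop cc - algebraMap A M d ^ n * x) = 0 := by
        rw [map_sub, sub_eq_zero, map_mul]
        exact hcc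
      obtain ⟨k, hk⟩ := exists_pow_mul_eq_zero (algebraMap A M d) _ P (basicOpen_sec U Z d).symm h0
      refine ⟨k + n, show d ^ (k + n) • x ∈ R₀ from ?_⟩
      rw [mul_sub, sub_eq_zero] at hk
      have : d ^ (k + n) • x = d ^ k • i.appTop cc := by
        rw [Algebra.smul_def, Algebra.smul_def, map_pow, map_pow, pow_add, mul_assoc]
        exact hk.symm
      rw [this]
      exact R₀.smul_mem ⟨cc, rfl⟩ _
    obtain ⟨k, hk⟩ := Ideal.exists_pow_le_of_le_radical_of_fg hS (IsNoetherian.noetherian _)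
    exact ⟨k, fun a ha => hk ha⟩
  let μ₀ : C ⊗[A] R₀ →ₐ[C] C ⊗[A] M := Algebra.TensorProduct.map (AlgHom.id C C) R₀.val
  have hdec : ∀ z : C ⊗[A] M, ∃ (x : M) (r : C ⊗[A] R₀), z = (1 : C) ⊗ₜ[A] x + μ₀ r := by
    intro z
    induction z using TensorProduct.induction_on with
    | zero => exact ⟨0, 0, by simp⟩
    | tmul c x =>
      obtain ⟨k, hk⟩ := hT x
      obtain ⟨a, ha⟩ := hsub k c
      have key : ∀ b ∈ (IsLocalRing.maximalIdeal A ^ k).map (algebraMap A C), ∃ r, μ₀ r = b ⊗ₜ[A] x := by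
        intro b hb
        induction hb using Submodule.span_induction with
        | mem _ hy =>
          obtain ⟨a, ha, rfl⟩ := hy
          refine ⟨1 ⊗ₜ ⟨a • x, hk a ha⟩, ?_⟩
          show (1 : C) ⊗ₜ[A] (a • x) = _
          rw [← smul_tmul, Algebra.algebraMap_eq_smul_one]
        | zero => exact ⟨0, by simp⟩
        | add y y' _ _ hy hy' =>
          obtain ⟨r, hr⟩ := hy
          obtain ⟨r', hr'⟩ := hy'
          exact ⟨r + r', by rw [map_add, hr, hr', add_tmul]⟩
        | smul c' y _ hy =>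
          obtain ⟨r, hr⟩ := hy
          exact ⟨c' • r, by rw [map_smul, hr, smul_tmul']⟩
      obtain ⟨r, hr⟩ := key _ ha
      refine ⟨a • x, r, ?_⟩
      rw [hr, ← smul_tmul, Algebra.smul_def, mul_one, ← add_tmul, add_sub_cancel]
    | add a b ha hb =>
      obtain ⟨x, r, rfl⟩ := ha
      obtain ⟨x', r', rfl⟩ := hb
      exact ⟨x + x', r + r', by rw [tmul_add, map_add]; abel⟩
  -- the idempotent of the clopen
  obtain ⟨e', he', hbe'⟩ := FEt83.exists_idempotent_of_isClopen C' hC'
  obtain ⟨x, r₀, hxr⟩ := hdec (θ.symm e')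
  have hxint : IsIntegral A x := by
    refine isIntegral_of_tmul (C := C) x ?_
    rw [show (1 : C) ⊗ₜ[A] x = θ.symm e' - μ₀ r₀ from eq_sub_of_add_eq hxr.symm]
    refine IsIntegral.sub ⟨Polynomial.X ^ 2 - Polynomial.X, ?_, ?_⟩
      ((Algebra.IsIntegral.isIntegral (R := C) r₀).map μ₀)
    · exact Polynomial.monic_X_pow_sub (by simp)
    · simp only [Polynomial.eval₂_sub, Polynomial.eval₂_X_pow, Polynomial.eval₂_X]
      rw [sub_eq_zero, pow_two]
      exact he'.map θ.symm
  obtain ⟨gs, hgs⟩ := (Module.Finite.iff_fg (N := Subalgebra.toSubmodule R₀)).mp hR₀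
  let R : Subalgebra A M := Algebra.adjoin A (insert x (gs : Set M))
  have hgsR : ∀ y ∈ gs, y ∈ R₀ := fun y hy => by
    rw [← Subalgebra.mem_toSubmodule, ← hgs]
    exact Submodule.subset_span hy
  have hR : Module.Finite A R := Module.Finite.iff_fg.mpr
    (fg_adjoin_of_finite (gs.finite_toSet.insert x) (by
      rintro y (rfl | hy)
      · exact hxint
      · exact (Algebra.IsIntegral.isIntegral (R := A) (⟨y, hgsR y hy⟩ : R₀)).map R₀.val))
  have hR₀R : R₀ ≤ R := fun y hy => by
    have hspan : y ∈ Submodule.span A (gs : Set M) := hgs.symm ▸ hy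
    exact (Submodule.span_le (p := Subalgebra.toSubmodule R)).mpr
      (fun w hw => Algebra.subset_adjoin (Set.mem_insert_of_mem _ hw)) hspan
  let μ : C ⊗[A] R →ₐ[C] C ⊗[A] M := Algebra.TensorProduct.map (AlgHom.id C C) R.val
  have hμ : Function.Injective μ :=
    Module.Flat.lTensor_preserves_injective_linearMap (M := C) R.val.toLinearMap Subtype.val_injective
  let ê : C ⊗[A] R := 1 ⊗ₜ ⟨x, Algebra.subset_adjoin (Set.mem_insert _ _)⟩ +
    Algebra.TensorProduct.map (AlgHom.id C C) (Subalgebra.inclusion hR₀R) r₀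
  have hμê : θ (μ ê) = e' := by
    refine (congrArg θ ?_).trans (θ.apply_symm_apply e')
    rw [hxr, map_add]
    refine congrArg₂ (· + ·) rfl ?_
    have : μ.comp (Algebra.TensorProduct.map (AlgHom.id C C) (Subalgebra.inclusion hR₀R)) = μ₀ := by
      refine Algebra.TensorProduct.ext (AlgHom.ext fun c => ?_) (AlgHom.ext fun y => ?_) <;> rfl
    exact congr($this r₀)
  have hê : IsIdempotentElem ê := hμ (θ.injective (by rw [map_mul μ, map_mul θ, hμê]; exact he'))
  -- the maps on points
  let v : CommRingCat.of R ⟶ Γ(Z.left, ⊤) := CommRingCat.ofHom R.val.toRingHom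
  let q : Z.left ⟶ Spec (CommRingCat.of R) := Z.left.toSpecΓ ≫ Spec.map v
  have hqh : q ≫ Spec.map (CommRingCat.ofHom (algebraMap A R)) = strHom Z := by
    refine Eq.trans ?_ (eq_toSpecΓ_comp (strHom Z)).symm
    rw [Category.assoc, ← Spec.map_comp]
    rfl
  have hbase : ∀ (z : Z.left) (a : A), algebraMap A R a ∈ (q z : PrimeSpectrum R).asIdeal ↔
      a ∈ (strHom Z z : PrimeSpectrum A).asIdeal := fun z a => by
    rw [← hqh]; rfl
  have hqemb : Function.Injective q := by
    let c : Γ(Y₁, ⊤) ⟶ CommRingCat.of R :=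
      CommRingCat.ofHom ((Subalgebra.inclusion hR₀R).comp ρ.rangeRestrict).toRingHom
    have hqk : q ≫ Spec.map c = i ≫ Y₁.toSpecΓ := by
      rw [Category.assoc, ← Spec.map_comp, Scheme.toSpecΓ_naturality]
      rfl
    have h1 : Function.Injective (q ≫ Spec.map c) := by
      rw [hqk]
      exact (i ≫ Y₁.toSpecΓ).isOpenEmbedding.injective
    exact fun a b e => h1 (congrArg (Spec.map c) e)
  let β : C ⊗[A] R →+* Γ(pullback Z.hom π, ⊤) := θ.toRingHom.comp μ.toRingHom
  let ψ : pullback Z.hom π ⟶ Spec (CommRingCat.of (C ⊗[A] R)) :=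
    (pullback Z.hom π).toSpecΓ ≫ Spec.map (CommRingCat.ofHom β)
  have hmemψ : ∀ (z' : ↥(pullback Z.hom π)) (r : C ⊗[A] R),
      r ∉ (ψ z' : PrimeSpectrum (C ⊗[A] R)).asIdeal ↔ z' ∈ (pullback Z.hom π : Scheme.{u}).basicOpen (β r) :=
    fun z' r => by
      rw [← Scheme.toSpecΓ_preimage_basicOpen]
      rfl
  let iR : R →+* C ⊗[A] R := (Algebra.TensorProduct.includeRight : R →ₐ[A] C ⊗[A] R).toRingHom
  have hψq : ψ ≫ Spec.map (CommRingCat.ofHom iR) = f' ≫ q := by
    refine Eq.trans ?_ (Category.assoc _ _ _)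
    refine Eq.trans ?_ (congrArg (· ≫ Spec.map v) (Scheme.toSpecΓ_naturality f').symm)
    rw [Category.assoc, ← Spec.map_comp]
    refine Eq.trans ?_ (Category.assoc _ _ _).symm
    refine Eq.trans ?_ (congrArg ((pullback Z.hom π).toSpecΓ ≫ ·) (Spec.map_comp _ _))
    congr 2
    ext r
    exact hθm r.1
  have hψC : ψ ≫ Spec.map (CommRingCat.ofHom (algebraMap C (C ⊗[A] R))) = s' := by
    refine Eq.trans ?_ (eq_toSpecΓ_comp s').symm
    rw [Category.assoc, ← Spec.map_comp]
    congr 2
    ext c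
    show θ (μ (algebraMap C (C ⊗[A] R) c)) = _
    rw [μ.commutes]
    exact hθc c
  have hψinj : Function.Injective (((Scheme.ΓSpecIso (CommRingCat.of (C ⊗[A] R))).inv ≫ ψ.appTop).hom) := by
    have h2 : (Scheme.ΓSpecIso (CommRingCat.of (C ⊗[A] R))).inv ≫ ψ.appTop = CommRingCat.ofHom β := by
      show _ ≫ (Spec.map _).appTop ≫ (pullback Z.hom π).toSpecΓ.appTop = _
      rw [← Scheme.ΓSpecIso_inv_naturality_assoc, Scheme.toSpecΓ_appTop, Iso.inv_hom_id, Category.comp_id]
    rw [h2]
    exact θ.injective.comp hμ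
  have hhit : ∀ P : PrimeSpectrum (C ⊗[A] R),
      P.asIdeal.comap (algebraMap A (C ⊗[A] R)) ≠ IsLocalRing.maximalIdeal A → P ∈ Set.range ψ := by
    intro P hP
    refine mem_range_of_injective ψ (Spec.map (CommRingCat.ofHom (algebraMap C (C ⊗[A] R)))) hψinj
      σ.opensRange (by rw [hψC]; exact isFinite_comp_restrict _ σ) P ?_
    show _ ∈ Set.range σ
    rw [IsOpenImmersion.range_pullbackSnd, Scheme.Opens.opensRange_ι]
    show descMap A C (PrimeSpectrum.comap (algebraMap C (C ⊗[A] R)) P) ∈ U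
    refine (mem_puncturedSpec_iff _).mpr fun h => hP ?_
    rw [IsScalarTower.algebraMap_eq A C (C ⊗[A] R), ← Ideal.comap_comap]
    exact h
  -- points over the closed point are determined by their image
  let F : C ⊗[A] R := algebraMap A (C ⊗[A] R) f
  have hsat : ∀ P₁ P₂ : PrimeSpectrum (C ⊗[A] R), PrimeSpectrum.comap iR P₁ = PrimeSpectrum.comap iR P₂ →
      F ∈ P₁.asIdeal → (ê ∈ P₁.asIdeal ↔ ê ∈ P₂.asIdeal) := by
    intro P₁ P₂ heq hF
    have hA : P₁.asIdeal.comap (algebraMap A (C ⊗[A] R)) = P₂.asIdeal.comap (algebraMap A (C ⊗[A] R)) := by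
      have := congrArg (fun Q : PrimeSpectrum R => Q.asIdeal.comap (algebraMap A R)) heq
      simp only [PrimeSpectrum.comap_asIdeal, Ideal.comap_comap] at this
      rwa [show iR.comp (algebraMap A R) = algebraMap A (C ⊗[A] R) from
        (Algebra.TensorProduct.includeRight : R →ₐ[A] C ⊗[A] R).comp_algebraMap] at this
    by_cases hcl : P₁.asIdeal.comap (algebraMap A (C ⊗[A] R)) = IsLocalRing.maximalIdeal A
    · have happ : ∀ z : C ⊗[A] R, ∃ r : R, ∀ P : PrimeSpectrum (C ⊗[A] R),
          P.asIdeal.comap (algebraMap A (C ⊗[A] R)) = IsLocalRing.maximalIdeal A →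
          (z - iR r) ∈ P.asIdeal := by
        intro z
        induction z using TensorProduct.induction_on with
        | zero => exact ⟨0, fun P _ => by rw [map_zero, sub_zero]; exact zero_mem _⟩
        | tmul c r =>
          obtain ⟨a, ha⟩ := hsub 1 c
          refine ⟨a • r, fun P hP => ?_⟩
          have h1 : (c ⊗ₜ[A] r : C ⊗[A] R) - iR (a • r) =
              algebraMap C (C ⊗[A] R) (c - algebraMap A C a) * iR r := by
            show c ⊗ₜ[A] r - (1 : C) ⊗ₜ[A] (a • r) =
              ((c - algebraMap A C a) ⊗ₜ[A] (1 : R)) * ((1 : C) ⊗ₜ[A] r)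
            rw [← smul_tmul, Algebra.TensorProduct.tmul_mul_tmul, mul_one, one_mul, sub_tmul,
              Algebra.smul_def, mul_one]
          rw [h1]
          refine Ideal.mul_mem_right _ _ ?_
          rw [pow_one] at ha
          have : (IsLocalRing.maximalIdeal A).map (algebraMap A C) ≤ P.asIdeal.comap (algebraMap C (C ⊗[A] R)) := by
            rw [Ideal.map_le_iff_le_comap, Ideal.comap_comap, ← IsScalarTower.algebraMap_eq, hP]
          exact this ha
        | add z w hz hw =>
          obtain ⟨r, hr⟩ := hz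
          obtain ⟨r', hr'⟩ := hw
          exact ⟨r + r', fun P hP => by rw [map_add, add_sub_add_comm]; exact add_mem (hr P hP) (hr' P hP)⟩
      obtain ⟨r, hr⟩ := happ ê
      have h1 := hr P₁ hcl
      have h2 := hr P₂ (hA ▸ hcl)
      have h3 : iR r ∈ P₁.asIdeal ↔ iR r ∈ P₂.asIdeal :=
        Iff.of_eq (congrArg (r ∈ ·) (congrArg PrimeSpectrum.asIdeal heq))
      constructor <;> intro h
      · exact (Submodule.sub_mem_iff_left _ (h3.mp ((Submodule.sub_mem_iff_right _ h).mp h1))).mp h2
      · exact (Submodule.sub_mem_iff_left _ (h3.mpr ((Submodule.sub_mem_iff_right _ h).mp h2))).mp h1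
    · obtain ⟨z₁, hz₁⟩ := hhit P₁ hcl
      obtain ⟨z₂, hz₂⟩ := hhit P₂ (hA ▸ hcl)
      have hq : ∀ z', PrimeSpectrum.comap iR (ψ z') = q (f' z') := fun z' => congr($hψq z')
      have h12 : f' z₁ = f' z₂ := hqemb (by rw [← hq, ← hq, hz₁, hz₂, heq])
      have hfz : f ∈ (strHom Z (f' z₁) : PrimeSpectrum A).asIdeal := by
        rw [← hbase, ← hq, hz₁]
        show iR (algebraMap A R f) ∈ P₁.asIdeal
        exact ((Algebra.TensorProduct.includeRight : R →ₐ[A] C ⊗[A] R).commutes f).symm ▸ hF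
      have hk : ∀ z', ê ∉ (ψ z' : PrimeSpectrum (C ⊗[A] R)).asIdeal ↔ z' ∈ C' := fun z' => by
        rw [hmemψ, ← hbe']
        show z' ∈ (pullback Z.hom π : Scheme.{u}).basicOpen (θ (μ ê)) ↔ _
        rw [hμê]
        rfl
      refine not_iff_not.mp ?_
      rw [← hz₁, ← hz₂]
      refine (hk z₁).trans (Iff.trans ?_ (hk z₂).symm)
      rw [hCK z₁ hfz, hCK z₂ (h12 ▸ hfz)]
      exact Eq.to_iff (congrArg (· ∈ K₀) h12)
  -- descend to an idempotent modulo `f`
  let i' := PrimeSpectrum.comap iR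
  have hff : Module.FaithfullyFlat R (R ⊗[A] C) := inferInstance
  have hquot : Topology.IsQuotientMap i' := by
    let _ : Algebra R (C ⊗[A] R) := iR.toAlgebra
    have : IsScalarTower A R (C ⊗[A] R) := .of_algebraMap_eq fun a =>
      ((Algebra.TensorProduct.includeRight : R →ₐ[A] C ⊗[A] R).commutes a).symm
    let e : R ⊗[A] C ≃ₐ[R] C ⊗[A] R := { Algebra.TensorProduct.comm A R C with
      commutes' := fun r => by
        show Algebra.TensorProduct.comm A R C (r ⊗ₜ[A] (1 : C)) = (1 : C) ⊗ₜ[A] r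
        rw [Algebra.TensorProduct.comm_tmul] }
    have : Module.FaithfullyFlat R (C ⊗[A] R) := Module.FaithfullyFlat.of_linearEquiv R _ e.symm.toLinearEquiv
    exact PrimeSpectrum.isQuotientMap_of_generalizingMap
      (PrimeSpectrum.comap_surjective_of_faithfullyFlat (A := R) (B := C ⊗[A] R))
      (RingHom.Flat.generalizingMap_comap (RingHom.flat_algebraMap_iff.mpr inferInstance))
  have hdich : ∀ P : PrimeSpectrum (C ⊗[A] R), 1 - ê ∈ P.asIdeal ↔ ê ∉ P.asIdeal := fun P => by
    refine ⟨fun h h' => P.isPrime.ne_top ((Ideal.eq_top_iff_one _).mpr (by simpa using add_mem h h')), fun h => ?_⟩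
    exact (P.isPrime.mem_or_mem (show ê * (1 - ê) ∈ P.asIdeal by
      rw [mul_sub, mul_one, hê.eq, sub_self]; exact zero_mem _)).resolve_left h
  let fR : R := algebraMap A R f
  have hiF : iR fR = F := (Algebra.TensorProduct.includeRight : R →ₐ[A] C ⊗[A] R).commutes f
  let S : Set (PrimeSpectrum R) := i' '' {P | F ∈ P.asIdeal ∧ ê ∉ P.asIdeal}
  let T : Set (PrimeSpectrum R) := i' '' {P | F ∈ P.asIdeal ∧ ê ∈ P.asIdeal}
  have hFQ : ∀ P Q, i' Q = i' P → F ∈ Q.asIdeal → F ∈ P.asIdeal := fun P Q e h => by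
    rw [← hiF] at h ⊢
    have h' : fR ∈ (i' Q).asIdeal := h
    rw [e] at h'
    exact h'
  have hpS : i' ⁻¹' S = {P | F ∈ P.asIdeal ∧ ê ∉ P.asIdeal} := Set.Subset.antisymm
    (fun P ⟨Q, ⟨hQF, hQ⟩, hQP⟩ => ⟨hFQ P Q hQP hQF, fun h => hQ ((hsat Q P hQP hQF).mpr h)⟩)
    (Set.subset_preimage_image _ _)
  have hpT : i' ⁻¹' T = {P | F ∈ P.asIdeal ∧ ê ∈ P.asIdeal} := Set.Subset.antisymm
    (fun P ⟨Q, ⟨hQF, hQ⟩, hQP⟩ => ⟨hFQ P Q hQP hQF, (hsat Q P hQP hQF).mp hQ⟩)
    (Set.subset_preimage_image _ _)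
  have hSc : IsClosed S := hquot.isClosed_preimage.mp (by
    rw [hpS, show {P : PrimeSpectrum (C ⊗[A] R) | F ∈ P.asIdeal ∧ ê ∉ P.asIdeal} =
      PrimeSpectrum.zeroLocus {F} ∩ PrimeSpectrum.zeroLocus {1 - ê} from Set.ext fun P => by
        simp [hdich P]]
    exact (PrimeSpectrum.isClosed_zeroLocus _).inter (PrimeSpectrum.isClosed_zeroLocus _))
  have hTc : IsClosed T := hquot.isClosed_preimage.mp (by
    rw [hpT, show {P : PrimeSpectrum (C ⊗[A] R) | F ∈ P.asIdeal ∧ ê ∈ P.asIdeal} =
      PrimeSpectrum.zeroLocus {F} ∩ PrimeSpectrum.zeroLocus {ê} from Set.ext fun P => by simp]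
    exact (PrimeSpectrum.isClosed_zeroLocus _).inter (PrimeSpectrum.isClosed_zeroLocus _))
  let mk := Ideal.Quotient.mk (Ideal.span {fR})
  have hKc : (PrimeSpectrum.comap mk ⁻¹' S)ᶜ = PrimeSpectrum.comap mk ⁻¹' T := by
    ext Q
    have hfQ : fR ∈ (PrimeSpectrum.comap mk Q).asIdeal := by
      show mk fR ∈ Q.asIdeal
      rw [Ideal.Quotient.eq_zero_iff_mem.mpr (Ideal.mem_span_singleton_self fR)]
      exact zero_mem _
    obtain ⟨P, hP⟩ := hquot.surjective (PrimeSpectrum.comap mk Q)
    have hFP : F ∈ P.asIdeal := by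
      rw [← hP] at hfQ
      exact hiF ▸ hfQ
    simp only [Set.mem_compl_iff, Set.mem_preimage, ← hP]
    rw [← Set.mem_preimage (s := S), ← Set.mem_preimage (s := T), hpS, hpT]
    simp [hFP]
  have hK : IsClopen (PrimeSpectrum.comap mk ⁻¹' S) :=
    ⟨hSc.preimage (PrimeSpectrum.continuous_comap mk),
      isClosed_compl_iff.mp (hKc ▸ hTc.preimage (PrimeSpectrum.continuous_comap mk))⟩
  obtain ⟨w₀, hw₀, hwS⟩ := PrimeSpectrum.isClopen_iff.mp hK
  obtain ⟨w, rfl⟩ := Ideal.Quotient.mk_surjective w₀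
  have hspan : Ideal.span {fR} = (Ideal.span {f}).map (algebraMap A R) := by
    rw [Ideal.map_span, Set.image_singleton]
  have hw : w * w - w ∈ (Ideal.span {f}).map (algebraMap A R) := by
    rw [← hspan, ← Ideal.Quotient.eq_zero_iff_mem, map_sub, map_mul]
    exact sub_eq_zero.mpr hw₀
  obtain ⟨ε, hε, hεw⟩ := Hens22.exists_idempotent_lift (Ideal.span {f}) hw
  have hεmk : mk ε = mk w := Ideal.Quotient.eq.mpr (hspan ▸ hεw)
  have hiff : ∀ P : PrimeSpectrum (C ⊗[A] R), F ∈ P.asIdeal → (ê ∈ P.asIdeal ↔ iR ε ∈ P.asIdeal) := by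
    intro P hFP
    have hfP : fR ∈ (i' P).asIdeal := by show iR fR ∈ P.asIdeal; rwa [hiF]
    obtain ⟨Q, hQ⟩ : i' P ∈ Set.range (PrimeSpectrum.comap mk) := by
      rw [range_comap_of_surjective _ _ Ideal.Quotient.mk_surjective, Ideal.mk_ker,
        PrimeSpectrum.zeroLocus_span]
      exact Set.singleton_subset_iff.mpr hfP
    refine not_iff_not.mp ?_
    show ê ∉ P.asIdeal ↔ ε ∉ (i' P).asIdeal
    have h1 : i' P ∈ S ↔ ê ∉ P.asIdeal := by
      rw [← Set.mem_preimage, hpS]
      simp [hFP]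
    rw [← h1, ← hQ]
    show _ ↔ mk ε ∉ Q.asIdeal
    rw [hεmk, ← Set.mem_preimage, hwS]
    rfl
  have hεê : ê = iR ε := by
    have hdvd : F ∣ ê - iR ε := dvd_sub_of_iff (by rw [hê.eq, sub_self]; exact dvd_zero _)
      (by rw [(hε.map iR).eq, sub_self]; exact dvd_zero _) hiff
    refine Hens22.eq_of_idempotent_of_sub_mem_jacobson hê (hε.map iR) ?_
    have : Module.Finite C (C ⊗[A] R) := inferInstance
    have hjac : (Ideal.span {algebraMap A C f}).map (algebraMap C (C ⊗[A] R)) ≤ Ideal.jacobson ⊥ :=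
      Hens22.map_le_jacobson_of_isIntegral (by
        rw [Ideal.span_singleton_le_iff_mem, IsLocalRing.jacobson_eq_maximalIdeal ⊥ bot_ne_top, ← hm]
        exact Ideal.mem_map_of_mem _ hf) (C ⊗[A] R)
    rw [Ideal.map_span, Set.image_singleton, ← IsScalarTower.algebraMap_apply] at hjac
    exact hjac (Ideal.mem_span_singleton.mpr hdvd)
  refine ⟨Z.left.basicOpen (ε : M), ⟨?_, (Z.left.basicOpen (ε : M)).2⟩, fun z hz => ?_⟩
  · have hεM : IsIdempotentElem (ε : M) := hε.map R.val
    rw [← isOpen_compl_iff, FEt83.compl_basicOpen_of_idem hεM]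
    exact (Z.left.basicOpen (1 - (ε : M))).2
  · obtain ⟨P, hP⟩ := PrimeSpectrum.comap_surjective_of_faithfullyFlat (A := A) (B := C) (strHom Z z)
    obtain ⟨u, hu, -⟩ := Scheme.Pullback.exists_preimage_pullback (f := U.ι) (g := descMap A C) (Z.hom z) P hP.symm
    obtain ⟨z', hz', -⟩ := Scheme.Pullback.exists_preimage_pullback (f := Z.hom) (g := π) z u hu.symm
    have hfz : f ∈ (strHom Z (f' z') : PrimeSpectrum A).asIdeal := by
      rw [show f' z' = z from hz']; exact hz
    rw [← hz']
    refine Iff.trans ?_ (hCK z' hfz)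
    rw [← hbe']
    have e1 : f'.appTop (ε : M) = e' := by
      rw [← hθm (ε : M), ← hμê, hεê]
      rfl
    exact (Eq.to_iff (congrArg (z' ∈ ·) ((Scheme.preimage_basicOpen_top f' (ε : M)).trans
      (congrArg (Scheme.basicOpen _) e1))))

set_option maxHeartbeats 1600000 in
/-- Full faithfulness of restriction to the trace descends from a completion, for a henselian pair. -/
theorem ff_of_completion (f : A) (hf : f ∈ IsLocalRing.maximalIdeal A) [HenselianRing A (Ideal.span {f})]
    (C : Type u) [CommRing C] [IsLocalRing C] [IsNoetherianRing C] [Algebra A C] [Module.FaithfullyFlat A C]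
    (hm : (IsLocalRing.maximalIdeal A).map (algebraMap A C) = IsLocalRing.maximalIdeal C)
    (hsub : ∀ (k : ℕ) (c : C), ∃ a : A,
      c - algebraMap A C a ∈ (IsLocalRing.maximalIdeal A ^ k).map (algebraMap A C))
    (h : (FEt.restrict (pullback.fst (pullback.fst (FEt.puncturedSpec A).ι (descMap A C)) (u0 f))).Full ∧
      (FEt.restrict (pullback.fst (pullback.fst (FEt.puncturedSpec A).ι (descMap A C)) (u0 f))).Faithful) :
    (FEt.restrict (u0 f)).Full ∧ (FEt.restrict (u0 f)).Faithful := by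
  let π := pullback.fst (FEt.puncturedSpec A).ι (descMap A C)
  have hsurj : Surjective π := MorphismProperty.pullback_fst (P := @Surjective) _ _
    ⟨PrimeSpectrum.comap_surjective_of_faithfullyFlat (A := A) (B := C)⟩
  have hm' := FEt83.meetsClopens_of_faithful h.2
  have hl' := FEt83.liftsClopens_of_full h.1
  -- the comparison of traces
  let w : ∀ Z : FEt.Cat (FEt.puncturedSpec A : Scheme.{u}),
      pullback ((FEt.restrict π).obj Z).hom (pullback.fst π (u0 f)) ⟶ pullback Z.hom (u0 f) := fun Z =>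
    pullback.lift (pullback.fst ((FEt.restrict π).obj Z).hom (pullback.fst π (u0 f)) ≫ pullback.fst Z.hom π)
      (pullback.snd ((FEt.restrict π).obj Z).hom (pullback.fst π (u0 f)) ≫ pullback.snd π (u0 f))
      ((Category.assoc _ _ _).trans ((congrArg (pullback.fst ((FEt.restrict π).obj Z).hom (pullback.fst π (u0 f)) ≫ ·)
        pullback.condition).trans ((Category.assoc _ _ _).symm.trans ((congrArg (· ≫ π)
        (pullback.condition (f := ((FEt.restrict π).obj Z).hom) (g := pullback.fst π (u0 f)))).trans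
        ((Category.assoc _ _ _).trans ((congrArg (pullback.snd ((FEt.restrict π).obj Z).hom (pullback.fst π (u0 f)) ≫ ·)
        pullback.condition).trans (Category.assoc _ _ _).symm))))))
  have hw : ∀ Z z, pullback.fst Z.hom (u0 f) (w Z z) =
      pullback.fst Z.hom π (pullback.fst ((FEt.restrict π).obj Z).hom (pullback.fst π (u0 f)) z) := fun Z z => by
    have e : w Z ≫ pullback.fst Z.hom (u0 f) =
        pullback.fst ((FEt.restrict π).obj Z).hom (pullback.fst π (u0 f)) ≫ pullback.fst Z.hom π :=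
      pullback.lift_fst _ _ _
    exact congr($e z)
  have hmeet : FEt83.MeetsClopens (u0 f) := by
    intro Z D hD hne
    obtain ⟨y, hy⟩ := hne
    have : Surjective (pullback.fst Z.hom π) := MorphismProperty.pullback_fst (P := @Surjective) _ _ hsurj
    obtain ⟨y', hy'⟩ := (pullback.fst Z.hom π).surjective y
    obtain ⟨z, hz⟩ := hm' ((FEt.restrict π).obj Z) (pullback.fst Z.hom π ⁻¹' D)
      (hD.preimage (pullback.fst Z.hom π).continuous) ⟨y', show _ ∈ D from hy'.symm ▸ hy⟩
    exact ⟨w Z z, (hw Z z).symm ▸ hz⟩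
  have hlift : FEt83.LiftsClopens (u0 f) := by
    intro Z C₀ hC₀
    obtain ⟨C', hC', hCC⟩ := hl' ((FEt.restrict π).obj Z) (w Z ⁻¹' C₀) (hC₀.preimage (w Z).continuous)
    obtain ⟨e, he, hfe⟩ := exists_fibre_homeo f Z
    have hinj : Function.Injective (pullback.fst Z.hom (u0 f)) := fun a b hab =>
      he.injective (Subtype.ext ((hfe a).trans (hab.trans (hfe b).symm)))
    obtain ⟨D, hD, hDK⟩ := exists_clopen_descend f hf C hm hsub Z (pullback.fst Z.hom (u0 f) '' C₀) C' hC'
      fun z' hz' => by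
        obtain ⟨a, ha⟩ := he.surjective ⟨_, hz'⟩
        have hza : pullback.fst Z.hom π z' = pullback.fst Z.hom (u0 f) a := by
          rw [← hfe, ha]
        have hx : π (pullback.snd Z.hom π z') = u0 f (pullback.snd Z.hom (u0 f) a) := by
          have h1 : Z.hom (pullback.fst Z.hom π z') = π (pullback.snd Z.hom π z') :=
            congr($(pullback.condition (f := Z.hom) (g := π)) z')
          have h2 : Z.hom (pullback.fst Z.hom (u0 f) a) = u0 f (pullback.snd Z.hom (u0 f) a) :=
            congr($(pullback.condition (f := Z.hom) (g := u0 f)) a)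
          rw [← h1, ← h2, hza]
        obtain ⟨t, ht, -⟩ := Scheme.Pullback.exists_preimage_pullback (f := π) (g := u0 f) _ _ hx
        obtain ⟨z, hz⟩ := FEt83.exists_point ((FEt.restrict π).obj Z) (f := pullback.fst π (u0 f))
          (y := z') (x := t) ht.symm
        have h3 : z ∈ w Z ⁻¹' C₀ ↔ z' ∈ C' := by
          rw [← hCC, Set.mem_preimage, hz]
          exact Iff.rfl
        refine h3.symm.trans ?_
        have h4 : pullback.fst Z.hom (u0 f) (w Z z) = pullback.fst Z.hom π z' := by rw [hw, hz]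
        rw [← h4, Function.Injective.mem_set_image hinj]
        rfl
    refine ⟨D, hD, Set.ext fun a => ?_⟩
    exact (hDK _ (by rw [← hfe]; exact (e a).2)).trans (Function.Injective.mem_set_image hinj)
  exact ⟨FEt83.full_of_lifts hmeet hlift, FEt83.faithful_of_meets hmeet⟩

end Groth.Agent.Pure83.Germ
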