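import Groth.Agent.S1756
import Groth.Agent.S1721
import Groth.Agent.S4755
import Groth.Agent.S2645
import Groth.Agent.S9228
import Groth.Agent.DR39.GorLocus
import Groth.Agent.Liaison54.Basic
import Groth.Agent.FinGrp34.Serre
import Groth.Agent.EGA4H10.StrictHull
import Groth.Agent.Ega11.StrictCat
import Groth.Agent.CAlg4.CatDimFun

/-!
# Finite algebras with controlled hypersurfaces over rings with dualizing complexes
-/

universe u

open CategoryTheory
attribute [local instance] HasDerivedCategory.standard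

namespace Groth.Agent.Pure83.Germ

set_option linter.unusedSectionVars false

variable {A : Type u} [CommRing A] [IsLocalRing A] [IsNoetherianRing A]

theorem hasCMFormalFibres {ω : Dual.D A} (hω : Dual.IsDualizing A ω) : EGA4.HasCMFormalFibres A :=
  fun p _ => haveI := DR39.gor_formalFibre hω p
    Liaison54.cm_of_gor _

theorem hasS1_of_cmFibres {B : Type u} [CommRing B] [IsLocalRing B] (h : EGA4.HasCMFormalFibres B) :
    EGA4.HasSnFormalFibres 1 B :=
  fun p _ => FinGrp34.hasSk_of_isCohenMacaulayRing (h p) 1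

theorem isCatenary_of_dualizing {ω : Dual.D A} (hω : Dual.IsDualizing A ω) : CAlg.IsCatenary A :=
  EGA4H10.isCatenary_of_universallyCatenary (S1721.result A ω hω)

theorem hullFinite_quotient {ω : Dual.D A} (hω : Dual.IsDualizing A ω) (p : Ideal A) [p.IsPrime] :
    EGA4.HeightOneHullFinite (A ⧸ p) := by
  have : Nontrivial (A ⧸ p) := Ideal.Quotient.nontrivial_iff.2 (Ideal.IsPrime.ne_top ‹_›)
  have : IsLocalRing (A ⧸ p) := IsLocalRing.of_surjective' (Ideal.Quotient.mk p) Ideal.Quotient.mk_surjective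
  have : IsNoetherianRing (EGA4.Cpl (A ⧸ p)) := Cohen12.isNoetherianRing_completion (A ⧸ p)
  refine EGA4H10.StrictHull.heightOneHullFinite_of_strict (A ⧸ p) fun Q hQ => ?_
  have hsk : LocCoh.HasSk 1 (EGA4.Cpl (A ⧸ p)) (EGA4.Cpl (A ⧸ p)) :=
    (S2645.result 1 (A ⧸ p) (hasS1_of_cmFibres (S4755.result A (hasCMFormalFibres hω) p))).mp
      (Ega11.StrictCat.hasSk_one_of_isDomain (A ⧸ p))
  exact (S9228.result A (S1721.result A ω hω) p) Q (Ega11.StrictCat.hasSk_one_iff.mp hsk Q hQ)

/-- First local cohomology of a module without small associated primes is finite. -/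
theorem finite_H1_of_assoc {ω : Dual.D A} (hω : Dual.IsDualizing A ω) (M : Type u) [AddCommGroup M]
    [Module A M] [Module.Finite A M]
    (h : ∀ Q ∈ associatedPrimes A M, Q ≠ IsLocalRing.maximalIdeal A → (2 : WithBot ℕ∞) ≤ ringKrullDim (A ⧸ Q)) :
    Module.Finite A (LocCoh.H (IsLocalRing.maximalIdeal A) 1 M) := by
  refine S1756.result A (S1721.result A ω hω) _ (fun q hq => ?_) M fun p q hpq hp hI hIq => ?_
  · have : IsNoetherianRing (Localization.AtPrime q.asIdeal) :=
      IsLocalization.isNoetherianRing q.asIdeal.primeCompl _ inferInstance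
    exact hasS1_of_cmFibres (hasCMFormalFibres (DR39.isDualizing_atPrime hω q.asIdeal))
  · have hqm : q.asIdeal = IsLocalRing.maximalIdeal A :=
      le_antisymm (IsLocalRing.le_maximalIdeal q.2.ne_top) hIq
    have := h p.asIdeal hp (fun e => hI e.ge)
    rw [← LC15.H1Good.htq_closed p.asIdeal] at this
    rw [LC16.RelCodim.height_ici p q hpq]
    simp only [hqm]
    exact WithBot.coe_le_coe.mp this

variable {f : A}

theorem height_le_one_or_le {D : Type u} [CommRing D] {q r : Ideal D} [q.IsPrime] [r.IsPrime]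
    (hq : 2 ≤ q.height) (hr : r.height = 1) : ¬ q ≤ r := fun h => by
  have h1 := Ideal.height_mono h
  rw [hr] at h1
  exact absurd (hq.trans h1) (by decide)

theorem two_le_height_map {ω : Dual.D A} (hω : Dual.IsDualizing A ω) (p Q : Ideal A) [p.IsPrime] [Q.IsPrime]
    (hpQ : p ≤ Q) (hp : (3 : WithBot ℕ∞) ≤ ringKrullDim (A ⧸ p)) (hQ : ringKrullDim (A ⧸ Q) ≤ 1) :
    2 ≤ (Q.map (Ideal.Quotient.mk p)).height := by
  let p' : PrimeSpectrum A := ⟨p, inferInstance⟩
  let Q' : PrimeSpectrum A := ⟨Q, inferInstance⟩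
  have hlt : p' < Q' := lt_of_le_of_ne hpQ fun e => by
    have e' : p = Q := congrArg PrimeSpectrum.asIdeal e
    subst e'
    exact absurd (hp.trans hQ) (by decide)
  have hnc : ¬ p' ⋖ Q' := fun hc => by
    have h1 := (CAlg4.CatDimFun.dimFun_of_catenary (isCatenary_of_dualizing hω) p' Q' hlt).2 hc
    rw [h1] at hp
    exact absurd (hp.trans (add_le_add hQ le_rfl)) (by decide)
  obtain ⟨r, hr1, hr2⟩ := exists_lt_lt_of_not_covBy hlt hnc
  let φ := Ideal.Quotient.mk p
  have hker : ∀ I : Ideal A, p ≤ I → (I.map φ).comap φ = I := fun I hI => by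
    rw [Ideal.comap_map_of_surjective' φ Ideal.Quotient.mk_surjective, Ideal.mk_ker, sup_eq_left.mpr hI]
  have : (Q.map φ).IsPrime := Ideal.map_isPrime_of_surjective Ideal.Quotient.mk_surjective (by rw [Ideal.mk_ker]; exact hpQ)
  have : (r.asIdeal.map φ).IsPrime :=
    Ideal.map_isPrime_of_surjective Ideal.Quotient.mk_surjective (by rw [Ideal.mk_ker]; exact hr1.le)
  have h1 : r.asIdeal.map φ < Q.map φ := lt_of_le_of_ne (Ideal.map_mono hr2.le) fun e => by
    have := congrArg (Ideal.comap φ) e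
    rw [hker _ hr1.le, hker _ hpQ] at this
    exact hr2.ne (PrimeSpectrum.ext this)
  have h2 : r.asIdeal.map φ ≠ ⊥ := fun e => by
    have := congrArg (Ideal.comap φ) e
    rw [hker _ hr1.le, ← RingHom.ker_eq_comap_bot, Ideal.mk_ker] at this
    exact hr1.ne (PrimeSpectrum.ext this.symm)
  have h3 : 1 ≤ (r.asIdeal.map φ).height := by
    rw [Order.one_le_iff_ne_zero, ne_eq, Ideal.height_eq_zero_iff_eq_bot]; exact h2
  calc (2 : ℕ∞) = 1 + 1 := rfl
    _ ≤ (r.asIdeal.map φ).height + 1 := add_le_add h3 le_rfl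
    _ ≤ (Q.map φ).height := Order.add_one_le_of_lt (Ideal.height_strict_mono_of_isPrime h1)

set_option maxHeartbeats 800000 in
set_option synthInstance.maxHeartbeats 100000 in
/-- A finite algebra with regular `f`, finite first cohomology modulo `f`, covering the part off `V(f)`. -/
theorem exists_finite_cover {ω : Dual.D A} (hω : Dual.IsDualizing A ω)
    (hc : ∀ p : Ideal A, p ∈ minimalPrimes A → f ∉ p → (3 : WithBot ℕ∞) ≤ ringKrullDim (A ⧸ p)) :
    ∃ (R : Type u) (_ : CommRing R) (_ : Algebra A R), Module.Finite A R ∧ IsSMulRegular R f ∧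
      Module.Finite A (LocCoh.H (IsLocalRing.maximalIdeal A) 1 (R ⧸ Ideal.span {algebraMap A R f})) ∧
      ∀ P : PrimeSpectrum A, f ∉ P.asIdeal → P ∈ Set.range (PrimeSpectrum.comap (algebraMap A R)) := by
  classical
  let S := {p : Ideal A // p ∈ minimalPrimes A ∧ f ∉ p}
  have : Finite S := ((minimalPrimes.finite_of_isNoetherianRing (R := A)).subset fun p hp => hp.1).to_subtype
  have hprime : ∀ p : S, p.1.IsPrime := fun p => p.2.1.1.1
  choose B hB hfin using fun p : S => hullFinite_quotient hω p.1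
  let R := ∀ p : S, B p
  have hBfin : ∀ p : S, Module.Finite A (B p) := fun p => Module.Finite.trans (A ⧸ p.1) (B p)
  have : Module.Finite A R := Module.Finite.pi
  have hf0 : ∀ p : S, (algebraMap A (B p) f : FractionRing (A ⧸ p.1)) ≠ 0 := fun p h => p.2.2 (by
    have h1 : algebraMap (A ⧸ p.1) (FractionRing (A ⧸ p.1)) (Ideal.Quotient.mk p.1 f) = 0 := h
    rwa [map_eq_zero_iff _ (IsFractionRing.injective _ _), Ideal.Quotient.eq_zero_iff_mem] at h1)
  refine ⟨R, inferInstance, inferInstance, this, ?_, ?_, fun P hP => ?_⟩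
  · refine (isSMulRegular_iff_right_eq_zero_of_smul (M := R)).mpr fun (x : R) hx => funext fun p => Subtype.ext ?_
    have h1 : (algebraMap A (B p) f : FractionRing (A ⧸ p.1)) * (x p : FractionRing (A ⧸ p.1)) = 0 := by
      have := congrArg Subtype.val (congrFun hx p)
      rw [Pi.smul_apply, Algebra.smul_def] at this
      exact this
    exact (mul_eq_zero.mp h1).resolve_left (hf0 p)
  · refine finite_H1_of_assoc hω _ fun Q hQ hQm => ?_
    have := hQ.isPrime
    by_contra hdim
    have hdim1 : ringKrullDim (A ⧸ Q) ≤ 1 := by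
      obtain ⟨d, hd⟩ := CAlg4.CatDimFun.exists_dim (A := A) ⟨Q, inferInstance⟩
      change ringKrullDim (A ⧸ Q) = d at hd
      rw [hd] at hdim ⊢
      norm_cast at hdim ⊢
      omega
    obtain ⟨hQp, z, hz⟩ := isAssociatedPrime_iff.mp hQ
    obtain ⟨x, rfl⟩ := Ideal.Quotient.mk_surjective z
    have key : ∀ a : A, a ∈ Q ↔ ∃ c : R, algebraMap A R a * x = algebraMap A R f * c := fun a => by
      rw [hz, Submodule.mem_colon_singleton, Submodule.mem_bot, Algebra.smul_def,
        IsScalarTower.algebraMap_apply A R (R ⧸ _), Ideal.Quotient.algebraMap_eq, ← map_mul,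
        Ideal.Quotient.eq_zero_iff_mem, Ideal.mem_span_singleton]
      rfl
    have hcomp : ∀ p : S, ∃ a ∉ Q, ∃ c : B p, algebraMap A (B p) a * x p = algebraMap A (B p) f * c := by
      intro p
      have := hprime p
      by_cases hpQ : p.1 ≤ Q
      swap
      · obtain ⟨a, hap, haQ⟩ := SetLike.not_le_iff_exists.mp hpQ
        refine ⟨a, haQ, 0, ?_⟩
        rw [IsScalarTower.algebraMap_apply A (A ⧸ p.1) (B p), Ideal.Quotient.algebraMap_eq,
          Ideal.Quotient.eq_zero_iff_mem.mpr hap, map_zero, zero_mul, mul_zero]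
      let y : FractionRing (A ⧸ p.1) := (x p : FractionRing (A ⧸ p.1)) / (algebraMap A (B p) f : FractionRing (A ⧸ p.1))
      have hy : y ∈ B p := by
        rw [← SetLike.mem_coe, hB p]
        intro r _ hr
        have : (Q.map (Ideal.Quotient.mk p.1)).IsPrime :=
          Ideal.map_isPrime_of_surjective Ideal.Quotient.mk_surjective (by rw [Ideal.mk_ker]; exact hpQ)
        have hnle := height_le_one_or_le (two_le_height_map hω p.1 Q hpQ (hc _ p.2.1 p.2.2) hdim1) hr
        rw [Ideal.map_le_iff_le_comap, SetLike.not_le_iff_exists] at hnle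
        obtain ⟨s, hsQ, hsr⟩ := hnle
        obtain ⟨c, hc'⟩ := (key s).mp hsQ
        have hcp : (algebraMap A (B p) s : FractionRing (A ⧸ p.1)) * x p =
            (algebraMap A (B p) f : FractionRing (A ⧸ p.1)) * c p := congrArg Subtype.val (congrFun hc' p)
        have hcm : (c p : FractionRing (A ⧸ p.1)) ∈ EGA4.heightOneHull (A ⧸ p.1) := hB p ▸ (c p).2
        obtain ⟨t, ht, d, hd⟩ := hcm r hr
        refine ⟨t * Ideal.Quotient.mk p.1 s, fun h => (Ideal.IsPrime.mem_or_mem inferInstance h).elim ht hsr, d, ?_⟩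
        rw [hd, map_mul, mul_assoc]
        congr 1
        show (c p : FractionRing (A ⧸ p.1)) = (algebraMap A (B p) s : FractionRing (A ⧸ p.1)) * y
        rw [mul_div_assoc', hcp, mul_div_cancel_left₀ _ (hf0 p)]
      refine ⟨1, fun h => hQp.ne_top ((Ideal.eq_top_iff_one _).mpr h), ⟨y, hy⟩, Subtype.ext ?_⟩
      rw [map_one, one_mul]
      exact (mul_div_cancel₀ _ (hf0 p)).symm
    choose a ha c hac using hcomp
    have : Fintype S := Fintype.ofFinite S
    have hmem : ∏ p, a p ∈ Q := (key _).mpr ⟨fun p => algebraMap A (B p) (∏ q ∈ Finset.univ.erase p, a q) * c p,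
      funext fun p => by
        rw [Pi.mul_apply, Pi.mul_apply, Pi.algebraMap_apply, Pi.algebraMap_apply,
          ← Finset.mul_prod_erase _ _ (Finset.mem_univ p), map_mul, mul_comm (algebraMap A (B p) (a p)),
          mul_assoc, hac]
        ring⟩
    obtain ⟨p, -, hp⟩ := (Ideal.IsPrime.prod_mem_iff (p := Q)).mp hmem
    exact ha p hp
  · obtain ⟨p, hp, hpP⟩ := Ideal.exists_minimalPrimes_le (bot_le (a := P.asIdeal))
    let p0 : S := ⟨p, hp, fun h => hP (hpP h)⟩
    have := hprime p0
    have : Algebra.IsIntegral (A ⧸ p) (B p0) := haveI := hfin p0; Algebra.IsIntegral.of_finite _ _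
    have hinj : Function.Injective (algebraMap (A ⧸ p) (B p0)) := fun a b h =>
      IsFractionRing.injective (A ⧸ p) (FractionRing (A ⧸ p)) (congrArg Subtype.val h)
    have : (P.asIdeal.map (Ideal.Quotient.mk p)).IsPrime :=
      Ideal.map_isPrime_of_surjective Ideal.Quotient.mk_surjective (by rw [Ideal.mk_ker]; exact hpP)
    obtain ⟨Q, -, hQ, hQc⟩ := Ideal.exists_ideal_over_prime_of_isIntegral (P.asIdeal.map (Ideal.Quotient.mk p))
      (⊥ : Ideal (B p0)) (by
        rw [← RingHom.ker_eq_comap_bot, (RingHom.injective_iff_ker_eq_bot _).mp hinj]; exact bot_le)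
    refine ⟨PrimeSpectrum.comap (Pi.evalRingHom (fun p : S => B p) p0) ⟨Q, hQ⟩, PrimeSpectrum.ext ?_⟩
    show Ideal.comap (algebraMap A R) (Ideal.comap (Pi.evalRingHom (fun p : S => B p) p0) Q) = P.asIdeal
    rw [Ideal.comap_comap]
    have : (Pi.evalRingHom (fun p : S => B p) p0).comp (algebraMap A R) =
        (algebraMap (A ⧸ p) (B p0)).comp (Ideal.Quotient.mk p) := RingHom.ext fun a => rfl
    rw [this, ← Ideal.comap_comap, hQc, Ideal.comap_map_of_surjective' _ Ideal.Quotient.mk_surjective,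
      Ideal.mk_ker, sup_eq_left.mpr hpP]

end Groth.Agent.Pure83.Germ
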