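import Groth.Agent.Pure83.GermFF
import Groth.Agent.Pure83.GermHull
import Groth.Agent.AdicC27.Approx
import Groth.Agent.S11614

/-!
# Germ full faithfulness through a finite cover
-/

universe u

open CategoryTheory Limits AlgebraicGeometry TopologicalSpace PrimeSpectrum
attribute [local instance] HasDerivedCategory.standard

namespace Groth.Agent.Pure83.Germ

set_option linter.unusedSectionVars false
set_option backward.isDefEq.respectTransparency.types false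

variable {A : Type u} [CommRing A] [IsLocalRing A] [IsNoetherianRing A]

theorem isPrecomplete_algebra (f : A) [IsPrecomplete (Ideal.span {f}) A] (R : Type u) [CommRing R] [Algebra A R]
    [Module.Finite A R] : IsPrecomplete (Ideal.span {algebraMap A R f}) R := by
  have h : IsPrecomplete (Ideal.span {f}) R := AdicC27.isPrecomplete_of_finite R
  have : Ideal.span {algebraMap A R f} = (Ideal.span {f}).map (algebraMap A R) := by
    rw [Ideal.map_span, Set.image_singleton]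
  rw [this]
  exact IsPrecomplete.map_algebraMap_iff.mpr h

set_option maxHeartbeats 1600000 in
/-- Clopen subsets lift if they do after pulling back to a finite cover of the part off `V(f)`. -/
theorem clopenLifts_of_finite (f : A) [IsPrecomplete (Ideal.span {f}) A] (R : Type u) [CommRing R] [Algebra A R]
    [Module.Finite A R] (hreg : IsSMulRegular R f)
    (h1 : Module.Finite A (LocCoh.H (IsLocalRing.maximalIdeal A) 1 (R ⧸ Ideal.span {algebraMap A R f})))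
    (hcov : ∀ P : PrimeSpectrum A, f ∉ P.asIdeal → P ∈ Set.range (PrimeSpectrum.comap (algebraMap A R))) :
    ClopenLifts f := by
  classical
  intro U' hU' hU0 Z K hK
  have : IsNoetherianRing R := IsNoetherianRing.of_finite A R
  have := isPrecomplete_algebra f R
  let φ : A →+* R := algebraMap A R
  let ρ : Spec (CommRingCat.of R) ⟶ Spec (CommRingCat.of A) := Spec.map (CommRingCat.ofHom φ)
  have hρfin : IsFinite ρ := (IsFinite.SpecMap_iff _).mpr (RingHom.finite_algebraMap.mpr ‹_›)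
  let UR : (Spec (CommRingCat.of R)).Opens := ρ ⁻¹ᵁ U'
  let g : (UR : Scheme.{u}) ⟶ (U' : Scheme.{u}) := ρ ∣_ U'
  let ZR : FEt.Cat (UR : Scheme.{u}) := (FEt.restrict g).obj Z
  let π : ZR.left ⟶ Z.left := pullback.fst Z.hom g
  have hπfin : IsFinite π := MorphismProperty.pullback_fst _ _ (inferInstanceAs (IsFinite (ρ ∣_ U')))
  have hπbase : ∀ w, toBase U' Z (π w) = ρ (toBase UR ZR w) := fun w => by
    have hc : pullback.fst Z.hom g ≫ Z.hom ≫ U'.ι = pullback.snd Z.hom g ≫ UR.ι ≫ ρ := by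
      rw [← morphismRestrict_ι, ← Category.assoc, pullback.condition]
      exact Category.assoc _ _ _
    exact congr($hc w)
  have hmem : ∀ (y : Spec (CommRingCat.of R)) (a : A),
      a ∈ (ρ y : PrimeSpectrum A).asIdeal ↔ φ a ∈ (y : PrimeSpectrum R).asIdeal := fun _ _ => Iff.rfl
  obtain ⟨n, c, hcm, hcU, hcc⟩ := exists_cover_fin U' hU'
  have hrad := maximalIdeal_le_radical f U' c hU0 hcc
  let m := IsLocalRing.maximalIdeal A
  have h1R : Module.Finite R (LocCoh.H (m.map φ) 1 (R ⧸ Ideal.span {φ f})) := by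
    obtain ⟨e, he⟩ := S11614.result A R m (R ⧸ Ideal.span {φ f}) 1
    obtain ⟨T, hT⟩ := h1.fg_top
    refine ⟨⟨T.image e.symm, eq_top_iff.mpr fun x _ => ?_⟩⟩
    have hx : e x ∈ Submodule.span A (T : Set (LocCoh.H m 1 (R ⧸ Ideal.span {φ f}))) := hT.ge trivial
    obtain ⟨a, -, ha⟩ := Submodule.mem_span_finset.mp hx
    have : x = ∑ t ∈ T, φ (a t) • e.symm t := e.injective (by
      rw [map_sum, ← ha]
      exact Finset.sum_congr rfl fun t _ => by rw [he, e.apply_symm_apply])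
    rw [this]
    exact Submodule.sum_mem _ fun t ht => Submodule.smul_mem _ _
      (Submodule.subset_span (Finset.mem_coe.mpr (Finset.mem_image_of_mem _ ht)))
  have hnzR : φ f ∈ nonZeroDivisors R := by
    rw [mem_nonZeroDivisors_iff_right]
    intro x hx
    refine hreg.right_eq_zero_of_smul ?_
    rw [Algebra.smul_def, mul_comm]
    exact hx
  have hradR : m.map φ ≤ (Ideal.span (insert (φ f) (Set.range fun i => φ (c i)))).radical := by
    refine (Ideal.map_mono hrad).trans ((Ideal.map_radical_le φ).trans (le_of_eq ?_))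
    rw [Ideal.map_span, Set.image_insert_eq, ← Set.range_comp]
    rfl
  let KR : Set {w : ZR.left // φ f ∈ (toBase UR ZR w : PrimeSpectrum R).asIdeal} :=
    (fun w => (⟨π w.1, by rw [hπbase, hmem]; exact w.2⟩ :
      {z : Z.left // f ∈ (toBase U' Z z : PrimeSpectrum A).asIdeal})) ⁻¹' K
  have hKR : IsClopen KR := hK.preimage (Continuous.subtype_mk (π.continuous.comp continuous_subtype_val) _)
  obtain ⟨UR'', -, hUR0, C', hC'o, hC'c, hC'K⟩ := exists_clopen_gen (A := R) (φ f) hnzR (m.map φ) h1R UR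
    (fun i => φ (c i)) (fun i => Ideal.mem_map_of_mem φ (hcm i)) (fun i y hy => hcU i hy)
    (fun y hy => hcc (PrimeSpectrum.comap φ y) hy) hradR ZR KR hKR
  -- the part over which everything extends
  let U₁ : (Spec (CommRingCat.of A)).Opens :=
    U' ⊓ ⟨(ρ '' (UR'' : Set (Spec (CommRingCat.of R)))ᶜ)ᶜ, (ρ.isClosedMap _ UR''.isOpen.isClosed_compl).isOpen_compl⟩
  have hU₁0 : ∀ p : PrimeSpectrum A, f ∈ p.asIdeal → p ≠ IsLocalRing.closedPoint A → p ∈ U₁ := by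
    refine fun p hp hne => ⟨hU0 p hp hne, ?_⟩
    rintro ⟨y, hy, rfl⟩
    exact hy (hUR0 y (hU0 _ hp hne) hp)
  have hU₁R : ∀ w, toBase U' Z (π w) ∈ U₁ → toBase UR ZR w ∈ UR'' := fun w hw => by
    by_contra h
    exact hw.2 ⟨_, h, (hπbase w).symm⟩
  obtain ⟨E, hE, hEC⟩ := isClosed_induced_iff.mp hC'c
  have hEC' : ∀ w, toBase U' Z (π w) ∈ U₁ → (w ∈ E ↔ w ∈ C') := fun w hw =>
    Set.ext_iff.mp hEC ⟨w, hU₁R w hw⟩
  have hfclosed : IsClosed {z : Z.left | f ∈ (toBase U' Z z : PrimeSpectrum A).asIdeal} := by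
    have : IsClosed (toBase U' Z ⁻¹' (PrimeSpectrum.zeroLocus ({f} : Set A))) :=
      (PrimeSpectrum.isClosed_zeroLocus _).preimage (toBase U' Z).continuous
    convert this using 1
    ext z
    show f ∈ (toBase U' Z z : PrimeSpectrum A).asIdeal ↔
      (toBase U' Z z : PrimeSpectrum A) ∈ PrimeSpectrum.zeroLocus ({f} : Set A)
    exact (Set.singleton_subset_iff (s := ((toBase U' Z z : PrimeSpectrum A).asIdeal : Set A))).symm
  let Fa : Set Z.left := π '' E ∪ Subtype.val '' K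
  let Fb : Set Z.left := π '' C'ᶜ ∪ Subtype.val '' Kᶜ
  have hFa : IsClosed Fa := (π.isClosedMap _ hE).union (hfclosed.isClosedEmbedding_subtypeVal.isClosedMap _ hK.1)
  have hFb : IsClosed Fb :=
    (π.isClosedMap _ hC'o.isClosed_compl).union (hfclosed.isClosedEmbedding_subtypeVal.isClosedMap _ hK.compl.1)
  have hπK : ∀ w (hw : f ∈ (toBase U' Z (π w) : PrimeSpectrum A).asIdeal), toBase U' Z (π w) ∈ U₁ →
      (w ∈ C' ↔ (⟨π w, hw⟩ : {z : Z.left // f ∈ (toBase U' Z z : PrimeSpectrum A).asIdeal}) ∈ K) := fun w hw _ =>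
    hC'K ⟨w, by rw [← hmem, ← hπbase]; exact hw⟩
  have hFaK : ∀ z : {z : Z.left // f ∈ (toBase U' Z z : PrimeSpectrum A).asIdeal}, toBase U' Z z.1 ∈ U₁ →
      (z.1 ∈ Fa ↔ z ∈ K) ∧ (z.1 ∈ Fb ↔ z ∉ K) := by
    rintro ⟨z, hz⟩ hzU
    refine ⟨⟨?_, fun h => Or.inr ⟨_, h, rfl⟩⟩, ⟨?_, fun h => Or.inr ⟨_, h, rfl⟩⟩⟩
    · rintro (⟨w, hw, rfl⟩ | ⟨z', hz', rfl⟩)
      exacts [(hπK w hz hzU).mp ((hEC' w hzU).mp hw), hz']
    · rintro (⟨w, hw, rfl⟩ | ⟨z', hz', rfl⟩)
      exacts [fun h => hw ((hπK w hz hzU).mpr h), hz']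
  let Bad : Set (U' : Scheme.{u}) := Z.hom '' (Fa ∩ Fb)
  have : IsFinite Z.hom := Z.prop.1
  let U₂ : (U' : Scheme.{u}).Opens := U'.ι ⁻¹ᵁ U₁ ⊓ ⟨Badᶜ, (Z.hom.isClosedMap _ (hFa.inter hFb)).isOpen_compl⟩
  have hU₂mem : ∀ z : Z.left, toBase U' Z z ∈ U'.ι ''ᵁ U₂ → toBase U' Z z ∈ U₁ ∧ ¬ (z ∈ Fa ∧ z ∈ Fb) := by
    rintro z ⟨y, ⟨hy1, hy2⟩, e⟩
    obtain rfl : y = Z.hom z := U'.ι.isOpenEmbedding.injective e
    exact ⟨hy1, fun h => hy2 ⟨z, h, rfl⟩⟩
  have hcover : ∀ z : Z.left, toBase U' Z z ∈ U₁ → z ∈ Fa ∨ z ∈ Fb := by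
    intro z hz
    by_cases hzf : f ∈ (toBase U' Z z : PrimeSpectrum A).asIdeal
    · by_cases hK' : (⟨z, hzf⟩ : {z : Z.left // f ∈ (toBase U' Z z : PrimeSpectrum A).asIdeal}) ∈ K
      exacts [Or.inl ((hFaK ⟨z, hzf⟩ hz).1.mpr hK'), Or.inr ((hFaK ⟨z, hzf⟩ hz).2.mpr hK')]
    · obtain ⟨y, hy⟩ := hcov _ hzf
      have hyUR : (y : Spec (CommRingCat.of R)) ∈ UR := by
        show ρ y ∈ U'
        rw [show ρ y = toBase U' Z z from hy]
        exact (Z.hom z).2
      obtain ⟨w, hw, -⟩ := Scheme.Pullback.exists_preimage_pullback (f := Z.hom) (g := g) z ⟨y, hyUR⟩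
        (Subtype.ext ((morphismRestrict_base_coe _ _ _).trans hy).symm)
      by_cases hwC : w ∈ C'
      · exact Or.inl (Or.inl ⟨w, (hEC' w (by rw [show π w = z from hw]; exact hz)).mpr hwC, hw⟩)
      · exact Or.inr (Or.inl ⟨w, hwC, hw⟩)
  refine ⟨U'.ι ''ᵁ U₂, fun x ⟨y, _, e⟩ => e ▸ y.2, fun p hp hne => ?_,
    toBase U' Z ⁻¹' (U'.ι ''ᵁ U₂ : (Spec (CommRingCat.of A)).Opens) \ Fb,
    ((U'.ι ''ᵁ U₂).isOpen.preimage (toBase U' Z).continuous).sdiff hFb, ?_, ?_⟩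
  · refine ⟨⟨p, hU0 p hp hne⟩, ⟨hU₁0 p hp hne, ?_⟩, rfl⟩
    rintro ⟨z, ⟨hza, hzb⟩, e⟩
    have he : toBase U' Z z = p := congrArg Subtype.val e
    have hzf : f ∈ (toBase U' Z z : PrimeSpectrum A).asIdeal := by rw [he]; exact hp
    have hzU : toBase U' Z z ∈ U₁ := by rw [he]; exact hU₁0 p hp hne
    exact ((hFaK ⟨z, hzf⟩ hzU).2.mp hzb) ((hFaK ⟨z, hzf⟩ hzU).1.mp hza)
  · refine isClosed_induced_iff.mpr ⟨Fa, hFa, ?_⟩
    ext ⟨z, hz⟩
    obtain ⟨h1', h2'⟩ := hU₂mem z hz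
    exact ⟨fun h => ⟨hz, fun hb => h2' ⟨h, hb⟩⟩, fun h => (hcover z h1').resolve_right h.2⟩
  · rintro ⟨z, hzf⟩
    have hne : toBase U' Z z ≠ IsLocalRing.closedPoint A := fun h => hU' (Z.hom z).2 h
    have hz := hU₁0 _ hzf hne
    refine ⟨fun h => not_not.mp fun hn => h.2 ((hFaK ⟨z, hzf⟩ hz).2.mpr hn),
      fun h => ⟨⟨Z.hom z, ⟨hz, ?_⟩, rfl⟩, fun hb => (hFaK ⟨z, hzf⟩ hz).2.mp hb h⟩⟩
    rintro ⟨z', ⟨hza, hzb⟩, e⟩
    have he : toBase U' Z z' = toBase U' Z z := congrArg Subtype.val e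
    have hzf' : f ∈ (toBase U' Z z' : PrimeSpectrum A).asIdeal := by rw [he]; exact hzf
    exact ((hFaK ⟨z', hzf'⟩ (by rw [he]; exact hz)).2.mp hzb) ((hFaK ⟨z', hzf'⟩ (by rw [he]; exact hz)).1.mp hza)

/-- Clopen subsets lift over rings with dualizing complexes. -/
theorem clopenLifts_of_dualizing (f : A) {ω : Dual.D A} (hω : Dual.IsDualizing A ω)
    [IsPrecomplete (Ideal.span {f}) A]
    (hc : ∀ p : Ideal A, p ∈ minimalPrimes A → f ∉ p → (3 : WithBot ℕ∞) ≤ ringKrullDim (A ⧸ p)) :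
    ClopenLifts f := by
  obtain ⟨R, _, _, hfin, hreg, h1, hcov⟩ := exists_finite_cover hω hc
  exact clopenLifts_of_finite f R hreg h1 hcov

end Groth.Agent.Pure83.Germ
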