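import Groth.Agent.Pure83.GermGlobal
import Groth.Agent.Pure83.GermHull
import Groth.Agent.FormalLC27.Kill
import Groth.Agent.CAlg1.SerreNormal
import Groth.Agent.CAlg1.SkFlat

/-!
# Killing local cohomology from depth conditions away from `V(f)`
-/

universe u

open CategoryTheory
attribute [local instance] HasDerivedCategory.standard

namespace Groth.Agent.Pure83.Germ

set_option linter.unusedSectionVars false

variable {A : Type u} [CommRing A] [IsLocalRing A] [IsNoetherianRing A] {f : A}

theorem dimBetween_maximal (p : Ideal A) :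
    Formal2.dimBetween A p (IsLocalRing.maximalIdeal A) = ringKrullDim (A ⧸ p) := by
  let e : A ≃ₐ[A] Localization.AtPrime (IsLocalRing.maximalIdeal A) :=
    IsLocalization.atUnits A (IsLocalRing.maximalIdeal A).primeCompl fun x hx => by
      by_contra h
      exact hx ((IsLocalRing.mem_maximalIdeal x).mpr h)
  refine (ringKrullDim_eq_of_ringEquiv (Ideal.quotientEquiv p _ e.toRingEquiv ?_)).symm
  exact congrArg (Ideal.map · p) (RingHom.ext fun a => (e.commutes a).symm)

theorem one_le_dim_quotient (p : Ideal A) [p.IsPrime] (hp : p ≠ IsLocalRing.maximalIdeal A) :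
    (1 : WithBot ℕ∞) ≤ ringKrullDim (A ⧸ p) := by
  obtain ⟨d, hd⟩ := CAlg4.CatDimFun.exists_dim (A := A) ⟨p, inferInstance⟩
  change ringKrullDim (A ⧸ p) = d at hd
  rw [hd]
  rcases Nat.eq_zero_or_pos d with rfl | h
  · refine absurd ?_ hp
    have : Ring.KrullDimLE 0 (A ⧸ p) := (Ring.krullDimLE_iff (n := 0)).mpr hd.le
    have : IsDomain (A ⧸ p) := Ideal.Quotient.isDomain p
    have hm : p.IsMaximal := Ideal.Quotient.maximal_of_isField p (Ring.KrullDimLE.isField_of_isDomain)
    exact IsLocalRing.eq_maximalIdeal hm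
  · exact_mod_cast h

theorem depth_add_dim_of_S2 {ω : Dual.D A} (hω : Dual.IsDualizing A ω)
    (hS : LocCoh.HasSk 2 (Localization.Away f) (Localization.Away f))
    (hdim : ∀ p : Ideal A, p ∈ minimalPrimes A → f ∉ p → (3 : WithBot ℕ∞) ≤ ringKrullDim (A ⧸ p))
    (hf : f ∈ IsLocalRing.maximalIdeal A) (p : Ideal A) [p.IsPrime] (hfp : f ∉ p) :
    (2 : WithBot ℕ∞) < (LocCoh.depth (Localization.AtPrime p) (Localization.AtPrime p) : WithBot ℕ∞) +
      ringKrullDim (A ⧸ p) := by
  have hpm : p ≠ IsLocalRing.maximalIdeal A := fun h => hfp (h ▸ hf)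
  obtain ⟨d, hd⟩ := CAlg4.CatDimFun.exists_dim (A := A) ⟨p, inferInstance⟩
  change ringKrullDim (A ⧸ p) = d at hd
  have h1 : 1 ≤ d := by
    have := one_le_dim_quotient p hpm
    rw [hd] at this
    exact_mod_cast this
  let L := Localization.Away f
  have : IsNoetherianRing L := IsLocalization.isNoetherianRing (Submonoid.powers f) L inferInstance
  have hdisj : Disjoint (Submonoid.powers f : Set A) p := by
    rw [Set.disjoint_left]
    rintro _ ⟨n, rfl⟩ h
    exact hfp (Ideal.IsPrime.mem_of_pow_mem inferInstance n h)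
  let P : Ideal L := p.map (algebraMap A L)
  have : P.IsPrime := IsLocalization.isPrime_of_isPrime_disjoint (Submonoid.powers f) L p inferInstance hdisj
  have hPc : P.comap (algebraMap A L) = p :=
    IsLocalization.comap_map_of_isPrime_disjoint (Submonoid.powers f) L inferInstance hdisj
  have : IsLocalization.AtPrime (Localization.AtPrime P) p := by
    have := IsLocalization.isLocalization_isLocalization_atPrime_isLocalization (Submonoid.powers f)
      (Localization.AtPrime P) P
    convert! this using 2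
    simp only [hPc]
  have hdepth : LocCoh.depth (Localization.AtPrime P) (Localization.AtPrime P) =
      LocCoh.depth (Localization.AtPrime p) (Localization.AtPrime p) :=
    CAlg1.depth_eq_of_ringEquiv (IsLocalization.algEquiv p.primeCompl
      (Localization.AtPrime P) (Localization.AtPrime p)).toRingEquiv
  have hS' := (CAlg1.hasSk_self_iff 2).mp hS P
  rw [hdepth, ← IsLocalization.height_comap (Submonoid.powers f) P, show P.under A = p from hPc] at hS'
  obtain ⟨h, hh⟩ : ∃ h : ℕ, p.height = h := ⟨_, (ENat.natCast_toNat (Ideal.height_ne_top ‹p.IsPrime›.ne_top)).symm⟩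
  rw [hh] at hS'
  rw [hd]
  generalize LocCoh.depth (Localization.AtPrime p) (Localization.AtPrime p) = D at hS'
  have key : ∀ a b : ℕ, 3 ≤ a + b → (a : ℕ∞) ≤ D → (b : ℕ) ≤ d → (2 : WithBot ℕ∞) < (D : WithBot ℕ∞) + d := by
    intro a b hab ha hb
    calc (2 : WithBot ℕ∞) < ((a + b : ℕ) : WithBot ℕ∞) := by exact_mod_cast hab
      _ = ((a : ℕ∞) : WithBot ℕ∞) + (b : WithBot ℕ∞) := by push_cast; rfl
      _ ≤ _ := add_le_add (WithBot.coe_le_coe.mpr ha) (by exact_mod_cast hb)
  rcases lt_or_ge h 2 with hlt | hge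
  · obtain ⟨q, hq, hqp⟩ := Ideal.exists_minimalPrimes_le (bot_le (a := p))
    have hqprime : q.IsPrime := hq.1.1
    have hq3 := hdim q hq fun h => hfp (hqp h)
    let q' : PrimeSpectrum A := ⟨q, hqprime⟩
    let p' : PrimeSpectrum A := ⟨p, inferInstance⟩
    rcases eq_or_lt_of_le (show q' ≤ p' from hqp) with e | hlt'
    · refine key 0 3 le_rfl (by simp) ?_
      have e' : q = p := congrArg PrimeSpectrum.asIdeal e
      subst e'
      rw [hd] at hq3
      exact_mod_cast hq3
    · have hh1 : 1 ≤ h := by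
        have : p.height ≠ 0 := fun h0 => hlt'.ne (PrimeSpectrum.ext
          (le_antisymm hqp ((Ideal.height_eq_zero_iff.mp h0).2 hq.1 hqp)))
        rw [hh] at this
        exact Nat.one_le_iff_ne_zero.mpr (fun e => this (by rw [e]; rfl))
      have hh' : h = 1 := by omega
      have hcov : q' ⋖ p' := ⟨hlt', fun r hr1 hr2 => by
        have h2 : 2 ≤ p.height :=
          calc (2 : ℕ∞) = 0 + 1 + 1 := rfl
            _ ≤ r.asIdeal.height + 1 := add_le_add (by
                refine (add_le_add (zero_le (a := q.height)) le_rfl).trans ?_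
                exact Order.add_one_le_of_lt (Ideal.height_strict_mono_of_isPrime (I := q) hr1)) le_rfl
            _ ≤ p.height := Order.add_one_le_of_lt (Ideal.height_strict_mono_of_isPrime (I := r.asIdeal) hr2)
        rw [hh, hh'] at h2
        exact absurd h2 (by decide)⟩
      have h2 := (CAlg4.CatDimFun.dimFun_of_catenary (isCatenary_of_dualizing hω) q' p' hlt').2 hcov
      change ringKrullDim (A ⧸ q) = ringKrullDim (A ⧸ p) + 1 at h2
      rw [h2, hd] at hq3
      refine key 1 2 le_rfl ((le_of_eq (by simp [hh'])).trans hS') ?_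
      have : 3 ≤ d + 1 := by exact_mod_cast hq3
      omega
  · refine key 2 1 le_rfl ((le_of_eq (by
      rw [min_eq_left (by exact_mod_cast hge)])).trans hS') h1

theorem exists_kill_of_depth {ω : Dual.D A} (hω : Dual.IsDualizing A ω) (hf : f ∈ IsLocalRing.maximalIdeal A)
    (hc : ((LocCoh.HasSk 2 (Localization.Away f) (Localization.Away f) ∧
        ∀ p : Ideal A, p ∈ minimalPrimes A → f ∉ p → (3 : WithBot ℕ∞) ≤ ringKrullDim (A ⧸ p)) ∨
      (∀ p : Ideal A, ∀ _ : p.IsPrime, f ∉ p →
        (2 : WithBot ℕ∞) < (LocCoh.depth (Localization.AtPrime p) (Localization.AtPrime p) : WithBot ℕ∞) + ringKrullDim (A ⧸ p))))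
    (i : ℕ) (hi : i = 1 ∨ i = 2) :
    ∃ k : ℕ, ∀ y : LocCoh.H (IsLocalRing.maximalIdeal A) i A, f ^ k • y = 0 := by
  refine FormalLC27.exists_pow_kill ⟨ω, hω⟩ (IsLocalRing.maximalIdeal A) f 2 A (fun p _ hfp q hq hpq hmq => ?_) i
    (by omega)
  obtain rfl : q = IsLocalRing.maximalIdeal A := le_antisymm (IsLocalRing.le_maximalIdeal hq.ne_top) hmq
  rw [dimBetween_maximal, CAlg1.depth_locSelf]
  rcases hc with ⟨hS, hdim⟩ | hc
  exacts [depth_add_dim_of_S2 hω hS hdim hf p hfp, hc p inferInstance hfp]

end Groth.Agent.Pure83.Germ
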