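import Groth.Agent.FEt83.FullFaithful

/-!
# Morphisms between covers near the image of a morphism

If clopen subsets of pulled back covers extend to a neighbourhood, morphisms of pulled back covers do.
-/

universe u

open CategoryTheory Limits AlgebraicGeometry

namespace Groth.Agent.Pure83.Germ

set_option linter.unusedSectionVars false
set_option backward.isDefEq.respectTransparency.types false

variable {X X' : Scheme.{u}} (f : X' ⟶ X)

/-- Clopen subsets of pulled back covers extend to a neighbourhood of the image. -/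
def LiftsNear : Prop :=
  ∀ (Y : FEt.Cat X) (C₀ : Set (pullback Y.hom f : Scheme.{u})), IsClopen C₀ →
    ∃ U₁ : X.Opens, Set.range f ⊆ U₁ ∧ ∃ C : Set Y.left, IsOpen C ∧
      IsClosed (Subtype.val ⁻¹' C : Set {z : Y.left // Y.hom z ∈ U₁}) ∧ pullback.fst Y.hom f ⁻¹' C = C₀

variable {f}

theorem exists_open_image {A : Scheme.{u}} (pa : A ⟶ X) [IsFinite pa] (U₁ : X.Opens) (G : A.Opens)
    (hG : IsClosed (Subtype.val ⁻¹' ((G : Set A))ᶜ : Set {z : A // pa z ∈ U₁}))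
    (hf : Set.range f ⊆ U₁) (hfG : ∀ y : A, pa y ∈ Set.range f → y ∈ G) :
    ∃ U₂ : X.Opens, U₂ ≤ U₁ ∧ Set.range f ⊆ U₂ ∧ pa ⁻¹ᵁ U₂ ≤ G := by
  obtain ⟨K, hK, hKe⟩ := isClosed_induced_iff.mp hG
  have himg : IsClosed (pa '' K) := pa.isClosedMap _ hK
  refine ⟨U₁ ⊓ ⟨(pa '' (K ∩ (G : Set A)ᶜ))ᶜ,
    (pa.isClosedMap _ (hK.inter G.2.isClosed_compl)).isOpen_compl⟩, inf_le_left, ?_, ?_⟩
  · rintro x hx
    refine ⟨hf hx, ?_⟩
    rintro ⟨y, ⟨-, hy⟩, rfl⟩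
    exact hy (hfG y hx)
  · rintro y ⟨hy1, hy2⟩
    by_contra hy
    exact hy2 ⟨y, ⟨(Set.ext_iff.mp hKe ⟨y, hy1⟩).mpr hy, hy⟩, rfl⟩

set_option maxHeartbeats 800000 in
/-- Morphisms of pulled back covers extend to a neighbourhood. -/
theorem exists_hom_near (h' : LiftsNear f) {A B : Scheme.{u}}
    (pa : A ⟶ X) (pb : B ⟶ X) [IsFinite pa] [Etale pa] [IsFinite pb] [Etale pb]
    (ψ : pullback pa f ⟶ pullback pb f) (hψ : ψ ≫ pullback.snd pb f = pullback.snd pa f) :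
    ∃ (U₂ : X.Opens) (φ : (pa ⁻¹ᵁ U₂).toScheme ⟶ B), Set.range f ⊆ U₂ ∧
      φ ≫ pb = (pa ⁻¹ᵁ U₂).ι ≫ pa ∧
      ∀ t : pullback pa f ⟶ (pa ⁻¹ᵁ U₂).toScheme, t ≫ (pa ⁻¹ᵁ U₂).ι = pullback.fst pa f →
        t ≫ φ = ψ ≫ pullback.fst pb f := by
  let a := pullback.fst pa pb
  let b := pullback.snd pa pb
  let p := a ≫ pa
  let q := pullback.fst p f
  let fA := pullback.fst pa f
  let fB := pullback.fst pb f
  let pr : pullback p f ⟶ pullback pa f :=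
    pullback.lift (q ≫ a) (pullback.snd p f) ((Category.assoc _ _ _).trans pullback.condition)
  have hg : fA ≫ pa = (ψ ≫ fB) ≫ pb := by
    rw [Category.assoc, pullback.condition, pullback.condition, reassoc_of% hψ]
  let g₀ : pullback pa f ⟶ pullback p f :=
    pullback.lift (pullback.lift fA (ψ ≫ fB) hg) (pullback.snd pa f) (by
      show _ ≫ a ≫ pa = _
      rw [pullback.lift_fst_assoc]
      exact pullback.condition)
  have hq : g₀ ≫ q = pullback.lift fA (ψ ≫ fB) hg := pullback.lift_fst _ _ _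
  have hgpr : g₀ ≫ pr = 𝟙 _ := by
    refine pullback.hom_ext ?_ ?_
    · rw [Category.assoc, pullback.lift_fst, reassoc_of% hq, pullback.lift_fst, Category.id_comp]
    · rw [Category.assoc, pullback.lift_snd, pullback.lift_snd, Category.id_comp]
  have sq : IsPullback pr q fA a := by
    refine (IsPullback.of_right (h₁₂ := pullback.snd pa f) (v₁₃ := f) (h₂₂ := pa) ?_
      (pullback.lift_fst _ _ _) ?_)
    · rw [pullback.lift_snd]
      exact (IsPullback.of_hasPullback p f).flip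
    · exact (IsPullback.of_hasPullback pa f).flip
  have : IsFinite pr := MorphismProperty.of_isPullback sq.flip inferInstance
  have : Etale pr := MorphismProperty.of_isPullback sq.flip inferInstance
  have : IsFinite (g₀ ≫ pr) := by rw [hgpr]; infer_instance
  have : Etale (g₀ ≫ pr) := by rw [hgpr]; infer_instance
  have : Mono (g₀ ≫ pr) := by rw [hgpr]; infer_instance
  have : Mono g₀ := mono_of_mono g₀ pr
  have : IsFinite g₀ := IsFinite.of_comp g₀ pr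
  have : Etale g₀ := Etale.of_comp g₀ pr
  have : IsOpenImmersion g₀ := IsOpenImmersion.of_flat_of_mono g₀
  obtain ⟨U₁, hfU₁, C, hCo, hCc, hC₀⟩ := h' (MorphismProperty.Over.mk ⊤ p ⟨inferInstance, inferInstance⟩) _
    ⟨g₀.isClosedMap.isClosed_range, g₀.opensRange.2⟩
  let A₁ : A.Opens := pa ⁻¹ᵁ U₁
  let a₁ := a ∣_ A₁
  let W : (a ⁻¹ᵁ A₁).toScheme.Opens := (a ⁻¹ᵁ A₁).ι ⁻¹ᵁ ⟨C, hCo⟩
  have : IsClosedImmersion W.ι := .of_isPreimmersion W.ι (by
    rw [Scheme.Opens.range_ι]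
    exact hCc)
  let π : W.toScheme ⟶ A₁.toScheme := W.ι ≫ a₁
  -- the base change
  have hfA : Set.range fA ⊆ Set.range A₁.ι := by
    rw [Scheme.Opens.range_ι]
    rintro _ ⟨z, rfl⟩
    exact hfU₁ ⟨pullback.snd pa f z, congr($((pullback.condition (f := pa) (g := f)).symm) z)⟩
  let t₁ : pullback pa f ⟶ A₁.toScheme := IsOpenImmersion.lift A₁.ι fA hfA
  have ht₁ : t₁ ≫ A₁.ι = fA := IsOpenImmersion.lift_fac _ _ _
  have hqr : Set.range q ⊆ Set.range (a ⁻¹ᵁ A₁).ι := by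
    rw [Scheme.Opens.range_ι]
    rintro _ ⟨z, rfl⟩
    exact hfU₁ ⟨pullback.snd p f z, congr($((pullback.condition (f := p) (g := f)).symm) z)⟩
  let q₁ : pullback p f ⟶ (a ⁻¹ᵁ A₁).toScheme := IsOpenImmersion.lift (a ⁻¹ᵁ A₁).ι q hqr
  have hq₁ : q₁ ≫ (a ⁻¹ᵁ A₁).ι = q := IsOpenImmersion.lift_fac _ _ _
  have hcomm : pr ≫ t₁ = q₁ ≫ a₁ := by
    rw [← cancel_mono A₁.ι, Category.assoc, Category.assoc, ht₁, morphismRestrict_ι, ← Category.assoc, hq₁]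
    exact sq.w
  have sq₁ : IsPullback pr q₁ t₁ a₁ := by
    refine IsPullback.of_bot ?_ hcomm (isPullback_morphismRestrict a A₁)
    rw [hq₁, ht₁]
    exact sq
  have hW : q₁ ⁻¹ᵁ W = g₀.opensRange := by
    refine TopologicalSpace.Opens.ext ?_
    show q₁ ⁻¹' ((a ⁻¹ᵁ A₁).ι ⁻¹' C) = _
    rw [← Set.preimage_comp]
    refine Eq.trans ?_ hC₀
    congr 1
    exact funext fun z => congr($hq₁ z)
  have hbc : IsPullback ((q₁ ⁻¹ᵁ W).ι ≫ pr) (q₁ ∣_ W) t₁ π :=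
    (isPullback_morphismRestrict q₁ W).flip.paste_horiz sq₁
  have hiso : IsIso ((q₁ ⁻¹ᵁ W).ι ≫ pr) := by
    rw [hW]
    have h1 : g₀.isoOpensRange.hom ≫ g₀.opensRange.ι ≫ pr = 𝟙 _ := by
      rw [Scheme.Hom.isoOpensRange_hom_ι_assoc, hgpr]
    rw [← IsIso.eq_inv_comp, Category.comp_id] at h1
    rw [h1]
    infer_instance
  have hrank : ∀ z, π.finrank (t₁ z) = 1 := fun z => by
    rw [← Scheme.Hom.finrank_of_isPullback (f := π) (g := t₁) (q₁ ∣_ W) ((q₁ ⁻¹ᵁ W).ι ≫ pr) hbc.flip z,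
      Scheme.Hom.finrank_eq_one_of_isIso]
    rfl
  have hclop := (Scheme.Hom.isLocallyConstant_finrank π).isClopen_fiber 1
  let G : A₁.toScheme.Opens := ⟨{y | π.finrank y = 1}, hclop.2⟩
  have : IsIso (π ∣_ G) := by
    rw [Scheme.Hom.isIso_iff_finrank_eq]
    funext y
    rw [Scheme.Hom.finrank_of_isPullback (π ⁻¹ᵁ G).ι (π ∣_ G) π G.ι
      (isPullback_morphismRestrict π G).flip y]
    exact y.2
  -- the neighbourhood
  have hGc : IsClosed (Subtype.val ⁻¹' ((A₁.ι ''ᵁ G : A.Opens) : Set A)ᶜ : Set {z : A // pa z ∈ U₁}) := by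
    have he : (Subtype.val ⁻¹' ((A₁.ι ''ᵁ G : A.Opens) : Set A)ᶜ : Set {z : A // pa z ∈ U₁}) =
        ({y | π.finrank y = 1}ᶜ : Set A₁.toScheme) := by
      ext y
      refine not_congr ⟨?_, fun hy => ⟨y, hy, rfl⟩⟩
      rintro ⟨y', hy', e⟩
      obtain rfl : y' = y := Subtype.ext e
      exact hy'
    rw [he]
    exact hclop.compl.1
  obtain ⟨U₂, hU₂₁, hfU₂, hU₂G⟩ := exists_open_image pa U₁ (A₁.ι ''ᵁ G) hGc hfU₁ fun y hy => by
    obtain ⟨x, hx⟩ := hy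
    obtain ⟨z, hz, -⟩ := Scheme.Pullback.exists_preimage_pullback (f := pa) (g := f) y x hx.symm
    exact ⟨t₁ z, hrank z, (congr($ht₁ z)).trans hz⟩
  let A₂ : A.Opens := pa ⁻¹ᵁ U₂
  have hr₂ : Set.range A₂.ι ⊆ Set.range (G.ι ≫ A₁.ι) := by
    rw [Scheme.Opens.range_ι]
    intro y hy
    obtain ⟨y', hy', rfl⟩ := hU₂G hy
    exact ⟨⟨y', hy'⟩, rfl⟩
  let k : A₂.toScheme ⟶ G.toScheme := IsOpenImmersion.lift (G.ι ≫ A₁.ι) A₂.ι hr₂
  have hk : k ≫ G.ι ≫ A₁.ι = A₂.ι := IsOpenImmersion.lift_fac _ _ _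
  refine ⟨U₂, k ≫ inv (π ∣_ G) ≫ (π ⁻¹ᵁ G).ι ≫ W.ι ≫ (a ⁻¹ᵁ A₁).ι ≫ b, hfU₂, ?_, fun t ht => ?_⟩
  · have h1 : (π ⁻¹ᵁ G).ι ≫ W.ι ≫ (a ⁻¹ᵁ A₁).ι ≫ b ≫ pb = (π ∣_ G) ≫ G.ι ≫ A₁.ι ≫ pa := by
      rw [morphismRestrict_ι_assoc, ← pullback.condition]
      show _ = (π ⁻¹ᵁ G).ι ≫ (W.ι ≫ a₁) ≫ A₁.ι ≫ pa
      rw [Category.assoc, morphismRestrict_ι_assoc]
    simp only [Category.assoc]
    rw [h1, IsIso.inv_hom_id_assoc, ← hk]
    simp only [Category.assoc]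
  · let s : pullback pa f ⟶ W.toScheme := IsOpenImmersion.lift W.ι (g₀ ≫ q₁) (by
      rw [Scheme.Opens.range_ι]
      rintro _ ⟨x, rfl⟩
      exact hW.ge ⟨x, rfl⟩)
    have hs : s ≫ W.ι = g₀ ≫ q₁ := IsOpenImmersion.lift_fac _ _ _
    have hsπ : s ≫ π = t₁ := by
      rw [← Category.assoc, hs, Category.assoc, ← hcomm, ← Category.assoc, hgpr, Category.id_comp]
    have hsr : Set.range s ⊆ Set.range (π ⁻¹ᵁ G).ι := by
      rw [Scheme.Opens.range_ι]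
      rintro _ ⟨z, rfl⟩
      show π.finrank (π (s z)) = 1
      rw [show π (s z) = t₁ z from congr($hsπ z)]
      exact hrank z
    let s' : pullback pa f ⟶ (π ⁻¹ᵁ G).toScheme := IsOpenImmersion.lift (π ⁻¹ᵁ G).ι s hsr
    have hs' : s' ≫ (π ⁻¹ᵁ G).ι = s := IsOpenImmersion.lift_fac _ _ _
    have htk : t ≫ k = s' ≫ (π ∣_ G) := by
      rw [← cancel_mono (G.ι ≫ A₁.ι), Category.assoc, Category.assoc, hk, ht, morphismRestrict_ι_assoc,
        reassoc_of% hs', reassoc_of% hsπ, ht₁]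
    rw [reassoc_of% htk, IsIso.hom_inv_id_assoc, reassoc_of% hs', reassoc_of% hs, reassoc_of% hq₁,
      reassoc_of% hq, pullback.lift_snd]

end Groth.Agent.Pure83.Germ
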