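import Groth.Agent.Pure83.GermClopen
import Groth.Agent.Pure83.GermHom

/-!
# Full faithfulness of restriction from the neighbourhoods of a punctured hypersurface
-/

universe u

open CategoryTheory Limits AlgebraicGeometry TopologicalSpace PrimeSpectrum

namespace Groth.Agent.Pure83.Germ

set_option linter.unusedSectionVars false
set_option backward.isDefEq.respectTransparency.types false

section General

variable {S X₀ : Scheme.{u}} {U' : S.Opens} (u' : X₀ ⟶ (U' : Scheme.{u}))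

theorem exists_lift_open (U₂ : (U' : Scheme.{u}).Opens) (h : Set.range u' ⊆ U₂) :
    ∃ (h₂ : U'.ι ''ᵁ U₂ ≤ U') (u'' : X₀ ⟶ (U'.ι ''ᵁ U₂ : Scheme.{u})),
      u'' ≫ S.homOfLE h₂ = u' ∧ ∀ z, S.homOfLE h₂ z ∈ U₂ := by
  have h₂ : U'.ι ''ᵁ U₂ ≤ U' := fun x hx => by
    obtain ⟨y, -, rfl⟩ := hx
    exact y.2
  have hr : Set.range (u' ≫ U'.ι) ⊆ Set.range (U'.ι ''ᵁ U₂).ι := by
    rw [Scheme.Opens.range_ι]
    rintro _ ⟨z, rfl⟩
    exact ⟨u' z, h ⟨z, rfl⟩, rfl⟩
  refine ⟨h₂, IsOpenImmersion.lift (U'.ι ''ᵁ U₂).ι (u' ≫ U'.ι) hr, ?_, fun z => ?_⟩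
  · rw [← cancel_mono U'.ι, Category.assoc, Scheme.homOfLE_ι, IsOpenImmersion.lift_fac]
  · obtain ⟨y, hy, e⟩ := z.2
    have : S.homOfLE h₂ z = y := U'.ι.isOpenEmbedding.injective
      ((congr($(Scheme.homOfLE_ι S h₂) z)).trans e.symm)
    rw [this]
    exact hy

/-- Morphisms with the same restriction agree near the image. -/
theorem germ_faithful (V' W' : FEt.Cat (U' : Scheme.{u})) (φ ψ : V' ⟶ W')
    (e : (FEt.restrict u').map φ = (FEt.restrict u').map ψ) :
    ∃ (U'' : S.Opens) (h : U'' ≤ U') (u'' : X₀ ⟶ (U'' : Scheme.{u})), u'' ≫ S.homOfLE h = u' ∧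
      (FEt.restrict (S.homOfLE h)).map φ = (FEt.restrict (S.homOfLE h)).map ψ := by
  obtain ⟨W, hW, hmem, hcl⟩ :=
    Unr55.exists_eqLocus W'.hom φ.left ψ.left ((FEt83.w_left φ).trans (FEt83.w_left ψ).symm)
  have hcl' : IsClopen (W : Set V'.left)ᶜ := IsClopen.compl ⟨hcl (have : IsFinite W'.hom := W'.prop.1; inferInstance), W.2⟩
  let U₂ : (U' : Scheme.{u}).Opens := ⟨(V'.hom '' (W : Set V'.left)ᶜ)ᶜ, (FEt83.isClopen_image V' hcl').1.isOpen_compl⟩
  have hU₂ : Set.range u' ⊆ U₂ := by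
    rintro x ⟨z, rfl⟩ ⟨y, hy, hyx⟩
    obtain ⟨w, hw⟩ := FEt83.exists_point (f := u') V' hyx
    refine hy (hw ▸ hmem (pullback.fst V'.hom u') ?_ ⟨w, rfl⟩)
    have h1 := congrArg (fun k => k.left ≫ pullback.fst W'.hom u') e
    exact (pullback.lift_fst _ _ _).symm.trans (h1.trans (pullback.lift_fst _ _ _))
  obtain ⟨h₂, u'', hu, hmemU⟩ := exists_lift_open u' U₂ hU₂
  refine ⟨_, h₂, u'', hu, MorphismProperty.Over.Hom.ext ?_⟩
  let j := S.homOfLE h₂
  have hr : Set.range (pullback.fst V'.hom j) ⊆ Set.range W.ι := by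
    rw [Scheme.Opens.range_ι]
    rintro _ ⟨z, rfl⟩
    by_contra hz
    refine hmemU (pullback.snd V'.hom j z) ⟨_, hz, ?_⟩
    exact congr($(pullback.condition (f := V'.hom) (g := j)) z)
  let k := IsOpenImmersion.lift W.ι (pullback.fst V'.hom j) hr
  have hk : k ≫ W.ι = pullback.fst V'.hom j := IsOpenImmersion.lift_fac _ _ _
  refine pullback.hom_ext ?_ ?_
  · refine (pullback.lift_fst _ _ _).trans (Eq.trans ?_ (pullback.lift_fst _ _ _).symm)
    show pullback.fst V'.hom j ≫ φ.left = pullback.fst V'.hom j ≫ ψ.left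
    rw [← hk, Category.assoc, Category.assoc, hW]
  · exact (pullback.lift_snd _ _ _).trans (pullback.lift_snd _ _ _).symm

variable {X₁ : Scheme.{u}} {u'' : X₀ ⟶ X₁} {j : X₁ ⟶ (U' : Scheme.{u})} (hu : u'' ≫ j = u')

theorem pullbackComp_hom_fst (A : FEt.Cat (U' : Scheme.{u})) :
    ((MorphismProperty.Over.pullbackComp u'' j u' hu.symm).hom.app A).left ≫
      pullback.fst (pullback.snd A.hom j) u'' ≫ pullback.fst A.hom j = pullback.fst A.hom u' := by
  subst hu
  exact MorphismProperty.Over.pullbackComp_left_fst_fst u'' j A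

theorem pullbackComp_hom_snd (A : FEt.Cat (U' : Scheme.{u})) :
    ((MorphismProperty.Over.pullbackComp u'' j u' hu.symm).hom.app A).left ≫
      pullback.snd (pullback.snd A.hom j) u'' = pullback.snd A.hom u' :=
  FEt83.w_left ((MorphismProperty.Over.pullbackComp u'' j u' hu.symm).hom.app A)

/-- A morphism over `X₁` restricting to a given morphism of pullbacks. -/
theorem map_eq_conj {V' W' : FEt.Cat (U' : Scheme.{u})}
    (φ₀ : (FEt.restrict u').obj V' ⟶ (FEt.restrict u').obj W')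
    (φ : (FEt.restrict j).obj V' ⟶ (FEt.restrict j).obj W')
    (h : ∀ t : pullback V'.hom u' ⟶ pullback V'.hom j, t ≫ pullback.fst V'.hom j = pullback.fst V'.hom u' →
      t ≫ φ.left ≫ pullback.fst W'.hom j = φ₀.left ≫ pullback.fst W'.hom u') :
    (FEt.restrict u'').map φ =
      (MorphismProperty.Over.pullbackComp u'' j u' hu.symm).inv.app V' ≫ φ₀ ≫
        (MorphismProperty.Over.pullbackComp u'' j u' hu.symm).hom.app W' := by
  let e : FEt.restrict u' ≅ FEt.restrict j ⋙ FEt.restrict u'' := MorphismProperty.Over.pullbackComp u'' j u' hu.symm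
  refine Eq.trans ?_ (show e.inv.app V' ≫ φ₀ ≫ e.hom.app W' = _ from rfl)
  refine ((cancel_epi (e.hom.app V')).mp ?_)
  refine Eq.trans ?_ (Iso.hom_inv_id_app_assoc e V' _).symm
  refine MorphismProperty.Over.Hom.ext (pullback.hom_ext (pullback.hom_ext ?_ ?_) ?_)
  · show (((e.hom.app V').left ≫ ((FEt.restrict u'').map φ).left) ≫ _) ≫ _ =
      ((φ₀.left ≫ (e.hom.app W').left) ≫ _) ≫ _
    simp only [Category.assoc]
    refine Eq.trans ?_ ((h ((e.hom.app V').left ≫ pullback.fst _ u'') ?_).trans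
      (congrArg (φ₀.left ≫ ·) (pullbackComp_hom_fst u' hu W').symm))
    · refine Eq.trans ?_ (Category.assoc _ _ _).symm
      refine congrArg ((e.hom.app V').left ≫ ·) ?_
      refine (Category.assoc _ _ _).symm.trans ?_
      refine (congrArg (· ≫ pullback.fst W'.hom j) (pullback.lift_fst _ _ _)).trans ?_
      exact Category.assoc _ _ _
    · exact (Category.assoc _ _ _).trans (pullbackComp_hom_fst u' hu V')
  · have hl : ∀ {T : Scheme.{u}} (s : T ⟶ pullback (pullback.snd W'.hom j) u''),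
        (s ≫ pullback.fst _ u'') ≫ pullback.snd W'.hom j = (s ≫ pullback.snd _ u'') ≫ u'' := fun s => by
      rw [Category.assoc, Category.assoc, pullback.condition]
    refine (hl _).trans (Eq.trans ?_ (hl _).symm)
    exact congrArg (· ≫ u'') ((FEt83.w_left (e.hom.app V' ≫ (FEt.restrict u'').map φ)).trans
      (FEt83.w_left (φ₀ ≫ e.hom.app W')).symm)
  · exact (FEt83.w_left (e.hom.app V' ≫ (FEt.restrict u'').map φ)).trans
      (FEt83.w_left (φ₀ ≫ e.hom.app W')).symm

end General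

/-- Morphisms of restrictions extend near the image. -/
theorem germ_full {S X₀ : Scheme.{u}} {U' : S.Opens} (u' : X₀ ⟶ (U' : Scheme.{u})) (h' : LiftsNear u')
    (V' W' : FEt.Cat (U' : Scheme.{u})) (φ₀ : (FEt.restrict u').obj V' ⟶ (FEt.restrict u').obj W') :
    ∃ (U'' : S.Opens) (h : U'' ≤ U') (u'' : X₀ ⟶ (U'' : Scheme.{u})) (hu : u'' ≫ S.homOfLE h = u')
      (φ : (FEt.restrict (S.homOfLE h)).obj V' ⟶ (FEt.restrict (S.homOfLE h)).obj W'),
      (FEt.restrict u'').map φ =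
        (MorphismProperty.Over.pullbackComp u'' (S.homOfLE h) u' hu.symm).inv.app V' ≫ φ₀ ≫
          (MorphismProperty.Over.pullbackComp u'' (S.homOfLE h) u' hu.symm).hom.app W' := by
  have : IsFinite V'.hom := V'.prop.1
  have : Etale V'.hom := V'.prop.2
  have : IsFinite W'.hom := W'.prop.1
  have : Etale W'.hom := W'.prop.2
  obtain ⟨U₂, φ, hU₂, hφ, hφψ⟩ := exists_hom_near h' V'.hom W'.hom φ₀.left (FEt83.w_left φ₀)
  obtain ⟨h₂, u'', hu, hmemU⟩ := exists_lift_open u' U₂ hU₂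
  let j := S.homOfLE h₂
  have hr : Set.range (pullback.fst V'.hom j) ⊆ Set.range (V'.hom ⁻¹ᵁ U₂).ι := by
    rw [Scheme.Opens.range_ι]
    rintro _ ⟨z, rfl⟩
    show V'.hom (pullback.fst V'.hom j z) ∈ U₂
    rw [show V'.hom (pullback.fst V'.hom j z) = j (pullback.snd V'.hom j z) from
      congr($(pullback.condition (f := V'.hom) (g := j)) z)]
    exact hmemU _
  let k := IsOpenImmersion.lift (V'.hom ⁻¹ᵁ U₂).ι (pullback.fst V'.hom j) hr
  have hk : k ≫ (V'.hom ⁻¹ᵁ U₂).ι = pullback.fst V'.hom j := IsOpenImmersion.lift_fac _ _ _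
  have hcond : (k ≫ φ) ≫ W'.hom = pullback.snd V'.hom j ≫ j := by
    rw [Category.assoc, hφ, reassoc_of% hk]
    exact pullback.condition
  let φ₂ : (FEt.restrict j).obj V' ⟶ (FEt.restrict j).obj W' :=
    MorphismProperty.Over.homMk (pullback.lift (k ≫ φ) (pullback.snd V'.hom j) hcond) (pullback.lift_snd _ _ _)
  refine ⟨_, h₂, u'', hu, φ₂, map_eq_conj u' hu φ₀ φ₂ fun t ht => ?_⟩
  refine (congrArg (t ≫ ·) (pullback.lift_fst _ _ _)).trans ?_
  exact (Category.assoc _ _ _).symm.trans (hφψ (t ≫ k)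
    ((Category.assoc _ _ _).trans ((congrArg (t ≫ ·) hk).trans ht)))

section Punctured

variable {A : Type u} [CommRing A] [IsLocalRing A] (f : A)
  (U' : (Spec (CommRingCat.of A)).Opens)
  (u' : pullback (FEt.puncturedSpec A).ι (Spec.map (CommRingCat.ofHom (Ideal.Quotient.mk (Ideal.span {f})))) ⟶ (U' : Scheme.{u}))
  (hu' : u' ≫ U'.ι = pullback.fst (FEt.puncturedSpec A).ι (Spec.map (CommRingCat.ofHom (Ideal.Quotient.mk (Ideal.span {f})))) ≫ (FEt.puncturedSpec A).ι)
include hu'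

theorem range_comp : Set.range (u' ≫ U'.ι) =
    {p : Spec (CommRingCat.of A) | f ∈ (p : PrimeSpectrum A).asIdeal ∧ p ≠ IsLocalRing.closedPoint A} := by
  rw [hu']
  ext p
  constructor
  · rintro ⟨z, rfl⟩
    refine ⟨?_, ((pullback.fst (FEt.puncturedSpec A).ι _) z).2⟩
    let g := Spec.map (CommRingCat.ofHom (Ideal.Quotient.mk (Ideal.span {f})))
    have hcm := pullback.condition (f := (FEt.puncturedSpec A).ι) (g := g)
    have hc : (pullback.fst (FEt.puncturedSpec A).ι g ≫ (FEt.puncturedSpec A).ι) z =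
        (pullback.snd (FEt.puncturedSpec A).ι g ≫ g) z := congr($hcm z)
    rw [hc]
    show Ideal.Quotient.mk (Ideal.span {f}) f ∈
      ((pullback.snd (FEt.puncturedSpec A).ι g) z : PrimeSpectrum (A ⧸ Ideal.span {f})).asIdeal
    rw [Ideal.Quotient.eq_zero_iff_mem.mpr (Ideal.mem_span_singleton_self f)]
    exact zero_mem _
  · rintro ⟨hf, hne⟩
    have hp : ∀ x : PrimeSpectrum A, f ∈ x.asIdeal → x ∈ Set.range (PrimeSpectrum.comap (Ideal.Quotient.mk (Ideal.span {f}))) := by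
      intro x hx
      rw [range_comap_of_surjective _ _ Ideal.Quotient.mk_surjective, PrimeSpectrum.mem_zeroLocus, Ideal.mk_ker]
      exact (Ideal.span_singleton_le_iff_mem _).mpr hx
    obtain ⟨y, hy⟩ := hp p hf
    let x : ((FEt.puncturedSpec A : (Spec (CommRingCat.of A)).Opens) : Scheme.{u}) := ⟨p, hne⟩
    obtain ⟨z, hz, -⟩ := Scheme.Pullback.exists_preimage_pullback (f := (FEt.puncturedSpec A).ι)
      (g := Spec.map (CommRingCat.ofHom (Ideal.Quotient.mk (Ideal.span {f})))) x y hy.symm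
    exact ⟨z, congrArg Subtype.val hz⟩

variable [IsNoetherianRing A]

set_option maxHeartbeats 800000 in
theorem liftsNear (hcl : ClopenLifts f)
    (hU' : U' ≤ FEt.puncturedSpec A) : LiftsNear u' := by
  intro Y C₀ hC₀
  let q := pullback.fst Y.hom u'
  have hrange := range_comp f U' u' hu'
  have hU0 : ∀ p : PrimeSpectrum A, f ∈ p.asIdeal → p ≠ IsLocalRing.closedPoint A → p ∈ U' := fun p hp hne => by
    obtain ⟨z, rfl⟩ : p ∈ Set.range (u' ≫ U'.ι) := hrange.ge ⟨hp, hne⟩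
    exact (u' z).2
  have : IsImmersion u' := by
    have : IsImmersion (u' ≫ U'.ι) := by
      rw [hu']
      have : IsClosedImmersion (Spec.map (CommRingCat.ofHom (Ideal.Quotient.mk (Ideal.span {f})))) :=
        IsClosedImmersion.spec_of_surjective _ Ideal.Quotient.mk_surjective
      infer_instance
    exact IsImmersion.of_comp u' U'.ι
  have : IsImmersion (pullback.fst Y.hom u') := MorphismProperty.pullback_fst _ _ ‹_›
  have hemb : Topology.IsEmbedding q := (pullback.fst Y.hom u').isEmbedding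
  have hmem : ∀ z, f ∈ (toBase U' Y (q z) : PrimeSpectrum A).asIdeal := fun z => by
    have hz : toBase U' Y (q z) ∈ Set.range (u' ≫ U'.ι) :=
      ⟨pullback.snd Y.hom u' z, by
        have hc : pullback.snd Y.hom u' ≫ u' ≫ U'.ι = pullback.fst Y.hom u' ≫ toBase U' Y := by
          rw [← Category.assoc, ← pullback.condition]
          exact Category.assoc _ _ _
        exact congr($hc z)⟩
    exact (hrange.le hz).1
  let e : ↥(pullback Y.hom u') → {z : Y.left // f ∈ (toBase U' Y z : PrimeSpectrum A).asIdeal} :=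
    fun z => ⟨q z, hmem z⟩
  have he : IsHomeomorph e := by
    rw [isHomeomorph_iff_isEmbedding_surjective]
    refine ⟨hemb.codRestrict _ hmem, fun ⟨z, hz⟩ => ?_⟩
    obtain ⟨x, hx⟩ : toBase U' Y z ∈ Set.range (u' ≫ U'.ι) :=
      hrange.ge ⟨hz, fun h => hU' (Y.hom z).2 h⟩
    obtain ⟨w, hw⟩ := FEt83.exists_point (f := u') Y (y := z) (x := x) (U'.ι.isOpenEmbedding.injective hx.symm)
    exact ⟨w, Subtype.ext hw⟩
  obtain ⟨U'', -, hU''0, C, hCo, hCc, hCK⟩ := hcl U' hU' hU0 Y (e '' C₀)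
    ⟨he.isClosedMap _ hC₀.1, he.isOpenMap _ hC₀.2⟩
  refine ⟨U'.ι ⁻¹ᵁ U'', ?_, C, hCo, hCc, ?_⟩
  · rintro _ ⟨z, rfl⟩
    obtain ⟨h1', h2'⟩ := hrange.le ⟨z, rfl⟩
    exact hU''0 _ h1' h2'
  · ext z
    exact (hCK (e z)).trans (he.injective.mem_set_image)

end Punctured

end Groth.Agent.Pure83.Germ
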