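import Groth.Agent.Pure83.GermClopenH

/-!
# Full faithfulness of restriction to a punctured hypersurface for henselian pairs
-/

universe u

open CategoryTheory Limits AlgebraicGeometry TopologicalSpace PrimeSpectrum

namespace Groth.Agent.Pure83.Germ

set_option linter.unusedSectionVars false
set_option backward.isDefEq.respectTransparency.types false

variable {A : Type u} [CommRing A] [IsLocalRing A] [IsNoetherianRing A] (f : A)

/-- The punctured hypersurface inside the punctured spectrum. -/
noncomputable abbrev u0 := pullback.fst (FEt.puncturedSpec A).ι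
  (Spec.map (CommRingCat.ofHom (Ideal.Quotient.mk (Ideal.span {f}))))

theorem exists_fibre_homeo (Y : FEt.Cat (FEt.puncturedSpec A : Scheme.{u})) :
    ∃ e : ↥(pullback Y.hom (u0 f)) →
        {z : Y.left // f ∈ (toBase (FEt.puncturedSpec A) Y z : PrimeSpectrum A).asIdeal},
      IsHomeomorph e ∧ ∀ z, (e z).1 = pullback.fst Y.hom (u0 f) z := by
  let U' := FEt.puncturedSpec A
  let u' := u0 f
  let q := pullback.fst Y.hom u'
  have hrange := range_comp f U' u' rfl
  have : IsImmersion u' := by
    have : IsClosedImmersion (Spec.map (CommRingCat.ofHom (Ideal.Quotient.mk (Ideal.span {f})))) :=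
      IsClosedImmersion.spec_of_surjective _ Ideal.Quotient.mk_surjective
    infer_instance
  have : IsImmersion (pullback.fst Y.hom u') := MorphismProperty.pullback_fst _ _ ‹_›
  have hemb : Topology.IsEmbedding q := (pullback.fst Y.hom u').isEmbedding
  have hmem : ∀ z, f ∈ (toBase U' Y (q z) : PrimeSpectrum A).asIdeal := fun z => by
    have hz : toBase U' Y (q z) ∈ Set.range (u' ≫ U'.ι) :=
      ⟨pullback.snd Y.hom u' z, by
        have hc : pullback.snd Y.hom u' ≫ u' ≫ U'.ι = pullback.fst Y.hom u' ≫ toBase U' Y := by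
          rw [← Category.assoc, ← pullback.condition]
          exact Category.assoc _ _ _
        exact congr($hc z)⟩
    exact (hrange.le hz).1
  refine ⟨fun z => ⟨q z, hmem z⟩, ?_, fun z => rfl⟩
  rw [isHomeomorph_iff_isEmbedding_surjective]
  refine ⟨hemb.codRestrict _ hmem, fun ⟨z, hz⟩ => ?_⟩
  obtain ⟨x, hx⟩ : toBase U' Y z ∈ Set.range (u' ≫ U'.ι) := hrange.ge ⟨hz, fun h => (Y.hom z).2 h⟩
  obtain ⟨w, hw⟩ := FEt83.exists_point (f := u') Y (y := z) (x := x) (U'.ι.isOpenEmbedding.injective hx.symm)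
  exact ⟨w, Subtype.ext hw⟩

/-- Full faithfulness when `H¹`, `H²` are killed by a power of `f` and `(A, f)` is henselian. -/
theorem restrict_ff (hf : f ∈ IsLocalRing.maximalIdeal A)
    (hA : ∀ i, i = 1 ∨ i = 2 → ∃ k : ℕ, ∀ y : LocCoh.H (IsLocalRing.maximalIdeal A) i A, f ^ k • y = 0)
    [HenselianRing A (Ideal.span {f})] :
    (FEt.restrict (u0 f)).Full ∧ (FEt.restrict (u0 f)).Faithful := by
  have hmeet : FEt83.MeetsClopens (u0 f) := by
    intro Y C hC hne
    by_contra hno
    simp only [not_exists] at hno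
    obtain ⟨e, he, hfst⟩ := exists_fibre_homeo f Y
    refine hne.ne_empty ((exists_clopen_henselian f hA hf Y).2 C hC fun z hz hzf => ?_)
    obtain ⟨w, hw⟩ := he.surjective ⟨z, hzf⟩
    exact hno w (by rw [← hfst, hw]; exact hz)
  have hlift : FEt83.LiftsClopens (u0 f) := by
    intro Y C₀ hC₀
    obtain ⟨e, he, hfst⟩ := exists_fibre_homeo f Y
    obtain ⟨C, hC, hCK⟩ := (exists_clopen_henselian f hA hf Y).1 (e '' C₀)
      ⟨he.isClosedMap _ hC₀.1, he.isOpenMap _ hC₀.2⟩
    refine ⟨C, hC, Set.ext fun z => ?_⟩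
    show pullback.fst Y.hom (u0 f) z ∈ C ↔ _
    rw [← hfst]
    exact (hCK (e z)).trans he.injective.mem_set_image
  exact ⟨FEt83.full_of_lifts hmeet hlift, FEt83.faithful_of_meets hmeet⟩

end Groth.Agent.Pure83.Germ
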