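import Groth.Agent.Pure83.Formal
import Groth.Agent.Open62.FiniteTestScheme
import Groth.Prelude.Def_FEt
import Mathlib.AlgebraicGeometry.Morphisms.Etale

/-!
# A finite model of a cover of an open subset of an affine scheme
-/

universe u

open CategoryTheory Limits AlgebraicGeometry TopologicalSpace Opposite

namespace Groth.Agent.Pure83.Germ

set_option linter.unusedSectionVars false
set_option backward.isDefEq.respectTransparency.types false

theorem exists_pow_mul_eq_zero {X : Scheme.{u}} [CompactSpace X] [QuasiSeparatedSpace X] (s x : Γ(X, ⊤))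
    (W : X.Opens) (hW : W = X.basicOpen s) (h : X.presheaf.map (homOfLE le_top : W ⟶ ⊤).op x = 0) :
    ∃ n, s ^ n * x = 0 := by
  subst hW
  let _ : Algebra Γ(X, ⊤) Γ(X, X.basicOpen s) :=
    (X.presheaf.map (homOfLE le_top : X.basicOpen s ⟶ ⊤).op).hom.toAlgebra
  have : IsLocalization.Away s Γ(X, X.basicOpen s) :=
    isLocalization_basicOpen_of_qcqs (U := (⊤ : X.Opens)) isCompact_univ isQuasiSeparated_univ s
  obtain ⟨⟨_, n, rfl⟩, hn⟩ := (IsLocalization.map_eq_zero_iff (Submonoid.powers s) Γ(X, X.basicOpen s) x).mp h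
  exact ⟨n, hn⟩

theorem exists_num {X : Scheme.{u}} [CompactSpace X] [QuasiSeparatedSpace X] (s : Γ(X, ⊤))
    (W : X.Opens) (hW : W = X.basicOpen s) (y : Γ(X, W)) :
    ∃ (n : ℕ) (b : Γ(X, ⊤)), X.presheaf.map (homOfLE le_top : W ⟶ ⊤).op b =
      X.presheaf.map (homOfLE le_top : W ⟶ ⊤).op (s ^ n) * y := by
  subst hW
  let _ : Algebra Γ(X, ⊤) Γ(X, X.basicOpen s) :=
    (X.presheaf.map (homOfLE le_top : X.basicOpen s ⟶ ⊤).op).hom.toAlgebra
  have : IsLocalization.Away s Γ(X, X.basicOpen s) :=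
    isLocalization_basicOpen_of_qcqs (U := (⊤ : X.Opens)) isCompact_univ isQuasiSeparated_univ s
  obtain ⟨⟨b, ⟨_, n, rfl⟩⟩, h⟩ := IsLocalization.surj (Submonoid.powers s) y
  exact ⟨n, b, h.symm.trans (mul_comm _ _)⟩

theorem topIso_comm' {X Y : Scheme.{u}} (f : X ⟶ Y) (V : Y.Opens) :
    V.topIso.hom ≫ f.app V = (f ∣_ V).appTop ≫ (f ⁻¹ᵁ V).topIso.hom := by
  rw [Scheme.Hom.appTop, morphismRestrict_app']
  simp only [Scheme.Opens.topIso,
    Scheme.Hom.app_eq_appLE, Functor.mapIso_hom, Iso.op_hom, eqToIso.hom]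
  exact (Scheme.Hom.map_appLE (f := f) _ _).trans
    (Scheme.Hom.appLE_map (f := f) _ _).symm

variable {A : Type u} [CommRing A] (U' : (Spec (CommRingCat.of A)).Opens)
  (Z : FEt.Cat (U' : Scheme.{u}))

/-- The structure map to the spectrum. -/
noncomputable abbrev toBase : Z.left ⟶ Spec (CommRingCat.of A) := Z.hom ≫ U'.ι

/-- The structure map on global sections. -/
noncomputable def secHom : A →+* Γ(Z.left, ⊤) :=
  ((Scheme.ΓSpecIso (CommRingCat.of A)).inv ≫ (toBase U' Z).appTop).hom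

noncomputable instance algSec : Algebra A Γ(Z.left, ⊤) := (secHom U' Z).toAlgebra

theorem basicOpen_sec (d : A) :
    Z.left.basicOpen (algebraMap A Γ(Z.left, ⊤) d) =
      toBase U' Z ⁻¹ᵁ (PrimeSpectrum.basicOpen d : (Spec (CommRingCat.of A)).Opens) := by
  show Z.left.basicOpen ((toBase U' Z).appTop _) = _
  rw [← Scheme.preimage_basicOpen_top]
  congr 1
  exact basicOpen_eq_of_affine (R := CommRingCat.of A) d

theorem finite_etale_restrict {W : (Spec (CommRingCat.of A)).Opens} (hW : W ≤ U') :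
    IsFinite (toBase U' Z ∣_ W) ∧ Etale (toBase U' Z ∣_ W) := by
  have : IsFinite Z.hom := Z.prop.1
  have : Etale Z.hom := Z.prop.2
  have : IsIso (U'.ι ∣_ W) := by
    have : Surjective (U'.ι ∣_ W) := ⟨fun w => ⟨⟨⟨w.1, hW w.2⟩, w.2⟩, by
      apply Subtype.ext
      exact (morphismRestrict_base_coe _ _ _).trans rfl⟩⟩
    have : Epi (U'.ι ∣_ W).base := (TopCat.epi_iff_surjective _).mpr (U'.ι ∣_ W).surjective
    exact IsOpenImmersion.isIso _
  rw [morphismRestrict_comp]
  have h1 : IsFinite (Z.hom ∣_ U'.ι ⁻¹ᵁ W) := inferInstance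
  have h2 : Etale (Z.hom ∣_ U'.ι ⁻¹ᵁ W) := inferInstance
  exact ⟨MorphismProperty.comp_mem _ _ _ h1 (inferInstanceAs (IsFinite (U'.ι ∣_ W))),
    MorphismProperty.comp_mem _ _ _ h2 (inferInstanceAs (Etale (U'.ι ∣_ W)))⟩

variable [IsNoetherianRing A]

theorem compactSpace_cover : CompactSpace Z.left ∧ QuasiSeparatedSpace Z.left := by
  have : IsFinite Z.hom := Z.prop.1
  have hc : CompactSpace (U' : Scheme.{u}) := isCompact_iff_compactSpace.mp (NoetherianSpace.isCompact _)
  have hq : QuasiSeparatedSpace (U' : Scheme.{u}) := inferInstance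
  have : CompactSpace ((Functor.fromPUnit (U' : Scheme.{u})).obj Z.right) := hc
  have : QuasiSeparatedSpace ((Functor.fromPUnit (U' : Scheme.{u})).obj Z.right) := hq
  exact ⟨QuasiCompact.compactSpace_of_compactSpace Z.hom,
    quasiSeparatedSpace_of_quasiSeparated Z.hom⟩

/-- A finite model of a cover. -/
structure Model where
  /-- The finite algebra. -/
  B : Type u
  [commRing : CommRing B]
  [algebra : Algebra A B]
  [finite : Module.Finite A B]
  /-- The map on points. -/
  pt : Z.left → PrimeSpectrum B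
  isEmbedding : Topology.IsEmbedding pt
  comap_pt : ∀ z, PrimeSpectrum.comap (algebraMap A B) (pt z) = toBase U' Z z
  mem_range : ∀ p, PrimeSpectrum.comap (algebraMap A B) p ∈ U' → p ∈ Set.range pt
  regular : ∀ f : A, f ∈ nonZeroDivisors A → IsSMulRegular B f
  factor : ∀ d : A, (PrimeSpectrum.basicOpen d : (Spec (CommRingCat.of A)).Opens) ≤ U' →
    ∃ (n N : ℕ) (φ : B →ₗ[A] (Fin n → A)) (ψ : (Fin n → A) →ₗ[A] B), ∀ b, ψ (φ b) = d ^ N • b

attribute [instance] Model.commRing Model.algebra Model.finite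

/-- Regularity on sections. -/
theorem regular_sec (f : A) (hf : f ∈ nonZeroDivisors A) : IsSMulRegular Γ(Z.left, ⊤) f := by
  refine isSMulRegular_iff_right_eq_zero_of_smul.mpr fun t ht => ?_
  refine TopCat.Presheaf.section_ext Z.left.sheaf ⊤ t 0 fun z _ => ?_
  obtain ⟨_, ⟨d, rfl⟩, hzd, hdU⟩ := PrimeSpectrum.isTopologicalBasis_basic_opens.exists_subset_of_mem_open
    (show toBase U' Z z ∈ U' from (Z.hom z).2) U'.isOpen
  let W : (Spec (CommRingCat.of A)).Opens := PrimeSpectrum.basicOpen d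
  obtain ⟨hfin, het⟩ := finite_etale_restrict U' Z (W := W) hdU
  have : IsAffine W.toScheme := IsAffineOpen.Spec_basicOpen (R := CommRingCat.of A) d
  let P : Z.left.Opens := toBase U' Z ⁻¹ᵁ W
  have : IsAffine P.toScheme := isAffine_of_isAffineHom (toBase U' Z ∣_ W)
  have hflat : (P.ι ≫ toBase U' Z).appTop.hom.Flat := by
    refine (HasRingHomProperty.iff_of_isAffine (P := @Flat)).mp ?_
    rw [← morphismRestrict_ι]
    infer_instance
  let φ : A →+* Γ(P.toScheme, ⊤) := ((Scheme.ΓSpecIso (CommRingCat.of A)).inv ≫ (P.ι ≫ toBase U' Z).appTop).hom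
  have hφ : φ.Flat := RingHom.Flat.comp
    (RingHom.Flat.of_bijective (ConcreteCategory.bijective_of_isIso (Scheme.ΓSpecIso (CommRingCat.of A)).inv)) hflat
  algebraize [φ]
  have hreg : IsSMulRegular Γ(P.toScheme, ⊤) (algebraMap A Γ(P.toScheme, ⊤) f) :=
    IsSMulRegular.of_flat ((isSMulRegular_iff_right_eq_zero_of_smul).mpr fun x hx =>
      (mem_nonZeroDivisors_iff.mp hf).1 x hx)
  have h0 : P.ι.appTop t = 0 := by
    refine hreg.right_eq_zero_of_smul ?_
    show φ f * _ = 0
    have : φ f = P.ι.appTop (algebraMap A Γ(Z.left, ⊤) f) := rfl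
    rw [this, ← map_mul, ← Algebra.smul_def, ht, map_zero]
  have h1 : Z.left.presheaf.map (homOfLE le_top : P ⟶ ⊤).op t = 0 := by
    have h2 : Z.left.presheaf.map (homOfLE le_top : P ⟶ ⊤).op t = P.topIso.hom (P.ι.appTop t) := by
      rw [Scheme.Opens.ι_appTop, Scheme.Opens.topIso]
      exact congr($(Functor.map_comp Z.left.presheaf _ _) t)
    rw [h2, h0, map_zero]
  have hz : z ∈ P := hzd
  rw [map_zero]
  exact (TopCat.Presheaf.germ_res_apply Z.left.presheaf (homOfLE le_top : P ⟶ ⊤) z hz t).symm.trans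
    ((congrArg _ h1).trans (map_zero _))

theorem locallyOfFiniteType_toBase : LocallyOfFiniteType (toBase U' Z) ∧ LocallyQuasiFinite (toBase U' Z) ∧
    IsSeparated (toBase U' Z) ∧ QuasiCompact (toBase U' Z) := by
  have : IsFinite Z.hom := Z.prop.1
  have : IsFinite (show Z.left ⟶ (U' : Scheme.{u}) from Z.hom) := this
  have : LocallyOfFiniteType U'.ι := inferInstance
  have : LocallyQuasiFinite U'.ι := inferInstance
  have : IsSeparated U'.ι := inferInstance
  have : QuasiCompact U'.ι := inferInstance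
  exact ⟨MorphismProperty.comp_mem _ _ _ (inferInstanceAs (LocallyOfFiniteType (show Z.left ⟶ (U' : Scheme.{u}) from Z.hom))) ‹_›,
    MorphismProperty.comp_mem _ _ _ (inferInstanceAs (LocallyQuasiFinite (show Z.left ⟶ (U' : Scheme.{u}) from Z.hom))) ‹_›,
    MorphismProperty.comp_mem _ _ _ (inferInstanceAs (IsSeparated (show Z.left ⟶ (U' : Scheme.{u}) from Z.hom))) ‹_›,
    MorphismProperty.comp_mem _ _ _ (inferInstanceAs (QuasiCompact (show Z.left ⟶ (U' : Scheme.{u}) from Z.hom))) ‹_›⟩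

theorem mem_image_of_closed {S : Type u} [CommRing S] {X : Scheme.{u}} [CompactSpace X] [QuasiSeparatedSpace X]
    (q : X ⟶ Spec (CommRingCat.of S)) (hq : Function.Injective (((Scheme.ΓSpecIso (CommRingCat.of S)).inv ≫ q.appTop).hom))
    (O : (Spec (CommRingCat.of S)).Opens) (hO : ∀ x, q x ∉ O) : O = ⊥ := by
  refine eq_bot_iff.mpr fun p hp => ?_
  obtain ⟨_, ⟨b, rfl⟩, hpb, hbO⟩ :=
    PrimeSpectrum.isTopologicalBasis_basic_opens.exists_subset_of_mem_open hp O.isOpen
  have h0 : X.basicOpen (q.appTop ((Scheme.ΓSpecIso (CommRingCat.of S)).inv b)) = ⊥ := by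
    rw [← Scheme.preimage_basicOpen_top]
    refine eq_bot_iff.mpr fun x hx => hO x (hbO ?_)
    rw [basicOpen_eq_of_affine] at hx
    exact hx
  obtain ⟨n, hn⟩ := exists_pow_mul_eq_zero (q.appTop ((Scheme.ΓSpecIso (CommRingCat.of S)).inv b)) 1 _ h0.symm
    (Subsingleton.elim _ _)
  have hb : b ^ n = 0 := hq (by
    rw [map_zero, map_pow, ← mul_one (_ ^ n)]
    exact hn)
  exact absurd ((PrimeSpectrum.asIdeal p).zero_mem) (fun h => hpb (p.isPrime.mem_of_pow_mem n (hb ▸ h)))

theorem exists_surj_restrict {Y₁ : Scheme.{u}} (g : Y₁ ⟶ Spec (CommRingCat.of A)) [IsFinite g] (i : Z.left ⟶ Y₁)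
    [IsOpenImmersion i] (hig : i ≫ g = toBase U' Z) (d : A)
    (hd : (PrimeSpectrum.basicOpen d : (Spec (CommRingCat.of A)).Opens) ≤ U') (P : Z.left.Opens)
    (hP : P = toBase U' Z ⁻¹ᵁ (PrimeSpectrum.basicOpen d : (Spec (CommRingCat.of A)).Opens)) (y : Γ(Z.left, P)) :
    ∃ (n : ℕ) (cc : Γ(Y₁, ⊤)), Z.left.presheaf.map (homOfLE le_top : P ⟶ ⊤).op (i.appTop cc) =
      Z.left.presheaf.map (homOfLE le_top : P ⟶ ⊤).op (algebraMap A Γ(Z.left, ⊤) d ^ n) * y := by
  set W : (Spec (CommRingCat.of A)).Opens := PrimeSpectrum.basicOpen d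
  obtain ⟨hfin, -⟩ := finite_etale_restrict U' Z (W := W) hd
  have : IsFinite (i ∣_ (g ⁻¹ᵁ W) ≫ g ∣_ W) := by
    rw [← morphismRestrict_comp]
    have h : ∀ {j : Z.left ⟶ Spec (CommRingCat.of A)}, j = toBase U' Z → IsFinite (j ∣_ W) := by
      rintro j rfl; exact hfin
    exact h hig
  have : IsFinite (i ∣_ (g ⁻¹ᵁ W)) := IsFinite.of_comp _ (g ∣_ W)
  have : IsClosedImmersion (i ∣_ (g ⁻¹ᵁ W)) := (IsClosedImmersion.iff_isFinite_and_mono _).mpr ⟨this, inferInstance⟩
  have : IsAffine W.toScheme := IsAffineOpen.Spec_basicOpen (R := CommRingCat.of A) d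
  have : IsAffine (g ⁻¹ᵁ W).toScheme := isAffine_of_isAffineHom (g ∣_ W)
  have : IsAffine Y₁ := isAffine_of_isAffineHom g
  obtain ⟨-, hsurj⟩ := IsClosedImmersion.isAffine_surjective_of_isAffine (i ∣_ (g ⁻¹ᵁ W))
  have hP' : P = i ⁻¹ᵁ (g ⁻¹ᵁ W) := hP.trans (by rw [← hig]; rfl)
  subst hP'
  obtain ⟨x, hx⟩ := hsurj ((i ⁻¹ᵁ (g ⁻¹ᵁ W)).topIso.inv y)
  have hy : i.app (g ⁻¹ᵁ W) ((g ⁻¹ᵁ W).topIso.hom x) = y := by
    refine (congr($(topIso_comm' i (g ⁻¹ᵁ W)) x)).trans ?_
    show (i ⁻¹ᵁ (g ⁻¹ᵁ W)).topIso.hom ((i ∣_ (g ⁻¹ᵁ W)).appTop x) = y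
    rw [hx]
    exact congr($((i ⁻¹ᵁ (g ⁻¹ᵁ W)).topIso.inv_hom_id) y)
  obtain ⟨n, cc, hcc⟩ := exists_num (X := Y₁) (g.appTop ((Scheme.ΓSpecIso (CommRingCat.of A)).inv d)) (g ⁻¹ᵁ W) (by
    rw [← Scheme.preimage_basicOpen_top]
    congr 1
    exact (basicOpen_eq_of_affine (R := CommRingCat.of A) d).symm) ((g ⁻¹ᵁ W).topIso.hom x)
  refine ⟨n, cc, ?_⟩
  have hnat : ∀ t, i.app (g ⁻¹ᵁ W) (Y₁.presheaf.map (homOfLE le_top : g ⁻¹ᵁ W ⟶ ⊤).op t) =
      Z.left.presheaf.map (homOfLE le_top : i ⁻¹ᵁ (g ⁻¹ᵁ W) ⟶ ⊤).op (i.appTop t) := fun t =>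
    congr($(i.naturality (homOfLE le_top : g ⁻¹ᵁ W ⟶ ⊤).op) t)
  have h7 := congrArg (i.app (g ⁻¹ᵁ W)) hcc
  rw [map_mul, hy, hnat, hnat, map_pow] at h7
  have hd' : i.appTop (g.appTop ((Scheme.ΓSpecIso (CommRingCat.of A)).inv d)) = algebraMap A Γ(Z.left, ⊤) d :=
    congr($(hig).appTop ((Scheme.ΓSpecIso (CommRingCat.of A)).inv d))
  rw [hd'] at h7
  exact h7

set_option maxHeartbeats 800000 in
/-- A finite model exists. -/
theorem exists_model : Nonempty (Model U' Z) := by
  classical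
  obtain ⟨hlft, hlqf, hsep, hqc⟩ := locallyOfFiniteType_toBase U' Z
  obtain ⟨hcs, hqs⟩ := compactSpace_cover U' Z
  have : IsNoetherian (Spec (CommRingCat.of A)) := inferInstance
  obtain ⟨Y₁, g, i, hg, hi, hig⟩ := Open62.FiniteTest.exists_finite_extension (toBase U' Z)
  have : IsAffine Y₁ := isAffine_of_isAffineHom g
  let gA : A →+* Γ(Y₁, ⊤) := ((Scheme.ΓSpecIso (CommRingCat.of A)).inv ≫ g.appTop).hom
  have hgA : gA.Finite := RingHom.Finite.comp g.finite_appTop
    (RingHom.Finite.of_surjective _ (ConcreteCategory.bijective_of_isIso (Scheme.ΓSpecIso (CommRingCat.of A)).inv).2)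
  let _ : Algebra A Γ(Y₁, ⊤) := gA.toAlgebra
  have : Module.Finite A Γ(Y₁, ⊤) := hgA
  have hcomm : ∀ a, i.appTop (gA a) = algebraMap A Γ(Z.left, ⊤) a := fun a => by
    exact congr($(hig).appTop ((Scheme.ΓSpecIso (CommRingCat.of A)).inv a))
  let ρ : Γ(Y₁, ⊤) →ₐ[A] Γ(Z.left, ⊤) := { i.appTop.hom with commutes' := hcomm }
  have : Module.Finite A ρ.range := Module.Finite.of_surjective ρ.rangeRestrict.toLinearMap
    ρ.rangeRestrict_surjective
  let v : CommRingCat.of ρ.range ⟶ Γ(Z.left, ⊤) := CommRingCat.ofHom ρ.range.val.toRingHom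
  let c : Γ(Y₁, ⊤) ⟶ CommRingCat.of ρ.range := CommRingCat.ofHom ρ.rangeRestrict.toRingHom
  let q : Z.left ⟶ Spec (CommRingCat.of ρ.range) := Z.left.toSpecΓ ≫ Spec.map v
  let h : Spec (CommRingCat.of ρ.range) ⟶ Spec (CommRingCat.of A) :=
    Spec.map (CommRingCat.ofHom (algebraMap A ρ.range))
  have hqk : q ≫ Spec.map c = i ≫ Y₁.toSpecΓ := by
    rw [Category.assoc, ← Spec.map_comp, Scheme.toSpecΓ_naturality]
    rfl
  have hqh : q ≫ h = toBase U' Z := by
    rw [Category.assoc, ← Spec.map_comp]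
    have : CommRingCat.ofHom (algebraMap A ρ.range) ≫ v =
        (Scheme.ΓSpecIso (CommRingCat.of A)).inv ≫ (toBase U' Z).appTop := rfl
    rw [this, Spec.map_comp, ← Scheme.toSpecΓ_naturality_assoc, toSpecΓ_SpecMap_ΓSpecIso_inv, Category.comp_id]
  have hemb : Topology.IsEmbedding q := by
    have : IsOpenImmersion (i ≫ Y₁.toSpecΓ) := inferInstance
    have h1 : Topology.IsEmbedding (q ≫ Spec.map c) := by
      rw [hqk]
      exact (i ≫ Y₁.toSpecΓ).isOpenEmbedding.isEmbedding
    exact Topology.IsEmbedding.of_comp q.continuous (Spec.map c).continuous h1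
  have hqinj : Function.Injective (((Scheme.ΓSpecIso (CommRingCat.of ρ.range)).inv ≫ q.appTop).hom) := by
    have h2 : (Scheme.ΓSpecIso (CommRingCat.of ρ.range)).inv ≫ q.appTop = v := by
      show _ ≫ (Spec.map v).appTop ≫ Z.left.toSpecΓ.appTop = v
      rw [← Scheme.ΓSpecIso_inv_naturality_assoc, Scheme.toSpecΓ_appTop, Iso.inv_hom_id, Category.comp_id]
    rw [h2]
    exact Subtype.val_injective
  refine ⟨{
    B := ρ.range
    pt := q
    isEmbedding := hemb
    comap_pt := fun z => congr($(hqh) z)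
    mem_range := fun p hp => ?_
    regular := fun f hf => ?_
    factor := fun d hd => ?_ }⟩
  · by_contra hnot
    have hrf : IsFinite (q ∣_ (h ⁻¹ᵁ U') ≫ h ∣_ U') := by
      rw [← morphismRestrict_comp]
      have := (finite_etale_restrict U' Z (W := U') le_rfl).1
      rw [← hqh] at this
      exact this
    have : IsFinite (q ∣_ (h ⁻¹ᵁ U')) := IsFinite.of_comp _ (h ∣_ U')
    have hcl : IsClosed (Set.range (q ∣_ (h ⁻¹ᵁ U'))) := (q ∣_ (h ⁻¹ᵁ U')).isClosedMap.isClosed_range
    let O : (Spec (CommRingCat.of ρ.range)).Opens :=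
      ⟨Subtype.val '' (Set.range (q ∣_ (h ⁻¹ᵁ U')))ᶜ, (h ⁻¹ᵁ U').isOpen.isOpenEmbedding_subtypeVal.isOpenMap _ hcl.isOpen_compl⟩
    have hbot : O = ⊥ := mem_image_of_closed q hqinj O fun x => by
      rintro ⟨⟨y, hy⟩, hny, rfl⟩
      exact hny ⟨⟨x, hy⟩, Subtype.ext (morphismRestrict_base_coe _ _ _)⟩
    have hpO : p ∈ O := by
      refine ⟨⟨p, hp⟩, ?_, rfl⟩
      rintro ⟨x, hx⟩
      exact hnot ⟨x.1, (morphismRestrict_base_coe _ _ _).symm.trans (congrArg Subtype.val hx)⟩
    rw [hbot] at hpO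
    exact hpO
  · refine isSMulRegular_iff_right_eq_zero_of_smul.mpr fun b hb => Subtype.ext ?_
    exact (regular_sec U' Z f hf).right_eq_zero_of_smul (congrArg Subtype.val hb)
  · let W : (Spec (CommRingCat.of A)).Opens := PrimeSpectrum.basicOpen d
    let P : Z.left.Opens := toBase U' Z ⁻¹ᵁ W
    let R := Γ(P.toScheme, ⊤)
    let rP : Γ(Z.left, ⊤) →+* R := P.ι.appTop.hom
    let _ : Algebra A R := (rP.comp (algebraMap A Γ(Z.left, ⊤))).toAlgebra
    have : IsAffine W.toScheme := IsAffineOpen.Spec_basicOpen (R := CommRingCat.of A) d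
    obtain ⟨hfin, het⟩ := finite_etale_restrict U' Z (W := W) hd
    have : IsAffine P.toScheme := isAffine_of_isAffineHom (toBase U' Z ∣_ W)
    have : Module.Flat A R := by
      have h3 : (P.ι ≫ toBase U' Z).appTop.hom.Flat := by
        refine (HasRingHomProperty.iff_of_isAffine (P := @Flat)).mp ?_
        rw [← morphismRestrict_ι]
        infer_instance
      have h9 := RingHom.Flat.comp (g := (P.ι ≫ toBase U' Z).appTop.hom)
        (RingHom.Flat.of_bijective (ConcreteCategory.bijective_of_isIso (Scheme.ΓSpecIso (CommRingCat.of A)).inv)) h3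
      exact h9
    have hPb : P = Z.left.basicOpen (algebraMap A Γ(Z.left, ⊤) d) := (basicOpen_sec U' Z d).symm
    have hres : ∀ t, P.topIso.hom (rP t) = Z.left.presheaf.map (homOfLE le_top : P ⟶ ⊤).op t := fun t => by
      show P.topIso.hom (P.ι.appTop t) = _
      rw [Scheme.Opens.ι_appTop, Scheme.Opens.topIso]
      exact (congr($(Functor.map_comp Z.left.presheaf _ _) t)).symm
    have hinj : Function.Injective P.topIso.hom := (ConcreteCategory.bijective_of_isIso _).1
    have hu : IsUnit (algebraMap A R d) := by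
      have h4 : IsUnit (Z.left.presheaf.map (homOfLE le_top : P ⟶ ⊤).op (algebraMap A Γ(Z.left, ⊤) d)) := by
        have h5 : ∀ V : Z.left.Opens, V = Z.left.basicOpen (algebraMap A Γ(Z.left, ⊤) d) →
            IsUnit (Z.left.presheaf.map (homOfLE le_top : V ⟶ ⊤).op (algebraMap A Γ(Z.left, ⊤) d)) := by
          rintro V rfl
          exact RingedSpace.isUnit_res_basicOpen _ _
        exact h5 P hPb
      rw [← hres] at h4
      have h6 := h4.map P.topIso.inv.hom
      have h10 : P.topIso.inv.hom (P.topIso.hom (rP (algebraMap A Γ(Z.left, ⊤) d))) = rP (algebraMap A Γ(Z.left, ⊤) d) :=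
        congr($(P.topIso.hom_inv_id) (rP (algebraMap A Γ(Z.left, ⊤) d)))
      rw [h10] at h6
      exact h6
    let Af := Localization.Away d
    let _ : Algebra Af R := (IsLocalization.Away.lift d hu).toAlgebra
    have : IsScalarTower A Af R := IsScalarTower.of_algebraMap_eq fun a => (IsLocalization.Away.lift_eq _ hu a).symm
    let ι : ρ.range →ₗ[A] R :=
      { toFun := fun b => rP b.1
        map_add' := fun x y => map_add rP _ _
        map_smul' := fun a x => by
          simp only [Algebra.smul_def, RingHom.id_apply]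
          show rP (algebraMap A Γ(Z.left, ⊤) a * x.1) = _
          rw [map_mul]
          rfl }
    have : IsLocalizedModule (Submonoid.powers d) ι := by
      refine { map_units := ?_, surj := fun y => ?_, exists_of_eq := fun {x y} hxy => ?_ }
      · rintro ⟨_, n, rfl⟩
        rw [Module.End.isUnit_iff]
        show Function.Bijective fun z : R => d ^ n • z
        simp only [Algebra.smul_def, map_pow]
        exact (hu.pow n).unit.mulLeft_bijective
      · obtain ⟨n, cc, hcc⟩ := exists_surj_restrict U' Z g i hig d hd P rfl (P.topIso.hom y)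
        refine ⟨⟨ρ.rangeRestrict cc, ⟨d ^ n, n, rfl⟩⟩, ?_⟩
        refine hinj ?_
        show P.topIso.hom (d ^ n • y) = P.topIso.hom (rP (i.appTop cc))
        rw [hres, hcc, ← hres, Algebra.smul_def, map_mul]
        congr 2
        exact (map_pow (algebraMap A R) d n).trans (map_pow rP _ n).symm
      · have h8 : Z.left.presheaf.map (homOfLE le_top : P ⟶ ⊤).op (x.1 - y.1) = 0 := by
          rw [← hres, map_sub rP, sub_eq_zero.mpr (show rP x.1 = rP y.1 from hxy), map_zero]
        obtain ⟨n, hn⟩ := exists_pow_mul_eq_zero _ _ P hPb h8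
        refine ⟨⟨d ^ n, n, rfl⟩, ?_⟩
        show d ^ n • x = d ^ n • y
        refine Subtype.ext ?_
        simp only [Algebra.smul_def, map_pow, Subalgebra.coe_mul, Subalgebra.coe_pow, Subalgebra.coe_algebraMap]
        linear_combination hn
    have : Module.Finite Af R := Module.Finite.of_isLocalizedModule (Submonoid.powers d) ι
    have : Module.Flat Af R := (Module.flat_iff_of_isLocalization Af (Submonoid.powers d) R).mpr inferInstance
    have : IsNoetherianRing Af := IsLocalization.isNoetherianRing (Submonoid.powers d) Af inferInstance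
    have : Module.FinitePresentation Af R := Module.finitePresentation_of_finite Af R
    have : Module.Projective Af R := Module.Flat.projective_of_finitePresentation
    exact exists_factor' (M := ρ.range) d (Af := Af) (M' := R) ι

end Groth.Agent.Pure83.Germ
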