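import Groth.Agent.Pure83.DescScheme

/-!
# Gluing a finite scheme over the punctured spectrum with one over the completion
-/

universe u

open CategoryTheory Limits AlgebraicGeometry TopologicalSpace Opposite TensorProduct

namespace Groth.Agent.Pure83

section Alg

variable {A C : Type u} [CommRing A] [CommRing C] [Algebra A C] [Module.FaithfullyFlat A C]
  (I : Ideal A)

/-- An algebra over a faithfully flat extension which is a torsion modification of a base change
descends. -/
theorem exists_descended_algebra_finite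
    (hsub : ∀ (k : ℕ) (c : C), ∃ a : A, c - algebraMap A C a ∈ (I ^ k).map (algebraMap A C))
    {B' M : Type u} [CommRing B'] [Algebra A B'] [Algebra C B'] [IsScalarTower A C B']
    [CommRing M] [Algebra A M] (φ : B' →ₐ[C] C ⊗[A] M)
    (hT : ∀ x : C ⊗[A] M, ∃ k : ℕ, ∀ a ∈ I ^ k, ∃ e, φ e = algebraMap A C a • x)
    (hK : ∀ b : B', φ b = 0 → ∃ k : ℕ, ∀ a ∈ I ^ k, algebraMap A B' a * b = 0)
    [Module.Finite C B'] :
    ∃ (B : Type u) (_ : CommRing B) (_ : Algebra A B) (ι : B →ₐ[A] B') (ψ : B →ₐ[A] M),
      Module.Finite A B ∧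
      Function.Bijective (Algebra.TensorProduct.lift (Algebra.ofId C B') ι fun _ _ => .all _ _) ∧
      ∀ b, φ (ι b) = 1 ⊗ₜ ψ b := by
  let r : M →ₐ[A] C ⊗[A] M := Algebra.TensorProduct.includeRight
  have hr : Function.Injective r := Module.FaithfullyFlat.tensorProduct_mk_injective (A := A) (B := C) M
  let B : Subalgebra A B' := r.range.comap (φ.restrictScalars A)
  choose ψ₀ hψ₀ using fun b : B => (show ∃ m, r m = φ (b : B') from b.2)
  let ψ : B →ₐ[A] M :=
    { toFun := ψ₀
      map_one' := hr (by rw [hψ₀, map_one r]; exact map_one φ)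
      map_mul' := fun x y => hr (by rw [map_mul r, hψ₀, hψ₀, hψ₀]; exact map_mul φ _ _)
      map_zero' := hr (by rw [hψ₀, map_zero r]; exact map_zero φ)
      map_add' := fun x y => hr (by rw [map_add r, hψ₀, hψ₀, hψ₀]; exact map_add φ _ _)
      commutes' := fun a => hr (by
        rw [hψ₀, r.commutes]; exact (φ.restrictScalars A).commutes a) }
  have hψ : ∀ b : B, φ (b : B') = 1 ⊗ₜ ψ b := fun b => (hψ₀ b).symm
  let μ : C ⊗[A] B →ₐ[C] B' :=
    Algebra.TensorProduct.lift (Algebra.ofId C B') B.val fun _ _ => .all _ _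
  have hμ : ∀ (c : C) (b : B), μ (c ⊗ₜ b) = algebraMap C B' c * b := fun c b =>
    Algebra.TensorProduct.lift_tmul _ _ _ _ _
  have hψμ : ∀ z, φ (μ z) = LinearMap.lTensor C ψ.toLinearMap z := by
    intro z
    induction z using TensorProduct.induction_on with
    | zero => simp
    | tmul c b =>
      rw [hμ, map_mul, φ.commutes, hψ, LinearMap.lTensor_tmul,
        Algebra.TensorProduct.algebraMap_apply, Algebra.TensorProduct.tmul_mul_tmul, mul_one,
        one_mul]
      rfl
    | add x y hx hy => simp only [map_add, hx, hy]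
  -- elements supported at the closed point come from the base
  have hkey : ∀ (x : M) (k : ℕ), (∀ a ∈ I ^ k, ∃ e, φ e = algebraMap A C a • (1 : C) ⊗ₜ[A] x) →
      ∀ c, c ∈ (I ^ k).map (algebraMap A C) → ∃ z, φ (μ z) = c ⊗ₜ x := by
    intro x k hx c hc
    induction hc using Submodule.span_induction with
    | mem _ hy =>
      obtain ⟨a, ha, rfl⟩ := hy
      obtain ⟨e, he⟩ := hx a ha
      rw [TensorProduct.smul_tmul', smul_eq_mul, mul_one] at he
      have heB : e ∈ B := ⟨a • x, by
        show (1 : C) ⊗ₜ[A] (a • x) = φ e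
        rw [he, ← smul_tmul, Algebra.smul_def, mul_one]⟩
      refine ⟨1 ⊗ₜ ⟨e, heB⟩, ?_⟩
      rw [hμ, map_one, one_mul, he]
    | zero => exact ⟨0, by simp⟩
    | add y y' _ _ hy hy' =>
      obtain ⟨z, hz⟩ := hy
      obtain ⟨z', hz'⟩ := hy'
      exact ⟨z + z', by rw [map_add, map_add, hz, hz', add_tmul]⟩
    | smul c' y _ hy =>
      obtain ⟨z, hz⟩ := hy
      exact ⟨c' • z, by rw [map_smul, map_smul, hz, smul_tmul']⟩
  have hdec : ∀ x : C ⊗[A] M, ∃ (z : C ⊗[A] B) (m : M), x = φ (μ z) + 1 ⊗ₜ m := by
    intro x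
    induction x using TensorProduct.induction_on with
    | zero => exact ⟨0, 0, by simp⟩
    | tmul c m =>
      obtain ⟨k, hk⟩ := hT ((1 : C) ⊗ₜ m)
      obtain ⟨a, ha⟩ := hsub k c
      obtain ⟨z, hz⟩ := hkey m k hk _ ha
      refine ⟨z, a • m, ?_⟩
      rw [hz, ← smul_tmul, ← add_tmul, Algebra.smul_def, mul_one, sub_add_cancel]
    | add x y hx hy =>
      obtain ⟨z, m, hz⟩ := hx
      obtain ⟨z', m', hz'⟩ := hy
      exact ⟨z + z', m + m', by rw [map_add, map_add, tmul_add, hz, hz']; abel⟩
  have hsurj : Function.Surjective μ := by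
    intro b
    obtain ⟨z, m, hzm⟩ := hdec (φ b)
    have hb : b - μ z ∈ B := ⟨m, by
      show (1 : C) ⊗ₜ[A] m = φ (b - μ z)
      rw [map_sub, hzm]; abel⟩
    exact ⟨z + 1 ⊗ₜ ⟨_, hb⟩, by rw [map_add, hμ, map_one, one_mul]; simp⟩
  -- injectivity
  let K : Submodule A B := LinearMap.ker ψ.toLinearMap
  have hker : ∀ y : C ⊗[A] K, ∃ k₀ : K, LinearMap.lTensor C K.subtype y = 1 ⊗ₜ (k₀ : B) := by
    intro y
    induction y using TensorProduct.induction_on with
    | zero => exact ⟨0, by simp⟩
    | tmul c k₀ =>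
      obtain ⟨n, hn⟩ := hK (k₀ : B) (by
        rw [hψ, show ψ (k₀ : B) = 0 from k₀.2, tmul_zero])
      obtain ⟨a, ha⟩ := hsub n c
      refine ⟨a • k₀, ?_⟩
      have hzero : ∀ d, d ∈ (I ^ n).map (algebraMap A C) → d ⊗ₜ[A] (k₀ : B) = 0 := by
        intro d hd
        induction hd using Submodule.span_induction with
        | mem _ hy =>
          obtain ⟨a, ha, rfl⟩ := hy
          have : a • (k₀ : B) = 0 := Subtype.ext ((Algebra.smul_def a ((k₀ : B) : B')).trans (hn a ha))
          rw [Algebra.algebraMap_eq_smul_one, smul_tmul, this, tmul_zero]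
        | zero => rw [zero_tmul]
        | add y y' _ _ hy hy' => rw [add_tmul, hy, hy', add_zero]
        | smul c' y _ hy => rw [← smul_tmul', hy, smul_zero]
      rw [LinearMap.lTensor_tmul, Submodule.coe_smul, ← smul_tmul, Algebra.smul_def, mul_one]
      have := hzero _ ha
      rw [sub_tmul, sub_eq_zero] at this
      exact this
    | add x y hx hy =>
      obtain ⟨k, hk⟩ := hx
      obtain ⟨k', hk'⟩ := hy
      exact ⟨k + k', by rw [map_add, hk, hk', Submodule.coe_add, tmul_add]⟩
  have hinj : Function.Injective μ := by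
    rw [injective_iff_map_eq_zero]
    intro z hz
    have h1 : z ∈ Set.range (LinearMap.lTensor C K.subtype) :=
      (Module.Flat.lTensor_exact C (LinearMap.exact_subtype_ker_map ψ.toLinearMap) z).mp
        (by rw [← hψμ, hz, map_zero])
    obtain ⟨y, rfl⟩ := h1
    obtain ⟨k₀, hk₀⟩ := hker y
    rw [hk₀, hμ, map_one, one_mul] at hz
    rw [hk₀, show (k₀ : B) = 0 from Subtype.ext hz, tmul_zero]
  let e : C ⊗[A] B ≃ₐ[C] B' := AlgEquiv.ofBijective μ ⟨hinj, hsurj⟩
  have : Module.Finite C (C ⊗[A] B) := Module.Finite.equiv e.symm.toLinearEquiv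
  exact ⟨B, inferInstance, inferInstance, B.val, ψ,
    Module.Finite.of_finite_tensorProduct_of_faithfullyFlat C, ⟨hinj, hsurj⟩, hψ⟩

end Alg

variable {A C : Type u} [CommRing A] [IsLocalRing A] [IsNoetherianRing A] [CommRing C] [Algebra A C]
  [Module.FaithfullyFlat A C]

/-- The structure map to the spectrum. -/
noncomputable abbrev strOver (V : Over (FEt.puncturedSpec A : Scheme.{u})) :
    V.left ⟶ Spec (CommRingCat.of A) := V.hom ≫ (FEt.puncturedSpec A).ι

/-- `A → Γ(V)`. -/
noncomputable abbrev secOver (V : Over (FEt.puncturedSpec A : Scheme.{u})) : A →+* Γ(V.left, ⊤) :=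
  ((V.hom ≫ (FEt.puncturedSpec A).ι).appTop).hom.comp (Scheme.ΓSpecIso (CommRingCat.of A)).inv.hom

noncomputable instance secOverAlg (V : Over (FEt.puncturedSpec A : Scheme.{u})) :
    Algebra A Γ(V.left, ⊤) := (secOver V).toAlgebra

theorem compactSpace_over (V : Over (FEt.puncturedSpec A : Scheme.{u})) [IsFinite V.hom] :
    CompactSpace V.left :=
  have : CompactSpace (FEt.puncturedSpec A : Scheme.{u}) :=
    isCompact_iff_compactSpace.mp (NoetherianSpace.isCompact _)
  @QuasiCompact.compactSpace_of_compactSpace V.left (FEt.puncturedSpec A : Scheme.{u}) V.hom inferInstance this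

theorem isQuasiAffine_over (V : Over (FEt.puncturedSpec A : Scheme.{u})) [IsFinite V.hom] :
    V.left.IsQuasiAffine :=
  @Scheme.IsQuasiAffine.of_isAffineHom V.left (FEt.puncturedSpec A : Scheme.{u}) V.hom inferInstance
    isQuasiAffine_punctured

set_option backward.isDefEq.respectTransparency.types false in
/-- The sections of the base change of a cover are the base change of the sections. -/
theorem exists_tensor_equiv_over (V : Over (FEt.puncturedSpec A : Scheme.{u})) [IsFinite V.hom] :
    ∃ θ : C ⊗[A] Γ(V.left, ⊤) ≃+*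
        Γ(pullback V.hom (pullback.fst (FEt.puncturedSpec A).ι (descMap A C)), ⊤),
      (∀ c : C, θ (c ⊗ₜ 1) = (pullback.snd V.hom (pullback.fst (FEt.puncturedSpec A).ι (descMap A C)) ≫
          pullback.snd (FEt.puncturedSpec A).ι (descMap A C)).appTop
            ((Scheme.ΓSpecIso (CommRingCat.of C)).inv c)) ∧
      (∀ m, θ (1 ⊗ₜ m) =
        (pullback.fst V.hom (pullback.fst (FEt.puncturedSpec A).ι (descMap A C))).appTop m) := by
  let π := pullback.fst (FEt.puncturedSpec A).ι (descMap A C)
  let σ := pullback.snd (FEt.puncturedSpec A).ι (descMap A C)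
  let f' := pullback.fst V.hom π
  let s' := pullback.snd V.hom π ≫ σ
  have H : IsPullback f' s' (strOver V) (descMap A C) :=
    (IsPullback.of_hasPullback V.hom π).paste_vert (IsPullback.of_hasPullback _ _)
  have hc : CompactSpace V.left := compactSpace_over V
  have hqa := isQuasiAffine_over V
  have : CompactSpace ((𝟭 Scheme).obj V.left) := hc
  have : QuasiSeparatedSpace ((𝟭 Scheme).obj V.left) := (inferInstance : QuasiSeparatedSpace V.left)
  have : Flat (descMap A C) := (HasRingHomProperty.Spec_iff (P := @Flat)).mpr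
    (RingHom.flat_algebraMap_iff.mpr inferInstance)
  have hi := isIso_pushoutSection_of_isQuasiSeparated_of_flat_right H (US := ⊤) (UT := ⊤) (UX := ⊤)
    (UY := ⊤) le_rfl le_rfl (by simp) (isAffineOpen_top _) (isAffineOpen_top _) isCompact_univ
    isQuasiSeparated_univ
  have hp := (isIso_pushoutSection_iff H (US := ⊤) (UT := ⊤) (UX := ⊤) (UY := ⊤) le_rfl le_rfl
    (by simp)).mp hi
  simp only [Scheme.Hom.appLE, Scheme.Hom.preimage_top] at hp
  have hp' : IsPushout (CommRingCat.ofHom (secOver V)) (CommRingCat.ofHom (algebraMap A C))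
      f'.appTop ((Scheme.ΓSpecIso (CommRingCat.of C)).inv ≫ s'.appTop) := by
    refine hp.of_iso (Scheme.ΓSpecIso (CommRingCat.of A)) (Iso.refl _)
      (Scheme.ΓSpecIso (CommRingCat.of C)) (Iso.refl _) ?_ ?_ ?_ ?_
    · simp only [Iso.refl_hom, Category.comp_id]
      show _ = _ ≫ CommRingCat.ofHom (secOver V)
      rw [show CommRingCat.ofHom (secOver V) = (Scheme.ΓSpecIso (CommRingCat.of A)).inv ≫
        (strOver V).appTop from rfl, Iso.hom_inv_id_assoc]
      simp
    · show _ = _ ≫ CommRingCat.ofHom (algebraMap A C)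
      rw [← Scheme.ΓSpecIso_naturality]
      simp
    · simp only [Iso.refl_hom, Category.comp_id, Category.id_comp]
      simp
    · simp only [Iso.refl_hom, Category.comp_id]
      rw [Iso.hom_inv_id_assoc]
      simp
  have hq : IsPushout (CommRingCat.ofHom (secOver V)) (CommRingCat.ofHom (algebraMap A C))
      (CommRingCat.ofHom (Algebra.TensorProduct.includeRight (R := A) (A := C) (B := Γ(V.left, ⊤))).toRingHom)
      (CommRingCat.ofHom (Algebra.TensorProduct.includeLeftRingHom (R := A) (A := C) (B := Γ(V.left, ⊤)))) :=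
    (CommRingCat.isPushout_tensorProduct A C Γ(V.left, ⊤)).flip
  let e := hq.isoIsPushout _ _ hp'
  refine ⟨e.commRingCatIsoToRingEquiv, fun c => ?_, fun m => ?_⟩
  · have h := hq.inr_isoIsPushout_hom _ _ hp'
    exact congr($h c)
  · have h := hq.inl_isoIsPushout_hom _ _ hp'
    exact congr($h m)

set_option backward.isDefEq.respectTransparency.types false in
set_option maxHeartbeats 1000000 in
/-- A cover of the punctured spectrum extends if it extends after a faithfully flat base change
which is trivial modulo all powers of the maximal ideal. -/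
theorem exists_finite_of_baseChange
    (hsub : ∀ (k : ℕ) (c : C), ∃ a : A,
      c - algebraMap A C a ∈ (IsLocalRing.maximalIdeal A ^ k).map (algebraMap A C))
    (V : Over (FEt.puncturedSpec A : Scheme.{u})) [IsFinite V.hom] (B' : Type u) [CommRing B'] [Algebra C B']
    [Module.Finite C B']
    (h : pullback V.hom (pullback.fst (FEt.puncturedSpec A).ι (descMap A C)) ⟶ Spec (CommRingCat.of B'))
    (hh : IsPullback h (pullback.snd V.hom (pullback.fst (FEt.puncturedSpec A).ι (descMap A C)))
      (Spec.map (CommRingCat.ofHom (algebraMap C B')))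
      (pullback.snd (FEt.puncturedSpec A).ι (descMap A C))) :
    ∃ Y : Over (Spec (CommRingCat.of A)), IsFinite Y.hom ∧
      Nonempty ((Over.pullback (FEt.puncturedSpec A).ι).obj Y ≅ V) ∧
      Nonempty ((Over.pullback (descMap A C)).obj Y ≅
        Over.mk (Spec.map (CommRingCat.ofHom (algebraMap C B')))) := by
  let π := pullback.fst (FEt.puncturedSpec A).ι (descMap A C)
  let σ := pullback.snd (FEt.puncturedSpec A).ι (descMap A C)
  let f' := pullback.fst V.hom π
  let s' := pullback.snd V.hom π ≫ σ
  let y' : Spec (CommRingCat.of B') ⟶ Spec (CommRingCat.of C) :=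
    Spec.map (CommRingCat.ofHom (algebraMap C B'))
  let _ : Algebra A B' := ((algebraMap C B').comp (algebraMap A C)).toAlgebra
  have : IsScalarTower A C B' := .of_algebraMap_eq fun _ => rfl
  have hσ : IsOpenImmersion σ := MorphismProperty.pullback_snd (P := @IsOpenImmersion) _ _ inferInstance
  have hopen : IsOpenImmersion h := MorphismProperty.of_isPullback (P := @IsOpenImmersion) hh.flip hσ
  obtain ⟨θ, hθc, hθm⟩ := exists_tensor_equiv_over (C := C) V
  let β : B' →+* Γ(pullback V.hom π, ⊤) :=
    h.appTop.hom.comp (Scheme.ΓSpecIso (CommRingCat.of B')).inv.hom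
  have hβ : ∀ c, β (algebraMap C B' c) = θ (c ⊗ₜ 1) := fun c => by
    rw [hθc]
    have e := congr((Scheme.Hom.appTop $(hh.w)) ((Scheme.ΓSpecIso (CommRingCat.of C)).inv c))
    rw [Scheme.Hom.comp_appTop, Scheme.Hom.comp_appTop, CommRingCat.comp_apply,
      CommRingCat.comp_apply] at e
    refine Eq.trans ?_ e
    exact congrArg h.appTop congr($(Scheme.ΓSpecIso_inv_naturality
      (CommRingCat.ofHom (algebraMap C B'))) c)
  let φ : B' →ₐ[C] C ⊗[A] Γ(V.left, ⊤) :=
    { θ.symm.toRingHom.comp β with
      commutes' := fun c => by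
        show θ.symm (β (algebraMap C B' c)) = c ⊗ₜ 1
        rw [hβ, RingEquiv.symm_apply_apply] }
  have hφ : ∀ b, θ (φ b) = β b := fun b => θ.apply_symm_apply _
  have hcV : CompactSpace V.left := compactSpace_over V
  have hfst : QuasiCompact f' := by
    have : IsAffineHom (descMap A C) := isAffineHom_of_isAffine _
    have hπ : QuasiCompact π := MorphismProperty.pullback_fst (P := @QuasiCompact) _ _ inferInstance
    exact MorphismProperty.pullback_fst (P := @QuasiCompact) _ _ hπ
  have : CompactSpace (pullback V.hom π : Scheme.{u}) :=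
    @QuasiCompact.compactSpace_of_compactSpace _ V.left f' hfst hcV
  -- the inclusion hits the basic opens of the maximal ideal
  have hbas : ∀ g ∈ IsLocalRing.maximalIdeal A,
      (PrimeSpectrum.basicOpen (algebraMap A B' g) : (Spec (CommRingCat.of B')).Opens) ≤ h.opensRange ∧
      h ⁻¹ᵁ PrimeSpectrum.basicOpen (algebraMap A B' g) =
        (pullback V.hom π : Scheme.{u}).basicOpen (β (algebraMap A B' g)) := by
    intro g hg
    refine ⟨fun p hp => ?_, ?_⟩
    · have hp1 : (y' ≫ descMap A C) p ∈ Set.range (FEt.puncturedSpec A).ι := by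
        rw [Scheme.Opens.range_ι]
        exact basicOpen_le_punctured hg (show g ∉ ((y' ≫ descMap A C) p).asIdeal from hp)
      obtain ⟨u, hu⟩ := hp1
      obtain ⟨z, -, hz⟩ := Scheme.Pullback.exists_preimage_pullback u (y' p)
        (show (FEt.puncturedSpec A).ι u = descMap A C (y' p) from hu)
      obtain ⟨w, hw, -⟩ := Scheme.exists_preimage_of_isPullback hh p z hz.symm
      exact ⟨w, hw⟩
    · rw [← basicOpen_eq_of_affine (R := CommRingCat.of B'), Scheme.preimage_basicOpen_top]
      rfl
  have hrad : ∀ (S : Ideal A), (∀ g ∈ IsLocalRing.maximalIdeal A, g ∈ S.radical) →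
      ∃ k : ℕ, IsLocalRing.maximalIdeal A ^ k ≤ S := fun S hS =>
    Ideal.exists_pow_le_of_le_radical_of_fg hS (IsNoetherian.noetherian _)
  have hT : ∀ x : C ⊗[A] Γ(V.left, ⊤), ∃ k : ℕ, ∀ a ∈ IsLocalRing.maximalIdeal A ^ k,
      ∃ e, φ e = algebraMap A C a • x := by
    intro x
    let S : Ideal A :=
      { carrier := {a | ∃ e, φ e = algebraMap A C a • x}
        add_mem' := fun {a b} ⟨e, he⟩ ⟨e', he'⟩ => ⟨e + e', by rw [map_add, map_add, add_smul, he, he']⟩
        zero_mem' := ⟨0, by rw [map_zero, map_zero, zero_smul]⟩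
        smul_mem' := fun r a ⟨e, he⟩ => ⟨algebraMap C B' (algebraMap A C r) * e, by
          rw [smul_eq_mul, map_mul, map_mul, φ.commutes, mul_smul, he, ← Algebra.smul_def]⟩ }
    obtain ⟨k, hk⟩ := hrad S fun g hg => by
      obtain ⟨hb, hp⟩ := hbas g hg
      obtain ⟨n, e, he⟩ := (exists_pow_smul h (algebraMap A B' g) hb hp).1 (θ x)
      refine ⟨n, e, θ.injective ?_⟩
      rw [hφ, show β e = β (algebraMap A B' g) ^ n * θ x from he, ← hφ, ← map_pow θ, ← map_mul]
      congr 1
      rw [Algebra.smul_def, IsScalarTower.algebraMap_apply A C B', φ.commutes, ← map_pow, ← map_pow]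
    exact ⟨k, hk⟩
  have hK : ∀ b : B', φ b = 0 → ∃ k : ℕ, ∀ a ∈ IsLocalRing.maximalIdeal A ^ k,
      algebraMap A B' a * b = 0 := by
    intro b hb0
    let S : Ideal A :=
      { carrier := {a | algebraMap A B' a * b = 0}
        add_mem' := fun {a c} h₁ h₂ => by
          show algebraMap A B' (a + c) * b = 0
          rw [map_add, add_mul, h₁, h₂, add_zero]
        zero_mem' := by show algebraMap A B' 0 * b = 0; rw [map_zero, zero_mul]
        smul_mem' := fun r a h₁ => by
          show algebraMap A B' (r * a) * b = 0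
          rw [map_mul, mul_assoc, h₁, mul_zero] }
    obtain ⟨k, hk⟩ := hrad S fun g hg => by
      obtain ⟨hbo, hp⟩ := hbas g hg
      obtain ⟨n, hn⟩ := (exists_pow_smul h (algebraMap A B' g) hbo hp).2 b (by
        show β b = 0
        rw [← hφ, hb0, map_zero])
      exact ⟨n, show algebraMap A B' (g ^ n) * b = 0 by rw [map_pow]; exact hn⟩
    exact ⟨k, fun a ha => hk ha⟩
  obtain ⟨B, _, _, ι, ψ, _, hμ, hcompat⟩ :=
    exists_descended_algebra_finite (IsLocalRing.maximalIdeal A) hsub φ hT hK
  let y : Spec (CommRingCat.of B) ⟶ Spec (CommRingCat.of A) :=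
    Spec.map (CommRingCat.ofHom (algebraMap A B))
  let a : V.left ⟶ Spec (CommRingCat.of B) := V.left.toSpecΓ ≫ Spec.map (CommRingCat.ofHom ψ.toRingHom)
  let b' : Spec (CommRingCat.of B') ⟶ Spec (CommRingCat.of B) := Spec.map (CommRingCat.ofHom ι.toRingHom)
  have ha : a ≫ y = strOver V := by
    refine Eq.trans ?_ (eq_toSpecΓ_comp (strOver V)).symm
    rw [Category.assoc, ← Spec.map_comp]
    congr 2
    ext r
    exact ψ.commutes r
  have hab : f' ≫ a = h ≫ b' := by
    conv_rhs => rw [eq_toSpecΓ_comp h, Category.assoc, ← Spec.map_comp]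
    show f' ≫ V.left.toSpecΓ ≫ _ = _
    refine (Category.assoc _ _ _).symm.trans ((congrArg (· ≫ _) (Scheme.toSpecΓ_naturality f')).trans ?_)
    refine (Category.assoc _ _ _).trans ((congrArg (Scheme.toSpecΓ _ ≫ ·) (Spec.map_comp _ _).symm).trans ?_)
    congr 2
    ext r
    show f'.appTop (ψ r) = β (ι r)
    rw [← hθm, ← hφ, hcompat]
  -- the base change square of the descended algebra
  let _ : Algebra B B' := ι.toRingHom.toAlgebra
  have : IsScalarTower A B B' := .of_algebraMap_eq fun r => (ι.commutes r).symm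
  have hB : IsPullback b' y' y (descMap A C) := by
    have hpo : Algebra.IsPushout A C B B' := ⟨by
      have : IsScalarTower A C B' := inferInstance
      show IsBaseChange C (IsScalarTower.toAlgHom A B B').toLinearMap
      refine IsBaseChange.of_equiv (AlgEquiv.ofBijective _ hμ).toLinearEquiv fun x => ?_
      show Algebra.TensorProduct.lift (Algebra.ofId C B') ι (fun _ _ => .all _ _) ((1 : C) ⊗ₜ x) = algebraMap B B' x
      rw [Algebra.TensorProduct.lift_tmul, map_one, one_mul]
      rfl⟩
    exact isPullback_SpecMap_of_isPushout _ _ _ _ ((CommRingCat.isPushout_iff_isPushout.mpr hpo).flip)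
  let p : pullback y' σ ⟶ pullback y (FEt.puncturedSpec A).ι :=
    pullback.lift (pullback.fst y' σ ≫ b') (pullback.snd y' σ ≫ π) (by
      rw [Category.assoc, hB.w, pullback.condition_assoc, Category.assoc]
      exact congrArg (pullback.snd y' σ ≫ ·) pullback.condition.symm)
  have hbot : IsPullback p (pullback.snd y' σ) (pullback.snd y (FEt.puncturedSpec A).ι) π := by
    refine IsPullback.of_right (h₁₂ := pullback.fst y (FEt.puncturedSpec A).ι)
      (v₁₃ := y) (h₂₂ := (FEt.puncturedSpec A).ι) ?_ (pullback.lift_snd _ _ _)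
      (IsPullback.of_hasPullback _ _)
    rw [pullback.lift_fst, show π ≫ (FEt.puncturedSpec A).ι = σ ≫ descMap A C from pullback.condition]
    exact (IsPullback.of_hasPullback y' σ).paste_horiz hB
  let c : V.left ⟶ pullback y (FEt.puncturedSpec A).ι := pullback.lift a V.hom ha
  have hc : c ≫ pullback.snd y (FEt.puncturedSpec A).ι = V.hom := pullback.lift_snd _ _ _
  have htop : IsPullback f' hh.isoPullback.hom c p := by
    refine IsPullback.of_bot ?_ ?_ hbot
    · rw [hh.isoPullback_hom_snd, hc]
      exact IsPullback.of_hasPullback V.hom π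
    · apply pullback.hom_ext
      · rw [Category.assoc, pullback.lift_fst, Category.assoc, pullback.lift_fst,
          hh.isoPullback_hom_fst_assoc, hab]
      · rw [Category.assoc, pullback.lift_snd, Category.assoc, pullback.lift_snd,
          hh.isoPullback_hom_snd_assoc]
        exact pullback.condition
  have : Flat (descMap A C) := (HasRingHomProperty.Spec_iff (P := @Flat)).mpr
    (RingHom.flat_algebraMap_iff.mpr inferInstance)
  have : Surjective (descMap A C) := ⟨PrimeSpectrum.comap_surjective_of_faithfullyFlat (A := A) (B := C)⟩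
  have : IsAffineHom (descMap A C) := isAffineHom_of_isAffine _
  have hπ : (@Surjective ⊓ @Flat ⊓ @QuasiCompact : MorphismProperty Scheme.{u}) π :=
    ⟨⟨MorphismProperty.pullback_fst (P := @Surjective) _ _ ‹_›,
      MorphismProperty.pullback_fst (P := @Flat) _ _ ‹_›⟩,
      MorphismProperty.pullback_fst (P := @QuasiCompact) _ _ inferInstance⟩
  have hp : (@Surjective ⊓ @Flat ⊓ @QuasiCompact : MorphismProperty Scheme.{u}) p :=
    MorphismProperty.of_isPullback hbot.flip hπ
  have hcI : IsIso c := MorphismProperty.of_isPullback_of_descendsAlong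
    (P := MorphismProperty.isomorphisms Scheme.{u})
    (Q := @Surjective ⊓ @Flat ⊓ @QuasiCompact) htop.flip hp (inferInstanceAs (IsIso _))
  exact ⟨Over.mk y, (IsFinite.SpecMap_iff _).mpr (RingHom.finite_algebraMap.mpr ‹_›),
    ⟨(Over.isoMk (@asIso _ _ _ _ c hcI) hc : V ≅ (Over.pullback (FEt.puncturedSpec A).ι).obj (Over.mk y)).symm⟩,
    ⟨Over.isoMk hB.isoPullback.symm hB.isoPullback_inv_snd⟩⟩


end Groth.Agent.Pure83
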