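import Groth.Agent.Pure83.GlueVanish
import Mathlib.RingTheory.Localization.Away.Basic
import Mathlib.RingTheory.Localization.Module

/-!
# The ring of compatible sections over the basic opens of a family
-/

universe u

namespace Groth.Agent.Pure83.GlueRing

set_option linter.unusedSectionVars false

variable {A : Type u} [CommRing A] {ι : Type} (g : ι → A) (S : Type u) [CommRing S] [Algebra A S]

/-- The sections over the `i`-th basic open. -/
abbrev Piece (i : ι) : Type u := Localization.Away (algebraMap A S (g i))

/-- The sections over the intersection of two basic opens. -/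
abbrev Piece₂ (i j : ι) : Type u := Localization.Away (algebraMap A S (g i * g j))

theorem isUnit_left (i j : ι) : IsUnit (algebraMap S (Piece₂ g S i j) (algebraMap A S (g i))) :=
  isUnit_of_dvd_unit (map_dvd _ (map_dvd _ (Dvd.intro (g j) rfl)))
    (IsLocalization.Away.algebraMap_isUnit (algebraMap A S (g i * g j)))

theorem isUnit_right (i j : ι) : IsUnit (algebraMap S (Piece₂ g S i j) (algebraMap A S (g j))) :=
  isUnit_of_dvd_unit (map_dvd _ (map_dvd _ (Dvd.intro_left (g i) rfl)))
    (IsLocalization.Away.algebraMap_isUnit (algebraMap A S (g i * g j)))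

/-- Restriction from the left. -/
noncomputable def left (i j : ι) : Piece g S i →ₐ[A] Piece₂ g S i j :=
  IsLocalization.liftAlgHom (M := Submonoid.powers (algebraMap A S (g i)))
    (f := IsScalarTower.toAlgHom A S (Piece₂ g S i j)) fun ⟨_, k, e⟩ => by
      subst e
      rw [IsScalarTower.coe_toAlgHom', map_pow]
      exact (isUnit_left g S i j).pow k

/-- Restriction from the right. -/
noncomputable def right (i j : ι) : Piece g S j →ₐ[A] Piece₂ g S i j :=
  IsLocalization.liftAlgHom (M := Submonoid.powers (algebraMap A S (g j)))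
    (f := IsScalarTower.toAlgHom A S (Piece₂ g S i j)) fun ⟨_, k, e⟩ => by
      subst e
      rw [IsScalarTower.coe_toAlgHom', map_pow]
      exact (isUnit_right g S i j).pow k

theorem left_algebraMap (i j : ι) (s : S) :
    left g S i j (algebraMap S (Piece g S i) s) = algebraMap S (Piece₂ g S i j) s :=
  IsLocalization.lift_eq _ s

theorem right_algebraMap (i j : ι) (s : S) :
    right g S i j (algebraMap S (Piece g S j) s) = algebraMap S (Piece₂ g S i j) s :=
  IsLocalization.lift_eq _ s

theorem isUnit_piece (i : ι) : IsUnit (algebraMap A (Piece g S i) (g i)) := by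
  rw [IsScalarTower.algebraMap_apply A S (Piece g S i)]
  exact IsLocalization.Away.algebraMap_isUnit _

theorem smul_cancel (i : ι) (k : ℕ) {x y : Piece g S i} (h : g i ^ k • x = g i ^ k • y) : x = y := by
  rw [Algebra.smul_def, Algebra.smul_def, map_pow] at h
  exact ((isUnit_piece g S i).pow k).mul_left_cancel h

theorem exists_num (i : ι) (x : Piece g S i) :
    ∃ (k : ℕ) (s : S), algebraMap S (Piece g S i) s = g i ^ k • x := by
  obtain ⟨⟨s, ⟨_, k, rfl⟩⟩, h⟩ := IsLocalization.surj (Submonoid.powers (algebraMap A S (g i))) x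
  refine ⟨k, s, ?_⟩
  rw [Algebra.smul_def, map_pow, IsScalarTower.algebraMap_apply A S (Piece g S i), ← h, map_pow, mul_comm]

theorem exists_pow_of_eq_zero (i : ι) {s : S} (h : algebraMap S (Piece g S i) s = 0) :
    ∃ k : ℕ, g i ^ k • s = 0 := by
  obtain ⟨⟨_, k, rfl⟩, hk⟩ :=
    (IsLocalization.map_eq_zero_iff (Submonoid.powers (algebraMap A S (g i))) (Piece g S i) s).mp h
  exact ⟨k, by rw [Algebra.smul_def, map_pow]; exact hk⟩

/-- The compatible sections. -/
noncomputable def glueSub : Subalgebra A (∀ i, Piece g S i) where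
  carrier := {x | ∀ i j, left g S i j (x i) = right g S i j (x j)}
  mul_mem' hx hy i j := by simp only [Pi.mul_apply, map_mul, hx i j, hy i j]
  add_mem' hx hy i j := by simp only [Pi.add_apply, map_add, hx i j, hy i j]
  algebraMap_mem' a i j := by simp only [Pi.algebraMap_apply, AlgHom.commutes]

/-- Restriction of global sections. -/
noncomputable def toGlue : S →ₐ[A] glueSub g S :=
  (AlgHom.pi fun i => IsScalarTower.toAlgHom A S (Piece g S i)).codRestrict _ fun s i j => by
    show left g S i j (algebraMap S (Piece g S i) s) = right g S i j (algebraMap S (Piece g S j) s)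
    rw [left_algebraMap, right_algebraMap]

theorem toGlue_apply (s : S) (i : ι) :
    (toGlue g S s : ∀ i, Piece g S i) i = algebraMap S (Piece g S i) s := rfl

theorem toGlue_eq_zero_iff (s : S) : toGlue g S s = 0 ↔ ∀ i, ∃ k : ℕ, g i ^ k • s = 0 := by
  refine ⟨fun h i => exists_pow_of_eq_zero g S i (congrArg (fun x : glueSub g S => (x : ∀ i, Piece g S i) i) h),
    fun h => Subtype.ext (funext fun i => ?_)⟩
  obtain ⟨k, hk⟩ := h i
  refine smul_cancel g S i k ?_
  show g i ^ k • algebraMap S (Piece g S i) s = g i ^ k • (0 : Piece g S i)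
  rw [smul_zero, ← IsScalarTower.coe_toAlgHom' A S (Piece g S i), ← map_smul, hk, map_zero]

theorem sepMod : SepMod g (glueSub g S) := fun x hx => Subtype.ext (funext fun i => by
  obtain ⟨k, hk⟩ := hx i
  refine smul_cancel g S i k ?_
  exact (congrArg (fun x : glueSub g S => (x : ∀ i, Piece g S i) i) hk).trans (smul_zero _).symm)

theorem glueMod : GlueMod g (glueSub g S) := by
  intro k a ha
  let inv := fun i => ((isUnit_piece g S i).pow k).unit⁻¹.1
  have hinv : ∀ i (z : Piece g S i), g i ^ k • (inv i * z) = z := fun i z => by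
    rw [Algebra.smul_def, map_pow, ← mul_assoc, IsUnit.mul_val_inv, one_mul]
  let x : ∀ i, Piece g S i := fun i => inv i * (a i : ∀ i, Piece g S i) i
  have hcomp : ∀ i j, g j ^ k • (a i : ∀ i, Piece g S i) i = g i ^ k • (a j : ∀ i, Piece g S i) i :=
    fun i j => congrArg (fun x : glueSub g S => (x : ∀ i, Piece g S i) i) (ha i j)
  have hx : x ∈ glueSub g S := fun i j => by
    have hu : IsUnit (algebraMap A (Piece₂ g S i j) (g i ^ k * g j ^ k)) := by
      have e : ∀ c : A, algebraMap A (Piece₂ g S i j) c = algebraMap S (Piece₂ g S i j) (algebraMap A S c) :=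
        fun c => IsScalarTower.algebraMap_apply A S (Piece₂ g S i j) c
      have hl : IsUnit (algebraMap A (Piece₂ g S i j) (g i)) := (e (g i)).symm ▸ isUnit_left g S i j
      have hr : IsUnit (algebraMap A (Piece₂ g S i j) (g j)) := (e (g j)).symm ▸ isUnit_right g S i j
      have hm : algebraMap A (Piece₂ g S i j) (g i ^ k * g j ^ k) =
          algebraMap A (Piece₂ g S i j) (g i) ^ k * algebraMap A (Piece₂ g S i j) (g j) ^ k :=
        ((algebraMap A (Piece₂ g S i j)).map_mul _ _).trans
          (congrArg₂ (· * ·) ((algebraMap A (Piece₂ g S i j)).map_pow _ _) ((algebraMap A (Piece₂ g S i j)).map_pow _ _))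
      exact hm.symm ▸ (hl.pow k).mul (hr.pow k)
    refine hu.mul_left_cancel ?_
    rw [← Algebra.smul_def, ← Algebra.smul_def, ← map_smul, ← map_smul]
    show left g S i j ((g i ^ k * g j ^ k) • x i) = right g S i j ((g i ^ k * g j ^ k) • x j)
    rw [mul_comm (g i ^ k) (g j ^ k), mul_smul, hinv, hcomp, map_smul, (a j).2 i j, ← map_smul,
      mul_comm (g j ^ k), mul_smul, hinv]
  refine ⟨⟨x, hx⟩, fun i => Subtype.ext (funext fun j => smul_cancel g S j k ?_)⟩
  show g j ^ k • g i ^ k • x j = g j ^ k • (a i : ∀ i, Piece g S i) j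
  rw [smul_comm, hinv]
  exact (congrArg (fun x : glueSub g S => (x : ∀ i, Piece g S i) j) (ha i j)).symm

theorem exists_toGlue [Finite ι] (x : glueSub g S) (i : ι) :
    ∃ (k : ℕ) (s : S), toGlue g S s = g i ^ k • x := by
  obtain ⟨k, s, hs⟩ := exists_num g S i ((x : ∀ i, Piece g S i) i)
  have hj : ∀ j, ∃ N : ℕ, g i ^ N • (algebraMap S (Piece g S j) s - g i ^ k • (x : ∀ i, Piece g S i) j) = 0 := by
    intro j
    obtain ⟨l, c, hc⟩ := exists_num g S j (algebraMap S (Piece g S j) s - g i ^ k • (x : ∀ i, Piece g S i) j)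
    have h0 : algebraMap S (Piece₂ g S i j) c = 0 := by
      rw [← right_algebraMap, hc, map_smul, map_sub, right_algebraMap, map_smul, ← x.2 i j, ← map_smul,
        ← hs, left_algebraMap, sub_self, smul_zero]
    obtain ⟨⟨_, N, rfl⟩, hN⟩ := (IsLocalization.map_eq_zero_iff
      (Submonoid.powers (algebraMap A S (g i * g j))) (Piece₂ g S i j) c).mp h0
    refine ⟨N, smul_cancel g S j (N + l) ?_⟩
    rw [smul_zero, pow_add, mul_smul, smul_comm (g j ^ l), ← hc, smul_smul, ← mul_pow, mul_comm (g j),
      ← IsScalarTower.coe_toAlgHom' A S (Piece g S j), ← map_smul, Algebra.smul_def, map_pow]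
    exact (congrArg _ hN).trans (map_zero _)
  choose N hN using hj
  obtain ⟨K, hK⟩ := Finite.exists_le N
  refine ⟨K + k, g i ^ K • s, Subtype.ext (funext fun j => ?_)⟩
  show algebraMap S (Piece g S j) (g i ^ K • s) = g i ^ (K + k) • (x : ∀ i, Piece g S i) j
  rw [← IsScalarTower.coe_toAlgHom' A S (Piece g S j), map_smul, IsScalarTower.coe_toAlgHom', pow_add,
    mul_smul, ← sub_eq_zero, ← smul_sub, ← Nat.sub_add_cancel (hK j), pow_add, mul_smul, hN, smul_zero]

variable {S} {S' : Type u} [CommRing S'] [Algebra A S'] (φ : S →ₐ[A] S')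

/-- The map of pieces. -/
noncomputable def pieceMap (i : ι) : Piece g S i →ₐ[A] Piece g S' i :=
  IsLocalization.liftAlgHom (M := Submonoid.powers (algebraMap A S (g i)))
    (f := (IsScalarTower.toAlgHom A S' (Piece g S' i)).comp φ) fun ⟨_, k, e⟩ => by
      subst e
      rw [AlgHom.comp_apply, map_pow, AlgHom.commutes, IsScalarTower.coe_toAlgHom', map_pow,
        ← IsScalarTower.algebraMap_apply]
      exact (isUnit_piece g S' i).pow k

theorem pieceMap_algebraMap (i : ι) (s : S) :
    pieceMap g φ i (algebraMap S (Piece g S i) s) = algebraMap S' (Piece g S' i) (φ s) :=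
  IsLocalization.lift_eq _ s

/-- The map of pieces over intersections. -/
noncomputable def piece₂Map (i j : ι) : Piece₂ g S i j →ₐ[A] Piece₂ g S' i j :=
  IsLocalization.liftAlgHom (M := Submonoid.powers (algebraMap A S (g i * g j)))
    (f := (IsScalarTower.toAlgHom A S' (Piece₂ g S' i j)).comp φ) fun ⟨_, k, e⟩ => by
      subst e
      rw [AlgHom.comp_apply, map_pow, AlgHom.commutes, IsScalarTower.coe_toAlgHom', map_pow]
      exact (IsLocalization.Away.algebraMap_isUnit _).pow k

theorem piece₂Map_left (i j : ι) (x : Piece g S i) :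
    piece₂Map g φ i j (left g S i j x) = left g S' i j (pieceMap g φ i x) := by
  refine DFunLike.congr_fun (IsLocalization.algHom_ext
    (Submonoid.powers (algebraMap A S (g i))) (f := (piece₂Map g φ i j).comp (left g S i j))
      (g := (left g S' i j).comp (pieceMap g φ i)) (AlgHom.ext fun s => ?_)) x
  show piece₂Map g φ i j (left g S i j (algebraMap S (Piece g S i) s)) =
    left g S' i j (pieceMap g φ i (algebraMap S (Piece g S i) s))
  rw [left_algebraMap, pieceMap_algebraMap, left_algebraMap]
  exact IsLocalization.lift_eq _ s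

theorem piece₂Map_right (i j : ι) (x : Piece g S j) :
    piece₂Map g φ i j (right g S i j x) = right g S' i j (pieceMap g φ j x) := by
  refine DFunLike.congr_fun (IsLocalization.algHom_ext
    (Submonoid.powers (algebraMap A S (g j))) (f := (piece₂Map g φ i j).comp (right g S i j))
      (g := (right g S' i j).comp (pieceMap g φ j)) (AlgHom.ext fun s => ?_)) x
  show piece₂Map g φ i j (right g S i j (algebraMap S (Piece g S j) s)) =
    right g S' i j (pieceMap g φ j (algebraMap S (Piece g S j) s))
  rw [right_algebraMap, pieceMap_algebraMap, right_algebraMap]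
  exact IsLocalization.lift_eq _ s

/-- Functoriality of the compatible sections. -/
noncomputable def glueMap : glueSub g S →ₐ[A] glueSub g S' :=
  (AlgHom.pi fun i => (pieceMap g φ i).comp ((Pi.evalAlgHom A (fun i => Piece g S i) i).comp
    (glueSub g S).val)).codRestrict _ fun x i j => by
    show left g S' i j (pieceMap g φ i ((x : ∀ i, Piece g S i) i)) =
      right g S' i j (pieceMap g φ j ((x : ∀ i, Piece g S i) j))
    rw [← piece₂Map_left, ← piece₂Map_right, x.2 i j]

theorem glueMap_apply (x : glueSub g S) (i : ι) :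
    (glueMap g φ x : ∀ i, Piece g S' i) i = pieceMap g φ i ((x : ∀ i, Piece g S i) i) := rfl

theorem glueMap_toGlue (s : S) : glueMap g φ (toGlue g S s) = toGlue g S' (φ s) :=
  Subtype.ext (funext fun i => pieceMap_algebraMap g φ i s)

end Groth.Agent.Pure83.GlueRing
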