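import Groth.Agent.Pure83.BaseTower

/-!
# Sections of the cover at one stage: transition maps, coordinates and a finite subalgebra
-/

universe u

open CategoryTheory AlgebraicGeometry TopologicalSpace Opposite TensorProduct

namespace Groth.Agent.Pure83.GlueStage

open GlueRing BaseTower

set_option linter.unusedSectionVars false

variable {A : Type u} [CommRing A] [IsLocalRing A] [IsNoetherianRing A] {f : A}
  [hR : ∀ n, IsLocalRing (Rn f n)] (Y0 : FEt.Cat (Un f 0)) {r : ℕ} (g : Fin r → A)

/-- From a stage to the bottom stage. -/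
noncomputable def toBot : ∀ n, Mn Y0 n →ₐ[A] Mn Y0 0
  | 0 => AlgHom.id A _
  | n + 1 => (toBot n).comp (pn Y0 n)

theorem toBot_succ (n : ℕ) (x : Mn Y0 (n + 1)) : toBot Y0 (n + 1) x = toBot Y0 n (pn Y0 n x) := rfl

variable {Y0 g}

theorem mem_image (hg : Ideal.span (Set.range g) = IsLocalRing.maximalIdeal A) (n : ℕ) (i : Fin r) :
    Ideal.Quotient.mk (Jn f n) (g i) ∈ IsLocalRing.maximalIdeal (Rn f n) :=
  (span_image (f := f) hg n).le
    (Ideal.subset_span (Set.mem_range_self (f := fun i => Ideal.Quotient.mk (Jn f n) (g i)) i))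

theorem mn_lsurj (hg : Ideal.span (Set.range g) = IsLocalRing.maximalIdeal A) (n : ℕ) (x : Mn Y0 n)
    (i : Fin r) : ∃ (k : ℕ) (y : Mn Y0 (n + 1)), pn Y0 n y = g i ^ k • x := by
  obtain ⟨k, y, hy⟩ := (isReduction_coverMap Y0 n).loc_surjective _ (mem_image hg (n + 1) i) x
  refine ⟨k, y, ?_⟩
  rw [pn_apply, hy, Algebra.smul_def, map_pow]
  rfl

theorem mn_lker (hg : Ideal.span (Set.range g) = IsLocalRing.maximalIdeal A) (n : ℕ) (y : Mn Y0 (n + 1))
    (hy : pn Y0 n y = 0) (i : Fin r) :
    ∃ (k : ℕ) (z : Mn Y0 (n + 1)), g i ^ k • y = f ^ (n + 1) • z := by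
  obtain ⟨k, hk⟩ := (isReduction_coverMap Y0 n).loc_kernel _ (mem_image hg (n + 1) i) y hy
  rw [Ideal.Quotient.factor_ker, Jn_eq f n, Ideal.map_span, Set.image_singleton, Ideal.map_span,
    Set.image_singleton, Ideal.mem_span_singleton'] at hk
  obtain ⟨z, hz⟩ := hk
  refine ⟨k, z, ?_⟩
  rw [Algebra.smul_def, Algebra.smul_def, map_pow]
  exact hz.symm.trans (mul_comm _ _)

theorem exists_lift_bot (hg : Ideal.span (Set.range g) = IsLocalRing.maximalIdeal A) (n : ℕ) (x : Mn Y0 0)
    (i : Fin r) : ∃ (k : ℕ) (y : Mn Y0 n), toBot Y0 n y = g i ^ k • x := by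
  induction n with
  | zero => exact ⟨0, x, by rw [pow_zero, one_smul]; rfl⟩
  | succ n ih =>
    obtain ⟨k, y, hy⟩ := ih
    obtain ⟨l, y', hy'⟩ := mn_lsurj hg n y i
    refine ⟨l + k, y', ?_⟩
    rw [toBot_succ, hy', map_smul, hy, smul_smul, ← pow_add]

theorem exists_eq_smul_of_toBot (hg : Ideal.span (Set.range g) = IsLocalRing.maximalIdeal A) (n : ℕ)
    (y : Mn Y0 n) (hy : toBot Y0 n y = 0) (i : Fin r) :
    ∃ (k : ℕ) (z : Mn Y0 n), g i ^ k • y = f • z := by
  induction n with
  | zero => exact ⟨0, 0, by rw [pow_zero, one_smul, smul_zero]; exact hy⟩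
  | succ n ih =>
    obtain ⟨k, z, hz⟩ := ih (pn Y0 n y) hy
    obtain ⟨l, z', hz'⟩ := mn_lsurj hg n z i
    obtain ⟨m, w, hw⟩ := mn_lker hg n (g i ^ (l + k) • y - f • z') (by
      rw [map_sub, map_smul, map_smul, hz', pow_add, mul_smul, hz, smul_comm, sub_self]) i
    refine ⟨m + (l + k), g i ^ m • z' + f ^ n • w, ?_⟩
    rw [smul_sub, smul_smul, ← pow_add, sub_eq_iff_eq_add] at hw
    rw [hw, smul_add, smul_smul f (f ^ n), show f * f ^ n = f ^ (n + 1) from (pow_succ' f n).symm,
      smul_comm (g i ^ m) f, add_comm (f ^ (n + 1) • w)]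

theorem exists_coord (hg : Ideal.span (Set.range g) = IsLocalRing.maximalIdeal A) (n : ℕ) (i : Fin r) :
    ∃ (d K : ℕ) (γ : Mn Y0 n →ₗ[A] (Fin d → Localization.Away (Ideal.Quotient.mk (Jn f n) (g i))))
      (E : Fin d → Mn Y0 n),
      ∀ (z : Mn Y0 n) (e : ℕ) (a : Fin d → A),
        (∀ j, g i ^ e • γ z j =
          algebraMap (Rn f n) (Localization.Away (Ideal.Quotient.mk (Jn f n) (g i))) (Ideal.Quotient.mk _ (a j))) →
        ∃ l, g i ^ l • (g i ^ (e + K) • z - ∑ j, a j • E j) = 0 := by
  classical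
  let R := Rn f n
  let M := Mn Y0 n
  let c : R := Ideal.Quotient.mk _ (g i)
  have hc : c ∈ IsLocalRing.maximalIdeal R := mem_image hg n i
  have hsec := isSectionRing_mn Y0 hg n
  let Rc := Localization.Away c
  let Tc := Localization.Away (algebraMap R M c)
  let _ := (awayStr R M c).toAlgebra
  have : Module.Flat Rc Tc := hsec.flat c hc
  have : Module.Finite Rc Tc :=
    RingHom.finite_algebraMap.mp (show (awayStr R M c).Finite from hsec.finite c hc)
  have : Module.FinitePresentation Rc Tc := Module.finitePresentation_of_finite Rc Tc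
  have : Module.Projective Rc Tc := Module.Flat.projective_of_finitePresentation
  obtain ⟨d, p, s, -, -, hps⟩ := Module.Finite.exists_comp_eq_id_of_projective Rc Tc
  have hstr : ∀ a : A, algebraMap Rc Tc (algebraMap R Rc (Ideal.Quotient.mk _ a)) =
      algebraMap M Tc (algebraMap A M a) := fun a =>
    (IsLocalization.map_eq (Q := Tc) (S := Rc) (M := Submonoid.powers c) _ _ :
      awayStr R M c (algebraMap R Rc (Ideal.Quotient.mk _ a)) = _)
  have hA : ∀ (a : A) (v : Rc), a • v = algebraMap R Rc (Ideal.Quotient.mk _ a) * v := fun a v => by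
    rw [Algebra.smul_def, IsScalarTower.algebraMap_apply A R Rc]; rfl
  let γ : M →ₗ[A] (Fin d → Rc) :=
    { toFun := fun m => s (algebraMap M Tc m)
      map_add' := fun m m' => by rw [map_add, map_add]
      map_smul' := fun a m => funext fun j => by
        rw [RingHom.id_apply, Pi.smul_apply, hA, Algebra.smul_def a m, map_mul, ← hstr, ← Algebra.smul_def,
          map_smul, Pi.smul_apply, smul_eq_mul] }
  choose num hnum using fun j => IsLocalization.surj (Submonoid.powers (algebraMap R M c)) (p (Pi.single j 1))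
  choose kk hkk using fun j => (num j).2.2
  obtain ⟨K, hK⟩ := Finite.exists_le kk
  let E : Fin d → M := fun j => g i ^ (K - kk j) • (num j).1
  have hG : ∀ (b : ℕ) (v : Tc),
      algebraMap M Tc (algebraMap A M (g i)) ^ b * v = algebraMap Rc Tc (algebraMap R Rc c) ^ b * v :=
    fun b v => by rw [hstr]
  have hE : ∀ j, algebraMap M Tc (E j) =
      algebraMap M Tc (algebraMap A M (g i)) ^ K * p (Pi.single j 1) := fun j => by
    show algebraMap M Tc (g i ^ (K - kk j) • (num j).1) = _
    rw [Algebra.smul_def, map_mul, ← hnum j, map_pow, map_pow]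
    rw [show algebraMap M Tc ((num j).2 : M) = algebraMap M Tc (algebraMap A M (g i)) ^ kk j by
      rw [← map_pow, ← hkk j]; rfl]
    rw [mul_left_comm, ← pow_add, Nat.sub_add_cancel (hK j), mul_comm]
  refine ⟨d, K, γ, E, fun z e a ha => ?_⟩
  have h0 : algebraMap M Tc (g i ^ (e + K) • z - ∑ j, a j • E j) = 0 := by
    rw [map_sub, sub_eq_zero, map_sum]
    have hz : algebraMap M Tc z = ∑ j, s (algebraMap M Tc z) j • p (Pi.single j 1) := by
      conv_lhs => rw [show algebraMap M Tc z = p (s (algebraMap M Tc z)) from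
        (LinearMap.congr_fun hps _).symm, pi_eq_sum_univ' (s (algebraMap M Tc z)), map_sum]
      exact Finset.sum_congr rfl fun j _ => map_smul p _ _
    rw [Algebra.smul_def, map_mul, map_pow, map_pow, hz, Finset.mul_sum]
    refine Finset.sum_congr rfl fun j _ => ?_
    have hb : algebraMap R Rc (Ideal.Quotient.mk _ (a j)) = g i ^ e • s (algebraMap M Tc z) j := (ha j).symm
    rw [Algebra.smul_def (a j) (E j), map_mul, hE, ← hstr, ← hstr, hb, hA, map_mul, map_pow, map_pow, map_pow,
      hstr, Algebra.smul_def, pow_add]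
    ring
  obtain ⟨⟨_, l, rfl⟩, hl⟩ :=
    (IsLocalization.map_eq_zero_iff (Submonoid.powers (algebraMap R M c)) Tc _).mp h0
  exact ⟨l, by rw [Algebra.smul_def, map_pow]; exact hl⟩

theorem exists_lattice (hg : Ideal.span (Set.range g) = IsLocalRing.maximalIdeal A) (n : ℕ) :
    ∃ L : Subalgebra A (Mn Y0 n), Module.Finite A L ∧ ∀ (x : Mn Y0 n) i, ∃ l : ℕ, g i ^ l • x ∈ L := by
  classical
  let R := Rn f n
  let M := Mn Y0 n
  have : IsScalarTower A R M := IsScalarTower.of_algebraMap_eq fun _ => rfl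
  have : Module.Finite A R := Module.Finite.of_surjective (Algebra.linearMap A R) Ideal.Quotient.mk_surjective
  have hsec := isSectionRing_mn Y0 hg n
  choose S hS using hsec.exists_span (mem_image hg n)
  have hint : ∀ (i : Fin r) (s : M), ∃ e : ℕ, IsIntegral A (g i ^ e • s) := by
    intro i s
    let c : R := Ideal.Quotient.mk _ (g i)
    let Rc := Localization.Away c
    let Tc := Localization.Away (algebraMap R M c)
    let _ := (awayStr R M c).toAlgebra
    have : IsScalarTower R Rc Tc := IsScalarTower.of_algebraMap_eq fun a => by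
      rw [IsScalarTower.algebraMap_apply R M Tc]
      exact ((IsLocalization.map_eq (Q := Tc) (S := Rc) (M := Submonoid.powers c) _ a) :
        (awayStr R M c) (algebraMap R Rc a) = _).symm
    have : Module.Finite Rc Tc :=
      RingHom.finite_algebraMap.mp (show (awayStr R M c).Finite from hsec.finite c (mem_image hg n i))
    obtain ⟨⟨_, e, rfl⟩, he⟩ := IsIntegral.exists_multiple_integral_of_isLocalization (R := R)
      (Submonoid.powers c) (Rₘ := Rc) (algebraMap M Tc s) (Algebra.IsIntegral.isIntegral _)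
    have he' : IsIntegral A (algebraMap M Tc (g i ^ e • s)) := by
      refine isIntegral_trans (R := A) (A := R) _ ?_
      rw [Algebra.smul_def, map_mul, map_pow, map_pow]
      rw [Submonoid.smul_def, Algebra.smul_def, map_pow, IsScalarTower.algebraMap_apply R M Tc] at he
      exact he
    have he'' : IsIntegral A (algebraMap M Tc (g i ^ (e + 1) • s)) := by
      rw [pow_succ', mul_smul, Algebra.smul_def, map_mul, ← IsScalarTower.algebraMap_apply]
      exact isIntegral_algebraMap.mul he'
    obtain ⟨P, hP, hPe⟩ := he''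
    let y : M := g i ^ (e + 1) • s
    have h0 : algebraMap M Tc (Polynomial.aeval y P) = 0 := by
      rw [← Polynomial.aeval_algebraMap_apply]
      exact hPe
    obtain ⟨⟨_, l, rfl⟩, hl⟩ := (IsLocalization.map_eq_zero_iff (Submonoid.powers (algebraMap R M c)) Tc _).mp h0
    refine ⟨e + 1, Polynomial.X ^ l * P, (Polynomial.monic_X_pow l).mul hP, ?_⟩
    show Polynomial.aeval y (Polynomial.X ^ l * P) = 0
    rw [map_mul, map_pow, Polynomial.aeval_X, show y = algebraMap A M (g i) * (g i ^ e • s) by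
      rw [← Algebra.smul_def, smul_smul, ← pow_succ'], mul_pow, mul_right_comm]
    rw [show y = algebraMap A M (g i) * (g i ^ e • s) by
      rw [← Algebra.smul_def, smul_smul, ← pow_succ']] at hl
    exact (congrArg (· * (g i ^ e • s) ^ l) hl).trans (zero_mul _)
  choose e he using hint
  let G : Set M := ⋃ i, (fun s => g i ^ e i s • s) '' (S i : Set M)
  have hfin : G.Finite := Set.finite_iUnion fun i => (S i).finite_toSet.image _
  refine ⟨Algebra.adjoin A G, Algebra.finite_adjoin_of_finite_of_isIntegral hfin ?_, fun x i => ?_⟩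
  · intro y hy
    obtain ⟨i, hy⟩ := Set.mem_iUnion.mp hy
    obtain ⟨s, -, rfl⟩ := hy
    exact he i s
  obtain ⟨k, hk⟩ := hS i x
  refine ⟨(S i).sup (e i) + k, ?_⟩
  rw [pow_add, mul_smul]
  have hx : g i ^ k • x = Ideal.Quotient.mk (Jn f n) (g i) ^ k • x := by
    rw [smul_mn, map_pow]; rfl
  rw [hx]
  suffices h : ∀ z ∈ Submodule.span R (S i : Set M), g i ^ (S i).sup (e i) • z ∈ Algebra.adjoin A G from h _ hk
  intro z hz
  induction hz using Submodule.span_induction with
  | mem z hz =>
    obtain ⟨c, hc⟩ := Nat.exists_eq_add_of_le (Finset.le_sup (f := e i) hz)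
    rw [hc, pow_add, mul_comm, mul_smul]
    exact Subalgebra.smul_mem _ (Algebra.subset_adjoin (Set.mem_iUnion_of_mem i (Set.mem_image_of_mem _ hz))) _
  | zero => rw [smul_zero]; exact zero_mem _
  | add a b _ _ ha hb => rw [smul_add]; exact add_mem ha hb
  | smul a z _ hz =>
    obtain ⟨a, rfl⟩ := Ideal.Quotient.mk_surjective a
    rw [show Ideal.Quotient.mk (Jn f n) a • z = a • z from (smul_mn Y0 n a z).symm, smul_comm]
    exact Subalgebra.smul_mem _ hz _

end Groth.Agent.Pure83.GlueStage
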