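import Groth.Agent.Pure83.Extend

/-!
# Extending covers from a hypersurface
-/

universe u

open CategoryTheory Limits AlgebraicGeometry TopologicalSpace Opposite

namespace Groth.Agent.Pure83

variable {A : Type u} [CommRing A] [IsLocalRing A] [IsNoetherianRing A]
  (V : FEt.Cat (FEt.puncturedSpec A : Scheme.{u})) (f : A)

/-- The hypersurface. -/
noncomputable abbrev hypMap : Spec (CommRingCat.of (A ⧸ Ideal.span {f})) ⟶ Spec (CommRingCat.of A) :=
  Spec.map (CommRingCat.ofHom (Ideal.Quotient.mk (Ideal.span {f})))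

/-- The trace of the cover on the punctured hypersurface. -/
noncomputable abbrev hypCover : Scheme.{u} :=
  ((FEt.restrict (pullback.fst (FEt.puncturedSpec A).ι (hypMap f))).obj V).left

/-- The inclusion of the trace. -/
noncomputable abbrev hypIncl : hypCover V f ⟶ V.left :=
  pullback.fst V.hom (pullback.fst (FEt.puncturedSpec A).ι (hypMap f))

variable {V f}
variable {B : Type u} [CommRing B] [Algebra A B] (T : hypCover V f ⟶ Spec (CommRingCat.of B))

set_option backward.isDefEq.respectTransparency.types false in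
/-- Restriction of global sections, and the identification of the sections of the trace. -/
theorem exists_rho (hT : T ≫ Spec.map (CommRingCat.ofHom (algebraMap A B)) = hypIncl V f ≫ strHom V)
    (hb : Function.Bijective T.appTop) :
    ∃ ρ : Γ(V.left, ⊤) →ₐ[A] B, T ≫ Spec.map (CommRingCat.ofHom ρ.toRingHom) =
      hypIncl V f ≫ V.left.toSpecΓ := by
  let β : CommRingCat.of B ⟶ Γ(hypCover V f, ⊤) := (Scheme.ΓSpecIso (CommRingCat.of B)).inv ≫ T.appTop
  have : IsIso T.appTop := ConcreteCategory.isIso_iff_bijective _ |>.mpr hb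
  let ρ : Γ(V.left, ⊤) ⟶ CommRingCat.of B := (hypIncl V f).appTop ≫ inv β
  have hTβ : T = (hypCover V f).toSpecΓ ≫ Spec.map β := by
    show _ = _ ≫ Spec.map (_ ≫ T.appTop)
    rw [Spec.map_comp, ← Category.assoc, ← Scheme.toSpecΓ_naturality, Category.assoc,
      ← IsIso.inv_eq_of_inv_hom_id (SpecMap_ΓSpecIso_inv_toSpecΓ (CommRingCat.of B)),
      IsIso.hom_inv_id, Category.comp_id]
  have h1 : T ≫ Spec.map ρ = hypIncl V f ≫ V.left.toSpecΓ := by
    rw [hTβ, Category.assoc, ← Spec.map_comp, Category.assoc, IsIso.inv_hom_id, Category.comp_id]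
    exact (Scheme.toSpecΓ_naturality _).symm
  have h2 : ∀ a : A, ρ.hom (algebraMap A Γ(V.left, ⊤) a) = algebraMap A B a := fun a => by
    apply (ConcreteCategory.bijective_of_isIso β).1
    show β.hom (ρ.hom (secStr V a)) = β.hom (algebraMap A B a)
    have e1 : β.hom (ρ.hom (secStr V a)) = (hypIncl V f).appTop (secStr V a) := by
      show (ρ ≫ β) (secStr V a) = _
      rw [Category.assoc, IsIso.inv_hom_id, Category.comp_id]
    rw [e1]
    have h3 := congr(Scheme.Hom.appTop $hT)
    simp only [Scheme.Hom.comp_appTop] at h3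
    have h4 := congr($h3 ((Scheme.ΓSpecIso (CommRingCat.of A)).inv a))
    simp only [CommRingCat.comp_apply] at h4
    refine h4.symm.trans (congrArg T.appTop ?_)
    exact (congr($(Scheme.ΓSpecIso_inv_naturality (CommRingCat.ofHom (algebraMap A B))) a)).symm
  exact ⟨⟨ρ.hom, h2⟩, h1⟩

set_option backward.isDefEq.respectTransparency.types false in
theorem mono_incl_toSpecΓ : Mono (hypIncl V f ≫ V.left.toSpecΓ) := by
  have := isQuasiAffine_left V
  have : IsClosedImmersion (hypMap f) := IsClosedImmersion.spec_of_surjective _ Ideal.Quotient.mk_surjective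
  have : IsClosedImmersion (hypIncl V f) := MorphismProperty.pullback_fst (P := @IsClosedImmersion) _ _
    (MorphismProperty.pullback_fst (P := @IsClosedImmersion) _ _ ‹_›)
  exact mono_comp _ _

variable {ι : Type} {g : ι → A}

set_option backward.isDefEq.respectTransparency.types false in
/-- Evaluation of the hypersurface sections. -/
theorem exists_sectionsEval (hdepth : (2 : ℕ∞) ≤ LocCoh.depth A A)
    (hg : ∀ i, g i ∈ IsLocalRing.maximalIdeal A) (hcov : CoversPunctured g)
    (hT : T ≫ Spec.map (CommRingCat.ofHom (algebraMap A B)) = hypIncl V f ≫ strHom V)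
    (hb : Function.Bijective T.appTop) :
    Nonempty (SectionsEval (M := Γ(V.left, ⊤)) f g B) := by
  obtain ⟨ρ, hρ⟩ := exists_rho T hT hb
  have hmono := mono_incl_toSpecΓ (V := V) (f := f)
  have hlift : ∀ (P : Type u) [CommRing P] [Algebra A P] (q : Γ(V.left, ⊤) →ₐ[A] P),
      algebraMap A P f = 0 → (∃ i, IsUnit (algebraMap A P (g i))) →
      ∃ l : Spec (CommRingCat.of P) ⟶ hypCover V f,
        l ≫ hypIncl V f ≫ V.left.toSpecΓ = Spec.map (CommRingCat.ofHom q.toRingHom) := by
    intro P _ _ q h1 h2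
    obtain ⟨i, hi⟩ := h2
    let sP : Spec (CommRingCat.of P) ⟶ Spec (CommRingCat.of A) :=
      Spec.map (CommRingCat.ofHom (algebraMap A P))
    have hr : Set.range sP ⊆ Set.range (FEt.puncturedSpec A).ι := by
      rintro _ ⟨p, rfl⟩
      rw [Scheme.Opens.range_ι]
      refine (mem_puncturedSpec_iff _).mpr fun e => ?_
      exact (p : PrimeSpectrum P).isPrime.ne_top (Ideal.eq_top_of_isUnit_mem _
        (show algebraMap A P (g i) ∈ (p : PrimeSpectrum P).asIdeal from e.ge (hg i)) hi)
    let lU := IsOpenImmersion.lift (FEt.puncturedSpec A).ι sP hr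
    have hlU : lU ≫ (FEt.puncturedSpec A).ι = sP := IsOpenImmersion.lift_fac _ _ _
    have hw : Spec.map (CommRingCat.ofHom q.toRingHom) ≫ Spec.map (CommRingCat.ofHom (secStr V)) =
        lU ≫ (FEt.puncturedSpec A).ι := by
      rw [hlU]
      refine (Spec.map_comp _ _).symm.trans (congrArg Spec.map ?_)
      ext a
      exact q.commutes a
    let lV := (isPullback_sec V hdepth).lift _ lU hw
    let lQ : Spec (CommRingCat.of P) ⟶ Spec (CommRingCat.of (A ⧸ Ideal.span {f})) :=
      Spec.map (CommRingCat.ofHom (Ideal.Quotient.lift _ (algebraMap A P) fun a ha => by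
        obtain ⟨c, rfl⟩ := Ideal.mem_span_singleton'.mp ha
        rw [map_mul, h1, mul_zero]))
    have hlQ : lU ≫ (FEt.puncturedSpec A).ι = lQ ≫ hypMap f := by
      rw [hlU]
      refine Eq.trans ?_ (Spec.map_comp _ _)
      exact congrArg Spec.map (by ext a; rfl)
    refine ⟨pullback.lift lV (pullback.lift lU lQ hlQ) ?_, ?_⟩
    · exact ((isPullback_sec V hdepth).lift_snd _ _ _).trans (pullback.lift_fst _ _ _).symm
    · refine (Category.assoc _ _ _).symm.trans ?_
      exact (congrArg (· ≫ V.left.toSpecΓ) (pullback.lift_fst _ _ _)).trans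
        ((isPullback_sec V hdepth).lift_fst _ _ _)
  choose l hl using hlift
  have huniq : ∀ (P : Type u) [CommRing P] [Algebra A P] (q : Γ(V.left, ⊤) →ₐ[A] P) h1 h2
      (l' : Spec (CommRingCat.of P) ⟶ hypCover V f),
      l' ≫ hypIncl V f ≫ V.left.toSpecΓ = Spec.map (CommRingCat.ofHom q.toRingHom) →
      l' = l P q h1 h2 := fun P _ _ q h1 h2 l' h =>
    (cancel_mono (hypIncl V f ≫ V.left.toSpecΓ)).mp (h.trans (hl P q h1 h2).symm)
  have hcomm : ∀ (P : Type u) [CommRing P] [Algebra A P] (q : Γ(V.left, ⊤) →ₐ[A] P) h1 h2 (a : A),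
      (Spec.preimage (l P q h1 h2 ≫ T)).hom (algebraMap A B a) = algebraMap A P a := by
    intro P _ _ q h1 h2 a
    have h : CommRingCat.ofHom (algebraMap A B) ≫ Spec.preimage (l P q h1 h2 ≫ T) =
        CommRingCat.ofHom (algebraMap A P) := by
      refine Spec.map_injective ((Spec.map_comp _ _).trans
        ((congrArg (· ≫ _) (Spec.map_preimage _)).trans ((Category.assoc _ _ _).trans ?_)))
      rw [hT, show strHom V = V.left.toSpecΓ ≫ Spec.map (CommRingCat.ofHom (secStr V)) from
        (isPullback_sec V hdepth).w.symm, ← Category.assoc (hypIncl V f), ← Category.assoc, hl,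
        ← Spec.map_comp]
      exact congrArg Spec.map (by ext a; exact q.commutes a)
    exact congr($h a)
  refine ⟨⟨ρ, fun P _ _ q h1 h2 => ⟨(Spec.preimage (l P q h1 h2 ≫ T)).hom, hcomm P q h1 h2⟩,
    ?_, ?_, ?_⟩⟩
  · intro P P' _ _ _ _ q u h1 h2 h1' h2'
    refine AlgHom.ext fun b => ?_
    have h : Spec.preimage (l P q h1 h2 ≫ T) ≫ CommRingCat.ofHom u.toRingHom =
        Spec.preimage (l P' (u.comp q) h1' h2' ≫ T) := by
      refine Spec.map_injective ((Spec.map_comp _ _).trans ?_)
      rw [Spec.map_preimage, Spec.map_preimage, ← Category.assoc]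
      refine congrArg (· ≫ T) (huniq P' _ h1' h2' _ ?_)
      rw [Category.assoc, hl]
      exact (Spec.map_comp _ _).symm.trans (congrArg Spec.map (by ext; rfl))
    exact congr($h b)
  · intro P _ _ q h1 h2
    refine AlgHom.ext fun m => ?_
    have h : CommRingCat.ofHom ρ.toRingHom ≫ Spec.preimage (l P q h1 h2 ≫ T) =
        CommRingCat.ofHom q.toRingHom := by
      refine Spec.map_injective ((Spec.map_comp _ _).trans ?_)
      rw [Spec.map_preimage, Category.assoc, hρ, hl]
    exact congr($h m)
  · intro b hb0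
    let W := fun i => V.left.basicOpen (algebraMap A Γ(V.left, ⊤) (g i))
    let Z := fun i => (hypIncl V f) ⁻¹ᵁ W i
    have : IsClosedImmersion (hypMap f) :=
      IsClosedImmersion.spec_of_surjective _ Ideal.Quotient.mk_surjective
    have : IsClosedImmersion (hypIncl V f) := MorphismProperty.pullback_fst (P := @IsClosedImmersion) _ _
      (MorphismProperty.pullback_fst (P := @IsClosedImmersion) _ _ ‹_›)
    let β : CommRingCat.of B ⟶ Γ(hypCover V f, ⊤) :=
      (Scheme.ΓSpecIso (CommRingCat.of B)).inv ≫ T.appTop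
    have hβ : Function.Injective β := by
      exact hb.1.comp (ConcreteCategory.bijective_of_isIso (Scheme.ΓSpecIso (CommRingCat.of B)).inv).1
    refine hβ (((hypCover V f).sheaf.eq_of_locally_eq' Z ⊤ (fun i => homOfLE le_top) ?_ _ _
      fun i => ?_).trans (map_zero β.hom).symm)
    · intro v _
      obtain ⟨i, hi⟩ := Opens.mem_iSup.mp (iSup_basicOpen_eq_top V g hcov (x := hypIncl V f v) trivial)
      exact Opens.mem_iSup.mpr ⟨i, hi⟩
    have hZ : IsAffineOpen (Z i) := by
      have := isAffineOpen_basicOpen V (hg i)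
      rw [preimage_basicOpen] at this
      exact this.preimage (hypIncl V f)
    let res := (hypCover V f).presheaf.map (homOfLE (le_top : Z i ≤ ⊤)).op
    let q0 : Γ(V.left, ⊤) ⟶ Γ(hypCover V f, Z i) := (hypIncl V f).appTop ≫ res
    let _ : Algebra A Γ(hypCover V f, Z i) := (q0.hom.comp (secStr V)).toAlgebra
    let q : Γ(V.left, ⊤) →ₐ[A] Γ(hypCover V f, Z i) := ⟨q0.hom, fun _ => rfl⟩
    have hunit : IsUnit (algebraMap A Γ(hypCover V f, Z i) (g i)) := by
      have h := (RingedSpace.isUnit_res_basicOpen V.left.toLocallyRingedSpace.toRingedSpace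
        (algebraMap A Γ(V.left, ⊤) (g i))).map ((hypIncl V f).app (W i)).hom
      have e : V.left.presheaf.map (homOfLE (le_top : W i ≤ ⊤)).op ≫ (hypIncl V f).app (W i) = q0 :=
        (hypIncl V f).naturality _
      exact (congrArg IsUnit congr($e (algebraMap A Γ(V.left, ⊤) (g i)))).mp h
    have hl0 : hZ.fromSpec ≫ hypIncl V f ≫ V.left.toSpecΓ =
        Spec.map (CommRingCat.ofHom q.toRingHom) := by
      rw [Scheme.toSpecΓ_naturality, ← Category.assoc, IsAffineOpen.fromSpec_toSpecΓ]
      exact (Spec.map_comp _ _).symm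
    have hf0 : algebraMap A Γ(hypCover V f, Z i) f = 0 := by
      have e : hypIncl V f ≫ strHom V =
          (pullback.snd V.hom _ ≫ pullback.snd _ (hypMap f)) ≫ hypMap f := by
        show pullback.fst V.hom _ ≫ V.hom ≫ _ = _
        rw [pullback.condition_assoc, Category.assoc]
        exact congrArg _ pullback.condition
      have ez : (hypMap f).appTop ((Scheme.ΓSpecIso (CommRingCat.of A)).inv f) = 0 := by
        refine (congr($(Scheme.ΓSpecIso_inv_naturality
          (CommRingCat.ofHom (Ideal.Quotient.mk (Ideal.span {f})))) f)).symm.trans ?_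
        refine (congrArg (Scheme.ΓSpecIso (CommRingCat.of (A ⧸ Ideal.span {f}))).inv
          (Ideal.Quotient.eq_zero_iff_mem.mpr (Ideal.mem_span_singleton_self f))).trans ?_
        exact map_zero _
      show res ((hypIncl V f).appTop (secStr V f)) = 0
      have e' := congr((Scheme.Hom.appTop $e) ((Scheme.ΓSpecIso (CommRingCat.of A)).inv f))
      simp only [Scheme.Hom.comp_appTop, CommRingCat.comp_apply, ez, map_zero] at e'
      exact (congrArg res e').trans (map_zero res.hom)
    have h0 := hb0 i Γ(hypCover V f, Z i) q hf0 hunit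
    have hle := huniq _ q hf0 ⟨i, hunit⟩ hZ.fromSpec hl0
    have hev : Spec.preimage (l _ q hf0 ⟨i, hunit⟩ ≫ T) = β ≫ res := by
      refine Spec.map_injective ((Spec.map_preimage _).trans ?_)
      rw [← hle, Spec.map_comp, ← IsAffineOpen.fromSpec_toSpecΓ hZ, Category.assoc]
      congr 1
      show T = _ ≫ Spec.map (_ ≫ T.appTop)
      rw [Spec.map_comp, ← Category.assoc, ← Scheme.toSpecΓ_naturality, Category.assoc,
        ← IsIso.inv_eq_of_inv_hom_id (SpecMap_ΓSpecIso_inv_toSpecΓ (CommRingCat.of B)),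
        IsIso.hom_inv_id, Category.comp_id]
    show res (β b) = res 0
    rw [map_zero]
    exact (congr($hev b)).symm.trans h0

end Groth.Agent.Pure83
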