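import Groth.Agent.Pure83.Core
import Mathlib.Algebra.Module.LocalizedModule.IsLocalization
import Mathlib.Algebra.Module.FinitePresentation
import Mathlib.RingTheory.Finiteness.Projective
import Mathlib.RingTheory.TensorProduct.IsBaseChangePi
import Mathlib.RingTheory.LocalRing.Module
import Mathlib.LinearAlgebra.FreeModule.Basic

/-!
# Module lemmas for purity
-/

universe u

namespace Groth.Agent.Pure83

variable {A : Type u} [CommRing A] {M : Type u} [AddCommGroup M] [Module A M]

/-- If `f` is regular on `M` and on `A` and `M ⧸ f M` is free over `A ⧸ (f)`, then `M` is free. -/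
theorem free_of_quotient_free [IsNoetherianRing A] [IsLocalRing A] [Module.Finite A M] (f : A)
    (hf : f ∈ IsLocalRing.maximalIdeal A) (hM : IsSMulRegular M f) {κ : Type*} (b : κ → M)
    (hspan : ∀ m : M, ∃ c : κ →₀ A, ∃ m' : M, m = Finsupp.linearCombination A b c + f • m')
    (hindep : ∀ c : κ →₀ A, (∃ m' : M, Finsupp.linearCombination A b c = f • m') →
      ∀ k, c k ∈ Ideal.span {f}) : Module.Free A M := by
  have hle : Ideal.span {f} ≤ (⊥ : Ideal A).jacobson :=
    ((Ideal.span_singleton_le_iff_mem _).mpr hf).trans (IsLocalRing.jacobson_eq_maximalIdeal ⊥ bot_ne_top).ge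
  let π := Finsupp.linearCombination A b
  have hsurj : LinearMap.range π = ⊤ := by
    refine top_le_iff.mp (Submodule.le_of_le_smul_of_le_jacobson_bot Module.Finite.fg_top hle ?_)
    intro m _
    obtain ⟨c, m', rfl⟩ := hspan m
    exact Submodule.add_mem_sup (LinearMap.mem_range_self _ c)
      (Submodule.smul_mem_smul (Ideal.mem_span_singleton_self f) trivial)
  have hker : LinearMap.ker π ≤ ⊥ := by
    intro c hc
    have key : ∀ n : ℕ, ∀ c ∈ LinearMap.ker π, ∀ k, c k ∈ Ideal.span {f} ^ n := by
      intro n
      induction n with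
      | zero => intro c _ k; simp
      | succ n ih =>
        intro c hc k
        choose d hd using fun k => Ideal.mem_span_singleton'.mp
          (hindep c ⟨0, by rw [smul_zero]; exact hc⟩ k)
        classical
        let d' : κ →₀ A := Finsupp.onFinset c.support (fun k => if c k = 0 then 0 else d k)
          (fun k hk => Finsupp.mem_support_iff.mpr fun h => hk (if_pos h))
        have hd' : c = f • d' := by
          ext j
          rw [Finsupp.smul_apply, Finsupp.onFinset_apply, smul_eq_mul]
          split_ifs with h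
          · rw [mul_zero, h]
          · rw [mul_comm, hd]
        have hd0 : d' ∈ LinearMap.ker π := by
          refine LinearMap.mem_ker.mpr (hM ?_)
          show f • π d' = f • 0
          rw [smul_zero, ← map_smul, ← hd']
          exact hc
        rw [hd', Finsupp.smul_apply, smul_eq_mul, pow_succ']
        exact Ideal.mul_mem_mul (Ideal.mem_span_singleton_self f) (ih d' hd0 k)
    refine (Submodule.mem_bot A).mpr (Finsupp.ext fun k => ?_)
    have : c k ∈ (⨅ n : ℕ, Ideal.span {f} ^ n) := by
      simp only [Ideal.mem_iInf]; exact fun n => key n c hc k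
    rwa [Ideal.iInf_pow_eq_bot_of_isLocalRing _
      (fun h => (IsLocalRing.maximalIdeal.isMaximal A).ne_top
        (top_le_iff.mp (h.ge.trans ((Ideal.span_singleton_le_iff_mem _).mpr hf)))),
      Submodule.mem_bot] at this
  exact Module.Free.of_equiv (LinearEquiv.ofBijective π
    ⟨LinearMap.ker_eq_bot.mp (le_bot_iff.mp hker), LinearMap.range_eq_top.mp hsurj⟩)

/-- If `M[1/f]` is projective then a power of `f` factors through a free module. -/
theorem exists_factor [IsNoetherianRing A] [Module.Finite A M] (f : A) (hM : IsSMulRegular M f)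
    {Af : Type*} [CommRing Af] [Algebra A Af] [IsLocalization.Away f Af]
    {M' : Type*} [AddCommGroup M'] [Module A M'] [Module Af M'] [IsScalarTower A Af M']
    (ι : M →ₗ[A] M') [IsLocalizedModule (Submonoid.powers f) ι] [Module.Projective Af M'] :
    ∃ (n N : ℕ) (φ : M →ₗ[A] (Fin n → A)) (ψ : (Fin n → A) →ₗ[A] M),
      ∀ m, ψ (φ m) = f ^ N • m := by
  have : Module.FinitePresentation A M := Module.finitePresentation_of_finite A M
  obtain ⟨n, π, hπ⟩ := Module.Finite.exists_fin' A M
  let mk : (Fin n → A) →ₗ[A] (Fin n → Af) :=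
    LinearMap.pi fun i => (Algebra.linearMap A Af) ∘ₗ LinearMap.proj i
  have : IsLocalizedModule (Submonoid.powers f) mk := inferInstance
  let πl : (Fin n → Af) →ₗ[A] M' := IsLocalizedModule.map (Submonoid.powers f) mk ι π
  let π' : (Fin n → Af) →ₗ[Af] M' :=
    πl.extendScalarsOfIsLocalization (Submonoid.powers f) Af
  have hπ' : Function.Surjective π' := IsLocalizedModule.map_surjective _ mk ι π hπ
  obtain ⟨s, hs⟩ := Module.projective_lifting_property π' LinearMap.id hπ'
  obtain ⟨h, ⟨_, N, rfl⟩, hh⟩ := Module.FinitePresentation.exists_lift_of_isLocalizedModule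
    (Submonoid.powers f) mk ((s.restrictScalars A) ∘ₗ ι)
  refine ⟨n, N, h, π, fun m => ?_⟩
  have h1 : ι (π (h m)) = ι (f ^ N • m) := by
    have h2 := congrArg π' (LinearMap.congr_fun hh m)
    have h3 : π' (mk (h m)) = ι (π (h m)) := IsLocalizedModule.map_apply _ mk ι π (h m)
    rw [map_smul ι, ← h3]
    refine h2.trans ?_
    show πl (f ^ N • s (ι m)) = _
    rw [map_smul]
    exact congrArg (f ^ N • ·) (LinearMap.congr_fun hs (ι m))
  obtain ⟨⟨_, k, rfl⟩, hk⟩ := IsLocalizedModule.exists_of_eq (S := Submonoid.powers f) h1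
  exact (hM.pow k) hk

end Groth.Agent.Pure83
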