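import Groth.Agent.Pure83.UnrLemmas
import Mathlib.RingTheory.Etale.QuasiFinite
import Mathlib.RingTheory.Etale.Basic

/-!
# Finite neighbourhoods of quasi-finite primes
-/

universe u

open TensorProduct

namespace Groth.Agent.Pure83

set_option linter.unusedVariables false in
/-- After an étale localization of the base and of the source, a quasi-finite prime becomes the only
prime over its image in a finite algebra. -/
theorem exists_finite_nbhd {A B : Type u} [CommRing A] [CommRing B] [Algebra A B]
    [Algebra.FiniteType A B] (q : Ideal B) [q.IsPrime] [Algebra.QuasiFiniteAt A q] :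
    ∃ (R C : Type u) (_ : CommRing R) (_ : CommRing C) (_ : Algebra A R) (_ : Algebra R C)
      (_ : Algebra A C) (_ : Algebra B C) (_ : IsScalarTower A R C) (_ : IsScalarTower A B C),
      Algebra.Etale A R ∧ Algebra.Etale B C ∧ Module.Finite R C ∧
      (Module.Flat A B → Module.Flat R C) ∧
      ∃ (P : Ideal R) (_ : P.IsPrime) (Q : Ideal C) (_ : Q.IsPrime),
        P.comap (algebraMap A R) = q.comap (algebraMap A B) ∧ Q.comap (algebraMap R C) = P ∧
        Q.comap (algebraMap B C) = q ∧
        ∀ (Q' : Ideal C) (_ : Q'.IsPrime), Q'.comap (algebraMap R C) = P → Q' = Q := by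
  let p := q.comap (algebraMap A B)
  have : q.LiesOver p := ⟨rfl⟩
  obtain ⟨R, _, _, _, P, _, hPp, e, he, P', _, hP'P, hP'q, heP', -, hfin, huniq⟩ :=
    Algebra.exists_etale_isIdempotentElem_forall_liesOver_eq p q
  let _ : Algebra B (R ⊗[A] B) := Algebra.TensorProduct.rightAlgebra
  have : IsScalarTower A B (R ⊗[A] B) := .of_algebraMap_eq fun a => by
    rw [RingHom.algebraMap_toAlgebra]
    exact (Algebra.TensorProduct.includeRight.commutes a).symm
  have hT : Algebra.Etale B (R ⊗[A] B) :=
    Algebra.Etale.of_equiv (Algebra.TensorProduct.commRight A B R)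
  let C := Localization.Away e
  have : Algebra.FormallyEtale (R ⊗[A] B) C := .of_isLocalization (Submonoid.powers e)
  have : Algebra.FinitePresentation (R ⊗[A] B) C := IsLocalization.Away.finitePresentation e
  have hTC : Algebra.Etale (R ⊗[A] B) C := {}
  refine ⟨R, C, inferInstance, inferInstance, inferInstance, inferInstance, inferInstance,
    inferInstance, inferInstance, inferInstance, inferInstance,
    Algebra.Etale.comp B (R ⊗[A] B) C, hfin, fun hflat => ?_, P, inferInstance, ?_⟩
  · have : Module.Flat (R ⊗[A] B) C := IsLocalization.flat C (Submonoid.powers e)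
    exact Module.Flat.trans R (R ⊗[A] B) C
  have hdisj : Disjoint (Submonoid.powers e : Set (R ⊗[A] B)) (P' : Set (R ⊗[A] B)) :=
    (Ideal.disjoint_powers_iff_notMem _ (Ideal.IsPrime.isRadical ‹_›)).mpr heP'
  let Q := P'.map (algebraMap (R ⊗[A] B) C)
  have hQprime : Q.IsPrime :=
    IsLocalization.isPrime_of_isPrime_disjoint (Submonoid.powers e) C P' ‹_› hdisj
  have hQ : Q.comap (algebraMap (R ⊗[A] B) C) = P' :=
    IsLocalization.under_map_of_isPrime_disjoint (Submonoid.powers e) C ‹P'.IsPrime› hdisj
  refine ⟨Q, hQprime, hPp.over.symm, ?_, ?_, fun Q' _ hQ' => ?_⟩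
  · rw [IsScalarTower.algebraMap_eq R (R ⊗[A] B) C, ← Ideal.comap_comap, hQ]
    exact hP'P.over.symm
  · rw [IsScalarTower.algebraMap_eq B (R ⊗[A] B) C, ← Ideal.comap_comap, hQ]
    exact hP'q
  · have hd := (IsLocalization.isPrime_iff_isPrime_disjoint (Submonoid.powers e) C Q').mp ‹_›
    have : (Q'.comap (algebraMap (R ⊗[A] B) C)).IsPrime := hd.1
    have h1 := huniq (Q'.comap (algebraMap (R ⊗[A] B) C)) inferInstance ⟨by
      rw [Ideal.under_def, Ideal.comap_comap, ← IsScalarTower.algebraMap_eq]
      exact hQ'.symm⟩ fun hm => Set.disjoint_left.mp hd.2 (Submonoid.mem_powers e) hm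
    rw [← IsLocalization.map_under (Submonoid.powers e) C Q']
    exact congrArg (Ideal.map _) h1

end Groth.Agent.Pure83
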