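import Groth.Prelude
import Groth.Agent.Spec91.Basic
import Mathlib.AlgebraicGeometry.Morphisms.FlatMono

/-!
# Clopen subsets from finite etale covers
-/

universe u

open CategoryTheory Limits AlgebraicGeometry TopologicalSpace
open Pi1

set_option autoImplicit false

namespace Groth.Agent.Pure83

variable {X Y : Scheme.{u}} (f : X ⟶ Y)

/-- The cover given by a clopen subset. -/
noncomputable def clopenCover (D : Set Y) (hD : IsClopen D) : FEt.Cat Y :=
  MorphismProperty.Over.mk ⊤ (Scheme.Opens.ι (⟨D, hD.2⟩ : Y.Opens))
    ⟨by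
      have : IsClosedImmersion (Scheme.Opens.ι (⟨D, hD.2⟩ : Y.Opens)) :=
        .of_isPreimmersion _ (by rw [Scheme.Opens.range_ι]; exact hD.1)
      infer_instance, inferInstance⟩

theorem range_clopenCover (D : Set Y) (hD : IsClopen D) : Set.range (clopenCover D hD).hom = D :=
  Scheme.Opens.range_ι _

instance (D : Set Y) (hD : IsClopen D) : IsOpenImmersion (clopenCover D hD).hom :=
  inferInstanceAs (IsOpenImmersion (Scheme.Opens.ι _))

set_option backward.isDefEq.respectTransparency.types false in
/-- An equivalence on covers is injective on clopen sets. -/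
theorem eq_empty_of_preimage_eq_empty (h : (FEt.restrict f).IsEquivalence) (D : Set Y) (hD : IsClopen D)
    (hf : f ⁻¹' D = ∅) : D = ∅ := by
  let E := clopenCover D hD
  let E0 := clopenCover (∅ : Set Y) isClopen_empty
  have : IsEmpty ↥(((FEt.restrict f).obj E).left) := by
    refine ⟨fun (z : ↥(pullback E.hom f)) => ?_⟩
    have h1 : f (pullback.snd E.hom f z) ∈ D := by
      rw [← Scheme.Hom.comp_apply, ← pullback.condition, Scheme.Hom.comp_apply]
      exact (range_clopenCover D hD).le ⟨_, rfl⟩
    exact (Set.eq_empty_iff_forall_notMem.mp hf) _ h1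
  let φ0 : ((FEt.restrict f).obj E).left ⟶ ((FEt.restrict f).obj E0).left :=
    (isInitialOfIsEmpty (X := ((FEt.restrict f).obj E).left)).to _
  let φ : (FEt.restrict f).obj E ⟶ (FEt.restrict f).obj E0 :=
    MorphismProperty.Over.homMk φ0 ((isInitialOfIsEmpty (X := ((FEt.restrict f).obj E).left)).hom_ext _ _) trivial
  let ψ : E ⟶ E0 := (FEt.restrict f).preimage φ
  refine Set.eq_empty_iff_forall_notMem.mpr fun y hy => ?_
  obtain ⟨e, -⟩ : y ∈ Set.range E.hom := (range_clopenCover D hD).ge hy
  exact ((range_clopenCover (∅ : Set Y) isClopen_empty).le ⟨ψ.left e, rfl⟩ : _ ∈ (∅ : Set Y))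

set_option backward.isDefEq.respectTransparency.types false in
/-- An equivalence on covers is surjective on clopen sets. -/
theorem exists_preimage_eq (h : (FEt.restrict f).IsEquivalence) (C : Set X) (hC : IsClopen C) :
    ∃ D : Set Y, IsClopen D ∧ f ⁻¹' D = C := by
  let EC := clopenCover C hC
  obtain ⟨E, ⟨e⟩⟩ := h.essSurj.mem_essImage EC
  have : IsFinite E.hom := E.prop.1
  have : Etale E.hom := E.prop.2
  let T : FEt.Cat Y := MorphismProperty.Over.mk ⊤ (pullback.fst E.hom E.hom ≫ E.hom)
    ⟨inferInstance, inferInstance⟩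
  let a : T ⟶ E := MorphismProperty.Over.homMk (pullback.fst E.hom E.hom) rfl trivial
  let b : T ⟶ E := MorphismProperty.Over.homMk (pullback.snd E.hom E.hom) pullback.condition.symm trivial
  have hsub : ∀ (Z : FEt.Cat X) (u v : Z ⟶ EC), u = v := fun Z u v =>
    MorphismProperty.Over.Hom.ext ((cancel_mono EC.hom).mp
      ((MorphismProperty.Over.w u).trans (MorphismProperty.Over.w v).symm))
  have hab : a = b := (FEt.restrict f).map_injective (((Iso.homCongr (Iso.refl _) e).injective) (hsub _ _ _))
  have heq : pullback.fst E.hom E.hom = pullback.snd E.hom E.hom := congrArg (·.left) hab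
  have : Mono E.hom := ⟨fun {Z} u v huv => by
    rw [← pullback.lift_fst u v huv, heq, pullback.lift_snd]⟩
  have : IsOpenImmersion E.hom := IsOpenImmersion.of_flat_of_mono E.hom
  refine ⟨Set.range E.hom, ⟨E.hom.isClosedMap.isClosed_range, E.hom.isOpenEmbedding.isOpen_range⟩, ?_⟩
  let el : pullback E.hom f ≅ EC.left := (MorphismProperty.Over.forget _ _ _ ⋙ Over.forget _).mapIso e
  have hel : el.hom ≫ EC.hom = pullback.snd E.hom f := MorphismProperty.Over.w e.hom
  rw [← Scheme.Pullback.range_snd E.hom f, ← range_clopenCover C hC, ← hel, Scheme.Hom.comp_base,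
    TopCat.coe_comp, Set.range_comp, Function.Surjective.range_eq (f := el.hom.base)
      (Scheme.homeoOfIso el).surjective, Set.image_univ]

/-- An equivalence on finite etale covers is a homeomorphism on connected components. -/
theorem isHomeomorph_connectedComponentsMap [CompactSpace X] [QuasiSeparatedSpace X] [CompactSpace Y]
    [QuasiSeparatedSpace Y] (h : (FEt.restrict f).IsEquivalence) :
    IsHomeomorph f.continuous.connectedComponentsMap := by
  have : T2Space (ConnectedComponents ↥Y) := Spec91.t2Space_connectedComponents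
  let g := f.continuous.connectedComponentsMap
  have hg : Continuous g := f.continuous.connectedComponentsMap_continuous
  refine isHomeomorph_iff_continuous_bijective.mpr ⟨hg, fun a b hab => ?_, fun c => ?_⟩
  · obtain ⟨x, rfl⟩ := ConnectedComponents.surjective_coe a
    obtain ⟨x', rfl⟩ := ConnectedComponents.surjective_coe b
    refine (ConnectedComponents.coe_eq_coe'.mpr ?_).symm
    rw [Spec91.connectedComponent_eq_iInter x, Set.mem_iInter]
    rintro ⟨C, hC, hxC⟩
    obtain ⟨D, hD, rfl⟩ := exists_preimage_eq f h C hC
    exact hD.connectedComponent_subset hxC (ConnectedComponents.coe_eq_coe'.mp hab.symm)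
  · by_contra hc
    have : TotallyDisconnectedSpace (ConnectedComponents ↥Y) := inferInstance
    have hK : IsClosed (Set.range g) := (isCompact_range hg).isClosed
    obtain ⟨D, hD, hcD, hDK⟩ := compact_exists_isClopen_in_isOpen hK.isOpen_compl hc
    have h0 := eq_empty_of_preimage_eq_empty f h (ConnectedComponents.mk ⁻¹' D)
      (hD.preimage ConnectedComponents.continuous_coe) (by
        ext x
        simp only [Set.mem_preimage, Set.mem_empty_iff_false, iff_false]
        exact fun hx => hDK hx ⟨ConnectedComponents.mk x, rfl⟩)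
    obtain ⟨y, rfl⟩ := ConnectedComponents.surjective_coe c
    exact Set.eq_empty_iff_forall_notMem.mp h0 y hcD

end Groth.Agent.Pure83
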