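import Groth.Agent.Pure83.FormalExtend
import Groth.Agent.Pure83.DescFlat
import Mathlib.RingTheory.Localization.BaseChange

/-!
# Purity of a one-parameter deformation with a section
-/

universe u

open CategoryTheory Limits AlgebraicGeometry TopologicalSpace TensorProduct

namespace Groth.Agent.Pure83

section Modules

variable {A : Type u} [CommRing A] {M : Type u} [AddCommGroup M] [Module A M]

/-- `(x, y)` is a regular pair on `M`. -/
def IsRegPairOn (M : Type u) [AddCommGroup M] [Module A M] (x y : A) : Prop :=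
  IsSMulRegular M x ∧ ∀ a b : M, y • a = x • b → ∃ c, a = x • c

theorem IsRegPairOn.baseChange {B : Type u} [CommRing B] [Algebra A B] [Module.Flat A B] {x y : A}
    (h : IsRegPairOn M x y) : IsRegPairOn (B ⊗[A] M) (algebraMap A B x) (algebraMap A B y) := by
  let μ : M →ₗ[A] M := x • LinearMap.id
  let Q := M ⧸ LinearMap.range μ
  let ν : Q →ₗ[A] Q := y • LinearMap.id
  have hν : Function.Injective ν := (injective_iff_map_eq_zero ν).mpr fun q hq => by
    obtain ⟨m, rfl⟩ := Submodule.Quotient.mk_surjective _ q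
    obtain ⟨b, hb⟩ := (Submodule.Quotient.mk_eq_zero _).mp
      (show (Submodule.Quotient.mk (y • m) : Q) = 0 from hq)
    obtain ⟨c, hc⟩ := h.2 m b hb.symm
    exact (Submodule.Quotient.mk_eq_zero _).mpr ⟨c, hc.symm⟩
  have hμt : ∀ z : B ⊗[A] M, μ.lTensor B z = algebraMap A B x • z := fun z => by
    simp [μ, algebraMap_smul]
  refine ⟨fun z z' hz => ?_, fun a b hab => ?_⟩
  · refine Module.Flat.lTensor_preserves_injective_linearMap (M := B) μ h.1 ?_
    rw [hμt, hμt]; exact hz
  · let p := (LinearMap.range μ).mkQ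
    have h0 : ν.lTensor B (p.lTensor B a) = 0 := by
      have h1 : ν.lTensor B (p.lTensor B a) = y • p.lTensor B a := by simp [ν]
      rw [h1, ← map_smul, ← algebraMap_smul B y a, hab, ← hμt, ← LinearMap.lTensor_comp_apply,
        LinearMap.range_mkQ_comp, LinearMap.lTensor_zero, LinearMap.zero_apply]
    obtain ⟨c, hc⟩ := (lTensor_exact B (LinearMap.exact_map_mkQ_range μ)
      (Submodule.mkQ_surjective _) a).mp
      (Module.Flat.lTensor_preserves_injective_linearMap (M := B) ν hν (h0.trans (map_zero _).symm))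
    exact ⟨c, by rw [← hμt, hc]⟩

end Modules

section SectionRing

variable {A : Type u} [CommRing A] [IsNoetherianRing A] {M : Type u} [CommRing M] [Algebra A M]
  {ι : Type} {g : ι → A}

/-- Regular pairs of the base are regular pairs on section rings. -/
theorem IsLocSectionRing.isRegPairOn [IsLocalRing A] [Module.Finite A M] [Finite ι] (h : IsLocSectionRing A M g) {x y : A}
    (hx : RegMod (⊥ : Ideal A) x) (hy : RegMod (Ideal.span {x}) y) : IsRegPairOn M x y := by
  have hreg : IsSMulRegular M x := isSMulRegular_iff_right_eq_zero_of_smul.mpr fun m hm => by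
    refine h.sep m fun i => ?_
    obtain ⟨n, N, Φ, Ψ, hΨΦ⟩ := FormalSys.exists_factor_sec h i
    refine ⟨N, ?_⟩
    have h0 : Φ m = 0 := funext fun j => (Submodule.mem_bot A).mp (hx _ (by
      rw [Submodule.mem_bot]
      have := congrFun (congrArg Φ hm) j
      rwa [map_smul, map_zero] at this))
    rw [← hΨΦ, h0, map_zero]
  refine ⟨hreg, fun a b hab => ?_⟩
  choose n N Φ Ψ hΨΦ using fun i => FormalSys.exists_factor_sec h i
  have hdiv : ∀ i, ∀ j, ∃ v : A, Φ i a j = x * v := fun i j => by
    obtain ⟨v, hv⟩ := Ideal.mem_span_singleton'.mp (hy (Φ i a j) (Ideal.mem_span_singleton'.mpr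
      ⟨Φ i b j, by
        have := congrFun (congrArg (Φ i) hab) j
        simp only [map_smul, Pi.smul_apply, smul_eq_mul] at this
        rw [this, mul_comm]⟩))
    exact ⟨v, by rw [← hv, mul_comm]⟩
  choose v hv using hdiv
  have hb : ∀ i, g i ^ N i • a = x • Ψ i (v i) := fun i => by
    rw [← hΨΦ i, ← map_smul]
    exact congrArg (Ψ i) (funext fun j => hv i j)
  obtain ⟨N₀, hN₀⟩ := Finite.exists_le N
  let c : ι → M := fun i => g i ^ (N₀ - N i) • Ψ i (v i)
  have hc : ∀ i, g i ^ N₀ • a = x • c i := fun i => by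
    rw [smul_comm x, ← hb i, smul_smul, ← pow_add, Nat.sub_add_cancel (hN₀ i)]
  obtain ⟨m, hm⟩ := h.glue N₀ c fun i j => hreg (by
    show x • g j ^ N₀ • c i = x • g i ^ N₀ • c j
    rw [smul_comm x (g j ^ N₀) (c i), smul_comm x (g i ^ N₀) (c j), ← hc i, ← hc j, smul_comm])
  refine ⟨m, sub_eq_zero.mp (h.sep _ fun i => ⟨N₀, ?_⟩)⟩
  rw [smul_sub, smul_comm (g i ^ N₀) x m, hm i, ← hc i, sub_self]

omit [IsNoetherianRing A] in
/-- A section ring from a regular pair among the family. -/
theorem IsLocSectionRing.mk_of_regPair (hf : ∀ i, (awayStr A M (g i)).Finite)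
    (he : ∀ i, (awayStr A M (g i)).Etale) (i0 i1 : ι)
    (h : ∀ k, IsRegPairOn M (g i0 ^ k) (g i1 ^ k)) : IsLocSectionRing A M g where
  finite := hf
  etale := he
  sep m hm := by
    obtain ⟨k, hk⟩ := hm i0
    exact isSMulRegular_iff_right_eq_zero_of_smul.mp (h k).1 m hk
  glue k a ha := by
    obtain ⟨m, hm⟩ := (h k).2 (a i0) (a i1) (ha i0 i1)
    refine ⟨m, fun i => (h k).1 ?_⟩
    show g i0 ^ k • g i ^ k • m = g i0 ^ k • a i
    rw [smul_comm, ← hm, ha i0 i]

omit [IsNoetherianRing A] in
/-- Finite étaleness away from an element passes to base changes. -/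
theorem awayStr_baseChange {B : Type u} [CommRing B] [Algebra A B] (c : A)
    (hf : (awayStr A M c).Finite) (he : (awayStr A M c).Etale) :
    (awayStr B (B ⊗[A] M) (algebraMap A B c)).Finite ∧ (awayStr B (B ⊗[A] M) (algebraMap A B c)).Etale := by
  let Ac := Localization.Away c
  let Mc := Localization.Away (algebraMap A M c)
  let Bc := Localization.Away (algebraMap A B c)
  let N := B ⊗[A] M
  let _ := (awayStr A M c).toAlgebra
  have : IsScalarTower A Ac Mc := IsScalarTower.of_algebraMap_eq fun a => by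
    rw [IsScalarTower.algebraMap_apply A M Mc]
    exact ((IsLocalization.map_eq (Q := Mc) (S := Ac) (M := Submonoid.powers c) _ a) :
      (awayStr A M c) (algebraMap A Ac a) = _).symm
  have : Algebra.Etale Ac Mc := RingHom.etale_algebraMap.mp (by rwa [RingHom.algebraMap_toAlgebra])
  have : Module.Finite Ac Mc := RingHom.finite_algebraMap.mp (by rwa [RingHom.algebraMap_toAlgebra])
  let l : Ac →+* Bc := Localization.awayMap (algebraMap A B) c
  let _ := l.toAlgebra
  have : IsScalarTower A Ac Bc := IsScalarTower.of_algebraMap_eq fun a => by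
    rw [IsScalarTower.algebraMap_apply A B Bc]
    exact ((IsLocalization.map_eq (Q := Bc) (S := Ac) (M := Submonoid.powers c) _ a) :
      l (algebraMap A Ac a) = _).symm
  have hAc : IsLocalization (Algebra.algebraMapSubmonoid M (Submonoid.powers c)) Mc := by
    rw [Algebra.algebraMapSubmonoid, Submonoid.map_powers]
    infer_instance
  have hb : Algebra.IsPushout A Ac M Mc := (Algebra.isPushout_of_isLocalization (Submonoid.powers c) Ac M Mc).symm
  let e1 : Ac ⊗[A] M ≃ₐ[Ac] Mc := (Algebra.IsPushout.equiv A Ac M Mc :)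
  have : Algebra.Etale Ac (Ac ⊗[A] M) := Algebra.Etale.of_equiv e1.symm
  have : Module.Finite Ac (Ac ⊗[A] M) := Module.Finite.equiv e1.symm.toLinearEquiv
  let e2 : Bc ⊗[Ac] (Ac ⊗[A] M) ≃ₐ[Bc] Bc ⊗[A] M := Algebra.TensorProduct.cancelBaseChange A Ac Bc Bc M
  let e3 : Bc ⊗[B] N ≃ₐ[Bc] Bc ⊗[A] M := Algebra.TensorProduct.cancelBaseChange A B Bc Bc M
  have h23 : Algebra.Etale Bc (Bc ⊗[Ac] (Ac ⊗[A] M)) := inferInstance
  have : Algebra.Etale Bc (Bc ⊗[B] N) :=
    @Algebra.Etale.of_equiv _ _ _ _ _ _ _ _ h23 (e2.trans e3.symm)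
  have : Module.Finite Bc (Bc ⊗[B] N) := Module.Finite.equiv (e2.trans e3.symm).toLinearEquiv
  let Nc := Localization.Away (algebraMap B N (algebraMap A B c))
  let _ := (awayStr B N (algebraMap A B c)).toAlgebra
  have : IsScalarTower B Bc Nc := IsScalarTower.of_algebraMap_eq fun b => by
    rw [IsScalarTower.algebraMap_apply B N Nc]
    exact ((IsLocalization.map_eq (Q := Nc) (S := Bc) (M := Submonoid.powers (algebraMap A B c)) _ b) :
      (awayStr B N (algebraMap A B c)) (algebraMap B Bc b) = _).symm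
  have hNc : IsLocalization (Algebra.algebraMapSubmonoid N (Submonoid.powers (algebraMap A B c))) Nc := by
    rw [Algebra.algebraMapSubmonoid, Submonoid.map_powers]
    infer_instance
  have : Algebra.IsPushout B Bc N Nc :=
    (Algebra.isPushout_of_isLocalization (Submonoid.powers (algebraMap A B c)) Bc N Nc).symm
  let e4 : Bc ⊗[B] N ≃ₐ[Bc] Nc := Algebra.IsPushout.equiv B Bc N Nc
  exact ⟨RingHom.finite_algebraMap.mpr (Module.Finite.equiv e4.toLinearEquiv),
    RingHom.etale_algebraMap.mpr (Algebra.Etale.of_equiv e4)⟩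

end SectionRing

section Main

variable {A B : Type u} [CommRing A] [IsLocalRing A] [IsNoetherianRing A] [CommRing B] [IsLocalRing B]
  [IsNoetherianRing B] [Algebra A B]

set_option maxHeartbeats 4000000 in
set_option backward.isDefEq.respectTransparency.types false in
/-- Purity of a one-parameter deformation with a section of a ring of depth at least two. -/
theorem purityHolds_of_section [IsAdicComplete (IsLocalRing.maximalIdeal B) B] [Module.Flat A B]
    (hA : (2 : ℕ∞) ≤ LocCoh.depth A A) (t : B) (htm : t ∈ IsLocalRing.maximalIdeal B)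
    (ht : IsSMulRegular B t) (pr : B →+* A) (hpr : ∀ a, pr (algebraMap A B a) = a)
    (hker : RingHom.ker pr = Ideal.span {t})
    (htnil : ∀ n : ℕ, t ^ n ∉ (IsLocalRing.maximalIdeal A).map (algebraMap A B)) :
    FEt.PurityHolds B := by
  refine ⟨fun V => ?_⟩
  let J : Ideal B := Ideal.span {t}
  have hJm : J ≤ IsLocalRing.maximalIdeal B := (Ideal.span_singleton_le_iff_mem _).mpr htm
  have hprs : Function.Surjective pr := fun a => ⟨_, hpr a⟩
  have hprm : (IsLocalRing.maximalIdeal A).comap pr = IsLocalRing.maximalIdeal B :=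
    IsLocalRing.eq_maximalIdeal (Ideal.comap_isMaximal_of_surjective pr hprs)
  have hmA : ∀ {a : A}, a ∈ IsLocalRing.maximalIdeal A → algebraMap A B a ∈ IsLocalRing.maximalIdeal B :=
    fun {a} ha => hprm.le (show pr (algebraMap A B a) ∈ IsLocalRing.maximalIdeal A by rwa [hpr])
  have hkil : ∀ b : B, b - algebraMap A B (pr b) ∈ J := fun b => by
    show _ ∈ Ideal.span {t}
    rw [← hker, RingHom.mem_ker, map_sub, hpr, sub_self]
  -- the regular pair
  obtain ⟨x, hxm, y, hym, hx, hy⟩ := exists_pair_of_depth_two hA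
  have hx0 : RegMod (⊥ : Ideal A) x := fun a ha => by
    rw [Submodule.mem_bot] at ha ⊢
    exact isSMulRegular_iff_right_eq_zero_of_smul.mp hx a ha
  obtain ⟨n, g, hg0, hg1, hgm, -, hgspan⟩ := exists_regular_generators hxm hx hym
    (hy.isSMulRegular hxm hx)
  let g' : Fin (n + 2) → B := fun i => algebraMap A B (g i)
  let x' := algebraMap A B x
  let y' := algebraMap A B y
  have hJx : ∀ b, x' * b ∈ J → b ∈ J := fun b hb => by
    have h1 : x * pr b = 0 := by
      have h := RingHom.mem_ker.mp (hker.ge hb)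
      rwa [map_mul, hpr] at h
    show b ∈ Ideal.span {t}
    rw [← hker, RingHom.mem_ker]
    exact (Submodule.mem_bot A).mp (hx0 _ ((Submodule.mem_bot A).mpr h1))
  have hJy : ∀ b, y' * b ∈ J ⊔ Ideal.span {x'} → b ∈ J ⊔ Ideal.span {x'} := fun b hb => by
    obtain ⟨j, hj, w, hw, e⟩ := Submodule.mem_sup.mp hb
    obtain ⟨r, rfl⟩ := Ideal.mem_span_singleton'.mp hw
    have h1 : y * pr b ∈ Ideal.span {x} := by
      refine Ideal.mem_span_singleton'.mpr ⟨pr r, ?_⟩
      have h := congrArg pr e
      rw [map_add, RingHom.mem_ker.mp (hker.ge hj), zero_add, map_mul, map_mul, hpr, hpr] at h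
      exact h
    obtain ⟨q, hq⟩ := Ideal.mem_span_singleton'.mp (hy _ h1)
    rw [show b = (b - algebraMap A B (pr b)) + algebraMap A B q * x' by
      rw [← map_mul (algebraMap A B) q x, hq]; ring]
    exact Submodule.add_mem_sup (hkil b) (Ideal.mem_span_singleton'.mpr ⟨_, rfl⟩)
  have hPx : ∀ k, RegMod (J ^ k) x' := by
    intro k
    induction k with
    | zero => intro a _; simp
    | succ k ih =>
      intro a ha
      obtain ⟨c, rfl⟩ := Ideal.mem_span_singleton'.mp
        (show a ∈ Ideal.span {t ^ k} by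
          rw [← Ideal.span_singleton_pow]; exact ih a (Ideal.pow_le_pow_right k.le_succ ha))
      rw [show J ^ (k + 1) = Ideal.span {t ^ (k + 1)} from Ideal.span_singleton_pow _ _] at ha ⊢
      obtain ⟨u, hu⟩ := Ideal.mem_span_singleton'.mp ha
      have h1 : x' * c = u * t := ht.pow k (by
        show t ^ k * (x' * c) = t ^ k * (u * t)
        linear_combination -hu)
      obtain ⟨c', hc'⟩ := Ideal.mem_span_singleton'.mp (hJx c (Ideal.mem_span_singleton'.mpr ⟨u, h1.symm⟩))
      exact Ideal.mem_span_singleton'.mpr ⟨c', by rw [← hc']; ring⟩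
  have hPy : ∀ k, RegMod (J ^ k ⊔ Ideal.span {x'}) y' := by
    intro k
    induction k with
    | zero => intro a _; simp
    | succ k ih =>
      intro a ha
      obtain ⟨p, hp, w, hw, rfl⟩ := Submodule.mem_sup.mp
        (ih a (SetLike.le_def.mp (sup_le_sup_right (Ideal.pow_le_pow_right k.le_succ) _) ha))
      obtain ⟨d, rfl⟩ := Ideal.mem_span_singleton'.mp hw
      rw [show J ^ k = Ideal.span {t ^ k} from Ideal.span_singleton_pow _ _] at hp
      obtain ⟨c, rfl⟩ := Ideal.mem_span_singleton'.mp hp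
      obtain ⟨p', hp', w', hw', e⟩ := Submodule.mem_sup.mp ha
      rw [show J ^ (k + 1) = Ideal.span {t ^ (k + 1)} from Ideal.span_singleton_pow _ _] at hp' ⊢
      obtain ⟨u, rfl⟩ := Ideal.mem_span_singleton'.mp hp'
      obtain ⟨v, rfl⟩ := Ideal.mem_span_singleton'.mp hw'
      obtain ⟨w₁, hw₁⟩ := Ideal.mem_span_singleton'.mp
        (show v - y' * d ∈ Ideal.span {t ^ k} by
          rw [← Ideal.span_singleton_pow]
          refine hPx k _ ?_
          rw [Ideal.span_singleton_pow]
          exact Ideal.mem_span_singleton'.mpr ⟨y' * c - u * t, by linear_combination -e⟩)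
      have h1 : y' * c = u * t + w₁ * x' := ht.pow k (by
        show t ^ k * (y' * c) = t ^ k * (u * t + w₁ * x')
        linear_combination -e - x' * hw₁)
      obtain ⟨j, hj, w₂, hw₂, e'⟩ := Submodule.mem_sup.mp (hJy c (by
        rw [h1]; exact Submodule.add_mem_sup (Ideal.mem_span_singleton'.mpr ⟨u, rfl⟩)
          (Ideal.mem_span_singleton'.mpr ⟨w₁, rfl⟩)))
      obtain ⟨j', rfl⟩ := Ideal.mem_span_singleton'.mp hj
      obtain ⟨w₃, rfl⟩ := Ideal.mem_span_singleton'.mp hw₂
      rw [show c * t ^ k + d * x' = j' * t ^ (k + 1) + (w₃ * t ^ k + d) * x' by rw [← e']; ring]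
      exact Submodule.add_mem_sup (Ideal.mem_span_singleton'.mpr ⟨_, rfl⟩)
        (Ideal.mem_span_singleton'.mpr ⟨_, rfl⟩)
  have hg'0 : g' 0 = x' := congrArg (algebraMap A B) hg0
  have hg'1 : g' 1 = y' := congrArg (algebraMap A B) hg1
  have F : FormalSys g' J := formalSys_of_regPair (ne_top_of_le_ne_top
    (IsLocalRing.maximalIdeal.isMaximal B).ne_top hJm) 0 1 (fun k => hg'0.symm ▸ hPx k)
    (fun k => hg'1.symm ▸ hg'0.symm ▸ hPy k)
  -- the full family, and the depth
  have hxB : RegMod (⊥ : Ideal B) x' := by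
    have := hx0.map_flat (C := B)
    rwa [Ideal.map_bot] at this
  have hyB : RegMod (Ideal.span {x'}) y' := by
    have := hy.map_flat (C := B)
    rwa [Ideal.map_span, Set.image_singleton] at this
  have hxB' : IsSMulRegular B x' := isSMulRegular_iff_right_eq_zero_of_smul.mpr fun c hc =>
    (Submodule.mem_bot B).mp (hxB c ((Submodule.mem_bot B).mpr hc))
  have h2B : (2 : ℕ∞) ≤ LocCoh.depth B B := two_le_depth_of_pair (hmA hxm) (hmA hym) hxB' hyB
  obtain ⟨m, G, hG0, hG1, hGm, -, hGspan⟩ := exists_regular_generators (hmA hxm) hxB' (hmA hym)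
    (hyB.isSMulRegular (hmA hxm) hxB')
  have hGcov := coversPunctured_of_span G hGspan
  have FG : FormalSys G J := formalSys_of_regPair (ne_top_of_le_ne_top
    (IsLocalRing.maximalIdeal.isMaximal B).ne_top hJm) 0 1 (fun k => hG0.symm ▸ hPx k)
    (fun k => hG1.symm ▸ hG0.symm ▸ hPy k)
  -- the restriction to the section
  let σ : Spec (CommRingCat.of A) ⟶ Spec (CommRingCat.of B) := Spec.map (CommRingCat.ofHom pr)
  have hrg : Set.range ((FEt.puncturedSpec A).ι ≫ σ) ⊆ Set.range (FEt.puncturedSpec B).ι := by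
    rintro _ ⟨q, rfl⟩
    rw [Scheme.Opens.range_ι]
    refine (mem_puncturedSpec_iff _).mpr fun e => (mem_puncturedSpec_iff _).mp q.2 ?_
    exact Ideal.comap_injective_of_surjective pr hprs (e.trans hprm.symm)
  let a := IsOpenImmersion.lift (FEt.puncturedSpec B).ι ((FEt.puncturedSpec A).ι ≫ σ) hrg
  have ha : a ≫ (FEt.puncturedSpec B).ι = (FEt.puncturedSpec A).ι ≫ σ := IsOpenImmersion.lift_fac _ _ _
  have hσc : IsClosedImmersion σ := IsClosedImmersion.spec_of_surjective _ hprs
  have hmono : Mono a := by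
    have : Mono ((FEt.puncturedSpec A).ι ≫ σ) := mono_comp _ _
    rw [← ha] at this
    exact mono_of_mono a (FEt.puncturedSpec B).ι
  let V₀ := (FEt.restrict a).obj V
  let lam : V₀.left ⟶ V.left := pullback.fst V.hom a
  have hlam : Mono lam := pullback.fst_of_mono
  let T := Γ(V.left, ⊤)
  let S := Γ(V₀.left, ⊤)
  let r : T →+* S := lam.appTop.hom
  have hsq : lam ≫ strHom V = strHom V₀ ≫ σ := by
    show lam ≫ V.hom ≫ (FEt.puncturedSpec B).ι = (V₀.hom ≫ (FEt.puncturedSpec A).ι) ≫ σ
    refine (Category.assoc _ _ _).symm.trans ((congrArg (· ≫ _) pullback.condition).trans ?_)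
    exact (Category.assoc _ _ _).trans ((congrArg (_ ≫ ·) ha).trans (Category.assoc _ _ _).symm)
  have hr : ∀ b : B, r (algebraMap B T b) = algebraMap A S (pr b) := fun b => by
    show (((Scheme.ΓSpecIso (CommRingCat.of B)).inv ≫ (strHom V).appTop) ≫ lam.appTop) b =
      ((Scheme.ΓSpecIso (CommRingCat.of A)).inv ≫ (strHom V₀).appTop) (pr b)
    rw [Category.assoc, ← Scheme.Hom.comp_appTop, hsq, Scheme.Hom.comp_appTop, ← Category.assoc,
      ← Scheme.ΓSpecIso_inv_naturality]
    rfl
  have hnat : lam ≫ V.left.toSpecΓ = V₀.left.toSpecΓ ≫ Spec.map (CommRingCat.ofHom r) :=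
    Scheme.toSpecΓ_naturality lam
  have := finite_sections h2B V
  have := finite_sections hA V₀
  have hA' := isSectionRing V₀ g (coversPunctured_of_span g hgspan)
  -- evaluation
  have heval : ∀ (P : Type u) [CommRing P] [Algebra B P] [Algebra A P] [IsScalarTower A B P],
      (∀ b ∈ J, algebraMap B P b = 0) → (∃ i, IsUnit (algebraMap A P (g i))) →
      ∀ q : T →ₐ[B] P, ∃ ψ : S →ₐ[A] P, ψ.toRingHom.comp r = q.toRingHom ∧
        ∀ ψ' : S →ₐ[A] P, ψ'.toRingHom.comp r = q.toRingHom → ψ' = ψ := by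
    intro P _ _ _ _ hJ hu q
    have hfac : ∀ b, algebraMap B P b = algebraMap A P (pr b) := fun b => by
      rw [IsScalarTower.algebraMap_apply A B P, ← sub_eq_zero, ← map_sub]
      exact hJ _ (hkil b)
    obtain ⟨i, hi⟩ := hu
    let sP : Spec (CommRingCat.of P) ⟶ Spec (CommRingCat.of A) :=
      Spec.map (CommRingCat.ofHom (algebraMap A P))
    have hsP : Set.range sP ⊆ Set.range (FEt.puncturedSpec A).ι := by
      rintro _ ⟨p, rfl⟩
      rw [Scheme.Opens.range_ι]
      refine (mem_puncturedSpec_iff _).mpr fun e => ?_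
      exact (p : PrimeSpectrum P).isPrime.ne_top (Ideal.eq_top_of_isUnit_mem _
        (show algebraMap A P (g i) ∈ (p : PrimeSpectrum P).asIdeal from e.ge (hgm i)) hi)
    let lU := IsOpenImmersion.lift (FEt.puncturedSpec A).ι sP hsP
    have hlU : lU ≫ (FEt.puncturedSpec A).ι = sP := IsOpenImmersion.lift_fac _ _ _
    have hsPσ : sP ≫ σ = Spec.map (CommRingCat.ofHom (algebraMap B P)) := by
      refine (Spec.map_comp _ _).symm.trans (congrArg Spec.map ?_)
      ext b
      exact (hfac b).symm
    have hw : Spec.map (CommRingCat.ofHom q.toRingHom) ≫ Spec.map (CommRingCat.ofHom (secStr V)) =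
        (lU ≫ a) ≫ (FEt.puncturedSpec B).ι := by
      rw [Category.assoc, ha, ← Category.assoc, hlU, hsPσ]
      refine (Spec.map_comp _ _).symm.trans (congrArg Spec.map ?_)
      ext b
      exact q.commutes b
    let lV := (isPullback_sec V h2B).lift _ (lU ≫ a) hw
    let L : Spec (CommRingCat.of P) ⟶ V₀.left := pullback.lift lV lU ((isPullback_sec V h2B).lift_snd _ _ _)
    have hL : L ≫ lam ≫ V.left.toSpecΓ = Spec.map (CommRingCat.ofHom q.toRingHom) := by
      refine (Category.assoc _ _ _).symm.trans ((congrArg (· ≫ _) (pullback.lift_fst _ _ _)).trans ?_)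
      exact (isPullback_sec V h2B).lift_fst _ _ _
    let ψ₀ := (Spec.preimage (L ≫ V₀.left.toSpecΓ)).hom
    have hψ₀ : Spec.map (CommRingCat.ofHom ψ₀) = L ≫ V₀.left.toSpecΓ := Spec.map_preimage _
    have hψr : ψ₀.comp r = q.toRingHom := by
      have : Spec.map (CommRingCat.ofHom (ψ₀.comp r)) = Spec.map (CommRingCat.ofHom q.toRingHom) := by
        rw [← hL, hnat, ← Category.assoc, ← hψ₀, ← Spec.map_comp]
        rfl
      exact congrArg CommRingCat.Hom.hom (Spec.map_injective this)
    have hψA : ∀ c : A, ψ₀ (algebraMap A S c) = algebraMap A P c := fun c => by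
      have h1 := RingHom.congr_fun hψr (algebraMap B T (algebraMap A B c))
      rw [RingHom.comp_apply, hr, hpr] at h1
      rw [h1]
      exact (q.commutes _).trans ((IsScalarTower.algebraMap_apply A B P c).symm)
    refine ⟨⟨ψ₀, hψA⟩, hψr, fun ψ' hψ' => ?_⟩
    have hw' : Spec.map (CommRingCat.ofHom ψ'.toRingHom) ≫ Spec.map (CommRingCat.ofHom (secStr V₀)) =
        lU ≫ (FEt.puncturedSpec A).ι := by
      rw [hlU]
      refine (Spec.map_comp _ _).symm.trans (congrArg Spec.map ?_)
      ext c
      exact ψ'.commutes c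
    let L' := (isPullback_sec V₀ hA).lift _ lU hw'
    have hL' : L' ≫ V₀.left.toSpecΓ = Spec.map (CommRingCat.ofHom ψ'.toRingHom) :=
      (isPullback_sec V₀ hA).lift_fst _ _ _
    have hLL : L' = L := by
      have hqa := isQuasiAffine_left V
      have : Mono (lam ≫ V.left.toSpecΓ) := mono_comp _ _
      refine (cancel_mono (lam ≫ V.left.toSpecΓ)).mp ?_
      rw [hL, hnat, ← Category.assoc, hL', ← Spec.map_comp]
      exact congrArg Spec.map (CommRingCat.hom_ext hψ')
    refine AlgHom.ext fun z => ?_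
    have : CommRingCat.ofHom ψ'.toRingHom = CommRingCat.ofHom ψ₀ :=
      Spec.map_injective (by rw [hψ₀, ← hL', hLL])
    exact congr($this z)
  -- the constant lift
  let _ : Algebra A T := ((algebraMap B T).comp (algebraMap A B)).toAlgebra
  have : IsScalarTower A B T := .of_algebraMap_eq fun _ => rfl
  let S' := B ⊗[A] S
  let incl : S →ₐ[A] S' := Algebra.TensorProduct.includeRight
  have hS' : IsLocSectionRing B S' g' := by
    refine IsLocSectionRing.mk_of_regPair
      (fun i => (awayStr_baseChange (g i) (hA'.finite _ (hgm i)) (hA'.etale _ (hgm i))).1)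
      (fun i => (awayStr_baseChange (g i) (hA'.finite _ (hgm i)) (hA'.etale _ (hgm i))).2) 0 1 fun k => ?_
    rw [hg'0, hg'1]
    simp only [x', y', ← map_pow]
    refine ((hA'.toLoc hgm).isRegPairOn (x := x ^ k) (y := y ^ k) ?_ ?_).baseChange
    · exact fun c hc => hx0.pow k c hc
    · have := RegMod.pow (RegMod.sup_pow hx0 (by rwa [bot_sup_eq]) k) k
      rwa [bot_sup_eq] at this
  have hT' : IsLocSectionRing B T g' := by
    have hT := (isSectionRing V G hGcov).toLoc hGm
    refine IsLocSectionRing.mk_of_regPair (fun i => ((isSectionRing V G hGcov).finite _ (hmA (hgm i))))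
      (fun i => ((isSectionRing V G hGcov).etale _ (hmA (hgm i)))) 0 1 fun k => ?_
    rw [hg'0, hg'1]
    refine hT.isRegPairOn (fun c hc => hxB.pow k c hc) ?_
    have := RegMod.pow (RegMod.sup_pow hxB (by rwa [bot_sup_eq]) k) k
    rwa [bot_sup_eq] at this
  have hfe : ∀ {M : Type u} [CommRing M] [Algebra B M] (_ : IsLocSectionRing B M g') (i : Fin (n + 2)),
      Algebra.FormallyEtale B (Localization.Away (algebraMap B M (g' i))) := by
    intro M _ _ hM i
    let _ := (awayStr B M (g' i)).toAlgebra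
    have : IsScalarTower B (Localization.Away (g' i)) (Localization.Away (algebraMap B M (g' i))) :=
      IsScalarTower.of_algebraMap_eq fun b => by
        rw [IsScalarTower.algebraMap_apply B M (Localization.Away (algebraMap B M (g' i)))]
        exact ((IsLocalization.map_eq (Q := Localization.Away (algebraMap B M (g' i)))
          (S := Localization.Away (g' i)) (M := Submonoid.powers (g' i)) _ b) :
            (awayStr B M (g' i)) (algebraMap B _ b) = _).symm
    have : Algebra.Etale (Localization.Away (g' i)) (Localization.Away (algebraMap B M (g' i))) :=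
      RingHom.etale_algebraMap.mp (by rw [RingHom.algebraMap_toAlgebra]; exact hM.etale i)
    have : Algebra.FormallyEtale B (Localization.Away (g' i)) :=
      Algebra.FormallyEtale.of_isLocalization (Submonoid.powers (g' i))
    exact Algebra.FormallyEtale.comp B (Localization.Away (g' i)) _
  have := hfe hS'
  have := hfe hT'
  let P := fun i => Lq J T (g' i) 1
  let P' := fun i => Lq J S' (g' i) 1
  have hPz : ∀ i, ∀ b ∈ J, algebraMap B (P i) b = 0 := fun i b hb => lq_zero_one b hb
  have hP'z : ∀ i, ∀ b ∈ J, algebraMap B (P' i) b = 0 := fun i b hb => lq_zero_one b hb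
  have hPu : ∀ i, ∃ j, IsUnit (algebraMap A (P i) (g j)) := fun i => ⟨i, by
    rw [IsScalarTower.algebraMap_apply A B (P i)]; exact isUnit_lq J T (g' i) 1⟩
  have hP'u : ∀ i, ∃ j, IsUnit (algebraMap A (P' i) (g j)) := fun i => ⟨i, by
    rw [IsScalarTower.algebraMap_apply A B (P' i)]; exact isUnit_lq J S' (g' i) 1⟩
  choose ψ hψr hψu using fun i => heval (P i) (hPz i) (hPu i) (toLq J T (g' i) 1)
  let φ : ∀ i, S' →ₐ[B] P i := fun i => AlgHom.liftEquiv A B S (P i) (ψ i)
  have hφ : ∀ i s, φ i (incl s) = ψ i s := fun i s => by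
    show AlgHom.liftEquiv A B S (P i) (ψ i) (1 ⊗ₜ s) = _
    simp [AlgHom.liftEquiv]
  have hcompat : ∀ i j, (lqRes J T (dvd_mul_right (g' i) (g' j)) 1).comp (φ i) =
      (lqRes J T (dvd_mul_left (g' j) (g' i)) 1).comp (φ j) := by
    intro i j
    let R := Lq J T (g' i * g' j) 1
    have hu : ∃ l, IsUnit (algebraMap A R (g l)) := ⟨i, by
      rw [IsScalarTower.algebraMap_apply A B R]
      exact isUnit_of_dvd 1 (dvd_mul_right (g' i) (g' j))⟩
    obtain ⟨ψ₀, -, huniq⟩ := heval R (fun b hb => lq_zero_one b hb) hu (toLq J T (g' i * g' j) 1)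
    have key : ∀ l (hl : g' l ∣ g' i * g' j),
        ((lqRes J T hl 1).restrictScalars A).comp (ψ l) = ψ₀ := fun l hl => huniq _ (by
      refine RingHom.ext fun z => ?_
      show lqRes J T hl 1 (ψ l (r z)) = toLq J T (g' i * g' j) 1 z
      rw [show ψ l (r z) = toLq J T (g' l) 1 z from RingHom.congr_fun (hψr l) z,
        ← AlgHom.comp_apply, lqRes_comp_toLq])
    refine Algebra.TensorProduct.ext' fun b s => ?_
    rw [show b ⊗ₜ[A] s = b • incl s by
      show _ = b • ((1 : B) ⊗ₜ[A] s)
      rw [TensorProduct.smul_tmul', smul_eq_mul, mul_one]]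
    rw [map_smul, map_smul]
    congr 1
    rw [AlgHom.comp_apply, AlgHom.comp_apply, hφ, hφ]
    exact AlgHom.congr_fun ((key i _).trans (key j _).symm) s
  obtain ⟨ν, hν⟩ := F.exists_hom hT' φ hcompat
  let q' : ∀ i, T →ₐ[B] P' i := fun i =>
    { (((toLq J S' (g' i) 1).toRingHom.comp incl.toRingHom).comp r) with
      commutes' := fun b => by
        show toLq J S' (g' i) 1 (incl (r (algebraMap B T b))) = _
        rw [hr, AlgHom.commutes, IsScalarTower.algebraMap_apply A B S', AlgHom.commutes,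
          ← sub_eq_zero, ← map_sub]
        exact hP'z i _ (neg_sub (b : B) _ ▸ neg_mem (hkil b)) }
  have hcompat' : ∀ i j, (lqRes J S' (dvd_mul_right (g' i) (g' j)) 1).comp (q' i) =
      (lqRes J S' (dvd_mul_left (g' j) (g' i)) 1).comp (q' j) := fun i j => AlgHom.ext fun z => by
    show lqRes J S' _ 1 (toLq J S' (g' i) 1 (incl (r z))) = lqRes J S' _ 1 (toLq J S' (g' j) 1 (incl (r z)))
    rw [← AlgHom.comp_apply, ← AlgHom.comp_apply (lqRes J S' (dvd_mul_left (g' j) (g' i)) 1),
      lqRes_comp_toLq, lqRes_comp_toLq]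
  obtain ⟨μ, hμ⟩ := F.exists_hom hS' q' hcompat'
  have hνμ : ν.comp μ = AlgHom.id B T := F.hom_unique hT' fun i => by
    let uu : P' i →ₐ[B] P i := lqLift (φ i) (isUnit_lq J T (g' i) 1) (lq_zero J _)
    have huu := lqLift_comp (J := J) (k := 1) (c := g' i) (φ i) (isUnit_lq J T (g' i) 1) (lq_zero J _)
    refine AlgHom.ext fun z => ?_
    show toLq J T (g' i) 1 (ν (μ z)) = toLq J T (g' i) 1 z
    rw [← AlgHom.comp_apply (toLq J T (g' i) 1), hν, ← huu, AlgHom.comp_apply,
      ← AlgHom.comp_apply (toLq J S' (g' i) 1), hμ]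
    show uu (toLq J S' (g' i) 1 (incl (r z))) = _
    rw [← AlgHom.comp_apply uu, huu, hφ]
    exact RingHom.congr_fun (hψr i) z
  have hμν : μ.comp ν = AlgHom.id B S' := F.hom_unique hS' fun i => by
    let uu : P i →ₐ[B] P' i := lqLift (q' i) (isUnit_lq J S' (g' i) 1) (lq_zero J _)
    have huu := lqLift_comp (J := J) (k := 1) (c := g' i) (q' i) (isUnit_lq J S' (g' i) 1) (lq_zero J _)
    obtain ⟨ψ₀, -, huniq⟩ := heval (P' i) (hP'z i) (hP'u i) (q' i)
    have h1 : (uu.restrictScalars A).comp (ψ i) = ψ₀ := huniq _ (RingHom.ext fun z => by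
      show uu (ψ i (r z)) = q' i z
      rw [show ψ i (r z) = toLq J T (g' i) 1 z from RingHom.congr_fun (hψr i) z,
        ← AlgHom.comp_apply uu, huu])
    have h2 : ((toLq J S' (g' i) 1).restrictScalars A).comp incl = ψ₀ := huniq _ (RingHom.ext fun z => rfl)
    refine Algebra.TensorProduct.ext' fun b s => ?_
    rw [show b ⊗ₜ[A] s = b • incl s by
      show _ = b • ((1 : B) ⊗ₜ[A] s)
      rw [TensorProduct.smul_tmul', smul_eq_mul, mul_one]]
    rw [map_smul, map_smul]
    congr 1
    show toLq J S' (g' i) 1 (μ (ν (incl s))) = toLq J S' (g' i) 1 (incl s)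
    rw [← AlgHom.comp_apply (toLq J S' (g' i) 1), hμ, ← huu, AlgHom.comp_apply,
      ← AlgHom.comp_apply (toLq J T (g' i) 1), hν, hφ]
    exact AlgHom.congr_fun (h1.trans h2.symm) s
  let E : S' ≃ₐ[B] T := AlgEquiv.ofAlgHom ν μ hνμ hμν
  -- the central fibre is étale
  let Bt := Localization.Away t
  have hTt : Algebra.Etale Bt (Bt ⊗[B] T) := by
    let Nc := Localization.Away (algebraMap B T t)
    let _ := (awayStr B T t).toAlgebra
    have : IsScalarTower B Bt Nc := IsScalarTower.of_algebraMap_eq fun b => by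
      rw [IsScalarTower.algebraMap_apply B T Nc]
      exact ((IsLocalization.map_eq (Q := Nc) (S := Bt) (M := Submonoid.powers t) _ b) :
        (awayStr B T t) (algebraMap B Bt b) = _).symm
    have : IsLocalization (Algebra.algebraMapSubmonoid T (Submonoid.powers t)) Nc := by
      rw [Algebra.algebraMapSubmonoid, Submonoid.map_powers]
      infer_instance
    have : Algebra.IsPushout B Bt T Nc :=
      (Algebra.isPushout_of_isLocalization (Submonoid.powers t) Bt T Nc).symm
    have : Algebra.Etale Bt Nc := RingHom.etale_algebraMap.mp ((isSectionRing V G hGcov).etale _ htm)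
    exact Algebra.Etale.of_equiv (Algebra.IsPushout.equiv B Bt T Nc).symm
  have hSt : Algebra.Etale Bt (Bt ⊗[A] S) := by
    let c1 : Bt ⊗[B] T ≃ₐ[Bt] Bt ⊗[B] S' := Algebra.TensorProduct.congr AlgEquiv.refl E.symm
    let c2 : Bt ⊗[B] S' ≃ₐ[Bt] Bt ⊗[A] S := Algebra.TensorProduct.cancelBaseChange A B Bt Bt S
    exact @Algebra.Etale.of_equiv _ _ _ _ _ _ _ _ hTt (c1.trans c2)
  have hfl : Module.Flat A Bt := Module.Flat.trans A B Bt
  have hff : Module.FaithfullyFlat A Bt := by
    refine ⟨fun {m} hm e => ?_⟩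
    obtain rfl := IsLocalRing.eq_maximalIdeal hm
    have h1 : (1 : Bt) ∈ (IsLocalRing.maximalIdeal A).map (algebraMap A Bt) := by
      have : (1 : Bt) ∈ (IsLocalRing.maximalIdeal A) • (⊤ : Submodule A Bt) := e.ge trivial
      rwa [Ideal.smul_top_eq_map] at this
    rw [IsScalarTower.algebraMap_eq A B Bt, ← Ideal.map_map] at h1
    obtain ⟨z, hz, hk⟩ := (IsLocalization.algebraMap_mem_map_algebraMap_iff (Submonoid.powers t) Bt
      _ (1 : B)).mp (by rwa [map_one])
    obtain ⟨k, rfl⟩ := hz
    exact htnil k (by simpa using hk)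
  have : Algebra.Etale A S := Algebra.Etale.of_etale_tensorProduct_of_faithfullyFlat Bt
  obtain ⟨Y, ⟨eY⟩⟩ := exists_extension V₀ hA
  -- the trace extends
  let e₀ : A ≃+* B ⧸ J := ((Ideal.quotEquivOfEq hker).symm.trans
    (RingHom.quotientKerEquivOfSurjective hprs)).symm
  have he₀ : ∀ b, e₀ (pr b) = Ideal.Quotient.mk J b := fun b => by
    apply e₀.symm.injective
    rw [RingEquiv.symm_apply_apply]
    rfl
  let se : Spec (CommRingCat.of (B ⧸ J)) ⟶ Spec (CommRingCat.of A) :=
    Spec.map (CommRingCat.ofHom e₀.toRingHom)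
  have hse : se ≫ σ = qMap J := by
    refine (Spec.map_comp _ _).symm.trans (congrArg Spec.map ?_)
    ext b
    exact he₀ b
  have hb : Set.range (pullback.snd (FEt.puncturedSpec B).ι (qMap J) ≫ se) ⊆
      Set.range (FEt.puncturedSpec A).ι := by
    rintro _ ⟨z, rfl⟩
    rw [Scheme.Opens.range_ι]
    refine (mem_puncturedSpec_iff _).mpr fun e => ?_
    have h1 : σ ((pullback.snd (FEt.puncturedSpec B).ι (qMap J) ≫ se) z) =
        (FEt.puncturedSpec B).ι (pullback.fst (FEt.puncturedSpec B).ι (qMap J) z) := by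
      rw [← Scheme.Hom.comp_apply, Category.assoc, hse, ← pullback.condition, Scheme.Hom.comp_apply]
    refine (mem_puncturedSpec_iff _).mp (pullback.fst (FEt.puncturedSpec B).ι (qMap J) z).2 ?_
    refine (congrArg PrimeSpectrum.asIdeal h1.symm).trans ?_
    show Ideal.comap pr _ = _
    rw [e, hprm]
  let b := IsOpenImmersion.lift (FEt.puncturedSpec A).ι _ hb
  have hbι : b ≫ (FEt.puncturedSpec A).ι = pullback.snd (FEt.puncturedSpec B).ι (qMap J) ≫ se :=
    IsOpenImmersion.lift_fac _ _ _
  have hba : b ≫ a = pullback.fst (FEt.puncturedSpec B).ι (qMap J) := by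
    rw [← cancel_mono (FEt.puncturedSpec B).ι, Category.assoc, ha, ← Category.assoc, hbι,
      Category.assoc, hse, pullback.condition]
  exact extends_of_trace_complete h2B hJm hGm hGcov FG V ((FEt.restrict se).obj Y)
    (FEt83.restrictSqIso _ _ b _ hbι.symm Y ≪≫ (FEt.restrict b).mapIso eY ≪≫
      ((FEt83.restrictCompIso b a).app V).symm ≪≫ FEt83.restrictEqIso hba V)

end Main

end Groth.Agent.Pure83
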