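import Groth.Agent.Pure83.GermDualH
import Groth.Agent.DR39.Exist2
import Groth.Agent.CAlg4.CatDimFun
import Groth.Agent.S11650
import Groth.Agent.S0239
import Groth.Agent.FEt83.PureDescent

/-!
# Purity of `(Spec A, U)` from purity of `(Spec A/t, U_0)`
-/

universe u

open AlgebraicGeometry CategoryTheory CategoryTheory.Limits
attribute [local instance] HasDerivedCategory.standard

namespace Groth.Agent.Pure83.PureQuot

variable {A : Type u} [CommRing A] [IsLocalRing A] [IsNoetherianRing A]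

theorem depth_add_dim {ω : Dual.D A} (hω : Dual.IsDualizing A ω)
    (hdepth : ∀ p : Ideal A, ∀ _ : p.IsPrime, ringKrullDim (A ⧸ p) = 1 →
      (2 : ℕ∞) ≤ LocCoh.depth (Localization.AtPrime p) (Localization.AtPrime p))
    (p : Ideal A) [p.IsPrime] (hpm : p ≠ IsLocalRing.maximalIdeal A) :
    (2 : WithBot ℕ∞) < (LocCoh.depth (Localization.AtPrime p) (Localization.AtPrime p) : WithBot ℕ∞) +
      ringKrullDim (A ⧸ p) := by
  obtain ⟨d, hd⟩ := CAlg4.CatDimFun.exists_dim (A := A) ⟨p, inferInstance⟩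
  change ringKrullDim (A ⧸ p) = d at hd
  have h1 : 1 ≤ d := by
    have := Germ.one_le_dim_quotient p hpm
    rw [hd] at this
    exact_mod_cast this
  rw [hd]
  have key : ∀ a b : ℕ, 3 ≤ a + b → (a : ℕ∞) ≤ LocCoh.depth (Localization.AtPrime p) (Localization.AtPrime p) →
      b ≤ d → (2 : WithBot ℕ∞) <
        (LocCoh.depth (Localization.AtPrime p) (Localization.AtPrime p) : WithBot ℕ∞) + d := by
    intro a b hab ha hb
    calc (2 : WithBot ℕ∞) < ((a + b : ℕ) : WithBot ℕ∞) := by exact_mod_cast hab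
      _ = ((a : ℕ∞) : WithBot ℕ∞) + (b : WithBot ℕ∞) := by push_cast; rfl
      _ ≤ _ := add_le_add (WithBot.coe_le_coe.mpr ha) (by exact_mod_cast hb)
  rcases Nat.lt_or_ge d 3 with hlt | hge
  swap
  · exact key 0 3 le_rfl (by simp) hge
  rcases (show d = 1 ∨ d = 2 by omega) with rfl | rfl
  · exact key 2 1 le_rfl (hdepth p inferInstance hd) le_rfl
  refine key 1 2 le_rfl ?_ le_rfl
  obtain ⟨x, hx, hxp⟩ := Set.not_subset.mp fun h =>
    hpm (le_antisymm (IsLocalRing.le_maximalIdeal ‹p.IsPrime›.ne_top) h)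
  have hne : Ideal.span {Ideal.Quotient.mk p x} ≠ ⊤ := fun e => by
    have : Nontrivial (A ⧸ p) := Ideal.Quotient.nontrivial_iff.mpr ‹p.IsPrime›.ne_top
    have := IsLocalRing.of_surjective' (Ideal.Quotient.mk p) Ideal.Quotient.mk_surjective
    have : IsLocalHom (Ideal.Quotient.mk p) := .of_surjective _ Ideal.Quotient.mk_surjective
    exact hx (IsLocalHom.map_nonunit x (Ideal.span_singleton_eq_top.mp e))
  obtain ⟨Q, hQ⟩ := Ideal.nonempty_minimalPrimes hne
  have := hQ.1.1
  let q : Ideal A := Q.comap (Ideal.Quotient.mk p)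
  have hqQ : q.map (Ideal.Quotient.mk p) = Q :=
    Ideal.map_comap_of_surjective _ Ideal.Quotient.mk_surjective Q
  have hht : (q.map (Ideal.Quotient.mk p)).height ≤ 1 := by
    rw [hqQ]
    exact Ideal.height_le_one_of_isPrincipal_of_mem_minimalPrimes _ _ hQ
  have hxq : x ∈ q := hQ.1.2 (Ideal.subset_span rfl)
  have hpq : p ≤ q := fun y hy => by
    change Ideal.Quotient.mk p y ∈ Q
    rw [Ideal.Quotient.eq_zero_iff_mem.mpr hy]
    exact Q.zero_mem
  have hqm : q ≠ IsLocalRing.maximalIdeal A := fun e => by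
    have : Nontrivial (A ⧸ p) := Ideal.Quotient.nontrivial_iff.mpr ‹p.IsPrime›.ne_top
    have := IsLocalRing.of_surjective' (Ideal.Quotient.mk p) Ideal.Quotient.mk_surjective
    have hm : q.map (Ideal.Quotient.mk p) = IsLocalRing.maximalIdeal (A ⧸ p) := by
      rw [e]
      exact IsLocalRing.map_maximalIdeal_of_surjective _ Ideal.Quotient.mk_surjective
    have h2 : ringKrullDim (A ⧸ p) ≤ ((1 : ℕ∞) : WithBot ℕ∞) := by
      rw [← IsLocalRing.maximalIdeal_height_eq_ringKrullDim, ← hm]
      exact WithBot.coe_le_coe.mpr hht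
    rw [hd] at h2
    exact absurd h2 (by decide)
  have hlt' := ((CAlg4.CatDimFun.dimFun_of_catenary (Germ.isCatenary_of_dualizing hω)
    ⟨p, inferInstance⟩ ⟨q, inferInstance⟩ (lt_of_le_of_ne hpq fun e => hxp (by
      have e' : p = q := congrArg PrimeSpectrum.asIdeal e
      rw [SetLike.mem_coe, e']
      exact hxq)))).1
  change ringKrullDim (A ⧸ q) < ringKrullDim (A ⧸ p) at hlt'
  obtain ⟨e, he⟩ := CAlg4.CatDimFun.exists_dim (A := A) ⟨q, inferInstance⟩
  change ringKrullDim (A ⧸ q) = e at he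
  have he1 := Germ.one_le_dim_quotient q hqm
  rw [he, hd] at hlt'
  rw [he] at he1
  have : e = 1 := le_antisymm (Nat.lt_succ_iff.mp (by exact_mod_cast hlt')) (by exact_mod_cast he1)
  subst this
  have h2 := hdepth q inferInstance he
  have h3 := Groth.Agent.S11650.result A A p q hpq
  rw [CAlg1.depth_locSelf, CAlg1.depth_locSelf] at h3
  by_contra hc
  have h0 : LocCoh.depth (Localization.AtPrime p) (Localization.AtPrime p) = 0 :=
    Order.lt_one_iff.mp (not_le.mp hc)
  rw [h0, zero_add] at h3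
  exact absurd ((h2.trans h3).trans hht) (by decide)

omit [IsNoetherianRing A] in
theorem preimage_puncturedSpec {B : Type u} [CommRing B] [IsLocalRing B] (φ : A →+* B)
    (hφ : Function.Surjective φ) :
    Spec.map (CommRingCat.ofHom φ) ⁻¹ᵁ FEt.puncturedSpec A = FEt.puncturedSpec B := by
  have : IsLocalHom φ := .of_surjective _ hφ
  have hc : (PrimeSpectrum.comap φ) (IsLocalRing.closedPoint B) = IsLocalRing.closedPoint A :=
    IsLocalRing.comap_closedPoint φ
  ext x
  change PrimeSpectrum.comap φ x ≠ IsLocalRing.closedPoint A ↔ x ≠ IsLocalRing.closedPoint B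
  rw [← hc]
  exact (PrimeSpectrum.comap_injective_of_surjective φ hφ).ne_iff

omit [IsNoetherianRing A] in
theorem exists_trace_iso {B : Type u} [CommRing B] [IsLocalRing B] (φ : A →+* B)
    (hφ : Function.Surjective φ) :
    ∃ g : pullback (FEt.puncturedSpec A).ι (Spec.map (CommRingCat.ofHom φ)) ⟶
        (FEt.puncturedSpec B : Scheme.{u}),
      IsIso g ∧ g ≫ (FEt.puncturedSpec B).ι = pullback.snd _ _ := by
  have hr : Set.range (pullback.snd (FEt.puncturedSpec A).ι (Spec.map (CommRingCat.ofHom φ))) =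
      Set.range (FEt.puncturedSpec B).ι := by
    rw [IsOpenImmersion.range_pullbackSnd, ← preimage_puncturedSpec φ hφ, Scheme.Opens.opensRange_ι]
    exact (Scheme.Opens.range_ι _).symm
  exact ⟨(IsOpenImmersion.isoOfRangeEq _ _ hr).hom, inferInstance,
    IsOpenImmersion.isoOfRangeEq_hom_fac _ _ hr⟩

set_option backward.isDefEq.respectTransparency.types false in
theorem restrict_punctured_isEquivalence {ω : Dual.D A} (hω : Dual.IsDualizing A ω)
    (t : A) (ht : t ∈ IsLocalRing.maximalIdeal A) [HenselianRing A (Ideal.span {t})]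
    (hdepth : ∀ p : Ideal A, ∀ _ : p.IsPrime, ringKrullDim (A ⧸ p) = 1 →
      (2 : ℕ∞) ≤ LocCoh.depth (Localization.AtPrime p) (Localization.AtPrime p))
    [IsLocalRing (A ⧸ Ideal.span {t})]
    (hB : (FEt.restrict (FEt.puncturedSpec (A ⧸ Ideal.span {t})).ι).IsEquivalence) :
    (FEt.restrict (FEt.puncturedSpec A).ι).IsEquivalence := by
  obtain ⟨hfull, hfaith⟩ := Germ.restrict_ff t ht fun i hi =>
    Germ.exists_kill_of_depth hω ht (Or.inr fun p _ htp =>
      depth_add_dim hω hdepth p fun e => htp (e ▸ ht)) i hi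
  obtain ⟨g, hg, hgι⟩ := exists_trace_iso (Ideal.Quotient.mk (Ideal.span {t})) Ideal.Quotient.mk_surjective
  let q := Spec.map (CommRingCat.ofHom (Ideal.Quotient.mk (Ideal.span {t})))
  let ι := (FEt.puncturedSpec A).ι
  let u := pullback.fst ι q
  let v := pullback.snd ι q
  have := Groth.Agent.S0239.result A (Ideal.span {t})
  have hg' : (FEt.restrict g).IsEquivalence := by
    have : IsIso g := hg
    exact FEt83.isEquivalence_restrict_of_iso (asIso g)
  have hv : (FEt.restrict v).IsEquivalence := by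
    have h : (FEt.restrict (FEt.puncturedSpec (A ⧸ Ideal.span {t})).ι ⋙
      FEt.restrict g).IsEquivalence := @Functor.isEquivalence_trans _ _ _ _ _ _ _ _ hB hg'
    exact @Functor.isEquivalence_of_iso _ _ _ _ _ _
      (MorphismProperty.Over.pullbackComp g _ v hgι.symm).symm h
  let c : FEt.restrict ι ⋙ FEt.restrict u ≅ FEt.restrict q ⋙ FEt.restrict v :=
    (MorphismProperty.Over.pullbackComp u ι (u ≫ ι) rfl).symm ≪≫
      MorphismProperty.Over.pullbackComp v q (u ≫ ι) pullback.condition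
  have : (FEt.restrict ι ⋙ FEt.restrict u).IsEquivalence := Functor.isEquivalence_of_iso c.symm
  have : (FEt.restrict u).Full := hfull
  have : (FEt.restrict u).Faithful := hfaith
  have : (FEt.restrict ι).Faithful := Functor.Faithful.of_comp _ (FEt.restrict u)
  have : (FEt.restrict ι).Full := Functor.Full.of_comp_faithful _ (FEt.restrict u)
  have : (FEt.restrict ι).EssSurj := ⟨fun Y => by
    obtain ⟨X, ⟨e⟩⟩ : ∃ X, Nonempty ((FEt.restrict u).obj ((FEt.restrict ι).obj X) ≅
        (FEt.restrict u).obj Y) :=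
      ⟨_, ⟨(FEt.restrict ι ⋙ FEt.restrict u).objObjPreimageIso _⟩⟩
    exact ⟨X, ⟨(FEt.restrict u).preimageIso e⟩⟩⟩
  exact { }

end Groth.Agent.Pure83.PureQuot

namespace Groth.Agent.Pure83.PureQuot

variable {A : Type u} [CommRing A] [IsLocalRing A]

set_option backward.isDefEq.respectTransparency.types false in
theorem isPurePair_punctured_of_isEquivalence (h : (FEt.restrict (FEt.puncturedSpec A).ι).IsEquivalence) :
    SGA2.IsPurePair (Spec (CommRingCat.of A)) (FEt.puncturedSpec A) := by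
  intro V
  let X := Spec (CommRingCat.of A)
  let U := FEt.puncturedSpec A
  by_cases hx : IsLocalRing.closedPoint A ∈ V
  · have hV : V = ⊤ := TopologicalSpace.Opens.ext (Set.eq_univ_of_forall fun x =>
      (IsLocalRing.specializes_closedPoint x).mem_open V.2 hx)
    subst hV
    have hU : U ≤ (⊤ : X.Opens) ⊓ U := le_inf le_top le_rfl
    let a : ((⊤ ⊓ U : X.Opens) : Scheme.{u}) ≅ (U : Scheme.{u}) := X.isoOfEq (top_inf_eq U)
    have ha := FEt83.isEquivalence_restrict_of_iso a
    have := FEt83.isEquivalence_restrict_of_iso X.topIso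
    have hsq : X.homOfLE (inf_le_left : ⊤ ⊓ U ≤ ⊤) ≫ X.topIso.hom = a.hom ≫ U.ι := by
      rw [Scheme.topIso_hom, Scheme.homOfLE_ι, Scheme.isoOfEq_hom_ι]
    let i : FEt.restrict X.topIso.hom ⋙ FEt.restrict (X.homOfLE (inf_le_left : ⊤ ⊓ U ≤ ⊤)) ≅
        FEt.restrict U.ι ⋙ FEt.restrict a.hom :=
      (FEt83.restrictCompIso _ _).symm ≪≫ eqToIso (by rw [hsq]) ≪≫ FEt83.restrictCompIso _ _
    have : (FEt.restrict U.ι ⋙ FEt.restrict a.hom).IsEquivalence :=
      @Functor.isEquivalence_trans _ _ _ _ _ _ _ _ h ha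
    have := Functor.isEquivalence_of_iso i.symm
    exact Functor.isEquivalence_of_comp_left (FEt.restrict X.topIso.hom) _
  · have hle : V ≤ U := fun x hxV e => hx (by rwa [← show x = IsLocalRing.closedPoint A from e])
    have e : V ⊓ U = V := inf_eq_left.mpr hle
    have he : X.homOfLE (inf_le_left : V ⊓ U ≤ V) = (X.isoOfEq e).hom := by
      rw [← cancel_mono V.ι, Scheme.homOfLE_ι, Scheme.isoOfEq_hom_ι]
    rw [he]
    exact FEt83.isEquivalence_restrict_of_iso _

end Groth.Agent.Pure83.PureQuot
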