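import Groth.Agent.FEt83.FFGlue
import Groth.Agent.FEt83.GlueTwo
import Groth.Agent.FEt83.PurityExtend

/-!
# Extension of covers from extensions near every point
-/

universe u

open CategoryTheory Limits AlgebraicGeometry TopologicalSpace

set_option autoImplicit false

namespace Groth.Agent.Pure83

variable {X : Scheme.{u}} {U : X.Opens}

set_option backward.isDefEq.respectTransparency.types false in
/-- A cover with an extension near a point extends across that neighbourhood. -/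
theorem exists_extend_across (E : FEt.Cat (U : Scheme.{u}))
    (hFF : ∀ W : X.Opens, (FEt.restrict (W.ι ⁻¹ᵁ U).ι).Full ∧ (FEt.restrict (W.ι ⁻¹ᵁ U).ι).Faithful)
    (O : X.Opens) (hle : U ≤ O) (Z : FEt.Cat (O : Scheme.{u}))
    (eZ : (FEt.restrict (X.homOfLE hle)).obj Z ≅ E)
    (V : X.Opens) (Y : FEt.Cat (V : Scheme.{u}))
    (eY : (FEt.restrict (V.ι ⁻¹ᵁ U).ι).obj Y ≅ (FEt.restrict (V.ι ∣_ U)).obj E) :
    ∃ (Z' : FEt.Cat ((O ⊔ V : X.Opens) : Scheme.{u})),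
      Nonempty ((FEt.restrict (X.homOfLE (hle.trans le_sup_left : U ≤ O ⊔ V))).obj Z' ≅ E) := by
  let W := O ⊓ V
  let hO : (W : Scheme.{u}) ⟶ O := X.homOfLE inf_le_left
  let hV : (W : Scheme.{u}) ⟶ V := X.homOfLE inf_le_right
  let uW := (W.ι ⁻¹ᵁ U).ι
  let a : ((W.ι ⁻¹ᵁ U) : Scheme.{u}) ⟶ U := W.ι ∣_ U
  have ha : a ≫ U.ι = uW ≫ W.ι := morphismRestrict_ι _ _
  have h1 : uW ≫ hO = a ≫ X.homOfLE hle := by
    rw [← cancel_mono O.ι, Category.assoc, Category.assoc, X.homOfLE_ι, X.homOfLE_ι]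
    exact ha.symm
  have hr : Set.range (uW ≫ hV) ⊆ Set.range (V.ι ⁻¹ᵁ U).ι := by
    rintro _ ⟨z, rfl⟩
    rw [Scheme.Opens.range_ι]
    show V.ι ((uW ≫ hV) z) ∈ U
    rw [← Scheme.Hom.comp_apply, Category.assoc, X.homOfLE_ι]
    exact z.2
  let b := IsOpenImmersion.lift (V.ι ⁻¹ᵁ U).ι (uW ≫ hV) hr
  have hb : b ≫ (V.ι ⁻¹ᵁ U).ι = uW ≫ hV := IsOpenImmersion.lift_fac _ _ _
  have hba : b ≫ (V.ι ∣_ U) = a := by
    rw [← cancel_mono U.ι, Category.assoc, morphismRestrict_ι, ← Category.assoc, hb, Category.assoc,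
      X.homOfLE_ι, ha]
  have := (hFF W).1
  have := (hFF W).2
  let φ : (FEt.restrict hO).obj Z ≅ (FEt.restrict hV).obj Y := (FEt.restrict uW).preimageIso
    (FEt83.restrictSqIso uW hO a (X.homOfLE hle) h1 Z ≪≫ (FEt.restrict a).mapIso eZ ≪≫
      FEt83.restrictEqIso hba.symm E ≪≫ (FEt83.restrictCompIso b (V.ι ∣_ U)).app E ≪≫
      (FEt.restrict b).mapIso eY.symm ≪≫ FEt83.restrictSqIso b (V.ι ⁻¹ᵁ U).ι uW hV hb Y)
  let v : (O : Scheme.{u}) ⟶ (O ⊔ V : X.Opens) := X.homOfLE le_sup_left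
  let w : (V : Scheme.{u}) ⟶ (O ⊔ V : X.Opens) := X.homOfLE le_sup_right
  have hcov : Set.range v ∪ Set.range w = Set.univ := by
    refine Set.eq_univ_of_forall fun y => ?_
    rcases (y.2 : y.1 ∈ O ⊔ V) with hy | hy
    · exact .inl ⟨⟨y.1, hy⟩, (O ⊔ V).ι.isOpenEmbedding.injective
        congr($(X.homOfLE_ι (le_sup_left : O ≤ O ⊔ V)).base ⟨y.1, hy⟩)⟩
    · exact .inr ⟨⟨y.1, hy⟩, (O ⊔ V).ι.isOpenEmbedding.injective
        congr($(X.homOfLE_ι (le_sup_right : V ≤ O ⊔ V)).base ⟨y.1, hy⟩)⟩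
  have hp : pullback.fst v w ≫ O.ι = pullback.snd v w ≫ V.ι := by
    rw [← X.homOfLE_ι (le_sup_left : O ≤ O ⊔ V), ← X.homOfLE_ι (le_sup_right : V ≤ O ⊔ V),
      ← Category.assoc, ← Category.assoc, pullback.condition]
  have hkr : Set.range (pullback.fst v w ≫ O.ι) ⊆ Set.range W.ι := by
    rintro _ ⟨z, rfl⟩
    rw [Scheme.Opens.range_ι]
    refine ⟨(pullback.fst v w z).2, ?_⟩
    rw [hp]
    exact (pullback.snd v w z).2
  let k := IsOpenImmersion.lift W.ι (pullback.fst v w ≫ O.ι) hkr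
  have hk : k ≫ W.ι = pullback.fst v w ≫ O.ι := IsOpenImmersion.lift_fac _ _ _
  have hk1 : k ≫ hO = pullback.fst v w := by
    rw [← cancel_mono O.ι, Category.assoc, X.homOfLE_ι, hk]
  have hk2 : k ≫ hV = pullback.snd v w := by
    rw [← cancel_mono V.ι, Category.assoc, X.homOfLE_ι, hk, hp]
  obtain ⟨Z', ⟨e'⟩⟩ := FEt83.exists_glue_two v w hcov Z Y
    (FEt83.restrictEqIso hk1.symm Z ≪≫ (FEt83.restrictCompIso k hO).app Z ≪≫
      (FEt.restrict k).mapIso φ ≪≫ ((FEt83.restrictCompIso k hV).app Y).symm ≪≫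
      FEt83.restrictEqIso hk2 Y)
  exact ⟨Z', ⟨FEt83.restrictEqIso (X.homOfLE_homOfLE hle le_sup_left).symm Z' ≪≫
    (FEt83.restrictCompIso _ _).app Z' ≪≫ (FEt.restrict _).mapIso e' ≪≫ eZ⟩⟩

set_option backward.isDefEq.respectTransparency.types false in
/-- Extensions near every point give an extension. -/
theorem exists_extension_of_nhds (E : FEt.Cat (U : Scheme.{u}))
    (hFF : ∀ W : X.Opens, (FEt.restrict (W.ι ⁻¹ᵁ U).ι).Full ∧ (FEt.restrict (W.ι ⁻¹ᵁ U).ι).Faithful)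
    (hloc : ∀ x : X, ∃ V : X.Opens, x ∈ V ∧ ∃ Y : FEt.Cat (V : Scheme.{u}),
      Nonempty ((FEt.restrict (V.ι ⁻¹ᵁ U).ι).obj Y ≅ (FEt.restrict (V.ι ∣_ U)).obj E)) :
    ∃ Y' : FEt.Cat X, Nonempty ((FEt.restrict U.ι).obj Y' ≅ E) := by
  classical
  choose V hxV Y eY using hloc
  have key : ∀ s : Finset X, ∃ (O : X.Opens) (hle : U ≤ O) (Z : FEt.Cat (O : Scheme.{u})),
      (∀ x ∈ s, V x ≤ O) ∧ Nonempty ((FEt.restrict (X.homOfLE hle)).obj Z ≅ E) := by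
    intro s
    induction s using Finset.induction_on with
    | empty =>
      exact ⟨U, le_rfl, E, by simp,
        ⟨FEt83.restrictEqIso (X.homOfLE_rfl U) E ≪≫ FEt83.restrictIdIso E⟩⟩
    | insert x s _ ih =>
      obtain ⟨O, hle, Z, hs, ⟨eZ⟩⟩ := ih
      obtain ⟨Z', hZ'⟩ := exists_extend_across E hFF O hle Z eZ (V x) (Y x) (eY x).some
      refine ⟨O ⊔ V x, hle.trans le_sup_left, Z', fun z hz => ?_, hZ'⟩
      rcases Finset.mem_insert.mp hz with rfl | hz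
      · exact le_sup_right
      · exact (hs z hz).trans le_sup_left
  refine FEt83.FF.exists_extension_of_local hFF E fun W => ?_
  obtain ⟨s, hs⟩ := W.2.isCompact.elim_finite_subcover (fun x => (V x : Set X))
    (fun x => (V x).2) fun x _ => Set.mem_iUnion.mpr ⟨x, hxV x⟩
  obtain ⟨O, hle, Z, hVO, hZ⟩ := key s
  refine ⟨O, hle, Z, fun z hz => ?_, hZ⟩
  obtain ⟨x, hx, hzx⟩ := Set.mem_iUnion₂.mp (hs hz)
  exact hVO x hx hzx

end Groth.Agent.Pure83
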