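import Groth.Agent.Pure83.RelPurityLocal
import Groth.Agent.Pure83.SmallExtend
import Groth.Agent.CAlg9.CIT.FibreCodimBC
import Groth.Agent.FEt83.PureDescent

/-!
# Relative purity in fibrewise codimension two
-/

universe u

open CategoryTheory Limits AlgebraicGeometry TopologicalSpace TensorProduct IsLocalRing

set_option autoImplicit false
set_option linter.unusedSectionVars false

namespace Groth.Agent.Pure83

/-- The codimension hypothesis in fibre local rings. -/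
def FibCodimTwo {X S : Scheme.{u}} (f : X ⟶ S) (U : X.Opens) : Prop :=
  ∀ x : X, x ∉ U → (2 : WithBot ℕ∞) ≤ ringKrullDim (CInt.fiberStalk f x)

theorem map_maximalIdeal_congr {X S : Scheme.{u}} {f g : X ⟶ S} (h : f = g) (x : X) :
    (maximalIdeal (S.presheaf.stalk (f x))).map (f.stalkMap x).hom =
      (maximalIdeal (S.presheaf.stalk (g x))).map (g.stalkMap x).hom := by
  subst h; rfl

set_option backward.isDefEq.respectTransparency.types false in
/-- Fibre local rings do not change under open immersions. -/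
theorem dim_fiberStalk_openImmersion {X S X' S' : Scheme.{u}} (f : X ⟶ S) (f' : X' ⟶ S') (a : X' ⟶ X)
    (b : S' ⟶ S) [IsOpenImmersion a] [IsOpenImmersion b] (h : f' ≫ b = a ≫ f) (x : X') :
    ringKrullDim (CInt.fiberStalk f' x) = ringKrullDim (CInt.fiberStalk f (a x)) := by
  have hb : (maximalIdeal (S.presheaf.stalk (b (f' x)))).map (b.stalkMap (f' x)).hom =
      maximalIdeal (S'.presheaf.stalk (f' x)) :=
    IsLocalRing.map_maximalIdeal_of_surjective _ (ConcreteCategory.bijective_of_isIso (b.stalkMap (f' x))).surjective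
  have h1 := CAlg9.CIT.map_maximalIdeal_comp b f' x
  rw [hb] at h1
  have h2 := CAlg9.CIT.map_maximalIdeal_comp f a x
  have h3 := (map_maximalIdeal_congr h x).symm.trans h1
  rw [h2] at h3
  rw [← ringKrullDim_eq_of_ringEquiv (CAlg9.CIT.fiberStalkEquiv f' x),
    ← ringKrullDim_eq_of_ringEquiv (CAlg9.CIT.fiberStalkEquiv f (a x))]
  exact (ringKrullDim_eq_of_ringEquiv
    (Ideal.quotientEquiv _ _ (asIso (a.stalkMap x)).commRingCatIsoToRingEquiv h3.symm)).symm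

section Global

variable {X S : Scheme.{u}} (f : X ⟶ S) [Smooth f] {U : X.Opens}

set_option backward.isDefEq.respectTransparency.types false in
/-- Near a point outside `U` there is a pure affine neighbourhood. -/
theorem exists_good_nbhd (hU : FibCodimTwo f U) (x : X) (hxU : x ∉ U) :
    ∃ (M : Scheme.{u}) (_ : IsAffine M) (j : M ⟶ X) (_ : IsOpenImmersion j) (DM : M.Opens),
      x ∈ Set.range j ∧ DM ≤ j ⁻¹ᵁ U ∧ IsCompact (DM : Set M) ∧
      (∀ z : M, z ∉ DM → SchBasics.HasRegTwo (M.presheaf.stalk z)) ∧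
      (FEt.restrict DM.ι).EssSurj := by
  obtain ⟨_, ⟨W, hW, rfl⟩, hxW, -⟩ := S.isBasis_affineOpens.exists_subset_of_mem_open
    (Set.mem_univ (f x)) isOpen_univ
  obtain ⟨_, ⟨V, hV, rfl⟩, hxV, hVW⟩ := X.isBasis_affineOpens.exists_subset_of_mem_open
    (show x ∈ f ⁻¹ᵁ W from hxW) (f ⁻¹ᵁ W).2
  let φ := f.appLE W V hVW
  let : Algebra Γ(S, W) Γ(X, V) := φ.hom.toAlgebra
  have : Algebra.Smooth Γ(S, W) Γ(X, V) :=
    RingHom.smooth_algebraMap.mp (HasRingHomProperty.appLE (P := @Smooth) f ‹_› ⟨W, hW⟩ ⟨V, hV⟩ hVW)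
  have hsq : Spec.map φ ≫ hW.fromSpec = hV.fromSpec ≫ f := IsAffineOpen.SpecMap_appLE_fromSpec f hW hV hVW
  let Z : Set (PrimeSpectrum Γ(X, V)) := ((hV.fromSpec ⁻¹ᵁ U : (Spec Γ(X, V)).Opens) : Set (Spec Γ(X, V)))ᶜ
  have hZ : IsClosed Z := (hV.fromSpec ⁻¹ᵁ U).2.isClosed_compl
  let I : Ideal Γ(X, V) := PrimeSpectrum.vanishingIdeal Z
  have hIZ : ∀ y : PrimeSpectrum Γ(X, V), I ≤ y.asIdeal ↔ y ∈ Z := fun y => by
    refine Iff.trans ?_ (Set.ext_iff.mp
      ((PrimeSpectrum.zeroLocus_vanishingIdeal_eq_closure Z).trans hZ.closure_eq) y)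
    exact (PrimeSpectrum.mem_zeroLocus _ _).symm
  have hI : ∀ (P : Ideal Γ(X, V)) [P.IsPrime], I ≤ P →
      (2 : WithBot ℕ∞) ≤ ringKrullDim (Localization.AtPrime P ⧸ fibreIdeal (R := Γ(S, W)) P) := by
    intro P hP hIP
    let z : Spec Γ(X, V) := ⟨P, hP⟩
    have hz : hV.fromSpec z ∉ U := (hIZ ⟨P, hP⟩).mp hIP
    obtain ⟨e⟩ := nonempty_fibreQuotEquiv (R := Γ(S, W)) (B := Γ(X, V)) z
    rw [ringKrullDim_eq_of_ringEquiv e]
    exact (hU _ hz).trans_eq (dim_fiberStalk_openImmersion f (Spec.map φ) hV.fromSpec hW.fromSpec hsq z).symm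
  obtain ⟨x₀, hx₀⟩ : x ∈ Set.range hV.fromSpec := by rw [hV.range_fromSpec]; exact hxV
  obtain ⟨D, hD, B₂, _, _, _, g, h, P, j, hj, hxj, hjI⟩ :=
    exists_model_nhd (R := Γ(S, W)) (B := Γ(X, V)) I hI x₀ ((hIZ x₀).mpr (show hV.fromSpec x₀ ∉ U from hx₀ ▸ hxU))
  refine ⟨_, inferInstance, j ≫ hV.fromSpec, inferInstance, modelOpen (D₀ := D) g h Γ(S, W), ?_, fun z hz => ?_,
    isCompact_modelOpen _, fun z hz => ?_, essSurj_model D hD P⟩
  · obtain ⟨x₁, hx₁⟩ := hxj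
    exact ⟨x₁, by rw [Scheme.Hom.comp_apply, hx₁, hx₀]⟩
  · by_contra hc
    exact hjI z hz ((hIZ (j z)).mpr hc)
  · obtain ⟨h1, h2⟩ := mem_of_notMem_modelOpen _ z hz
    exact (P.baseChange Γ(S, W)).hasRegTwo_stalk z h1 h2

set_option backward.isDefEq.respectTransparency.types false in
/-- Complements of fibrewise codimension two are good. -/
theorem goodPair_of_fibCodimTwo (hU : FibCodimTwo f U) : GoodPair X U := by
  refine goodPair_of_nhds fun x => ?_
  by_cases hxU : x ∈ U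
  · obtain ⟨_, ⟨V, hV, rfl⟩, hxV, hVU⟩ := X.isBasis_affineOpens.exists_subset_of_mem_open hxU U.2
    exact ⟨V, hxV, hV, V, le_inf hVU le_rfl, hV.isCompact, fun z hz hz' => absurd hz hz'⟩
  obtain ⟨M, _, j, _, DM, hxj, hle, hc, hreg, -⟩ := exists_good_nbhd f hU x hxU
  refine ⟨j.opensRange, hxj, isAffineOpen_opensRange j, j ''ᵁ DM,
    le_inf ?_ (j.image_le_opensRange DM), ?_, fun z hz hzD => ?_⟩
  · rintro _ ⟨z, hz, rfl⟩
    exact hle hz
  · exact hc.image j.continuous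
  · obtain ⟨w, rfl⟩ := hz
    exact (hreg w fun hw => hzD ⟨w, hw, rfl⟩).of_ringEquiv (asIso (j.stalkMap w)).commRingCatIsoToRingEquiv.symm

set_option backward.isDefEq.respectTransparency.types false in
/-- A cover of the open extends to a pure affine neighbourhood. -/
theorem exists_extension_chart (E : FEt.Cat (U : Scheme.{u})) {M : Scheme.{u}} [IsAffine M] (j : M ⟶ X)
    [IsOpenImmersion j] (DM : M.Opens) (hle : DM ≤ j ⁻¹ᵁ U) (hc : IsCompact (DM : Set M))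
    (hreg : ∀ z : M, z ∉ DM → SchBasics.HasRegTwo (M.presheaf.stalk z)) (hess : (FEt.restrict DM.ι).EssSurj) :
    ∃ Y : FEt.Cat (j.opensRange : Scheme.{u}),
      Nonempty ((FEt.restrict (j.opensRange.ι ⁻¹ᵁ U).ι).obj Y ≅ (FEt.restrict (j.opensRange.ι ∣_ U)).obj E) := by
  let UM := j ⁻¹ᵁ U
  let EM := (FEt.restrict (j ∣_ U)).obj E
  let inc := M.homOfLE hle
  obtain ⟨Y, ⟨eY⟩⟩ := hess.mem_essImage ((FEt.restrict inc).obj EM)
  have hM : GoodPair M DM := goodPair_of_nhds fun z =>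
    ⟨⊤, trivial, isAffineOpen_top M, DM, le_inf le_rfl le_top, hc, fun w _ hw => hreg w hw⟩
  obtain ⟨_, _⟩ := (hM.comap_open UM).fullyFaithful
  let i := UM.ι ∣_ DM
  have hi : i ≫ DM.ι = (UM.ι ⁻¹ᵁ DM).ι ≫ UM.ι := morphismRestrict_ι _ _
  have hinc : i ≫ inc = (UM.ι ⁻¹ᵁ DM).ι := by
    rw [← cancel_mono UM.ι, Category.assoc, M.homOfLE_ι]
    exact hi
  let e : (FEt.restrict UM.ι).obj Y ≅ EM := (FEt.restrict (UM.ι ⁻¹ᵁ DM).ι).preimageIso
    (FEt83.restrictSqIso (UM.ι ⁻¹ᵁ DM).ι UM.ι i DM.ι hi.symm Y ≪≫ (FEt.restrict i).mapIso eY ≪≫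
      ((FEt83.restrictCompIso i inc).app EM).symm ≪≫ FEt83.restrictEqIso hinc EM)
  let V := j.opensRange
  let v := j.isoOpensRange.inv
  have hv : v ≫ j = V.ι := j.isoOpensRange_inv_comp
  have hrange : Set.range ((V.ι ⁻¹ᵁ U).ι ≫ v) ⊆ Set.range UM.ι := by
    rintro _ ⟨z, rfl⟩
    rw [Scheme.Opens.range_ι]
    show j (v z.1) ∈ U
    rw [← Scheme.Hom.comp_apply, hv]
    exact z.2
  let k := IsOpenImmersion.lift UM.ι ((V.ι ⁻¹ᵁ U).ι ≫ v) hrange
  have hk : k ≫ UM.ι = (V.ι ⁻¹ᵁ U).ι ≫ v := IsOpenImmersion.lift_fac _ _ _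
  have hkU : k ≫ (j ∣_ U) = V.ι ∣_ U := by
    rw [← cancel_mono U.ι, Category.assoc, morphismRestrict_ι, reassoc_of% hk, hv, morphismRestrict_ι]
  refine ⟨(FEt.restrict v).obj Y, ⟨?_⟩⟩
  exact FEt83.restrictSqIso (V.ι ⁻¹ᵁ U).ι v k UM.ι hk.symm Y ≪≫ (FEt.restrict k).mapIso e ≪≫
    ((FEt83.restrictCompIso k (j ∣_ U)).app E).symm ≪≫ FEt83.restrictEqIso hkU E

set_option backward.isDefEq.respectTransparency.types false in
/-- Purity in fibrewise codimension two for smooth morphisms. -/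
theorem isEquivalence_restrict_of_fibCodimTwo (hU : FibCodimTwo f U) : (FEt.restrict U.ι).IsEquivalence := by
  have hG := goodPair_of_fibCodimTwo f hU
  obtain ⟨_, _⟩ := hG.fullyFaithful
  have hFF : ∀ W : X.Opens, (FEt.restrict (W.ι ⁻¹ᵁ U).ι).Full ∧ (FEt.restrict (W.ι ⁻¹ᵁ U).ι).Faithful :=
    fun W => (hG.comap_open W).fullyFaithful
  have : (FEt.restrict U.ι).EssSurj := by
    refine ⟨fun E => exists_extension_of_nhds E hFF fun x => ?_⟩
    by_cases hxU : x ∈ U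
    · have hr : (U.ι ⁻¹ᵁ U).ι ≫ 𝟙 (U : Scheme.{u}) = U.ι ∣_ U := by
        rw [← cancel_mono U.ι, morphismRestrict_ι, Category.comp_id]
      exact ⟨U, hxU, E, ⟨FEt83.restrictEqIso ((Category.comp_id _).symm.trans hr) E⟩⟩
    · obtain ⟨M, _, j, _, DM, hxj, hle, hc, hreg, hess⟩ := exists_good_nbhd f hU x hxU
      exact ⟨j.opensRange, hxj, exists_extension_chart E j DM hle hc hreg hess⟩
  exact { }

end Global

end Groth.Agent.Pure83
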