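import Groth.Agent.Pure83.FibRegPair
import Groth.Agent.SpPts86.SliceRing
import Groth.Agent.EGA4H10.CompleteUC
import Groth.Agent.LC16.CanonLocal
import Groth.Agent.CAlg1.Regular

/-!
# Models of pairs cutting out fibrewise codimension two
-/

universe u

open TensorProduct RingTheory.Sequence IsLocalRing

set_option autoImplicit false
set_option linter.style.haveILetI false

namespace Groth.Agent.Pure83

open SpPts86 in
/-- A sequence regular on a fibre after a field extension is regular at the point below. -/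
theorem weaklyRegular_localization_of_fibre {D B₁ K : Type u} [CommRing D] [CommRing B₁] [Algebra D B₁] [Field K]
    [Algebra D K] [IsNoetherianRing D] [Algebra.FinitePresentation D B₁] [Module.Flat D B₁] (hs : List B₁)
    (Q : Ideal (K ⊗[D] B₁)) [Q.IsPrime]
    (hreg : IsWeaklyRegular (Localization.AtPrime Q)
      (hs.map fun b => algebraMap (K ⊗[D] B₁) (Localization.AtPrime Q) ((1 : K) ⊗ₜ b))) :
    IsWeaklyRegular (Localization.AtPrime (Q.comap (Algebra.TensorProduct.includeRight : B₁ →ₐ[D] K ⊗[D] B₁).toRingHom))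
      (hs.map (algebraMap B₁ (Localization.AtPrime (Q.comap (Algebra.TensorProduct.includeRight : B₁ →ₐ[D] K ⊗[D] B₁).toRingHom)))) := by
  have : IsNoetherianRing B₁ := Algebra.FiniteType.isNoetherianRing D B₁
  let φ : B₁ →+* K ⊗[D] B₁ := (Algebra.TensorProduct.includeRight : B₁ →ₐ[D] K ⊗[D] B₁).toRingHom
  have hφ : ∀ a : D, φ (algebraMap D B₁ a) = algebraMap D (K ⊗[D] B₁) a := fun a =>
    (Algebra.TensorProduct.includeRight : B₁ →ₐ[D] K ⊗[D] B₁).commutes a
  let q : Ideal B₁ := Q.comap φ
  let p : Ideal D := q.comap (algebraMap D B₁)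
  have hp : RingHom.ker (algebraMap D K) = p := by
    refine le_antisymm (fun a ha => ?_) fun a ha => ?_
    · change φ (algebraMap D B₁ a) ∈ Q
      rw [hφ, Algebra.TensorProduct.algebraMap_apply, RingHom.mem_ker.1 ha, zero_tmul]
      exact Q.zero_mem
    · rw [RingHom.mem_ker]
      by_contra hne
      change φ (algebraMap D B₁ a) ∈ Q at ha
      rw [hφ, Algebra.TensorProduct.algebraMap_apply] at ha
      exact Ideal.IsPrime.ne_top ‹_› (Q.eq_top_of_isUnit_mem ha
        ((isUnit_iff_ne_zero.2 hne).map (Algebra.TensorProduct.includeLeftRingHom : K →+* K ⊗[D] B₁)))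
  have hI : ∀ x ∈ p.map (algebraMap D B₁), φ x = 0 := fun x hx => by
    have : p.map (algebraMap D B₁) ≤ RingHom.ker φ := Ideal.map_le_iff_le_comap.2 fun a ha => by
      change φ (algebraMap D B₁ a) = 0
      rw [hφ, Algebra.TensorProduct.algebraMap_apply, RingHom.mem_ker.1 (hp.ge ha), zero_tmul]
    exact this hx
  have hflat := flat_includeRight_quotient p hp hI
  haveI : q.LiesOver p := ⟨rfl⟩
  let DL := Localization.AtPrime p
  let BL := Localization.AtPrime q
  let KQ := Localization.AtPrime Q
  letI : Algebra DL BL := Localization.AtPrime.algebraOfLiesOver p q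
  haveI : IsLocalHom (algebraMap DL BL) := Localization.isLocalHom_localRingHom _ _ _ _
  have : Module.Flat D BL := Module.Flat.trans D B₁ BL
  have : Module.Flat DL BL := (Module.flat_iff_of_isLocalization (S := DL) (p := p.primeCompl) (M := BL)).2 this
  have hIL : (IsLocalRing.maximalIdeal DL).map (algebraMap DL BL) =
      (p.map (algebraMap D B₁)).map (algebraMap B₁ BL) := by
    rw [← Localization.AtPrime.map_eq_maximalIdeal (I := p), Ideal.map_map, Ideal.map_map,
      ← IsScalarTower.algebraMap_eq D DL BL, ← IsScalarTower.algebraMap_eq D B₁ BL]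
  let φL : BL →+* KQ := Localization.localRingHom q Q φ rfl
  have hφL : ∀ b, φL (algebraMap B₁ BL b) = algebraMap (K ⊗[D] B₁) KQ (φ b) :=
    fun b => Localization.localRingHom_to_map _ _ _ _ b
  have hker : ∀ x ∈ (p.map (algebraMap D B₁)).map (algebraMap B₁ BL), φL x = 0 := fun x hx => by
    have : (p.map (algebraMap D B₁)).map (algebraMap B₁ BL) ≤ RingHom.ker φL :=
      Ideal.map_le_iff_le_comap.2 fun b hb => by
        change φL (algebraMap B₁ BL b) = 0
        rw [hφL, hI b hb, map_zero]
    exact this hx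
  let IL : Ideal BL := (p.map (algebraMap D B₁)).map (algebraMap B₁ BL)
  have hIL1 : IL ≠ ⊤ := fun h => by
    have h1 := hker 1 (show (1 : BL) ∈ IL from h ▸ trivial)
    rw [map_one] at h1
    exact one_ne_zero h1
  have hregF : IsWeaklyRegular (BL ⧸ IL) (hs.map fun b => Ideal.Quotient.mk IL (algebraMap B₁ BL b)) := by
    letI : Algebra (BL ⧸ IL) KQ := (Ideal.Quotient.lift IL φL hker).toAlgebra
    letI : Algebra (B₁ ⧸ p.map (algebraMap D B₁)) KQ :=
      ((algebraMap (K ⊗[D] B₁) KQ).comp (Ideal.Quotient.lift (p.map (algebraMap D B₁)) φ hI)).toAlgebra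
    have : Module.Flat (B₁ ⧸ p.map (algebraMap D B₁)) KQ :=
      RingHom.flat_algebraMap_iff.1 (RingHom.Flat.comp hflat
        (RingHom.flat_algebraMap_iff.2 (IsLocalization.flat KQ Q.primeCompl)))
    have : IsScalarTower (B₁ ⧸ p.map (algebraMap D B₁)) (BL ⧸ IL) KQ := IsScalarTower.of_algebraMap_eq fun x => by
      obtain ⟨b, rfl⟩ := Ideal.Quotient.mk_surjective x
      exact (hφL b).symm
    have : Module.Flat (BL ⧸ IL) KQ :=
      (Module.flat_iff_of_isLocalization (S := BL ⧸ IL)
        (p := Algebra.algebraMapSubmonoid (B₁ ⧸ p.map (algebraMap D B₁)) q.primeCompl) (M := KQ)).2 ‹_›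
    have : Nontrivial (BL ⧸ IL) := Ideal.Quotient.nontrivial_iff.mpr hIL1
    have : IsLocalRing (BL ⧸ IL) := IsLocalRing.of_surjective' _ Ideal.Quotient.mk_surjective
    have : IsLocalHom (algebraMap (BL ⧸ IL) KQ) := ⟨fun a ha => by
      obtain ⟨b, rfl⟩ := Ideal.Quotient.mk_surjective a
      have : IsLocalHom φL := Localization.isLocalHom_localRingHom _ _ _ _
      exact ((IsUnit.of_map φL b) ha).map _⟩
    have : Module.FaithfullyFlat (BL ⧸ IL) KQ := Module.FaithfullyFlat.of_flat_of_isLocalHom
    refine isWeaklyRegular_of_faithfullyFlat (IsBaseChange.linearMap (BL ⧸ IL) KQ) ?_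
    rw [List.map_map]
    refine (List.map_congr_left (g := fun b => algebraMap (K ⊗[D] B₁) KQ ((1 : K) ⊗ₜ b)) ?_ : _ = _) ▸ hreg
    intro b _
    exact hφL b
  let hsL : List BL := hs.map (algebraMap B₁ BL)
  have hregM : IsWeaklyRegular (BL ⧸ ((IsLocalRing.maximalIdeal DL).map (algebraMap DL BL) • (⊤ : Submodule BL BL))) hsL := by
    rw [hIL]
    refine ((Submodule.quotEquivOfEq _ _ (Ideal.mul_top IL)).isWeaklyRegular_congr hsL).2 ?_
    refine (isWeaklyRegular_map_algebraMap_iff (BL ⧸ IL) (BL ⧸ IL) hsL).1 ?_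
    rw [List.map_map]
    exact hregF
  exact (EGA4Alg4.FlatReg13.regular_and_flat hsL BL hregM).1

/-- Regularity modulo an ideal at a prime spreads to a neighbourhood. -/
theorem exists_regMod_away {B : Type u} [CommRing B] [IsNoetherianRing B] (q : Ideal B) [q.IsPrime]
    (I : Ideal B) (x : B)
    (h : RegMod (I.map (algebraMap B (Localization.AtPrime q))) (algebraMap B (Localization.AtPrime q) x)) :
    ∃ t ∉ q, ∀ s, t ∣ s →
      RegMod (I.map (algebraMap B (Localization.Away s))) (algebraMap B (Localization.Away s) x) := by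
  classical
  let N : Ideal B :=
    { carrier := {a | x * a ∈ I}
      add_mem' := fun {a b} ha hb => by show x * (a + b) ∈ I; rw [mul_add]; exact I.add_mem ha hb
      zero_mem' := by show x * 0 ∈ I; rw [mul_zero]; exact I.zero_mem
      smul_mem' := fun c a ha => by show x * (c * a) ∈ I; rw [mul_left_comm]; exact I.mul_mem_left c ha }
  have hq : ∀ a ∈ N, ∃ t ∉ q, t * a ∈ I := fun a ha => by
    have h1 : algebraMap B (Localization.AtPrime q) x * algebraMap B (Localization.AtPrime q) a ∈
        I.map (algebraMap B (Localization.AtPrime q)) := by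
      rw [← map_mul]; exact Ideal.mem_map_of_mem _ ha
    exact (IsLocalization.algebraMap_mem_map_algebraMap_iff q.primeCompl (Localization.AtPrime q) I a).mp
      (h _ h1)
  obtain ⟨G, hG⟩ := IsNoetherian.noetherian N
  choose t ht hta using fun a : (G : Set B) => hq a.1 (hG.le (Submodule.subset_span a.2))
  refine ⟨∏ a : (G : Set B), t a, fun hmem => ?_, fun s hs c hc => ?_⟩
  · obtain ⟨a, -, ha⟩ := Ideal.IsPrime.prod_mem_iff.mp hmem
    exact ht a ha
  have hN : ∀ a ∈ N, (∏ a : (G : Set B), t a) * a ∈ I := by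
    intro a ha
    rw [← hG] at ha
    induction ha using Submodule.span_induction with
    | mem a ha =>
      rw [← Finset.mul_prod_erase _ _ (Finset.mem_univ (⟨a, ha⟩ : (G : Set B))),
        mul_comm (t _), mul_assoc]
      exact I.mul_mem_left _ (hta ⟨a, ha⟩)
    | zero => rw [mul_zero]; exact I.zero_mem
    | add a b _ _ ha hb => rw [mul_add]; exact I.add_mem ha hb
    | smul r a _ ha => rw [smul_eq_mul, mul_left_comm]; exact I.mul_mem_left r ha
  obtain ⟨a, ⟨_, n, rfl⟩, rfl⟩ := IsLocalization.exists_mk'_eq (Submonoid.powers s) c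
  have h1 : algebraMap B (Localization.Away s) (x * a) ∈ I.map (algebraMap B (Localization.Away s)) := by
    have := Ideal.mul_mem_right (algebraMap B (Localization.Away s) (s ^ n)) _ hc
    rw [mul_assoc, IsLocalization.mk'_spec] at this
    rwa [map_mul]
  obtain ⟨_, ⟨m, rfl⟩, hm⟩ :=
    (IsLocalization.algebraMap_mem_map_algebraMap_iff (Submonoid.powers s) _ I _).mp h1
  have h2 : (s ^ (m + 1)) * a ∈ I := by
    obtain ⟨r, hr⟩ := hs
    have := hN (s ^ m * a) (show x * (s ^ m * a) ∈ I by rw [mul_left_comm]; exact hm)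
    have h3 := I.mul_mem_left r this
    rw [show r * ((∏ a : (G : Set B), t a) * (s ^ m * a)) = s ^ (m + 1) * a by rw [pow_succ, hr]; ring] at h3
    exact h3
  exact IsLocalization.mk'_mem_iff.mpr ((IsLocalization.algebraMap_mem_map_algebraMap_iff
    (Submonoid.powers s) _ I a).mpr ⟨s ^ (m + 1), ⟨m + 1, rfl⟩, h2⟩)

/-- Flatness over the base of a localised quotient, from that of the localisation of the quotient. -/
theorem flat_away_quotient {D B : Type u} [CommRing D] [CommRing B] [Algebra D B] (J : Ideal B) (s t : B)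
    (hts : t ∣ s) (h : Module.Flat D (Localization.Away (Ideal.Quotient.mk J t))) :
    Module.Flat D (Localization.Away s ⧸ J.map (algebraMap B (Localization.Away s))) := by
  let Q := B ⧸ J
  let C := Localization.Away (Ideal.Quotient.mk J t)
  let E := Localization.Away s ⧸ J.map (algebraMap B (Localization.Away s))
  have he : Algebra.algebraMapSubmonoid Q (Submonoid.powers s) = Submonoid.powers (Ideal.Quotient.mk J s) :=
    Submonoid.map_powers _ _
  have hE : IsLocalization (Algebra.algebraMapSubmonoid Q (Submonoid.powers s)) E := inferInstance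
  rw [he] at hE
  have hu : IsUnit (algebraMap Q E (Ideal.Quotient.mk J t)) := by
    obtain ⟨r, rfl⟩ := hts
    have := IsLocalization.map_units E (⟨Ideal.Quotient.mk J (t * r), 1, pow_one _⟩ :
      Submonoid.powers (Ideal.Quotient.mk J (t * r)))
    simp only [map_mul] at this
    exact isUnit_of_mul_isUnit_left this
  let φ : C →+* E := IsLocalization.Away.lift (Ideal.Quotient.mk J t) hu
  let : Algebra C E := φ.toAlgebra
  have : IsScalarTower Q C E := IsScalarTower.of_algebraMap_eq fun a =>
    (IsLocalization.Away.lift_eq _ hu a).symm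
  have : IsScalarTower D Q E := IsScalarTower.of_algebraMap_eq fun a => rfl
  have : IsScalarTower D C E := IsScalarTower.of_algebraMap_eq fun a => by
    rw [IsScalarTower.algebraMap_apply D Q C, ← IsScalarTower.algebraMap_apply Q C E,
      ← IsScalarTower.algebraMap_apply D Q E]
  have : Module.Flat Q E := IsLocalization.flat E (Submonoid.powers (Ideal.Quotient.mk J s))
  have : Module.Flat C E :=
    (Module.flat_iff_of_isLocalization (S := C) (p := Submonoid.powers (Ideal.Quotient.mk J t)) (M := E)).2 this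
  exact Module.Flat.trans D C E

/-- A pair regular on a field-valued fibre has flat quotients and is regular near the point. -/
theorem exists_fibRegPair_away {D B₁ K : Type u} [CommRing D] [CommRing B₁] [Algebra D B₁] [Field K]
    [Algebra D K] [IsNoetherianRing D] [Algebra.FinitePresentation D B₁] [Module.Flat D B₁] (g h : B₁)
    (Q : Ideal (K ⊗[D] B₁)) [Q.IsPrime]
    (hreg : IsWeaklyRegular (Localization.AtPrime Q)
      ([g, h].map fun b => algebraMap (K ⊗[D] B₁) (Localization.AtPrime Q) ((1 : K) ⊗ₜ b))) :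
    ∃ s : B₁, ((1 : K) ⊗ₜ[D] s) ∉ Q ∧
      FibRegPair D (algebraMap B₁ (Localization.Away s) g) (algebraMap B₁ (Localization.Away s) h) := by
  have : IsNoetherianRing B₁ := Algebra.FiniteType.isNoetherianRing D B₁
  have hreg1 : IsWeaklyRegular (Localization.AtPrime Q)
      ([g].map fun b => algebraMap (K ⊗[D] B₁) (Localization.AtPrime Q) ((1 : K) ⊗ₜ b)) :=
    IsWeaklyRegular.cons ((isWeaklyRegular_cons_iff _ _ _).mp hreg).1 (IsWeaklyRegular.nil _ _)
  obtain ⟨s₁, hs₁, hf₁⟩ := SpPts86.exists_flat_away_noetherian [g] Q hreg1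
  obtain ⟨s₂, hs₂, hf₂⟩ := SpPts86.exists_flat_away_noetherian [g, h] Q hreg
  let φ : B₁ →+* K ⊗[D] B₁ := (Algebra.TensorProduct.includeRight : B₁ →ₐ[D] K ⊗[D] B₁).toRingHom
  let q : Ideal B₁ := Q.comap φ
  let BL := Localization.AtPrime q
  have hw := weaklyRegular_localization_of_fibre [g, h] Q hreg
  obtain ⟨hwg, hwh⟩ := (isWeaklyRegular_cons_iff _ _ _).mp hw
  rw [List.map_singleton, isWeaklyRegular_singleton_iff] at hwh
  have r1 : RegMod ((⊥ : Ideal B₁).map (algebraMap B₁ BL)) (algebraMap B₁ BL g) := by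
    rw [Ideal.map_bot]
    exact fun a ha => Ideal.mem_bot.mpr (hwg.right_eq_zero_of_smul (Ideal.mem_bot.mp ha))
  have r2 : RegMod ((Ideal.span {g}).map (algebraMap B₁ BL)) (algebraMap B₁ BL h) := by
    rw [Ideal.map_span, Set.image_singleton]
    intro a ha
    obtain ⟨w, hw'⟩ := Ideal.mem_span_singleton'.mp ha
    have hz : algebraMap B₁ BL h • (Submodule.Quotient.mk a : QuotSMulTop (algebraMap B₁ BL g) BL) = 0 := by
      rw [← Submodule.Quotient.mk_smul, Submodule.Quotient.mk_eq_zero, Submodule.mem_smul_pointwise_iff_exists]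
      exact ⟨w, trivial, by rw [smul_eq_mul, smul_eq_mul, mul_comm, hw']⟩
    have := hwh.right_eq_zero_of_smul hz
    rw [Submodule.Quotient.mk_eq_zero, Submodule.mem_smul_pointwise_iff_exists] at this
    obtain ⟨y, -, hy⟩ := this
    exact Ideal.mem_span_singleton'.mpr ⟨y, by rw [mul_comm]; exact hy⟩
  obtain ⟨t₁, ht₁, hr₁⟩ := exists_regMod_away q ⊥ g r1
  obtain ⟨t₂, ht₂, hr₂⟩ := exists_regMod_away q (Ideal.span {g}) h r2
  let s := s₁ * s₂ * (t₁ * t₂)
  refine ⟨s, fun hs => ?_, ?_⟩
  · have hq : q.IsPrime := Ideal.comap_isPrime φ Q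
    have : s ∈ q := hs
    rcases hq.mem_or_mem this with h' | h'
    · rcases hq.mem_or_mem h' with h'' | h''
      · exact hs₁ h''
      · exact hs₂ h''
    · rcases hq.mem_or_mem h' with h'' | h''
      · exact ht₁ h''
      · exact ht₂ h''
  have e1 : (Ideal.ofList [g]).map (algebraMap B₁ (Localization.Away s)) =
      Ideal.span {algebraMap B₁ (Localization.Away s) g} := by
    rw [Ideal.ofList_singleton, Ideal.map_span, Set.image_singleton]
  have e2 : (Ideal.ofList [g, h]).map (algebraMap B₁ (Localization.Away s)) =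
      Ideal.span {algebraMap B₁ (Localization.Away s) g, algebraMap B₁ (Localization.Away s) h} := by
    rw [Ideal.ofList_cons, Ideal.ofList_singleton, ← Ideal.span_union, Ideal.map_span, Set.image_union,
      Set.image_singleton, Set.image_singleton, Set.singleton_union]
  refine ⟨?_, ?_, ?_, ?_⟩
  · have := hr₁ s ⟨s₁ * s₂ * t₂, by ring⟩
    rwa [Ideal.map_bot] at this
  · have := hr₂ s ⟨s₁ * s₂ * t₁, by ring⟩
    rwa [Ideal.map_span, Set.image_singleton] at this
  · rw [← e1]
    exact flat_away_quotient _ s s₁ ⟨s₂ * (t₁ * t₂), by ring⟩ hf₁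
  · rw [← e2]
    exact flat_away_quotient _ s s₂ ⟨s₁ * (t₁ * t₂), by ring⟩ hf₂

/-- An ideal of height at least two in a regular local ring contains a regular pair. -/
theorem exists_pair_of_height {B F : Type u} [CommRing B] [CommRing F] [IsRegularLocalRing F]
    [Algebra B F] (I : Ideal B)
    (h2 : ∀ P : Ideal F, ∀ _ : P.IsPrime, I.map (algebraMap B F) ≤ P → (2 : ℕ∞) ≤ P.height)
    (hI : I.map (algebraMap B F) ≤ maximalIdeal F) :
    ∃ g ∈ I, ∃ h ∈ I, RegMod (⊥ : Ideal F) (algebraMap B F g) ∧
      RegMod (Ideal.span {algebraMap B F g}) (algebraMap B F h) := by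
  classical
  have := CAlg1.isDomain_regular F
  have hbot : (⊥ : Ideal F).IsPrime := Ideal.isPrime_bot
  obtain ⟨g, hgI, hg0⟩ : ∃ g ∈ I, algebraMap B F g ≠ 0 := by
    by_contra hc
    push Not at hc
    have := h2 ⊥ hbot (Ideal.map_le_iff_le_comap.mpr fun a ha => Ideal.mem_bot.mpr (hc a ha))
    rw [Ideal.height_bot] at this
    exact absurd this (by simp)
  refine ⟨g, hgI, ?_⟩
  let g' := algebraMap B F g
  have hgm : g' ∈ maximalIdeal F := hI (Ideal.mem_map_of_mem _ hgI)
  have hreg : IsWeaklyRegular F [g'] := by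
    rw [isWeaklyRegular_singleton_iff]
    exact isSMulRegular_iff_right_eq_zero_of_smul.mpr fun a ha => (mul_eq_zero.mp ha).resolve_left hg0
  have hmem : ∀ x ∈ [g'], x ∈ maximalIdeal F := fun x hx => by rw [List.mem_singleton] at hx; exact hx ▸ hgm
  let M := F ⧸ (Ideal.ofList [g'] • (⊤ : Submodule F F))
  have hcm : LocCoh.IsCohenMacaulayModule F M :=
    EGA4Alg4.isCohenMacaulayModule_quotient (CAlg9.CIT.isCohenMacaulayModule_self F) hreg hmem
  have hlen := Module.supportDim_add_length_eq_supportDim_of_isRegular (M := F) [g']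
    ((IsLocalRing.isRegular_iff_isWeaklyRegular_of_subset_maximalIdeal hmem).mpr hreg)
  have := EGA4H10.isCohenMacaulayLocalRing_of_regular F
  obtain ⟨n, hn⟩ := CAlg9.CIT.exists_dim_eq F
  have hfin : (associatedPrimes F M).Finite := associatedPrimes.finite F M
  have hnot : ∀ P ∈ associatedPrimes F M, ¬ I ≤ P.comap (algebraMap B F) := by
    intro P hP hle
    have hPp : P.IsPrime := hP.isPrime
    have hd : ringKrullDim (F ⧸ P) = Module.supportDim F M :=
      EGA4Alg4.ringKrullDim_quotient_assoc hcm hP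
    have := IsLocalRing.of_surjective' (Ideal.Quotient.mk P) Ideal.Quotient.mk_surjective
    obtain ⟨a, ha⟩ := CAlg9.CIT.exists_dim_eq (F ⧸ P)
    obtain ⟨k, hk⟩ := CAlg9.CIT.exists_dim_eq (Localization.AtPrime P)
    have hsum := LC16.CanonLocal.height_add_dim_quotient P hn hk ha
    have hh := h2 P hPp (Ideal.map_le_iff_le_comap.mpr hle)
    have hk' : ((P.height : ℕ∞) : WithBot ℕ∞) = (k : WithBot ℕ∞) := by
      rw [← hk, IsLocalization.AtPrime.ringKrullDim_eq_height P]
    have hk2 : P.height = (k : ℕ∞) := WithBot.coe_injective hk'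
    rw [hk2] at hh
    rw [Module.supportDim_self_eq_ringKrullDim, hn] at hlen
    rw [show Module.supportDim F M = _ from hd.symm, ha] at hlen
    simp only [List.length_singleton] at hlen
    norm_cast at hlen hh
    omega
  obtain ⟨h, hhI, hh⟩ : ∃ h ∈ I, ∀ P ∈ associatedPrimes F M, algebraMap B F h ∉ P := by
    by_contra hc
    push Not at hc
    obtain ⟨P, hP, hle⟩ := (Ideal.subset_union_prime_finite hfin
      (f := fun P : Ideal F => P.comap (algebraMap B F)) ⊥ ⊥
      (fun P hP _ _ => have := hP.isPrime; Ideal.comap_isPrime _ P) (I := I)).mp (fun h hh => by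
        obtain ⟨P, hP, hhP⟩ := hc h hh
        exact Set.mem_iUnion₂.mpr ⟨P, hP, hhP⟩)
    exact hnot P hP hle
  refine ⟨h, hhI, fun a ha => Ideal.mem_bot.mpr ((mul_eq_zero.mp (Ideal.mem_bot.mp ha)).resolve_left hg0), ?_⟩
  intro a ha
  by_contra hna
  have htop : (Ideal.ofList [g'] • (⊤ : Submodule F F)) = Ideal.span {g'} := by
    rw [smul_eq_mul, Ideal.mul_top, Ideal.ofList_singleton]
  let m : M := Submodule.Quotient.mk a
  have hm0 : m ≠ 0 := fun e => hna (by
    rw [Submodule.Quotient.mk_eq_zero, htop] at e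
    exact e)
  have hmem' : algebraMap B F h ∈ {r : F | ∃ x : M, x ≠ 0 ∧ r • x = 0} := ⟨m, hm0, by
    rw [← Submodule.Quotient.mk_smul, Submodule.Quotient.mk_eq_zero, htop]
    exact ha⟩
  rw [← biUnion_associatedPrimes_eq_zero_divisors F M] at hmem'
  obtain ⟨P, hP, hhP⟩ := Set.mem_iUnion₂.mp hmem'
  exact hh P hP hhP

end Groth.Agent.Pure83
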