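import Groth.Agent.Pure83.ModuleLemmas
import Mathlib.RingTheory.Etale.Basic
import Mathlib.RingTheory.RingHom.Etale
import Mathlib.RingTheory.Flat.Basic
import Mathlib.RingTheory.Flat.TorsionFree
import Mathlib.RingTheory.Flat.EquationalCriterion
import Mathlib.RingTheory.Localization.Finiteness
import Mathlib.RingTheory.Ideal.AssociatedPrime.Basic

/-!
# Section rings of finite étale covers of a punctured spectrum
-/

universe u

namespace Groth.Agent.Pure83

variable (A M : Type u) [CommRing A] [CommRing M] [Algebra A M]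

/-- The map of localizations at `c`. -/
noncomputable abbrev awayStr (c : A) :
    Localization.Away c →+* Localization.Away (algebraMap A M c) :=
  Localization.awayMap (algebraMap A M) c

/-- `M` behaves like the ring of sections of a finite étale cover of the punctured spectrum,
covered by the basic opens of the family `g`. -/
structure IsSectionRing {ι : Type} (g : ι → A) [IsLocalRing A] : Prop where
  finite : ∀ c ∈ IsLocalRing.maximalIdeal A, (awayStr A M c).Finite
  etale : ∀ c ∈ IsLocalRing.maximalIdeal A, (awayStr A M c).Etale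
  sep : ∀ m : M, (∀ i, ∃ k : ℕ, g i ^ k • m = 0) → m = 0
  glue : ∀ (k : ℕ) (a : ι → M), (∀ i j, g j ^ k • a i = g i ^ k • a j) →
    ∃ m : M, ∀ i, g i ^ k • m = a i

/-- `M` is finite étale on the basic opens of the family `g` and glues from them. -/
structure IsLocSectionRing {ι : Type} (g : ι → A) : Prop where
  finite : ∀ i, (awayStr A M (g i)).Finite
  etale : ∀ i, (awayStr A M (g i)).Etale
  sep : ∀ m : M, (∀ i, ∃ k : ℕ, g i ^ k • m = 0) → m = 0
  glue : ∀ (k : ℕ) (a : ι → M), (∀ i j, g j ^ k • a i = g i ^ k • a j) →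
    ∃ m : M, ∀ i, g i ^ k • m = a i

variable {A M}

theorem IsSectionRing.toLoc {ι : Type} {g : ι → A} [IsLocalRing A] (h : IsSectionRing A M g)
    (hg : ∀ i, g i ∈ IsLocalRing.maximalIdeal A) : IsLocSectionRing A M g :=
  ⟨fun i => h.finite _ (hg i), fun i => h.etale _ (hg i), h.sep, h.glue⟩

variable [IsNoetherianRing A] [IsLocalRing A]
variable {ι : Type} {g : ι → A}

/-- The ambient localization is a localization of modules. -/
theorem isLocalizedModule_away (G : A) {R : Type u} [CommRing R] [Algebra A R] [Algebra M R]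
    [IsScalarTower A M R] [IsLocalization.Away (algebraMap A M G) R] :
    IsLocalizedModule (Submonoid.powers G) (IsScalarTower.toAlgHom A M R).toLinearMap := by
  have : IsLocalization (Algebra.algebraMapSubmonoid M (Submonoid.powers G)) R := by
    rw [Algebra.algebraMapSubmonoid, Submonoid.map_powers]
    assumption
  infer_instance

namespace IsSectionRing

variable (h : IsSectionRing A M g)

include h

theorem flat (c : A) (hc : c ∈ IsLocalRing.maximalIdeal A) : (awayStr A M c).Flat := by
  have := h.etale c hc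
  let _ := (awayStr A M c).toAlgebra
  have : Algebra.Etale (Localization.Away c) (Localization.Away (algebraMap A M c)) :=
    RingHom.etale_algebraMap.mp (by rwa [RingHom.algebraMap_toAlgebra])
  exact (inferInstanceAs (Module.Flat (Localization.Away c) (Localization.Away (algebraMap A M c))))

theorem isSMulRegular (hg : ∀ i, g i ∈ IsLocalRing.maximalIdeal A) {c : A}
    (hc : IsSMulRegular A c) : IsSMulRegular M c := by
  refine isSMulRegular_iff_right_eq_zero_of_smul.mpr fun m hm => h.sep m fun i => ?_
  let Ai := Localization.Away (g i)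
  let Mi := Localization.Away (algebraMap A M (g i))
  let _ := (awayStr A M (g i)).toAlgebra
  have : Module.Flat Ai Mi := h.flat (g i) (hg i)
  have hAi : IsSMulRegular Ai (algebraMap A Ai c) := by
    refine isSMulRegular_iff_right_eq_zero_of_smul.mpr fun x hx => ?_
    obtain ⟨⟨a, s⟩, hs⟩ := IsLocalization.surj (Submonoid.powers (g i)) x
    have : algebraMap A Ai (c * a) = 0 := by
      rw [map_mul, ← hs, ← mul_assoc]
      exact (congrArg (· * _) hx).trans (zero_mul _)
    obtain ⟨t, ht⟩ := (IsLocalization.map_eq_zero_iff (Submonoid.powers (g i)) Ai _).mp this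
    have : (t : A) * a = 0 := hc.right_eq_zero_of_smul (by
      show c * (t * a) = 0
      rw [← mul_left_comm]; exact ht)
    refine (IsLocalization.map_units Ai s).mul_left_eq_zero.mp (hs.trans ?_)
    exact (IsLocalization.map_eq_zero_iff (Submonoid.powers (g i)) Ai _).mpr ⟨t, this⟩
  have hMi : IsSMulRegular Mi (algebraMap A Ai c) := Module.Flat.isSMulRegular_of_isRegular
    (M := Mi) ((Commute.isRegular_iff (Commute.all _)).mpr (isLeftRegular_iff.mpr hAi))
  have h0 : algebraMap M Mi m = 0 := by
    refine hMi.right_eq_zero_of_smul ?_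
    rw [Algebra.smul_def]
    show (awayStr A M (g i)) (algebraMap A Ai c) * algebraMap M Mi m = 0
    have : (awayStr A M (g i)) (algebraMap A Ai c) = algebraMap M Mi (algebraMap A M c) :=
      IsLocalization.map_eq _ c
    rw [this, ← map_mul, ← Algebra.smul_def, hm, map_zero]
  obtain ⟨⟨_, k, rfl⟩, hk⟩ :=
    (IsLocalization.map_eq_zero_iff (Submonoid.powers (algebraMap A M (g i))) Mi _).mp h0
  exact ⟨k, by rw [Algebra.smul_def, map_pow]; exact hk⟩

section Ambient

variable {R : Type u} [CommRing R] [Algebra A R] [Algebra M R] [IsScalarTower A M R]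
variable (hinj : Function.Injective (algebraMap M R))

include hinj

theorem inLoc_range_iff {z : R} {c : A} :
    InLoc (Subalgebra.toSubmodule (IsScalarTower.toAlgHom A M R).range) c z ↔
      ∃ (k : ℕ) (m : M), algebraMap M R m = c ^ k • z :=
  Iff.rfl

theorem h0Prop [Finite ι] [Nonempty ι] (hu : ∀ i, IsUnit (algebraMap A R (g i))) :
    H0Prop (Subalgebra.toSubmodule (IsScalarTower.toAlgHom A M R).range) g := by
  intro z hz
  choose k a ha using hz
  obtain ⟨k₀, hk₀⟩ := Finite.exists_le k
  have ha' : ∀ i, algebraMap M R (g i ^ (k₀ - k i) • a i) = g i ^ k₀ • z := fun i => by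
    rw [Algebra.smul_def, map_mul, ← IsScalarTower.algebraMap_apply, ← Algebra.smul_def]
    refine (congrArg (g i ^ (k₀ - k i) • ·) (ha i)).trans ?_
    show g i ^ (k₀ - k i) • g i ^ k i • z = _
    rw [smul_smul, ← pow_add, Nat.sub_add_cancel (hk₀ i)]
  have hcompat : ∀ i j, g j ^ k₀ • (g i ^ (k₀ - k i) • a i) = g i ^ k₀ • (g j ^ (k₀ - k j) • a j) := by
    intro i j
    apply hinj
    rw [Algebra.smul_def (g j ^ k₀), map_mul, ha', Algebra.smul_def (g i ^ k₀) (g j ^ (k₀ - k j) • a j),
      map_mul, ha', ← IsScalarTower.algebraMap_apply, ← IsScalarTower.algebraMap_apply,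
      Algebra.smul_def, Algebra.smul_def]
    ring
  obtain ⟨m, hm⟩ := h.glue k₀ _ hcompat
  obtain ⟨i⟩ := ‹Nonempty ι›
  refine ⟨m, ((hu i).pow k₀).mul_left_cancel ?_⟩
  show algebraMap A R (g i) ^ k₀ * algebraMap M R m = algebraMap A R (g i) ^ k₀ * z
  have := congrArg (algebraMap M R) (hm i)
  rw [ha', Algebra.smul_def, map_mul, ← IsScalarTower.algebraMap_apply, map_pow,
    Algebra.smul_def, map_pow] at this
  exact this

end Ambient

theorem exists_span (hg : ∀ i, g i ∈ IsLocalRing.maximalIdeal A) (i : ι) :
    ∃ s : Finset M, ∀ m : M, ∃ k : ℕ, g i ^ k • m ∈ Submodule.span A (s : Set M) := by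
  classical
  let Ai := Localization.Away (g i)
  let Mi := Localization.Away (algebraMap A M (g i))
  let _ := (awayStr A M (g i)).toAlgebra
  have : Module.Finite Ai Mi :=
    RingHom.finite_algebraMap.mp (by rw [RingHom.algebraMap_toAlgebra]; exact h.finite (g i) (hg i))
  obtain ⟨T, hT⟩ := this.fg_top
  have hstr : ∀ a : A, algebraMap Ai Mi (algebraMap A Ai a) = algebraMap M Mi (algebraMap A M a) :=
    fun a => (IsLocalization.map_eq _ a : (awayStr A M (g i)) (algebraMap A Ai a) = _)
  choose num hnum using fun z : Mi => IsLocalization.surj (Submonoid.powers (algebraMap A M (g i))) z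
  refine ⟨T.image fun z => (num z).1, fun m => ?_⟩
  have key : ∀ z : Mi, ∃ k : ℕ, ∃ n ∈ Submodule.span A ((T.image fun z => (num z).1 : Finset M) : Set M),
      algebraMap M Mi (algebraMap A M (g i)) ^ k * z = algebraMap M Mi n := by
    intro z
    induction (hT.ge trivial : z ∈ Submodule.span Ai (T : Set Mi)) using Submodule.span_induction with
    | mem z hz =>
      obtain ⟨k, hk⟩ := (num z).2.2
      refine ⟨k, (num z).1, Submodule.subset_span (Finset.mem_image_of_mem _ hz), ?_⟩
      have := hnum z
      rw [← hk, map_pow, mul_comm] at this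
      exact this
    | zero => exact ⟨0, 0, Submodule.zero_mem _, by simp⟩
    | add z w _ _ hz hw =>
      obtain ⟨k, n, hn, hz⟩ := hz; obtain ⟨l, n', hn', hw⟩ := hw
      refine ⟨k + l, g i ^ l • n + g i ^ k • n',
        Submodule.add_mem _ (Submodule.smul_mem _ _ hn) (Submodule.smul_mem _ _ hn'), ?_⟩
      rw [map_add, Algebra.smul_def, Algebra.smul_def, map_mul, map_mul, map_pow, map_pow, map_pow,
        map_pow, ← hz, ← hw]
      ring
    | smul c z _ hz =>
      obtain ⟨k, n, hn, hz⟩ := hz
      obtain ⟨⟨a, _, l, rfl⟩, hc⟩ := IsLocalization.surj (Submonoid.powers (g i)) c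
      refine ⟨k + l, a • n, Submodule.smul_mem _ _ hn, ?_⟩
      have hc' := congrArg (algebraMap Ai Mi) hc
      simp only [map_mul, map_pow, hstr] at hc'
      rw [Algebra.smul_def c z, Algebra.smul_def a n, map_mul, ← hz, ← hc']
      ring
  obtain ⟨k, n, hn, hk⟩ := key (algebraMap M Mi m)
  rw [← map_pow, ← map_mul] at hk
  obtain ⟨⟨_, l, rfl⟩, hl⟩ :=
    (IsLocalization.eq_iff_exists (Submonoid.powers (algebraMap A M (g i))) Mi).mp hk
  refine ⟨l + k, ?_⟩
  have : g i ^ (l + k) • m = g i ^ l • n := by
    rw [Algebra.smul_def, Algebra.smul_def, map_pow, map_pow, pow_add, mul_assoc]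
    exact hl
  rw [this]
  exact Submodule.smul_mem _ _ hn

/-- The sections form a finite module. -/
theorem module_finite [Finite ι] (hg : ∀ i, g i ∈ IsLocalRing.maximalIdeal A)
    (hreg : ∀ i, IsSMulRegular A (g i)) (i0 i1 : ι) (hy : RegMod (Ideal.span {g i0}) (g i1)) :
    Module.Finite A M := by
  classical
  have := Fintype.ofFinite ι
  let G := ∏ i, g i
  have hGm : G ∈ IsLocalRing.maximalIdeal A := by
    rw [show G = g i0 * ∏ i ∈ Finset.univ.erase i0, g i from
      (Finset.mul_prod_erase _ _ (Finset.mem_univ i0)).symm]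
    exact Ideal.mul_mem_right _ _ (hg i0)
  have hGreg : IsSMulRegular A G :=
    Finset.prod_induction g (IsSMulRegular A) (fun a b => IsSMulRegular.mul) (IsSMulRegular.one A)
      fun i _ => hreg i
  let R0 := Localization.Away G
  let R := Localization.Away (algebraMap A M G)
  let _ := (awayStr A M G).toAlgebra
  have hstr : ∀ a : A, algebraMap R0 R (algebraMap A R0 a) = algebraMap M R (algebraMap A M a) :=
    fun a => (IsLocalization.map_eq _ a : (awayStr A M G) (algebraMap A R0 a) = _)
  have : IsScalarTower A R0 R := IsScalarTower.of_algebraMap_eq fun a => by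
    rw [hstr, ← IsScalarTower.algebraMap_apply]
  have : Algebra.Etale R0 R :=
    RingHom.etale_algebraMap.mp (by rw [RingHom.algebraMap_toAlgebra]; exact h.etale G hGm)
  have : Module.Finite R0 R :=
    RingHom.finite_algebraMap.mp (by rw [RingHom.algebraMap_toAlgebra]; exact h.finite G hGm)
  have : Module.FinitePresentation R0 R :=
    Module.finitePresentation_of_finite R0 R
  have : Module.Projective R0 R := Module.Flat.projective_of_finitePresentation
  obtain ⟨n, p, s, -, -, hps⟩ := Module.Finite.exists_comp_eq_id_of_projective R0 R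
  choose S hS using h.exists_span hg
  let T : Finset M := Finset.univ.biUnion S
  obtain ⟨⟨_, k, rfl⟩, hk⟩ := IsLocalization.exist_integer_multiples (Submonoid.powers G)
    (T ×ˢ (Finset.univ : Finset (Fin n))) (fun q : M × Fin n => s (algebraMap M R q.1) q.2)
  let N0 := Submodule.span A (T : Set M)
  let Φ : M →ₗ[A] (Fin n → R0) :=
    (G ^ k) • ((s.restrictScalars A) ∘ₗ (IsScalarTower.toAlgHom A M R).toLinearMap)
  have hN0 : ∀ m ∈ N0, ∀ j, Φ m j ∈ (1 : Submodule A R0) := by
    intro m hm j
    induction hm using Submodule.span_induction with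
    | mem m hm =>
      obtain ⟨a, ha⟩ := hk (m, j) (Finset.mem_product.mpr ⟨hm, Finset.mem_univ j⟩)
      exact Submodule.mem_one.mpr ⟨a, ha⟩
    | zero => rw [map_zero]; exact Submodule.zero_mem _
    | add a b _ _ ha hb => rw [map_add]; exact Submodule.add_mem _ ha hb
    | smul c a _ ha => rw [map_smul]; exact Submodule.smul_mem _ _ ha
  have hu0 : ∀ i, IsUnit (algebraMap A R0 (g i)) := fun i => by
    refine isUnit_of_dvd_unit (map_dvd _ (Finset.dvd_prod_of_mem g (Finset.mem_univ i))) ?_
    exact IsLocalization.Away.algebraMap_isUnit G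
  have hinj0 : Function.Injective (algebraMap A R0) := by
    refine IsLocalization.injective (M := Submonoid.powers G) R0 (fun a ha => ?_)
    obtain ⟨j, rfl⟩ := ha
    exact mem_nonZeroDivisors_iff_right.mpr fun b hb => (hGreg.pow j).right_eq_zero_of_smul
      (by show G ^ j * b = 0; rwa [mul_comm])
  have hΦ : ∀ m j, Φ m j ∈ (1 : Submodule A R0) := fun m j => by
    refine h0Prop_base hinj0 g i0 i1 (hu0 i0) (hreg i0) hy _ fun i => ?_
    obtain ⟨l, hl⟩ := hS i m
    refine ⟨l, ?_⟩
    have := hN0 _ (Submodule.span_mono (Finset.coe_subset.mpr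
      (Finset.subset_biUnion_of_mem S (Finset.mem_univ i))) hl) j
    rwa [map_smul] at this
  let e : (Fin n → A) →ₗ[A] (Fin n → R0) :=
    LinearMap.pi fun j => Algebra.linearMap A R0 ∘ₗ LinearMap.proj j
  have hmem : ∀ m, Φ m ∈ LinearMap.range e := fun m => by
    choose a ha using fun j => Submodule.mem_one.mp (hΦ m j)
    exact ⟨a, funext ha⟩
  have hΦinj : Function.Injective Φ := by
    intro a b hab
    have hu : IsUnit (algebraMap A R0 (G ^ k)) := by
      rw [map_pow]; exact (IsLocalization.Away.algebraMap_isUnit G).pow k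
    have h1 : s (algebraMap M R a) = s (algebraMap M R b) := by
      funext j
      refine hu.mul_left_cancel ?_
      simpa [Φ, Algebra.smul_def] using congrFun hab j
    have h2 := congrArg p h1
    rw [← LinearMap.comp_apply, ← LinearMap.comp_apply, hps] at h2
    refine IsLocalization.injective (M := Submonoid.powers (algebraMap A M G)) R (fun c hc => ?_) h2
    obtain ⟨j, rfl⟩ := hc
    refine mem_nonZeroDivisors_iff_right.mpr fun b hb => ((h.isSMulRegular hg hGreg).pow j).right_eq_zero_of_smul ?_
    rw [Algebra.smul_def, map_pow, mul_comm]; exact hb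
  exact Module.Finite.of_injective (Φ.codRestrict _ hmem)
    (fun a b hab => hΦinj (congrArg Subtype.val hab))

/-- A power of `f` kills Čech classes of degree one. -/
theorem exists_h1Prop [Finite ι] (hg : ∀ i, g i ∈ IsLocalRing.maximalIdeal A)
    (hreg : ∀ i, IsSMulRegular A (g i)) (i0 i1 : ι) (hy : RegMod (Ideal.span {g i0}) (g i1))
    (z : A) (hz : RegMod (Ideal.span {g i0, g i1}) z)
    (hzrad : z ∈ (Ideal.span (Set.range g)).radical)
    (f : A) (hf : f ∈ IsLocalRing.maximalIdeal A) (hfreg : IsSMulRegular A f)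
    (G : A) (hGreg : IsSMulRegular A G) (hGdvd : ∀ i, g i ∣ G)
    {R : Type u} [CommRing R] [Algebra A R] [Algebra M R]
    [IsScalarTower A M R] [IsLocalization.Away (algebraMap A M G) R] :
    ∃ N : ℕ, H1Prop (Subalgebra.toSubmodule (IsScalarTower.toAlgHom A M R).range) g (f ^ N) := by
  classical
  have := h.module_finite hg hreg i0 i1 hy
  let Af := Localization.Away f
  let Mf := Localization.Away (algebraMap A M f)
  let _ := (awayStr A M f).toAlgebra
  have hstr : ∀ a : A, algebraMap Af Mf (algebraMap A Af a) = algebraMap M Mf (algebraMap A M a) :=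
    fun a => (IsLocalization.map_eq _ a : (awayStr A M f) (algebraMap A Af a) = _)
  have : IsScalarTower A Af Mf := IsScalarTower.of_algebraMap_eq fun a => by
    rw [hstr, ← IsScalarTower.algebraMap_apply]
  have : Algebra.Etale Af Mf :=
    RingHom.etale_algebraMap.mp (by rw [RingHom.algebraMap_toAlgebra]; exact h.etale f hf)
  have : Module.Finite Af Mf :=
    RingHom.finite_algebraMap.mp (by rw [RingHom.algebraMap_toAlgebra]; exact h.finite f hf)
  have : Module.FinitePresentation Af Mf := Module.finitePresentation_of_finite Af Mf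
  have : Module.Projective Af Mf := Module.Flat.projective_of_finitePresentation
  have := isLocalizedModule_away (M := M) f (R := Mf)
  obtain ⟨n, N, φ, ψ, hφψ⟩ := exists_factor (M := M) f (h.isSMulRegular hg hfreg) (Af := Af)
    (M' := Mf) (IsScalarTower.toAlgHom A M Mf).toLinearMap
  refine ⟨N, ?_⟩
  let R0 := Localization.Away G
  have := isLocalizedModule_away (M := M) G (R := R)
  let ιM : M →ₗ[A] R := (IsScalarTower.toAlgHom A M R).toLinearMap
  let Φ : R →ₗ[A] (Fin n → R0) := LinearMap.pi fun j =>
    IsLocalizedModule.map (Submonoid.powers G) ιM (Algebra.linearMap A R0) ((LinearMap.proj j) ∘ₗ φ)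
  have hGR : IsUnit (algebraMap A R G) := by
    rw [IsScalarTower.algebraMap_apply A M R]; exact IsLocalization.Away.algebraMap_isUnit _
  let θ : R0 →ₐ[A] R := IsLocalization.liftAlgHom (M := Submonoid.powers G) (f := Algebra.ofId A R)
    fun ⟨_, k, e⟩ => by subst e; exact (map_pow (algebraMap A R) G k).symm ▸ hGR.pow k
  let Ψ : (Fin n → R0) →ₗ[A] R :=
    ∑ j, (LinearMap.mulRight A (algebraMap M R (ψ (Pi.single j 1)))) ∘ₗ θ.toLinearMap ∘ₗ
      LinearMap.proj j
  have hΨe : ∀ v : Fin n → A, Ψ (fun j => algebraMap A R0 (v j)) = algebraMap M R (ψ v) := fun v => by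
    have hv : v = ∑ j, v j • Pi.single j (1 : A) := by
      ext k; simp [Pi.single_apply, Finset.sum_apply]
    conv_rhs => rw [hv, map_sum, map_sum]
    simp only [Ψ, LinearMap.sum_apply, LinearMap.comp_apply, LinearMap.proj_apply,
      LinearMap.mulRight_apply, AlgHom.toLinearMap_apply, AlgHom.commutes, map_smul]
    refine Finset.sum_congr rfl fun j _ => ?_
    rw [Algebra.smul_def, map_mul, ← IsScalarTower.algebraMap_apply]
  have hΦe : ∀ m, Φ (algebraMap M R m) = fun j => algebraMap A R0 (φ m j) := fun m => by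
    funext j
    exact IsLocalizedModule.map_apply (Submonoid.powers G) ιM (Algebra.linearMap A R0) _ m
  have hcomp : Ψ ∘ₗ Φ = (f ^ N) • LinearMap.id := by
    refine IsLocalizedModule.linearMap_ext (Submonoid.powers G) ιM ιM (LinearMap.ext fun m => ?_)
    show Ψ (Φ (algebraMap M R m)) = f ^ N • algebraMap M R m
    rw [hΦe, hΨe, hφψ, Algebra.smul_def, Algebra.smul_def, map_mul,
      ← IsScalarTower.algebraMap_apply]
  have hinj0 : Function.Injective (algebraMap A R0) :=
    IsLocalization.injective (M := Submonoid.powers G) R0 fun a ⟨j, e⟩ => e ▸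
      mem_nonZeroDivisors_iff_right.mpr fun b hb => (hGreg.pow j).right_eq_zero_of_smul
        (by show G ^ j * b = 0; rwa [mul_comm])
  have hu0 : ∀ i, IsUnit (algebraMap A R0 (g i)) := fun i =>
    isUnit_of_dvd_unit (map_dvd _ (hGdvd i)) (IsLocalization.Away.algebraMap_isUnit G)
  refine h1Prop_of_factor g (1 : Submodule A R0) _
    (h1Prop_base hinj0 g hu0 i0 i1 (hreg i0) hy z hz hzrad) Φ Ψ (f ^ N) ?_ ?_
    (fun w => LinearMap.congr_fun hcomp w)
  · rintro _ ⟨m, rfl⟩ j
    exact Submodule.mem_one.mpr ⟨φ m j, (congrFun (hΦe m) j).symm⟩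
  · intro v hv
    choose a ha using fun j => Submodule.mem_one.mp (hv j)
    exact ⟨ψ a, (hΨe a).symm.trans (congrArg Ψ (funext ha))⟩

end IsSectionRing

end Groth.Agent.Pure83
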