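import Groth.Agent.Pure83.FibreReduce
import Groth.Agent.Pure83.RelPurityFinal
import Groth.Agent.FEt83.DepthSections

/-!
# Purity for smooth schemes over bases of depth two
-/

universe u

open CategoryTheory Limits AlgebraicGeometry TopologicalSpace IsLocalRing

set_option autoImplicit false
set_option linter.unusedSectionVars false

namespace Groth.Agent.Pure83

set_option backward.isDefEq.respectTransparency.types false in
/-- A point in the closure of an open set whose local ring has dimension zero lies in the open set. -/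
theorem mem_of_mem_closure_of_dim_zero {Y : Scheme.{u}} [IsLocallyNoetherian Y] (O : Y.Opens) (z : Y)
    (hz : z ∈ closure (O : Set Y)) (hd : ringKrullDim (Y.presheaf.stalk z) = 0) : z ∈ O := by
  classical
  obtain ⟨_, ⟨V, hV, rfl⟩, hzV, -⟩ := Y.isBasis_affineOpens.exists_subset_of_mem_open (Set.mem_univ z) isOpen_univ
  have : IsNoetherianRing Γ(Y, V) := IsLocallyNoetherian.component_noetherian ⟨V, hV⟩
  obtain ⟨x₀, rfl⟩ : z ∈ Set.range hV.fromSpec := by rw [hV.range_fromSpec]; exact hzV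
  let P := (x₀ : PrimeSpectrum Γ(Y, V)).asIdeal
  let e : Y.presheaf.stalk (hV.fromSpec x₀) ≃+* Localization.AtPrime P :=
    (asIso (hV.fromSpec.stalkMap x₀) ≪≫ Spec.stalkIso Γ(Y, V) x₀).commRingCatIsoToRingEquiv
  rw [ringKrullDim_eq_of_ringEquiv e, IsLocalization.AtPrime.ringKrullDim_eq_height P] at hd
  have hP : P ∈ minimalPrimes Γ(Y, V) := Ideal.height_eq_zero_iff.mp (WithBot.coe_injective hd)
  have hfin : ((minimalPrimes Γ(Y, V)) \ {P}).Finite := (minimalPrimes.finite_of_isNoetherianRing _).sdiff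
  have hex : ∀ p ∈ hfin.toFinset, ∃ t ∈ p, t ∉ P := fun p hp => by
    rw [Set.Finite.mem_toFinset] at hp
    refine SetLike.not_le_iff_exists.mp fun hle => hp.2 ?_
    exact le_antisymm hle (hP.2 hp.1.1 hle)
  choose! t htp htP using hex
  let T := ∏ p ∈ hfin.toFinset, t p
  have hT : T ∉ P := fun h => by
    obtain ⟨p, hp, h⟩ := (x₀ : PrimeSpectrum Γ(Y, V)).isPrime.prod_mem_iff.mp h
    exact htP p hp h
  obtain ⟨w, hwT, hwO⟩ := mem_closure_iff.mp hz _
    (hV.fromSpec.isOpenEmbedding.isOpenMap _ (PrimeSpectrum.isOpen_basicOpen (a := T))) ⟨x₀, hT, rfl⟩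
  obtain ⟨y, hy, rfl⟩ := hwT
  have hle : P ≤ (y : PrimeSpectrum Γ(Y, V)).asIdeal := by
    obtain ⟨p, hp, hple⟩ := Ideal.exists_minimalPrimes_le (bot_le : (⊥ : Ideal Γ(Y, V)) ≤ (y : PrimeSpectrum Γ(Y, V)).asIdeal)
    by_contra hne
    have hpP : p ≠ P := fun h => hne (h ▸ hple)
    have hpm : p ∈ hfin.toFinset := (Set.Finite.mem_toFinset hfin).mpr ⟨hp, hpP⟩
    exact hy (hple (Ideal.mem_of_dvd _ (Finset.dvd_prod_of_mem t hpm) (htp p hpm)))
  have hsp : x₀ ⤳ y := (PrimeSpectrum.le_iff_specializes x₀ y).mp hle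
  exact (hsp.map hV.fromSpec.continuous).mem_open O.2 hwO

section

variable {X S : Scheme.{u}} (f : X ⟶ S) [Smooth f]

set_option backward.isDefEq.respectTransparency.types false in
/-- Local purity over a base of depth two. -/
theorem purityHolds_stalk_of_smooth [IsLocallyNoetherian S] (z : X)
    (hA : (2 : ℕ∞) ≤ LocCoh.depth (S.presheaf.stalk (f z)) (S.presheaf.stalk (f z)))
    (hd : (1 : WithBot ℕ∞) ≤ ringKrullDim (CInt.fiberStalk f z)) :
    FEt.PurityHolds (X.presheaf.stalk z) := by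
  obtain ⟨_, ⟨W, hW, rfl⟩, hzW, -⟩ := S.isBasis_affineOpens.exists_subset_of_mem_open
    (Set.mem_univ (f z)) isOpen_univ
  obtain ⟨_, ⟨V, hV, rfl⟩, hzV, hVW⟩ := X.isBasis_affineOpens.exists_subset_of_mem_open
    (show z ∈ f ⁻¹ᵁ W from hzW) (f ⁻¹ᵁ W).2
  let φ := f.appLE W V hVW
  let : Algebra Γ(S, W) Γ(X, V) := φ.hom.toAlgebra
  have : Algebra.Smooth Γ(S, W) Γ(X, V) :=
    RingHom.smooth_algebraMap.mp (HasRingHomProperty.appLE (P := @Smooth) f ‹_› ⟨W, hW⟩ ⟨V, hV⟩ hVW)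
  have : IsNoetherianRing Γ(S, W) := IsLocallyNoetherian.component_noetherian ⟨W, hW⟩
  have hsq : Spec.map φ ≫ hW.fromSpec = hV.fromSpec ≫ f := IsAffineOpen.SpecMap_appLE_fromSpec f hW hV hVW
  obtain ⟨x₀, rfl⟩ : z ∈ Set.range hV.fromSpec := by rw [hV.range_fromSpec]; exact hzV
  let q := (x₀ : PrimeSpectrum Γ(X, V)).asIdeal
  let e : X.presheaf.stalk (hV.fromSpec x₀) ≃+* Localization.AtPrime q :=
    (asIso (hV.fromSpec.stalkMap x₀) ≪≫ Spec.stalkIso Γ(X, V) x₀).commRingCatIsoToRingEquiv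
  refine purityHolds_congr e ?_
  refine purityHolds_of_smooth_fibre (R := Γ(S, W)) q ?_ ?_
  · let y : Spec Γ(S, W) := Spec.map φ x₀
    have hy : hW.fromSpec y = f (hV.fromSpec x₀) := by
      rw [← Scheme.Hom.comp_apply, ← Scheme.Hom.comp_apply, hsq]
    have key : ∀ s : S, hW.fromSpec y = s → (2 : ℕ∞) ≤ LocCoh.depth (S.presheaf.stalk s) (S.presheaf.stalk s) →
        (2 : ℕ∞) ≤ LocCoh.depth (Localization.AtPrime (y : PrimeSpectrum Γ(S, W)).asIdeal)
          (Localization.AtPrime (y : PrimeSpectrum Γ(S, W)).asIdeal) := by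
      rintro _ rfl h
      exact h.trans (CAlg1.depth_eq_of_ringEquiv
        (asIso (hW.fromSpec.stalkMap y) ≪≫ Spec.stalkIso Γ(S, W) y).commRingCatIsoToRingEquiv).le
    exact key _ hy hA
  · obtain ⟨e'⟩ := nonempty_fibreQuotEquiv (R := Γ(S, W)) (B := Γ(X, V)) x₀
    rw [ringKrullDim_eq_of_ringEquiv e']
    exact hd.trans_eq (dim_fiberStalk_openImmersion f (Spec.map φ) hV.fromSpec hW.fromSpec hsq x₀).symm

set_option backward.isDefEq.respectTransparency.types false in
/-- Purity for smooth schemes over bases of depth two. -/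
theorem isEquivalence_of_smooth_depth_two [IsLocallyNoetherian S] (U : X.Opens)
    (h3 : ∀ x : X, x ∉ U → (2 : ℕ∞) ≤ LocCoh.depth (S.presheaf.stalk (f x)) (S.presheaf.stalk (f x)))
    (h4 : ∀ x : X, x ∉ U → (1 : WithBot ℕ∞) ≤ ringKrullDim (CInt.fiberStalk f x)) :
    (FEt.restrict U.ι).IsEquivalence := by
  have : IsLocallyNoetherian X := LocallyOfFiniteType.isLocallyNoetherian f
  have hdep : ∀ x : X, x ∉ U → (2 : ℕ∞) ≤ LocCoh.depth (X.presheaf.stalk x) (X.presheaf.stalk x) := fun x hx => by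
    let := (f.stalkMap x).hom.toAlgebra
    have : IsLocalHom (algebraMap (S.presheaf.stalk (f x)) (X.presheaf.stalk x)) :=
      inferInstanceAs (IsLocalHom (f.stalkMap x).hom)
    have : Module.Flat (S.presheaf.stalk (f x)) (X.presheaf.stalk x) := Flat.stalkMap f x
    rw [CAlg1.depth_of_flat_local (S.presheaf.stalk (f x)) (X.presheaf.stalk x)]
    exact le_add_right (h3 x hx)
  obtain ⟨_, _⟩ := FEt83.fullyFaithful_of_depth U hdep
  have hFF : ∀ W : X.Opens, (FEt.restrict (W.ι ⁻¹ᵁ U).ι).Full ∧ (FEt.restrict (W.ι ⁻¹ᵁ U).ι).Faithful := fun W => by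
    have : IsLocallyNoetherian (W : Scheme.{u}) := isLocallyNoetherian_of_isOpenImmersion W.ι
    exact FEt83.fullyFaithful_of_depth _ fun x hx => (hdep (W.ι x) hx).trans
      (CAlg1.depth_eq_of_ringEquiv (asIso (W.ι.stalkMap x)).commRingCatIsoToRingEquiv).le
  have : (FEt.restrict U.ι).EssSurj := by
    refine ⟨fun E => exists_extension_of_nhds E hFF fun x => ?_⟩
    obtain ⟨V, hV, hxV⟩ : ∃ V : X.Opens, IsAffineOpen V ∧ x ∈ V := by
      obtain ⟨_, ⟨V, hV, rfl⟩, hxV, -⟩ := X.isBasis_affineOpens.exists_subset_of_mem_open (Set.mem_univ x) isOpen_univ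
      exact ⟨V, hV, hxV⟩
    have : IsLocallyNoetherian (V : Scheme.{u}) := isLocallyNoetherian_of_isOpenImmersion V.ι
    have : CompactSpace ↥(V : Scheme.{u}) := isCompact_iff_compactSpace.mp hV.isCompact
    have : IsNoetherian (V : Scheme.{u}) := {}
    have := FEt83.essSurj_of_purityHolds (V.ι ⁻¹ᵁ U) fun z hz =>
      purityHolds_congr (asIso (V.ι.stalkMap z)).commRingCatIsoToRingEquiv.symm
        (purityHolds_stalk_of_smooth f (V.ι z) (h3 _ hz) (h4 _ hz))
    obtain ⟨Y, hY⟩ := Functor.EssSurj.mem_essImage (F := FEt.restrict (V.ι ⁻¹ᵁ U).ι) ((FEt.restrict (V.ι ∣_ U)).obj E)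
    exact ⟨V, hxV, Y, hY⟩
  exact { }

end

end Groth.Agent.Pure83
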