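import Groth.Agent.Pure83.GlueVanish
import Mathlib.Algebra.Colimit.Module
import Mathlib.RingTheory.Noetherian.Basic
import Mathlib.RingTheory.AdicCompletion.Functoriality

/-!
# The limit of a tower of sheaves on the thickenings of a divisor
-/

universe u

open LocCoh

namespace Groth.Agent.Pure83

variable {A : Type u} [CommRing A] {ι : Type} (g : ι → A) (f : A)

/-- Sections, modulo the powers of `f`, of a formal vector bundle on the union of the basic opens of `g`. -/
structure Tower (M : ℕ → Type u) [∀ n, AddCommGroup (M n)] [∀ n, Module A (M n)]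
    (p : ∀ n, M (n + 1) →ₗ[A] M n) : Prop where
  sep : ∀ n, SepMod g (M n)
  glue : ∀ n, GlueMod g (M n)
  kill : ∀ n, ∀ x : M n, f ^ (n + 1) • x = 0
  lsurj : ∀ n (x : M n) (i : ι), ∃ (k : ℕ) (y : M (n + 1)), p n y = g i ^ k • x
  lker : ∀ n (y : M (n + 1)), p n y = 0 → ∀ i, ∃ (k : ℕ) (z : M (n + 1)), g i ^ k • y = f ^ (n + 1) • z
  lflat : ∀ n (y : M (n + 1)), f • y = 0 → ∀ i, ∃ (k : ℕ) (z : M (n + 1)), g i ^ k • y = f ^ (n + 1) • z

namespace Tower

variable {g f} {M : ℕ → Type u} [∀ n, AddCommGroup (M n)] [∀ n, Module A (M n)]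
  {p : ∀ n, M (n + 1) →ₗ[A] M n} (h : Tower g f M p)

/-- The relation defining multiplication by `f` from one stage to the next. -/
def Rel (_ : Tower g f M p) (n : ℕ) (x : M n) (z : M (n + 1)) : Prop :=
  ∀ (c : A) (y : M (n + 1)), p n y = c • x → c • z = f • y

include h in
theorem eq_smul_of_p_zero {n : ℕ} {y : M (n + 1)} (hy : p n y = 0) : f • y = 0 := by
  refine h.sep _ _ fun i => ?_
  obtain ⟨k, z, hz⟩ := h.lker n y hy i
  exact ⟨k, by rw [smul_comm, hz, smul_smul, ← pow_succ']; exact h.kill _ z⟩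

theorem existsUnique_rel [Finite ι] (n : ℕ) (x : M n) : ∃! z, h.Rel n x z := by
  choose k y hy using h.lsurj n x
  obtain ⟨K, hK⟩ := Finite.exists_le k
  obtain ⟨y', hy'⟩ : ∃ y' : ι → M (n + 1), ∀ i, p n (y' i) = g i ^ K • x :=
    ⟨fun i => g i ^ (K - k i) • y i, fun i => by
      rw [map_smul, hy, smul_smul, ← pow_add, Nat.sub_add_cancel (hK i)]⟩
  obtain ⟨z, hz⟩ := h.glue (n + 1) K (fun i => f • y' i) fun i j => by
    rw [smul_comm (g j ^ K), smul_comm (g i ^ K), ← sub_eq_zero, ← smul_sub]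
    refine h.eq_smul_of_p_zero ?_
    rw [map_sub, map_smul, map_smul, hy', hy', smul_comm, sub_self]
  have hu : ∀ z', h.Rel n x z' → z' = z := fun z' hz' => by
    rw [← sub_eq_zero]
    refine h.sep _ _ fun i => ⟨K, ?_⟩
    rw [smul_sub, hz' _ _ (hy' i), hz, sub_self]
  refine ⟨z, fun c w hw => ?_, hu⟩
  rw [← sub_eq_zero]
  refine h.sep _ _ fun i => ⟨K, ?_⟩
  rw [smul_sub, smul_comm _ c, hz, smul_comm c f, smul_comm _ f, ← smul_sub]
  refine h.eq_smul_of_p_zero ?_
  rw [map_sub, map_smul, map_smul, hy', hw, smul_comm, sub_self]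

include h in
theorem eq_of_local [Finite ι] {n : ℕ} {x : M n} {z z' : M (n + 1)} (hz : h.Rel n x z)
    (hl : ∀ i, ∃ (k : ℕ) (y : M (n + 1)), p n y = g i ^ k • x ∧ g i ^ k • z' = f • y) : z' = z := by
  rw [← sub_eq_zero]
  refine h.sep _ _ fun i => ?_
  obtain ⟨k, y, hy, e⟩ := hl i
  exact ⟨k, by rw [smul_sub, e, hz _ _ hy, sub_self]⟩

variable [Finite ι]

/-- Multiplication by `f` as a map to the next stage. -/
noncomputable def mu (n : ℕ) : M n →ₗ[A] M (n + 1) where
  toFun x := (h.existsUnique_rel n x).exists.choose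
  map_add' x x' := by
    refine (h.eq_of_local (h.existsUnique_rel n _).exists.choose_spec fun i => ?_).symm
    obtain ⟨k, w, hw⟩ := h.lsurj n x i
    obtain ⟨k', w', hw'⟩ := h.lsurj n x' i
    refine ⟨k + k', g i ^ k' • w + g i ^ k • w', ?_, ?_⟩
    · rw [map_add, map_smul, map_smul, hw, hw']; module
    · have e1 := (h.existsUnique_rel n x).exists.choose_spec _ _ hw
      have e2 := (h.existsUnique_rel n x').exists.choose_spec _ _ hw'
      rw [smul_add, pow_add, mul_smul, mul_smul, smul_comm (g i ^ k) (g i ^ k') _,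
        e1, e2, smul_add, smul_comm f, smul_comm f]
  map_smul' r x := by
    refine (h.existsUnique_rel n _).unique (h.existsUnique_rel n _).exists.choose_spec ?_
    intro c y hy
    rw [RingHom.id_apply, smul_smul]
    exact (h.existsUnique_rel n x).exists.choose_spec _ _ (by rw [hy, smul_smul])

theorem mu_rel (n : ℕ) (x : M n) : h.Rel n x (h.mu n x) := (h.existsUnique_rel n x).exists.choose_spec

theorem mu_p (n : ℕ) (y : M (n + 1)) : h.mu n (p n y) = f • y := by
  simpa using h.mu_rel n (p n y) 1 y (one_smul _ _).symm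

theorem p_mu (n : ℕ) (x : M n) : p n (h.mu n x) = f • x := by
  rw [← sub_eq_zero]
  refine h.sep _ _ fun i => ?_
  obtain ⟨k, y, hy⟩ := h.lsurj n x i
  refine ⟨k, ?_⟩
  rw [smul_sub, ← map_smul, h.mu_rel n x _ y hy, map_smul, hy, smul_comm, sub_self]

theorem mu_injective (n : ℕ) : Function.Injective (h.mu n) := by
  refine (injective_iff_map_eq_zero _).mpr fun x hx => h.sep _ _ fun i => ?_
  obtain ⟨k, y, hy⟩ := h.lsurj n x i
  have h1 : f • y = 0 := by rw [← h.mu_rel n x _ y hy, hx, smul_zero]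
  obtain ⟨k', z, hz⟩ := h.lflat n y h1 i
  refine ⟨k' + k, ?_⟩
  rw [pow_add, mul_smul, ← hy, ← map_smul, hz, map_smul]
  exact h.kill _ _

include h in
omit [Finite ι] in
theorem loc_dvd (n j : ℕ) (hj : j ≤ n + 1) (y : M (n + 1)) (hy : f ^ j • y = 0) (i : ι) :
    ∃ (k : ℕ) (z : M (n + 1)), g i ^ k • y = f ^ (n + 2 - j) • z := by
  induction j generalizing y with
  | zero =>
    rw [pow_zero, one_smul] at hy
    exact ⟨0, 0, by rw [hy, smul_zero, smul_zero]⟩
  | succ j ih =>
    obtain ⟨k, z, hz⟩ := h.lflat n (f ^ j • y) (by rw [smul_smul, ← pow_succ']; exact hy) i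
    have h1 : f ^ j • (g i ^ k • y - f ^ (n + 1 - j) • z) = 0 := by
      rw [smul_sub, smul_comm, hz, smul_smul, ← pow_add, Nat.add_sub_cancel' (by omega), sub_self]
    obtain ⟨k', z', hz'⟩ := ih (by omega) _ h1
    refine ⟨k' + k, g i ^ k' • z + f • z', ?_⟩
    rw [smul_sub, sub_eq_iff_eq_add] at hz'
    rw [pow_add, mul_smul, hz', smul_add, smul_comm (g i ^ k'), smul_smul (f ^ _) f, ← pow_succ,
      show n + 2 - (j + 1) = n + 1 - j by omega, show n + 1 - j + 1 = n + 2 - j by omega]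
    abel

theorem exists_mu_eq {n : ℕ} (y : M (n + 1)) (hy : f ^ (n + 1) • y = 0) : ∃ x, h.mu n x = y := by
  choose k z hz using h.loc_dvd n (n + 1) le_rfl y hy
  obtain ⟨K, hK⟩ := Finite.exists_le k
  have e : ∀ i, h.mu n (g i ^ (K - k i) • p n (z i)) = g i ^ K • y := fun i => by
    have := hz i
    rw [show n + 2 - (n + 1) = 1 by omega, pow_one] at this
    rw [map_smul, h.mu_p, ← this, smul_smul, ← pow_add, Nat.sub_add_cancel (hK i)]
  obtain ⟨x, hx⟩ := h.glue n K (fun i => g i ^ (K - k i) • p n (z i)) fun i j => by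
    refine h.mu_injective n ?_
    rw [map_smul (h.mu n) (g j ^ K), map_smul (h.mu n) (g i ^ K), e, e, smul_comm]
  refine ⟨x, ?_⟩
  rw [← sub_eq_zero]
  refine h.sep _ _ fun i => ⟨K, ?_⟩
  rw [smul_sub, ← map_smul, hx, e, sub_self]

/-- The composed transition map. -/
noncomputable def muc {n m : ℕ} (hnm : n ≤ m) : M n →ₗ[A] M m :=
  Nat.leRecOn (C := fun j => M n →ₗ[A] M j) hnm (fun {j} φ => h.mu j ∘ₗ φ) LinearMap.id

theorem muc_self (n : ℕ) : h.muc (le_refl n) = LinearMap.id := Nat.leRecOn_self _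

theorem muc_succ {n m : ℕ} (hnm : n ≤ m) : h.muc (hnm.trans m.le_succ) = h.mu m ∘ₗ h.muc hnm :=
  Nat.leRecOn_succ hnm _

theorem muc_trans {a b c : ℕ} (h₁ : a ≤ b) (h₂ : b ≤ c) (x : M a) :
    h.muc h₂ (h.muc h₁ x) = h.muc (h₁.trans h₂) x := by
  induction c, h₂ using Nat.le_induction with
  | base => rw [h.muc_self]; rfl
  | succ c hbc ih =>
    rw [h.muc_succ hbc, h.muc_succ (h₁.trans hbc), LinearMap.comp_apply, LinearMap.comp_apply, ih]

theorem muc_injective {n m : ℕ} (hnm : n ≤ m) : Function.Injective (h.muc hnm) := by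
  induction m, hnm using Nat.le_induction with
  | base => rw [h.muc_self]; exact fun _ _ e => e
  | succ m hm ih => rw [h.muc_succ hm]; exact (h.mu_injective m).comp ih

theorem exists_muc_eq {n m : ℕ} (hnm : n ≤ m) (y : M m) (hy : f ^ (n + 1) • y = 0) :
    ∃ x, h.muc hnm x = y := by
  induction m, hnm using Nat.le_induction with
  | base => exact ⟨y, by rw [h.muc_self]; rfl⟩
  | succ m hm ih =>
    have hy' : f ^ (m + 1) • y = 0 := by
      obtain ⟨d, hd⟩ := Nat.exists_eq_add_of_le hm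
      have e : f ^ (m + 1) = f ^ d * f ^ (n + 1) := by rw [← pow_add]; congr 1; omega
      rw [e, mul_smul, hy, smul_zero]
    obtain ⟨x', hx'⟩ := h.exists_mu_eq y hy'
    obtain ⟨x, hx⟩ := ih x' (h.mu_injective m (by rw [map_smul, hx', hy, map_zero]))
    exact ⟨x, by rw [h.muc_succ hm, LinearMap.comp_apply, hx, hx']⟩

/-- The union of all stages. -/
abbrev Colim : Type u := Module.DirectLimit M fun _ _ hij => h.muc hij

/-- The inclusion of a stage. -/
noncomputable abbrev incl (n : ℕ) : M n →ₗ[A] h.Colim :=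
  Module.DirectLimit.of A ℕ M (fun _ _ hij => h.muc hij) n

instance directedSystem : DirectedSystem M (fun _ _ hij => h.muc hij) where
  map_self i x := by rw [h.muc_self]; rfl
  map_map _ _ _ hij hjk x := h.muc_trans hij hjk x

theorem incl_muc {n m : ℕ} (hnm : n ≤ m) (x : M n) : h.incl m (h.muc hnm x) = h.incl n x :=
  Module.DirectLimit.of_f

theorem incl_injective (n : ℕ) : Function.Injective (h.incl n) := by
  refine (injective_iff_map_eq_zero _).mpr fun x hx => ?_
  obtain ⟨m, hm, e⟩ := Module.DirectLimit.of.zero_exact hx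
  exact h.muc_injective hm (e.trans (map_zero _).symm)

theorem exists_incl (z : h.Colim) (n : ℕ) : ∃ (m : ℕ) (_ : n ≤ m) (x : M m), h.incl m x = z := by
  obtain ⟨i, x, rfl⟩ := Module.DirectLimit.exists_of z
  exact ⟨max i n, le_max_right _ _, h.muc (le_max_left _ _) x, h.incl_muc _ x⟩

theorem exists_incl_eq (n : ℕ) (z : h.Colim) (hz : f ^ (n + 1) • z = 0) : ∃ x, h.incl n x = z := by
  obtain ⟨m, hm, y, rfl⟩ := h.exists_incl z n
  obtain ⟨x, rfl⟩ := h.exists_muc_eq hm y (h.incl_injective m (by rw [map_smul, hz, map_zero]))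
  exact ⟨x, (h.incl_muc hm x).symm⟩

theorem smul_incl (n : ℕ) (y : M (n + 1)) : f • h.incl (n + 1) y = h.incl n (p n y) := by
  rw [← map_smul, ← h.mu_p, ← h.incl_muc (Nat.le_succ n), h.muc_succ le_rfl, h.muc_self,
    LinearMap.comp_apply]
  rfl

theorem sep_colim : SepMod g h.Colim := by
  intro z hz
  obtain ⟨m, -, x, rfl⟩ := h.exists_incl z 0
  rw [h.sep m x fun i => ?_, map_zero]
  obtain ⟨k, hk⟩ := hz i
  exact ⟨k, h.incl_injective m (by rw [map_smul, hk, map_zero])⟩

theorem glue_colim : GlueMod g h.Colim := by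
  intro k a ha
  choose m hm x hx using fun i => h.exists_incl (a i) 0
  obtain ⟨K, hK⟩ := Finite.exists_le m
  have e : ∀ i, h.incl K (h.muc (hK i) (x i)) = a i := fun i => by rw [h.incl_muc, hx]
  obtain ⟨z, hz⟩ := h.glue K k (fun i => h.muc (hK i) (x i)) fun i j =>
    h.incl_injective K (by simp only [map_smul, e, ha])
  exact ⟨h.incl K z, fun i => by rw [← map_smul, hz, e]⟩

end Tower

end Groth.Agent.Pure83
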