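import Mathlib.RingTheory.Unramified.Locus
import Mathlib.RingTheory.Etale.Kaehler
import Mathlib.RingTheory.QuasiFinite.Basic
import Mathlib.RingTheory.Ideal.KrullsHeightTheorem
import Mathlib.RingTheory.Ideal.GoingUp
import Mathlib.RingTheory.Ideal.GoingDown
import Mathlib.RingTheory.Smooth.Fiber
import Mathlib.RingTheory.LocalRing.Module
import Mathlib.RingTheory.Unramified.LocalStructure

/-!
# Lemmas on unramified primes and heights
-/

universe u

open TensorProduct

namespace Groth.Agent.Pure83

variable {A B C : Type u} [CommRing A] [CommRing B] [CommRing C] [Algebra A B]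

/-- Unramifiedness is stable under generization. -/
theorem isUnramifiedAt_of_le {p q : Ideal B} [p.IsPrime] [q.IsPrime] (h : p ≤ q)
    (hq : Algebra.IsUnramifiedAt A q) : Algebra.IsUnramifiedAt A p := by
  show (⟨p, ‹_›⟩ : PrimeSpectrum B) ∈ Algebra.unramifiedLocus A B
  rw [Algebra.unramifiedLocus_eq_compl_support]
  intro hp
  have : (⟨q, ‹_›⟩ : PrimeSpectrum B) ∈ Algebra.unramifiedLocus A B := hq
  rw [Algebra.unramifiedLocus_eq_compl_support] at this
  exact this (Module.mem_support_mono (p := ⟨p, ‹_›⟩) (q := ⟨q, ‹_›⟩) h hp)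

variable [Algebra B C] [Algebra A C] [IsScalarTower A B C]

/-- Unramifiedness ascends along étale maps. -/
theorem isUnramifiedAt_of_etale_over [Algebra.Etale B C] (Q : Ideal C) [Q.IsPrime]
    (h : Algebra.IsUnramifiedAt A (Q.comap (algebraMap B C))) : Algebra.IsUnramifiedAt A Q := by
  have : Q.LiesOver (Q.comap (algebraMap B C)) := ⟨rfl⟩
  have : Algebra.IsUnramifiedAt B Q := inferInstance
  exact Algebra.IsUnramifiedAt.comp (Q.comap (algebraMap B C)) Q

/-- Unramifiedness descends along étale maps. -/
theorem isUnramifiedAt_comap_of_etale [Algebra.EssFiniteType A B] [Algebra.Etale B C] (Q : Ideal C)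
    [Q.IsPrime] (h : Algebra.IsUnramifiedAt A Q) :
    Algebra.IsUnramifiedAt A (Q.comap (algebraMap B C)) := by
  let q := Q.comap (algebraMap B C)
  have : Q.LiesOver q := ⟨rfl⟩
  show (⟨q, inferInstance⟩ : PrimeSpectrum B) ∈ Algebra.unramifiedLocus A B
  rw [Algebra.unramifiedLocus_eq_compl_support]
  intro hq
  rw [Module.mem_support_iff_nontrivial_residueField_tensorProduct] at hq
  have hQ : (⟨Q, ‹_›⟩ : PrimeSpectrum C) ∈ Algebra.unramifiedLocus A C := h
  rw [Algebra.unramifiedLocus_eq_compl_support] at hQ
  apply hQ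
  rw [← (KaehlerDifferential.tensorKaehlerEquivOfFormallyEtale A B C).support_eq,
    Module.mem_support_iff_nontrivial_residueField_tensorProduct]
  have e := TensorProduct.AlgebraTensorModule.cancelBaseChange B C C Q.ResidueField Ω[B⁄A]
  let := (Ideal.ResidueField.map q Q (algebraMap B C) rfl).toAlgebra
  have : IsScalarTower B q.ResidueField Q.ResidueField := .of_algebraMap_eq fun b => by
    rw [RingHom.algebraMap_toAlgebra, IsScalarTower.algebraMap_apply B C Q.ResidueField]
    simp
  have e' := TensorProduct.AlgebraTensorModule.cancelBaseChange B q.ResidueField q.ResidueField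
    Q.ResidueField Ω[B⁄A]
  have h1 : Nontrivial (Q.ResidueField ⊗[q.ResidueField] (q.ResidueField ⊗[B] Ω[B⁄A])) :=
    Module.FaithfullyFlat.lTensor_nontrivial q.ResidueField Q.ResidueField _
  exact e.toEquiv.nontrivial_congr.mpr (e'.toEquiv.nontrivial_congr.mp h1)

/-- A prime has height zero in its fibre for a quasi-finite map. -/
theorem height_fibre_eq_zero {B C : Type u} [CommRing B] [CommRing C] [Algebra B C]
    [Algebra.QuasiFinite B C] (Q : Ideal C) [Q.IsPrime] :
    (Q.map (Ideal.Quotient.mk ((Q.comap (algebraMap B C)).map (algebraMap B C)))).height = 0 := by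
  let q := Q.comap (algebraMap B C)
  have hle : q.map (algebraMap B C) ≤ Q := Ideal.map_comap_le
  have : (Q.map (Ideal.Quotient.mk (q.map (algebraMap B C)))).IsPrime :=
    Ideal.map_isPrime_of_surjective Ideal.Quotient.mk_surjective (by rwa [Ideal.mk_ker])
  refine Ideal.height_eq_zero_iff.mpr ⟨⟨inferInstance, bot_le⟩, fun P hP hPle => ?_⟩
  have := hP.1
  have hc : P.comap (Ideal.Quotient.mk (q.map (algebraMap B C))) ≤ Q := by
    refine (Ideal.comap_mono hPle).trans ?_
    rw [Ideal.comap_map_of_surjective _ Ideal.Quotient.mk_surjective, ← RingHom.ker_eq_comap_bot,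
      Ideal.mk_ker, sup_of_le_left hle]
  have hu : (P.comap (Ideal.Quotient.mk (q.map (algebraMap B C)))).under B = Q.under B :=
    le_antisymm (Ideal.comap_mono hc) (by
      show q ≤ _
      rw [Ideal.under_def, ← Ideal.map_le_iff_le_comap]
      intro x hx
      rw [Ideal.mem_comap, Ideal.Quotient.eq_zero_iff_mem.mpr hx]
      exact P.zero_mem)
  have e := Algebra.QuasiFinite.eq_of_le_of_under_eq _ Q hc hu
  exact ((congrArg (Ideal.map (Ideal.Quotient.mk _)) e).symm.trans
    (Ideal.map_comap_of_surjective _ Ideal.Quotient.mk_surjective P)).le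

/-- Heights can only go up under contraction along quasi-finite maps. -/
theorem height_le_comap_of_quasiFinite {B C : Type u} [CommRing B] [CommRing C] [Algebra B C]
    [IsNoetherianRing B] [IsNoetherianRing C] [Algebra.QuasiFinite B C] (Q : Ideal C) [Q.IsPrime] :
    Q.height ≤ (Q.comap (algebraMap B C)).height := by
  have : Q.LiesOver (Q.comap (algebraMap B C)) := ⟨rfl⟩
  refine (Ideal.height_le_height_add_of_liesOver (Q.comap (algebraMap B C)) Q).trans ?_
  rw [height_fibre_eq_zero, add_zero]

/-- Heights are preserved by flat quasi-finite maps. -/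
theorem height_comap_of_flat_quasiFinite {B C : Type u} [CommRing B] [CommRing C] [Algebra B C]
    [IsNoetherianRing B] [IsNoetherianRing C] [Algebra.HasGoingDown B C] [Algebra.QuasiFinite B C]
    (Q : Ideal C) [Q.IsPrime] : Q.height = (Q.comap (algebraMap B C)).height := by
  have : Q.LiesOver (Q.comap (algebraMap B C)) := ⟨rfl⟩
  rw [Ideal.height_eq_height_add_of_liesOver_of_hasGoingDown (Q.comap (algebraMap B C)) Q,
    height_fibre_eq_zero, add_zero]

/-- A prime is outside the support over the base of a finite module iff no prime over it is in the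
support. -/
theorem mem_support_base_iff {R C : Type u} [CommRing R] [CommRing C] [Algebra R C]
    [Algebra.IsIntegral R C] (M : Type u) [AddCommGroup M] [Module C M] [Module R M]
    [IsScalarTower R C M] [Module.Finite C M] [Module.Finite R M] (p : PrimeSpectrum R) :
    p ∈ Module.support R M ↔ ∃ Q : PrimeSpectrum C,
      Q.asIdeal.comap (algebraMap R C) = p.asIdeal ∧ Q ∈ Module.support C M := by
  simp only [Module.support_eq_zeroLocus, PrimeSpectrum.mem_zeroLocus, SetLike.coe_subset_coe]
  constructor
  · intro hp
    have hann : (Module.annihilator C M).comap (algebraMap R C) ≤ p.asIdeal := fun r hr =>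
      hp (Module.mem_annihilator.mpr fun m => by
        rw [← algebraMap_smul C r m]; exact Module.mem_annihilator.mp hr m)
    obtain ⟨Q, hQ, hQp, hQe⟩ := Ideal.exists_ideal_over_prime_of_isIntegral p.asIdeal _ hann
    exact ⟨⟨Q, hQp⟩, hQe, hQ⟩
  · rintro ⟨Q, hQ, hQ'⟩ r hr
    rw [← hQ]
    exact hQ' (Module.mem_annihilator.mpr fun m => by
      rw [algebraMap_smul]; exact Module.mem_annihilator.mp hr m)

/-- The fibre of a finite algebra at a prime is étale as soon as all primes over it are unramified. -/
theorem etale_fiber_of_unramified {R C : Type u} [CommRing R] [CommRing C] [Algebra R C]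
    [Module.Finite R C] (p : Ideal R) [p.IsPrime]
    (h : ∀ (Q : Ideal C) [Q.IsPrime], Q.comap (algebraMap R C) = p → Algebra.IsUnramifiedAt R Q) :
    Algebra.Etale p.ResidueField (p.Fiber C) := by
  have : Module.Finite R Ω[C⁄R] := .trans C _
  have hp : (⟨p, ‹_›⟩ : PrimeSpectrum R) ∉ Module.support R Ω[C⁄R] := by
    rw [mem_support_base_iff (C := C)]
    rintro ⟨Q, hQ, hQ'⟩
    have : Q ∈ Algebra.unramifiedLocus R C := h Q.asIdeal hQ
    rw [Algebra.unramifiedLocus_eq_compl_support] at this
    exact this hQ'
  rw [Module.mem_support_iff_nontrivial_residueField_tensorProduct, not_nontrivial_iff_subsingleton]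
    at hp
  let K := p.ResidueField
  let := Algebra.TensorProduct.rightAlgebra (R := R) (A := K) (B := C)
  have : Algebra.FormallyUnramified K (p.Fiber C) :=
    ⟨(KaehlerDifferential.tensorKaehlerEquivBase R K C (K ⊗[R] C)).symm.subsingleton⟩
  have : Algebra.FinitePresentation K (p.Fiber C) := Algebra.FinitePresentation.of_finiteType.mp inferInstance
  exact Algebra.Etale.of_formallyUnramified_of_flat

end Groth.Agent.Pure83
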